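import Cfsg.Agent.Lib.Linear.Mitchell.TransField

/-!
# Unique axes: the transvections are those of a unitary space

In coordinates given by a pair over `K` and one further transvection, every transvection is an
isotropic transvection of an explicit Hermitian form over the quadratic extension of `K`, and all
of those occur.
-/

set_option autoImplicit false

namespace Cfsg.Lib.Linear.Mitchell

open Cfsg.Geo
open Cfsg.Lib.Linear.TVec
open scoped Matrix MatrixGroups

variable {F : Type*} [Field F] {H : Subgroup (GL (Fin 3) F)} {K : Subfield F} {σ : F →+* F}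

theorem exists_conj_hom [Finite F] (K : Subfield F) :
    ∃ σ : F →+* F, (∀ x, σ x = x ↔ x ∈ K) ∧ ∀ x, σ x = x ^ Nat.card K := by
  classical
  haveI := Fintype.ofFinite F
  haveI := Fintype.ofFinite K
  refine ⟨(FiniteField.frobeniusAlgHom K F : F →ₐ[K] F).toRingHom, fun x => ?_, fun x => by
    simp [FiniteField.coe_frobeniusAlgHom, Nat.card_eq_fintype_card]⟩
  have hq : 1 < Fintype.card K := Fintype.one_lt_card
  simp only [AlgHom.toRingHom_eq_coe, RingHom.coe_coe, FiniteField.coe_frobeniusAlgHom]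
  constructor
  · intro hx
    set P : Polynomial F := Polynomial.X ^ Fintype.card K - Polynomial.X with hP
    have hP0 : P ≠ 0 := FiniteField.X_pow_card_sub_X_ne_zero F hq
    have hsub : Finset.univ.image (Subtype.val : K → F) = P.roots.toFinset := by
      refine Finset.eq_of_subset_of_card_le (fun y hy => ?_) ?_
      · obtain ⟨k, -, rfl⟩ := Finset.mem_image.1 hy
        rw [Multiset.mem_toFinset, Polynomial.mem_roots hP0]
        simp [hP, ← SubmonoidClass.coe_pow, FiniteField.pow_card]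
      · rw [Finset.card_image_of_injective _ Subtype.val_injective, Finset.card_univ]
        refine (Multiset.toFinset_card_le _).trans ((Polynomial.card_roots' P).trans ?_)
        rw [hP, FiniteField.X_pow_card_sub_X_natDegree_eq F hq]
    have : x ∈ P.roots.toFinset := by
      rw [Multiset.mem_toFinset, Polynomial.mem_roots hP0]
      simp [hP, hx]
    rw [← hsub] at this
    obtain ⟨k, -, rfl⟩ := Finset.mem_image.1 this
    exact k.2
  · intro hx
    exact congrArg Subtype.val (FiniteField.pow_card (⟨x, hx⟩ : K))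

/-- A root group equal to the multiples by `K`. -/
def Exact (H : Subgroup (GL (Fin 3) F)) (K : Subfield F) (u κ : Fin 3 → F) : Prop :=
  ∀ t, InT H u (t • κ) ↔ t ∈ K

theorem Exact.inT {u κ : Fin 3 → F} (h : Exact H K u κ) : InT H u κ := by
  simpa using (h 1).2 K.one_mem

theorem Exact.conj {u κ : Fin 3 → F} (h : Exact H K u κ) {g : GL (Fin 3) F} (hg : g ∈ H) :
    Exact H K (g.val *ᵥ u) (κ ᵥ* g⁻¹.val) := by
  intro t
  rw [← h t, ← Matrix.smul_vecMul]
  refine ⟨fun h' => ?_, fun h' => inT_conj hg h'⟩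
  have := inT_conj (H.inv_mem hg) h'
  rwa [inv_mul_mulVec, inv_inv, inv_mul_vecMul] at this

theorem Exact.congr {u κ u' κ' : Fin 3 → F} (h : Exact H K u κ) (hu : u = u') (hκ : κ = κ') :
    Exact H K u' κ' := hu ▸ hκ ▸ h

theorem Fr.exact_shift (hF : Fr H K) {k : F} (hk : k ∈ K) : Exact H K ![k, 1, 0] ![1, -k, 0] := by
  obtain ⟨h, hm⟩ := (hF.root0 k).2 hk
  have hbase : Exact H K (ev 1) (ev 0) := hF.root1
  refine (hbase.conj hm).congr ?_ ?_
  · rw [coe_tv, tvMat_mulVec]
    ext l; fin_cases l <;> simp [ev_apply, dot_ev, smul_dotProduct]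
  · rw [tv_inv_val, tvMat, Matrix.vecMul_add, Matrix.vecMul_one, Matrix.vecMul_vecMulVec]
    ext l; fin_cases l <;> simp [ev_apply, dot_ev, smul_dotProduct]

theorem Fr.exact_partner [Finite F] (hF : Fr H K) {u κ w c : Fin 3 → F} (hu : Exact H K u κ)
    (hw : InT H w c) (h1 : κ ⬝ᵥ w ≠ 0) (h2' : c ⬝ᵥ u ≠ 0) : Exact H K w c := by
  set x := (κ ⬝ᵥ w) * (c ⬝ᵥ u) with hx
  have hxK : x ∈ K := hF.prod u κ hu.inT hu w c hw
  have hx0 : x ≠ 0 := mul_ne_zero h1 h2'
  have hu' : InT H u (x⁻¹ • κ) := (hu _).2 (K.inv_mem hxK)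
  have hne : (x⁻¹ • κ) ⬝ᵥ w ≠ 0 := by
    rw [smul_dotProduct]; exact mul_ne_zero (inv_ne_zero hx0) h1
  obtain ⟨Q, hQ0, hQ1, hQa, hQb, hu2, hl2⟩ := exists_frame hu' hw hne h2'
  have hd : (c ⬝ᵥ u) * ((x⁻¹ • κ) ⬝ᵥ w) = 1 := by
    rw [smul_dotProduct, smul_eq_mul, ← mul_assoc, mul_comm (c ⬝ᵥ u), mul_assoc,
      mul_comm (c ⬝ᵥ u), ← hx, inv_mul_cancel₀ hx0]
  rw [hd] at hu2 hQa
  obtain ⟨K', hK0, hK1⟩ := root_field hF.two hu2 (by rwa [one_smul])
  rw [one_smul] at hQa
  have he1 : ev 1 ᵥ* Q⁻¹.val = x⁻¹ • κ := by rw [← hQa, mul_inv_vecMul]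
  have he0 : ev 0 ᵥ* Q⁻¹.val = (c ⬝ᵥ u)⁻¹ • c := by
    have := congrArg (fun v => (c ⬝ᵥ u)⁻¹ • (v ᵥ* Q⁻¹.val)) hQb
    simp only [mul_inv_vecMul, Matrix.smul_vecMul, smul_smul, inv_mul_cancel₀ h2', one_smul] at this
    exact this.symm
  have e0 : ∀ t, InT (cj Q⁻¹ H) (ev 0) (t • ev 1) ↔ InT H u ((t * x⁻¹) • κ) := fun t => by
    rw [inT_cj, inv_inv, hQ0, Matrix.smul_vecMul, he1, smul_smul]
  have e1 : ∀ t : F, InT (cj Q⁻¹ H) (ev 1) (t • ev 0) ↔ InT H w (t • c) := fun t => by
    rw [inT_cj, inv_inv, hQ1, Matrix.smul_vecMul, he0, smul_smul]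
    constructor
    · intro h
      have h' := inT_smul_right h
      rwa [smul_smul, show (c ⬝ᵥ u) * (t * (c ⬝ᵥ u)⁻¹) = t by field_simp] at h'
    · intro h
      refine inT_smul_left ?_
      rwa [smul_smul, show (c ⬝ᵥ u) * (t * (c ⬝ᵥ u)⁻¹) = t by field_simp]
  intro t
  rw [← e1, hK1, ← hK0, e0, hu]
  refine ⟨fun h => ?_, fun h => K.mul_mem h (K.inv_mem hxK)⟩
  have := K.mul_mem h hxK
  rwa [mul_assoc, inv_mul_cancel₀ hx0, mul_one] at this

/-- Block matrices over `K` of determinant one lie in the group. -/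
theorem Fr.blk_mem (hF : Fr H K) {p q u v : F} (hp : p ∈ K) (hq : q ∈ K) (hu : u ∈ K) (hv : v ∈ K)
    (hd : p * v - q * u = 1) :
    ∃ g ∈ H, g.val = !![p, q, 0; u, v, 0; 0, 0, 1] ∧ g⁻¹.val = !![v, -q, 0; -u, p, 0; 0, 0, 1] := by
  suffices h : ∃ g ∈ H, g.val = !![p, q, 0; u, v, 0; 0, 0, 1] by
    obtain ⟨g, hg, hgv⟩ := h
    refine ⟨g, hg, hgv, ?_⟩
    rw [Matrix.coe_units_inv,
      Matrix.inv_eq_right_inv (B := !![v, -q, 0; -u, p, 0; 0, 0, 1])]
    rw [hgv]
    ext i j
    fin_cases i <;> fin_cases j <;> simp [Matrix.mul_apply, Fin.sum_univ_three] <;>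
      first
        | ring1
        | linear_combination (norm := ring1) hd
        | linear_combination (norm := ring1) -hd
  have main : ∀ p q u v : F, p ∈ K → q ∈ K → u ∈ K → v ∈ K → p * v - q * u = 1 → u ≠ 0 →
      ∃ g ∈ H, g.val = !![p, q, 0; u, v, 0; 0, 0, 1] := by
    intro p q u v hp hq hu hv hd hu0
    obtain ⟨ha, hma⟩ := (hF.root0 _).2 (K.div_mem (K.sub_mem hp K.one_mem) hu)
    obtain ⟨hb, hmb⟩ := (hF.root1 _).2 hu
    obtain ⟨hc, hmc⟩ := (hF.root0 _).2 (K.div_mem (K.sub_mem hv K.one_mem) hu)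
    refine ⟨_, H.mul_mem (H.mul_mem hma hmb) hmc, ?_⟩
    rw [Units.val_mul, Units.val_mul, coe_tv, coe_tv, coe_tv, tvMat_upper, tvMat_lower, tvMat_upper]
    ext i j
    fin_cases i <;> fin_cases j <;> simp [Matrix.mul_apply, Fin.sum_univ_three] <;> field_simp <;>
      first
        | ring1
        | linear_combination (norm := ring1) hd
        | linear_combination (norm := ring1) -hd
  by_cases hu0 : u = 0
  · have hp0 : p ≠ 0 := fun e => by simp [e, hu0] at hd
    obtain ⟨g, hg, hgv⟩ := main p q (u + p) (v + q) hp hq (K.add_mem hu hp) (K.add_mem hv hq)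
      (by linear_combination hd) (by rwa [hu0, zero_add])
    obtain ⟨hb, hmb⟩ := (hF.root1 _).2 (K.neg_mem K.one_mem)
    refine ⟨_, H.mul_mem hmb hg, ?_⟩
    rw [Units.val_mul, coe_tv, tvMat_lower, hgv]
    ext i j
    fin_cases i <;> fin_cases j <;> simp [Matrix.mul_apply, Fin.sum_univ_three]
  · exact main p q u v hp hq hu hv hd hu0

/-- What is known of a transvection off the plane of the pair. -/
theorem Fr.off_data [Finite F] (hF : Fr H K) (hσ : ∀ x, σ x = x ↔ x ∈ K) {z a : Fin 3 → F}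
    (h : InT H z a) (hz2 : z 2 ≠ 0) (ha : a ≠ 0) :
    z 1 ≠ 0 ∧ a 0 * z 1 ∈ K ∧ a 0 * z 1 ≠ 0 ∧ σ (z 0 / z 1) ≠ z 0 / z 1 ∧
      σ (σ (z 0 / z 1)) = z 0 / z 1 ∧ σ (a 2 * z 2) = -(a 2 * z 2) ∧ a 2 * z 2 ≠ 0 ∧
      a 1 * z 1 = -(a 0 * z 1 * σ (z 0 / z 1)) ∧
      a 0 * z 1 * (z 0 / z 1 - σ (z 0 / z 1)) + a 2 * z 2 = 0 ∧ Exact H K z a := by
  have h2 := hF.two
  have hl : InT H (ev 1) (ev 0) := by simpa using (hF.root1 1).2 K.one_mem
  obtain ⟨hz0, hz1, ha0, ha1, ha2⟩ := off_ne h2 hF.irr hF.noTwo one_ne_zero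
    ((hF.root0 1).2 K.one_mem) hl h hz2 ha
  have hdot := inT_dot h
  rw [dotProduct, Fin.sum_univ_three] at hdot
  have he0 : Exact H K (ev 0) (ev 1) := hF.root0
  have he1 : Exact H K (ev 1) (ev 0) := hF.root1
  have p0 : a 0 * z 1 ∈ K := by
    have := hF.prod _ _ he0.inT he0 z a h
    rwa [ev_dot, dot_ev, mul_comm] at this
  have p1 : a 1 * z 0 ∈ K := by
    have := hF.prod _ _ he1.inT he1 z a h
    rwa [ev_dot, dot_ev, mul_comm] at this
  have p2 : a 0 * z 0 - a 1 * z 1 ∈ K := by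
    have he := hF.exact_shift K.one_mem
    have := K.sub_mem (K.add_mem (hF.prod _ _ he.inT he z a h) p0) p1
    convert this using 1
    simp [dotProduct, Fin.sum_univ_three]
    ring
  set A := a 0 * z 0 with hA
  set B := a 1 * z 1 with hB
  set C := a 2 * z 2 with hC
  have hC0 : C ≠ 0 := mul_ne_zero ha2 hz2
  have hAB : A * B ∈ K := by
    rw [show A * B = (a 0 * z 1) * (a 1 * z 0) by rw [hA, hB]; ring]
    exact K.mul_mem p0 p1
  have hC2 : C * C ∈ K := by
    rw [show C * C = (A - B) * (A - B) + (A * B + A * B + (A * B + A * B)) by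
      linear_combination (C - A - B) * hdot]
    exact K.add_mem (K.mul_mem p2 p2) (K.add_mem (K.add_mem hAB hAB) (K.add_mem hAB hAB))
  have hr : z 0 / z 1 = A / (a 0 * z 1) := by rw [hA]; field_simp
  have hCK : C ∉ K := by
    intro hmem
    have hAK : A ∈ K := by
      have h2K : (2 : F) ∈ K := by
        rw [show (2 : F) = 1 + 1 by norm_num]; exact K.add_mem K.one_mem K.one_mem
      have := K.mul_mem (K.sub_mem p2 hmem) (K.inv_mem h2K)
      rwa [show (A - B - C) * 2⁻¹ = A by field_simp; linear_combination -hdot] at this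
    have hx : z 0 / z 1 ∈ K := by rw [hr]; exact K.div_mem hAK p0
    have he := hF.exact_shift hx
    have hzero : ![1, -(z 0 / z 1), 0] ⬝ᵥ z = 0 := by
      simp [dotProduct, Fin.sum_univ_three]
      field_simp
      ring
    have h0 := (zero_iff hF.noTwo he.inT h (fun e => by simpa using congrFun e 1)
      (fun e => by simpa using congrFun e 0) (fun e => hz2 (by rw [e]; rfl)) ha).1 hzero
    simp [dotProduct, Fin.sum_univ_three] at h0
    field_simp at h0
    exact hC0 (by linear_combination hdot - h0)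
  have hσC : σ C = -C := by
    have hsq : σ C * σ C = C * C := by rw [← map_mul]; exact (hσ _).2 hC2
    rcases mul_self_eq_mul_self_iff.1 hsq with e | e
    · exact absurd ((hσ C).1 e) hCK
    · exact e
  have hσ2 := (hσ _).2 p2
  rw [map_sub] at hσ2
  have hσs : σ A + σ B = C := by
    have : σ A + σ B + σ C = 0 := by rw [← map_add, ← map_add, hdot, map_zero]
    linear_combination this - hσC
  have hσA : σ A = -B := mul_left_cancel₀ h2 (by linear_combination hσs + hσ2 + hdot)
  have hσB : σ B = -A := by linear_combination hσs - hσA + hdot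
  have hk : σ (a 0 * z 1) = a 0 * z 1 := (hσ _).2 p0
  have hk0 : a 0 * z 1 ≠ 0 := mul_ne_zero ha0 hz1
  have hσr : σ (z 0 / z 1) = -B / (a 0 * z 1) := by rw [hr, map_div₀, hσA, hk]
  refine ⟨hz1, p0, hk0, fun e => hC0 ?_, ?_, hσC, hC0, ?_, ?_,
    hF.exact_partner he0 h (by rwa [ev_dot]) (by rwa [dot_ev])⟩
  · rw [hσr, hr, div_left_inj' hk0] at e
    linear_combination hdot + e
  · rw [hσr, map_div₀, map_neg, hσB, neg_neg, hk, hr]
  · rw [hσr, mul_div_cancel₀ _ hk0, neg_neg]
  · rw [mul_sub, hσr, hr, mul_div_cancel₀ _ hk0, mul_div_cancel₀ _ hk0]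
    linear_combination hdot

/-- The normal form: the plane of the pair, and the transvection at `(r, 1, 1)`. -/
structure UCtx (H : Subgroup (GL (Fin 3) F)) (K : Subfield F) (σ : F →+* F) (r k C : F) : Prop where
  fr : Fr H K
  fix : ∀ x, σ x = x ↔ x ∈ K
  k_mem : k ∈ K
  k_ne : k ≠ 0
  C_conj : σ C = -C
  C_ne : C ≠ 0
  r_fix : σ (σ r) = r
  r_ne : σ r ≠ r
  rel : k * (r - σ r) + C = 0
  base : Exact H K ![r, 1, 1] ![k, -(k * σ r), C]

/-- The dual of the Hermitian form. -/
def hat (σ : F →+* F) (k C : F) (v : Fin 3 → F) : Fin 3 → F :=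
  ![C * σ (v 1), -(C * σ (v 0)), C ^ 2 / k * σ (v 2)]

theorem Fr.scale (hF : Fr H K) (D : GL (Fin 3) F) {l : F} (hl : l ≠ 0)
    (hDv : ∀ i : Fin 3, i ≠ 2 → D⁻¹.val *ᵥ ev i = l • ev i)
    (hDd : ∀ i : Fin 3, i ≠ 2 → ∀ c : F, (c • ev i) ᵥ* D.val = (c * l⁻¹) • ev i) :
    Fr (cj D H) K where
  two := hF.two
  irr := irr_cj hF.irr D
  noTwo h := hF.noTwo (twoAxes_cj h)
  root0 c := by
    rw [← hF.root0 c, inT_cj, hDv 0 (by decide), hDd 1 (by decide)]
    constructor
    · intro h
      have h' := inT_smul_right h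
      rwa [smul_smul, mul_comm l, mul_assoc, inv_mul_cancel₀ hl, mul_one] at h'
    · intro h
      refine inT_smul_left ?_
      rwa [smul_smul, mul_comm l, mul_assoc, inv_mul_cancel₀ hl, mul_one]
  root1 c := by
    rw [← hF.root1 c, inT_cj, hDv 1 (by decide), hDd 0 (by decide)]
    constructor
    · intro h
      have h' := inT_smul_right h
      rwa [smul_smul, mul_comm l, mul_assoc, inv_mul_cancel₀ hl, mul_one] at h'
    · intro h
      refine inT_smul_left ?_
      rwa [smul_smul, mul_comm l, mul_assoc, inv_mul_cancel₀ hl, mul_one]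
  prod u κ hu he w c hw := by
    rw [inT_cj] at hu hw
    have he' : ∀ t, InT H (D⁻¹.val *ᵥ u) (t • (κ ᵥ* D.val)) ↔ t ∈ K := fun t => by
      rw [← he t, inT_cj, Matrix.smul_vecMul]
    have := hF.prod _ _ hu he' _ _ hw
    rwa [← Matrix.dotProduct_mulVec, mul_inv_mulVec, ← Matrix.dotProduct_mulVec, mul_inv_mulVec]
      at this

/-- Coordinates in normal form exist. -/
theorem Fr.exists_ctx [Finite F] (hF : Fr H K) :
    ∃ (D : GL (Fin 3) F) (σ : F →+* F) (r k C : F),
      (∀ x, σ x = x ^ Nat.card K) ∧ UCtx (cj D H) K σ r k C := by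
  classical
  obtain ⟨σ, hσ, hσp⟩ := exists_conj_hom K
  obtain ⟨z, a, h, ha, hz2⟩ : ∃ z a, InT H z a ∧ a ≠ 0 ∧ z 2 ≠ 0 := by
    obtain ⟨z, a, h, ha, hnm⟩ := exists_centre_off hF.irr
      ⟨ev 1, ev 0, by simpa using (hF.root1 1).2 K.one_mem,
        fun e => by simpa [ev_apply] using congrFun e 1,
        fun e => by simpa [ev_apply] using congrFun e 0⟩
      (W := LinearMap.ker (LinearMap.proj 2 : (Fin 3 → F) →ₗ[F] F)) (fun e => by
        have : ev (F := F) 2 ∈ LinearMap.ker (LinearMap.proj 2 : (Fin 3 → F) →ₗ[F] F) := by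
          rw [e]; exact Submodule.mem_top
        simp [ev_apply] at this)
    exact ⟨z, a, h, ha, fun e => hnm (by simpa using e)⟩
  obtain ⟨hz1, hk, hk0, hr, hrr, hC, hC0, hB, hrel, hex⟩ := hF.off_data hσ h hz2 ha
  set D := Matrix.GeneralLinearGroup.mkOfDetNeZero (Matrix.diagonal ![(z 1)⁻¹, (z 1)⁻¹, (z 2)⁻¹])
    (by rw [Matrix.det_diagonal, Fin.prod_univ_three]; simp [hz1, hz2]) with hDdef
  have hDinv : D⁻¹.val = Matrix.diagonal ![z 1, z 1, z 2] := by
    rw [Matrix.coe_units_inv, Matrix.inv_eq_right_inv (B := Matrix.diagonal ![z 1, z 1, z 2])]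
    rw [hDdef]
    simp only [Matrix.GeneralLinearGroup.mkOfDetNeZero]
    ext i j
    fin_cases i <;> fin_cases j <;> simp [Matrix.mul_apply, Fin.sum_univ_three, hz1, hz2]
  have hDval : D.val = Matrix.diagonal ![(z 1)⁻¹, (z 1)⁻¹, (z 2)⁻¹] := rfl
  refine ⟨D, σ, z 0 / z 1, a 0 * z 1, a 2 * z 2, hσp, hF.scale D hz1 (fun i hi => ?_)
    (fun i hi c => ?_), hσ, hk, hk0, hC, hC0, hrr, hr, hrel, fun t => ?_⟩
  · rw [hDinv]
    ext l
    fin_cases i <;> fin_cases l <;> simp [Matrix.mulVec_diagonal, ev_apply] at hi ⊢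
  · rw [hDval]
    ext l
    fin_cases i <;> fin_cases l <;> simp [Matrix.vecMul_diagonal, ev_apply] at hi ⊢
  · rw [← hex t, inT_cj, hDinv, hDval]
    have e1 : Matrix.diagonal ![z 1, z 1, z 2] *ᵥ ![z 0 / z 1, 1, 1] = z := by
      ext l
      fin_cases l <;> simp [Matrix.mulVec_diagonal, mul_div_cancel₀ _ hz1]
    have e2 : (t • ![a 0 * z 1, -(a 0 * z 1 * σ (z 0 / z 1)), a 2 * z 2]) ᵥ*
        Matrix.diagonal ![(z 1)⁻¹, (z 1)⁻¹, (z 2)⁻¹] = t • a := by
      rw [← hB]
      ext l
      fin_cases l <;> simp [Matrix.vecMul_diagonal] <;> field_simp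
    rw [e1, e2]

variable {r k C : F}

theorem UCtx.conj_hK (hU : UCtx H K σ r k C) {x : F} (hx : x ∈ K) : σ x = x := (hU.fix x).2 hx

theorem UCtx.neg_div (hU : UCtx H K σ r k C) {l : F} (hl : σ l = -l) : l * C ∈ K :=
  (hU.fix _).1 (by rw [map_mul, hl, hU.C_conj, neg_mul_neg])

theorem UCtx.norm_mem (hU : UCtx H K σ r k C) {x : F} (hx : σ (σ x) = x) : x * σ x ∈ K :=
  (hU.fix _).1 (by rw [map_mul, hx, mul_comm])

/-- The shape of every transvection. -/
theorem UCtx.shape [Finite F] (hU : UCtx H K σ r k C) {z a : Fin 3 → F} (h : InT H z a)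
    (hz : z ≠ 0) (ha : a ≠ 0) :
    ∃ (v : Fin 3 → F) (μ l : F), (∀ i, σ (σ (v i)) = v i) ∧ μ ≠ 0 ∧ z = μ • v ∧ σ l = -l ∧ l ≠ 0 ∧
      μ • a = l • hat σ k C v ∧ v ⬝ᵥ hat σ k C v = 0 := by
  have hF := hU.fr
  have hC := hU.C_ne
  have hk := hU.k_ne
  by_cases hz2 : z 2 = 0
  · -- centres in the plane of the pair
    by_cases hz1 : z 1 = 0
    · have hz0 : z 0 ≠ 0 := fun e => hz (funext fun i => by fin_cases i <;> assumption)
      have hze : z = z 0 • ev 0 := by
        ext i; fin_cases i <;> simp [ev_apply, hz1, hz2]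
      have h' : InT H (ev 0) (z 0 • a) := inT_smul_right (hze ▸ h)
      have he : InT H (ev 0) ((1 : F) • ev 1) := (hF.root0 1).2 K.one_mem
      obtain ⟨m, hm⟩ := uniq_axis hF.noTwo he h' (fun e => by simpa [ev_apply] using congrFun e 0)
        (fun e => by simpa [ev_apply] using congrFun e 1)
      rw [one_smul] at hm
      have hmK : m ∈ K := (hF.root0 m).1 (hm ▸ h')
      have hm0 : m ≠ 0 := fun e => ha (by
        rw [e, zero_smul] at hm; exact (smul_eq_zero.1 hm).resolve_left hz0)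
      refine ⟨ev 0, z 0, -(m / C), fun i => ?_, hz0, hze, ?_, neg_ne_zero.2 (div_ne_zero hm0 hC),
        hm.trans ?_, ?_⟩
      · fin_cases i <;> simp [ev_apply]
      · rw [map_neg, map_div₀, hU.conj_hK hmK, hU.C_conj, div_neg, neg_neg]
      · ext i
        fin_cases i <;> simp [hat, ev_apply]
        field_simp
      · simp [hat, dotProduct, Fin.sum_univ_three, ev_apply]
    · have hz1' := hz1
      have he : InT H (ev 0) ((1 : F) • ev 1) := (hF.root0 1).2 K.one_mem
      have z0 : a 0 ≠ 0 := fun e => hz1 (by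
        have := (zero_iff hF.noTwo he h (fun e => by simpa [ev_apply] using congrFun e 0)
          (fun e => by simpa [ev_apply] using congrFun e 1) hz ha).2 (by rwa [dot_ev])
        simpa [smul_dotProduct, ev_dot] using this)
      have hdot := inT_dot h
      rw [dotProduct, Fin.sum_univ_three, hz2, mul_zero, add_zero] at hdot
      have he1 : Exact H K (ev 1) (ev 0) := hF.root1
      have he0 : Exact H K (ev 0) (ev 1) := hF.root0
      have p0 : a 0 * z 1 ∈ K := by
        have := hF.prod _ _ he0.inT he0 z a h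
        rwa [ev_dot, dot_ev, mul_comm] at this
      have p1 : a 1 * z 0 ∈ K := by
        have := hF.prod _ _ he1.inT he1 z a h
        rwa [ev_dot, dot_ev, mul_comm] at this
      have he' := hF.exact_shift K.one_mem
      have p2 : a 0 * z 0 + a 0 * z 0 ∈ K := by
        have := K.sub_mem (K.add_mem (hF.prod _ _ he'.inT he' z a h) p0) p1
        convert this using 1
        simp [dotProduct, Fin.sum_univ_three]
        linear_combination hdot
      have hx : z 0 / z 1 ∈ K := by
        have := K.div_mem p2 (K.add_mem p0 p0)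
        rwa [show (a 0 * z 0 + a 0 * z 0) / (a 0 * z 1 + a 0 * z 1) = z 0 / z 1 by
          rw [← two_mul, ← two_mul, mul_div_mul_left _ _ hF.two, mul_div_mul_left _ _ z0]] at this
      set x := z 0 / z 1
      have hex := hF.exact_shift hx
      have hze : z = z 1 • ![x, 1, 0] := by
        ext i; fin_cases i <;> simp [x, hz2, mul_div_cancel₀ _ hz1]
      have h' : InT H ![x, 1, 0] (z 1 • a) := inT_smul_right (hze ▸ h)
      obtain ⟨m, hm⟩ := uniq_axis hF.noTwo hex.inT h' (fun e => by simpa using congrFun e 1)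
        (fun e => by simpa using congrFun e 0)
      have hmK : m ∈ K := (hex m).1 (hm ▸ h')
      have hm0 : m ≠ 0 := fun e => ha (by
        rw [e, zero_smul] at hm; exact (smul_eq_zero.1 hm).resolve_left hz1)
      refine ⟨![x, 1, 0], z 1, m / C, fun i => ?_, hz1, hze, ?_, div_ne_zero hm0 hC, hm.trans ?_, ?_⟩
      · fin_cases i <;> simp [hU.conj_hK hx]
      · rw [map_div₀, hU.conj_hK hmK, hU.C_conj, div_neg]
      · ext i
        fin_cases i <;> simp [hat, hU.conj_hK hx] <;> field_simp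
      · simp [hat, dotProduct, Fin.sum_univ_three, hU.conj_hK hx]
        ring
  · obtain ⟨hz1, hk', hk0', hr', hrr', hC', hC0', hB, hrel', -⟩ :=
      hF.off_data hU.fix h hz2 ha
    set r' := z 0 / z 1 with hr'def
    set k' := a 0 * z 1
    set C' := a 2 * z 2
    set ζ := z 2 / z 1 with hζ
    have hζ0 : ζ ≠ 0 := div_ne_zero hz2 hz1
    set X := C' / ζ with hX
    set Y := k' / k * C * ζ with hY
    -- pair products with the conjugates of the transvection at `(r, 1, 1)`
    have hE : ∀ p q u v : F, p ∈ K → q ∈ K → u ∈ K → v ∈ K → p * v - q * u = 1 →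
        (k * (p * r' + q) - k * σ r * (u * r' + v)) * X -
          σ (k * (p * r' + q) - k * σ r * (u * r' + v)) * Y ∈ K := by
      intro p q u v hp hq hu hv hd
      obtain ⟨g, hg, hgv, hgi⟩ := hF.blk_mem hp hq hu hv hd
      set α := k * (p * r' + q) - k * σ r * (u * r' + v) with hα
      have hσα : σ α = k * (p * σ r' + q) - k * r * (u * σ r' + v) := by
        simp only [hα, map_sub, map_mul, map_add, hU.r_fix, hU.conj_hK hp, hU.conj_hK hq,
          hU.conj_hK hu, hU.conj_hK hv, hU.conj_hK hU.k_mem]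
      have hmem := hF.prod _ _ hU.base.inT hU.base _ _ (inT_conj hg h)
      have e1 : ![k, -(k * σ r), C] ⬝ᵥ (g.val *ᵥ z) = z 1 * (α + C * ζ) := by
        rw [hgv]
        simp [dotProduct, Matrix.mulVec, Fin.sum_univ_three, hα, hr'def, hζ]
        field_simp
        ring
      have e2 : (a ᵥ* g⁻¹.val) ⬝ᵥ ![r, 1, 1] = (z 1)⁻¹ * (X - k' / k * σ α) := by
        rw [hgi, hσα]
        have e0 : a 0 = k' * (z 1)⁻¹ := by simp only [k']; field_simp
        have e1 : a 1 = -(k' * σ r') * (z 1)⁻¹ := by rw [← hB]; field_simp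
        have e2 : a 2 = X * (z 1)⁻¹ := by simp only [hX, hζ, C']; field_simp
        simp [dotProduct, Matrix.vecMul, Fin.sum_univ_three]
        rw [e0, e1, e2]
        field_simp
        ring
      rw [e1, e2, show z 1 * (α + C * ζ) * ((z 1)⁻¹ * (X - k' / k * σ α)) =
        α * X - σ α * Y + (C * C' - k' / k * (α * σ α)) by
          rw [hY]; field_simp; rw [hX]; field_simp; ring] at hmem
      have hfix : C * C' - k' / k * (α * σ α) ∈ K := by
        refine K.sub_mem ((hU.fix _).1 (by rw [map_mul, hU.C_conj, hC', neg_mul_neg]))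
          (K.mul_mem (K.div_mem hk' hU.k_mem) (hU.norm_mem ?_))
        simp only [hα, map_sub, map_mul, map_add, hU.r_fix, hrr', hU.conj_hK hp, hU.conj_hK hq,
          hU.conj_hK hu, hU.conj_hK hv, hU.conj_hK hU.k_mem]
      have := K.sub_mem hmem hfix
      rwa [add_sub_cancel_right] at this
    have h1 := K.one_mem
    have h0 := K.zero_mem
    have hkσ := hU.conj_hK hU.k_mem
    have hq : X - Y ∈ K := by
      have := K.div_mem (K.sub_mem (hE 1 1 0 1 h1 h1 h0 h1 (by ring)) (hE 1 0 0 1 h1 h0 h0 h1 (by ring)))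
        hU.k_mem
      convert this using 1
      simp [map_sub, map_mul, map_add, hkσ]
      field_simp
      ring
    have hp : r' * X - σ r' * Y ∈ K := by
      have := K.div_mem (K.add_mem (K.sub_mem (K.sub_mem
        (hE 2 1 1 1 (by rw [show (2 : F) = 1 + 1 by norm_num]; exact K.add_mem h1 h1) h1 h1 h1 (by ring))
        (hE 1 1 0 1 h1 h1 h0 h1 (by ring))) (hE 1 0 1 1 h1 h0 h1 h1 (by ring)))
        (hE 1 0 0 1 h1 h0 h0 h1 (by ring))) hU.k_mem
      convert this using 1
      simp [map_sub, map_mul, map_add, hkσ, map_ofNat]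
      field_simp
      ring
    have hXeq : (r' - σ r') * X = (r' * X - σ r' * Y) - σ r' * (X - Y) := by ring
    have hne : r' - σ r' ≠ 0 := sub_ne_zero.2 (Ne.symm hr')
    have hXX : σ (σ X) = X := by
      apply mul_left_cancel₀ hne
      have := congrArg (fun x => σ (σ x)) hXeq
      simp only [map_mul, map_sub σ r', map_sub σ (σ r'), hrr'] at this
      rw [this, map_sub σ (r' * X - σ r' * Y), map_sub σ (σ (r' * X - σ r' * Y)), hU.conj_hK hp,
        hU.conj_hK hp, map_mul, map_mul, hU.conj_hK hq, hU.conj_hK hq, hrr', hXeq]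
    have hX0 : X ≠ 0 := div_ne_zero hC0' hζ0
    have hζζ : σ (σ ζ) = ζ := by
      have e : ζ = C' / X := by rw [hX]; field_simp
      rw [e, map_div₀, map_div₀, hC', map_neg, hC', neg_neg, hXX]
    have hYY : σ (σ Y) = Y := by
      simp only [hY, map_mul, map_div₀, hU.C_conj, map_neg, hζζ, hU.conj_hK hk', hkσ]
      ring
    have hU1 : σ X - σ Y = X - Y := by rw [← map_sub]; exact hU.conj_hK hq
    have hU2 : σ r' * σ X - r' * σ Y = r' * X - σ r' * Y := by
      have := hU.conj_hK hp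
      rwa [map_sub, map_mul, map_mul, hrr'] at this
    have hXY : X = -σ Y := by
      have : (r' - σ r') * (X + σ Y) = 0 := by linear_combination -hU2 + σ r' * hU1
      exact eq_neg_of_add_eq_zero_left ((mul_eq_zero.1 this).resolve_left hne)
    have hXval : X = k' / k * C * σ ζ := by
      rw [hXY, hY, map_mul, map_mul, map_div₀, hU.conj_hK hk', hkσ, hU.C_conj]
      ring
    refine ⟨![r', 1, ζ], z 1, k' / C, fun i => ?_, hz1, ?_, ?_, div_ne_zero hk0' hC, ?_, ?_⟩
    · fin_cases i <;> simp [hrr', hζζ]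
    · ext i
      fin_cases i <;> simp [hr'def, hζ, mul_div_cancel₀ _ hz1]
    · rw [map_div₀, hU.conj_hK hk', hU.C_conj, div_neg]
    · ext i
      fin_cases i <;> simp [hat]
      · field_simp; simp [k', mul_comm]
      · field_simp
        linear_combination hB
      · rw [show z 1 * a 2 = X by rw [hX, hζ]; simp only [C']; field_simp, hXval]
        field_simp
    · have : ζ * (k' / k * C * σ ζ) = C' := by rw [← hXval, hX]; field_simp
      clear_value k' C' r' ζ
      simp [hat, dotProduct, Fin.sum_univ_three]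
      refine mul_left_cancel₀ hk0' ?_
      linear_combination C * hrel' + C * this

/-- All isotropic transvections occur. -/
theorem UCtx.full (hU : UCtx H K σ r k C) {v : Fin 3 → F} (hv : ∀ i, σ (σ (v i)) = v i)
    (hiso : v ⬝ᵥ hat σ k C v = 0) {l : F} (hl : σ l = -l) : InT H v (l • hat σ k C v) := by
  have hF := hU.fr
  have hC := hU.C_ne
  have hk := hU.k_ne
  simp [hat, dotProduct, Fin.sum_univ_three] at hiso
  by_cases hv2 : v 2 = 0
  · simp [hv2] at hiso
    have hsym : v 0 * σ (v 1) = v 1 * σ (v 0) :=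
      mul_left_cancel₀ hC (by linear_combination hiso)
    by_cases hv1 : v 1 = 0
    · have he : InT H (ev 0) ((-(l * C * (v 0 * σ (v 0)))) • ev 1) :=
        (hF.root0 _).2 (K.neg_mem (K.mul_mem (hU.neg_div hl) (hU.norm_mem (hv 0))))
      have hve : v = v 0 • ev 0 := by ext i; fin_cases i <;> simp [ev_apply, hv1, hv2]
      rw [hve]
      refine inT_smul_left ?_
      convert he using 1
      ext i
      fin_cases i <;> simp [hat, ev_apply]
      ring
    · set x := v 0 / v 1 with hxdef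
      have hx : x ∈ K := (hU.fix _).1 (by
        rw [hxdef, map_div₀, div_eq_div_iff (by simpa using hv1) hv1]
        linear_combination -hsym)
      have he := ((hF.exact_shift hx) _).2 (K.mul_mem (hU.neg_div hl) (hU.norm_mem (hv 1)))
      have hve : v = v 1 • ![x, 1, 0] := by
        ext i; fin_cases i <;> simp [hxdef, hv2, mul_div_cancel₀ _ hv1]
      have hx0 : v 0 = x * v 1 := by rw [hxdef, div_mul_cancel₀ _ hv1]
      rw [hve]
      refine inT_smul_left ?_
      convert he using 1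
      ext i
      fin_cases i <;> simp [hat, hU.conj_hK hx] <;> ring
  · set y₀ := v 0 / v 2 with hy₀
    set y₁ := v 1 / v 2 with hy₁
    have f0 : σ (σ y₀) = y₀ := by rw [hy₀, map_div₀, map_div₀, hv, hv]
    have f1 : σ (σ y₁) = y₁ := by rw [hy₁, map_div₀, map_div₀, hv, hv]
    have hrne : r - σ r ≠ 0 := sub_ne_zero.2 (Ne.symm hU.r_ne)
    set p := (y₀ - σ y₀) / (r - σ r) with hp
    set u := (y₁ - σ y₁) / (r - σ r) with hu
    have hσp : σ p = p := by
      rw [hp, map_div₀, map_sub, map_sub, f0, hU.r_fix, ← neg_sub y₀, ← neg_sub r, neg_div_neg_eq]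
    have hσu : σ u = u := by
      rw [hu, map_div₀, map_sub, map_sub, f1, hU.r_fix, ← neg_sub y₁, ← neg_sub r, neg_div_neg_eq]
    have hy0p : y₀ - σ y₀ = p * (r - σ r) := by rw [hp, div_mul_cancel₀ _ hrne]
    have hy1u : y₁ - σ y₁ = u * (r - σ r) := by rw [hu, div_mul_cancel₀ _ hrne]
    have hq : y₀ - p * r ∈ K := (hU.fix _).1 (by
      rw [map_sub, map_mul, hσp]; linear_combination -hy0p)
    have hv' : y₁ - u * r ∈ K := (hU.fix _).1 (by
      rw [map_sub, map_mul, hσu]; linear_combination -hy1u)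
    have hiso' : C * (y₀ * σ y₁ - y₁ * σ y₀) + C ^ 2 / k = 0 := by
      have x0 : v 0 = y₀ * v 2 := by rw [hy₀, div_mul_cancel₀ _ hv2]
      have x1 : v 1 = y₁ * v 2 := by rw [hy₁, div_mul_cancel₀ _ hv2]
      rw [x0, x1, map_mul, map_mul] at hiso
      refine (mul_eq_zero.1 (show (v 2 * σ (v 2)) *
        (C * (y₀ * σ y₁ - y₁ * σ y₀) + C ^ 2 / k) = 0 by linear_combination hiso)).resolve_left
        (mul_ne_zero hv2 (by simpa using hv2))
    have hrr : C / k = -(r - σ r) := by field_simp; linear_combination hU.rel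
    have hiso'' : y₀ * σ y₁ - y₁ * σ y₀ = r - σ r := mul_left_cancel₀ hC (by
      rw [sq, mul_div_assoc, hrr] at hiso'; linear_combination hiso')
    have hdet : p * (y₁ - u * r) - (y₀ - p * r) * u = 1 := mul_right_cancel₀ hrne (by
      linear_combination hiso'' - y₁ * hy0p + y₀ * hy1u)
    obtain ⟨g, hg, hgv, hgi⟩ := hF.blk_mem ((hU.fix _).1 hσp) hq ((hU.fix _).1 hσu) hv' hdet
    have hb := (hU.base _).2 (K.mul_mem (K.mul_mem (hU.neg_div hl) (hU.norm_mem (hv 2)))
      (K.inv_mem hU.k_mem))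
    have h' := inT_conj hg hb
    have hve : v = v 2 • ![y₀, y₁, 1] := by
      ext i; fin_cases i <;> simp [hy₀, hy₁, mul_div_cancel₀ _ hv2]
    rw [hve]
    refine inT_smul_left ?_
    convert h' using 1
    · rw [hgv]
      ext i
      fin_cases i <;> simp [Matrix.mulVec, dotProduct, Fin.sum_univ_three]
    · have e0 : σ y₀ = p * σ r + (y₀ - p * r) := by linear_combination -hy0p
      have e1 : σ y₁ = u * σ r + (y₁ - u * r) := by linear_combination -hy1u
      rw [hgi]
      ext i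
      fin_cases i <;> simp [hat, Matrix.vecMul, dotProduct, Fin.sum_univ_three]
      · rw [e1]; field_simp; ring
      · rw [e0]; field_simp; ring
      · field_simp

end Cfsg.Lib.Linear.Mitchell
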