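import Cfsg.Agent.Lib.Linear.Mitchell.TransSplit
import Cfsg.Agent.Lib.Linear.Mitchell.TransUnitary
import Cfsg.Agent.Lib.Linear.HermStandard
import Cfsg.Agent.S0780

/-!
# Irreducible groups with transvections in dimension three, odd characteristic

Mitchell's theorem: such a group lies between `SL₃(K)` and `GL₃(K)` with scalars, or between
`SU₃(q)` and the unitary similitudes with scalars, over subfields, up to conjugation.
-/

set_option autoImplicit false

namespace Cfsg.Lib.Linear.Mitchell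

open Cfsg.Geo
open Cfsg.Lib.Linear.TVec
open scoped Matrix MatrixGroups

variable {F : Type*} [Field F] {G H : Subgroup (GL (Fin 3) F)} {K : Subfield F} {σ : F →+* F}
  {r k C : F}

theorem hat_add (σ : F →+* F) (k C : F) (x y : Fin 3 → F) :
    hat σ k C (x + y) = hat σ k C x + hat σ k C y := by
  ext i; fin_cases i <;> simp [hat] <;> ring

theorem hat_smul (σ : F →+* F) (k C c : F) (x : Fin 3 → F) :
    hat σ k C (c • x) = σ c • hat σ k C x := by
  ext i; fin_cases i <;> simp [hat] <;> ring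

theorem UCtx.symm (hU : UCtx H K σ r k C) {a b : Fin 3 → F} (ha : ∀ i, σ (σ (a i)) = a i) :
    σ (hat σ k C b ⬝ᵥ a) = hat σ k C a ⬝ᵥ σ ∘ σ ∘ b := by
  simp [hat, dotProduct, Fin.sum_univ_three, hU.C_conj, hU.conj_hK hU.k_mem, ha]
  ring

/-- The subfield fixed by `σ ∘ σ`. -/
def quadField (σ : F →+* F) : Subfield F := (σ.comp σ).eqLocusField (RingHom.id F)

theorem mem_quadField {x : F} : x ∈ quadField σ ↔ σ (σ x) = x := Iff.rfl

theorem UCtx.card_quadField [Finite F] (hU : UCtx H K σ r k C) :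
    Nat.card (quadField σ) = Nat.card K ^ 2 := by
  have hrne : r - σ r ≠ 0 := sub_ne_zero.2 (Ne.symm hU.r_ne)
  rw [sq, ← Nat.card_prod]
  symm
  refine Nat.card_eq_of_bijective (fun ab : K × K => (⟨(ab.1 : F) + ab.2 * r, mem_quadField.2 (by
    simp [hU.r_fix, hU.conj_hK ab.1.2, hU.conj_hK ab.2.2])⟩ : quadField σ)) ⟨?_, ?_⟩
  · rintro ⟨a, b⟩ ⟨a', b'⟩ e
    have e' : (a : F) + b * r = a' + b' * r := congrArg Subtype.val e
    have e'' := congrArg σ e'
    simp only [map_add, map_mul, hU.conj_hK a.2, hU.conj_hK b.2, hU.conj_hK a'.2, hU.conj_hK b'.2]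
      at e''
    have hb : (b : F) = b' := mul_right_cancel₀ hrne (by linear_combination e' - e'')
    have ha : (a : F) = a' := by rw [hb] at e'; exact add_right_cancel e'
    exact Prod.ext (Subtype.ext ha) (Subtype.ext hb)
  · rintro ⟨x, hx⟩
    rw [mem_quadField] at hx
    set b := (x - σ x) / (r - σ r) with hb
    have hσb : σ b = b := by
      rw [hb, map_div₀, map_sub, map_sub, hx, hU.r_fix, ← neg_sub x, ← neg_sub r, neg_div_neg_eq]
    have hxb : x - σ x = b * (r - σ r) := by rw [hb, div_mul_cancel₀ _ hrne]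
    have ha : x - b * r ∈ K := (hU.fix _).1 (by
      rw [map_sub, map_mul, hσb]; linear_combination -hxb)
    exact ⟨(⟨_, ha⟩, ⟨b, (hU.fix _).1 hσb⟩), Subtype.ext (by simp)⟩

/-- Rescaled, every element is rational and a similitude of the form. -/
theorem UCtx.similitude [Finite F] (hU : UCtx H K σ r k C) {g : GL (Fin 3) F} (hg : g ∈ H) :
    ∃ (μ θ : F) (g₀ : Matrix (Fin 3) (Fin 3) F), μ ≠ 0 ∧ g.val = μ • g₀ ∧
      (∀ i j, σ (σ (g₀ i j)) = g₀ i j) ∧ σ θ = θ ∧ θ ≠ 0 ∧
      ∀ x, hat σ k C (g₀ *ᵥ x) ᵥ* g₀ = θ • hat σ k C x := by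
  have h2 := hU.fr.two
  have hC := hU.C_ne
  have hk := hU.k_ne
  have hk' := hU.conj_hK hU.k_mem
  have hr : r ≠ 0 := fun e => hU.r_ne (by rw [e, map_zero])
  have hσr : σ r ≠ 0 := (map_ne_zero σ).2 hr
  set w : Fin 3 → F := ![r, 1, 1] with hw
  set w' : Fin 3 → F := ![-r, -1, 1] with hw'
  have him : ∀ x : Fin 3 → F, (∀ i, σ (σ (x i)) = x i) → x ⬝ᵥ hat σ k C x = 0 → x ≠ 0 →
      ∃ (v : Fin 3 → F) (μ l : F), (∀ i, σ (σ (v i)) = v i) ∧ μ ≠ 0 ∧ g.val *ᵥ x = μ • v ∧
        σ l = -l ∧ l ≠ 0 ∧ v ≠ 0 ∧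
        μ • ((C • hat σ k C x) ᵥ* g⁻¹.val) = l • hat σ k C v := by
    intro x hx hiso hx0
    have h := inT_conj hg (hU.full hx hiso hU.C_conj)
    have hgx : g.val *ᵥ x ≠ 0 := fun e => hx0 (by rw [← inv_mul_mulVec g x, e, Matrix.mulVec_zero])
    have hhat : hat σ k C x ≠ 0 := by
      intro e
      apply hx0
      have e0 := congrFun e 0
      have e1 := congrFun e 1
      have e2 := congrFun e 2
      simp [hat, hC, hk] at e0 e1 e2
      funext i
      fin_cases i <;> assumption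
    obtain ⟨v, μ, l, hv, hμ, hgv, hl, hl0, hμa, -⟩ := hU.shape h hgx (fun e => hhat (by
      have := congrArg (fun y => y ᵥ* g.val) e
      simp only [inv_mul_vecMul, Matrix.zero_vecMul] at this
      exact (smul_eq_zero.1 this).resolve_left hC))
    exact ⟨v, μ, l, hv, hμ, hgv, hl, hl0,
      fun e => hgx (by rw [hgv, e, smul_zero]), hμa⟩
  have f0 : ∀ i, σ (σ (ev (F := F) 0 i)) = ev 0 i := fun i => by fin_cases i <;> simp [ev_apply]
  have f1 : ∀ i, σ (σ (ev (F := F) 1 i)) = ev 1 i := fun i => by fin_cases i <;> simp [ev_apply]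
  have fw : ∀ i, σ (σ (w i)) = w i := fun i => by fin_cases i <;> simp [hw, hU.r_fix]
  have fw' : ∀ i, σ (σ (w' i)) = w' i := fun i => by fin_cases i <;> simp [hw', hU.r_fix]
  have n0 : ev (F := F) 0 ≠ 0 := fun e => by simpa [ev_apply] using congrFun e 0
  have n1 : ev (F := F) 1 ≠ 0 := fun e => by simpa [ev_apply] using congrFun e 1
  have nw : w ≠ 0 := fun e => by simpa [hw] using congrFun e 1
  have nw' : w' ≠ 0 := fun e => by simpa [hw'] using congrFun e 1
  have i0 : ev (F := F) 0 ⬝ᵥ hat σ k C (ev 0) = 0 := by simp [hat, ev_apply, dotProduct, Fin.sum_univ_three, Matrix.vecHead, Matrix.vecTail]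
  have i1 : ev (F := F) 1 ⬝ᵥ hat σ k C (ev 1) = 0 := by simp [hat, ev_apply, dotProduct, Fin.sum_univ_three, Matrix.vecHead, Matrix.vecTail]
  have iw : w ⬝ᵥ hat σ k C w = 0 := by
    simp [hw, hat, dotProduct, Fin.sum_univ_three]
    field_simp
    linear_combination C * hU.rel
  have iw' : w' ⬝ᵥ hat σ k C w' = 0 := by
    simp [hw', hat, dotProduct, Fin.sum_univ_three]
    field_simp
    linear_combination C * hU.rel
  obtain ⟨v0, m0, l0, hv0, hm0, hg0, hl0, hl0', hv0', ha0⟩ := him _ f0 i0 n0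
  obtain ⟨v1, m1, l1, hv1, hm1, hg1, hl1, hl1', hv1', ha1⟩ := him _ f1 i1 n1
  obtain ⟨vw, m, lw, hvw, hm, hgw, hlw, hlw', hvw', haw⟩ := him _ fw iw nw
  obtain ⟨vw', m', lw2, hvw2, hm', hgw', hlw2, hlw2', hvw2', haw2⟩ := him _ fw' iw' nw'
  -- the multipliers have rational ratios
  let R : Matrix (Fin 3) (Fin 3) F := Matrix.of fun i j => ![v0, v1, vw'] j i
  have hR : ∀ u, R *ᵥ u = u 0 • v0 + u 1 • v1 + u 2 • vw' := fun u => by
    ext i
    simp [R, Matrix.mulVec, dotProduct, Fin.sum_univ_three]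
    ring
  have hgc : ∀ a b c : F, g.val *ᵥ (a • ev 0 + b • ev 1 + c • w') =
      (a * m0) • v0 + (b * m1) • v1 + (c * m') • vw' := fun a b c => by
    rw [Matrix.mulVec_add, Matrix.mulVec_add, Matrix.mulVec_smul, Matrix.mulVec_smul,
      Matrix.mulVec_smul, hg0, hg1, hgw', smul_smul, smul_smul, smul_smul]
  have hRinj : ∀ u, R *ᵥ u = 0 → u = 0 := by
    intro u hu
    rw [hR] at hu
    have h := hgc (u 0 / m0) (u 1 / m1) (u 2 / m')
    rw [div_mul_cancel₀ _ hm0, div_mul_cancel₀ _ hm1, div_mul_cancel₀ _ hm', hu] at h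
    have h' : (u 0 / m0) • ev 0 + (u 1 / m1) • ev 1 + (u 2 / m') • w' = 0 := by
      have := congrArg (fun y => g⁻¹.val *ᵥ y) h
      simpa [inv_mul_mulVec] using this
    have e2 := congrFun h' 2
    simp [ev_apply, hw', hm'] at e2
    have e0 := congrFun h' 0
    have e1 := congrFun h' 1
    simp [ev_apply, hw', e2, hm0] at e0
    simp [ev_apply, hw', e2, hm1] at e1
    funext i
    fin_cases i <;> assumption
  set u : Fin 3 → F := ![2 * r * m0 / m, 2 * m1 / m, m' / m] with hu
  have hRu : R *ᵥ u = vw := by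
    have e : w = (2 * r) • ev 0 + (2 : F) • ev 1 + (1 : F) • w' := by
      ext i; fin_cases i <;> simp [hw, hw', ev_apply, Matrix.vecHead, Matrix.vecTail] <;> ring
    have h := hgc (2 * r) 2 1
    rw [← e, hgw] at h
    rw [hR]
    apply smul_right_injective _ hm
    show m • _ = m • vw
    rw [h, smul_add, smul_add, smul_smul, smul_smul, smul_smul]
    simp [hu, mul_div_cancel₀ _ hm]
  have hufix : ∀ i, σ (σ (u i)) = u i := by
    have hRR : R *ᵥ (fun i => σ (σ (u i))) = vw := by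
      funext i
      have := congrArg (fun x => σ (σ x)) (congrFun hRu i)
      simp [R, Matrix.mulVec, dotProduct, Fin.sum_univ_three, hv0, hv1, hvw2, hvw] at this ⊢
      exact this
    have h := hRinj ((fun i => σ (σ (u i))) - u) (by rw [Matrix.mulVec_sub, hRR, hRu, sub_self])
    exact fun i => sub_eq_zero.1 (congrFun h i)
  set g₀ : Matrix (Fin 3) (Fin 3) F := m⁻¹ • g.val with hg₀
  have hcol : ∀ j i, g₀ i j = m⁻¹ * (g.val *ᵥ ev j) i := fun j i => by
    simp [hg₀, ev, Matrix.mulVec_single]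
  have hr2 : σ (σ (2 : F)) = 2 := by rw [map_ofNat, map_ofNat]
  have hc0 : σ (σ (m0 / m)) = m0 / m := by
    have := hufix 0
    simp only [hu, Matrix.cons_val_zero, show 2 * r * m0 / m = (2 * r) * (m0 / m) by ring,
      map_mul, hr2, hU.r_fix] at this
    exact mul_left_cancel₀ (mul_ne_zero h2 hr) this
  have hc1 : σ (σ (m1 / m)) = m1 / m := by
    have := hufix 1
    simp only [hu, Matrix.cons_val_one, Matrix.cons_val_zero,
      show 2 * m1 / m = 2 * (m1 / m) by ring, map_mul, hr2] at this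
    exact mul_left_cancel₀ h2 this
  have hc2 : σ (σ (m' / m)) = m' / m := by
    simpa [hu] using hufix 2
  have hfix : ∀ i j, σ (σ (g₀ i j)) = g₀ i j := by
    intro i j
    rw [hcol]
    rcases three_cases (i := 0) (j := 1) (k := 2) (by decide) (by decide) (by decide) j with
      rfl | rfl | rfl
    · rw [show m⁻¹ * (g.val *ᵥ ev 0) i = m0 / m * v0 i by rw [hg0, Pi.smul_apply, smul_eq_mul]; ring,
        map_mul, map_mul, hc0, hv0]
    · rw [show m⁻¹ * (g.val *ᵥ ev 1) i = m1 / m * v1 i by rw [hg1, Pi.smul_apply, smul_eq_mul]; ring,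
        map_mul, map_mul, hc1, hv1]
    · have e : ev (F := F) 2 = (2 : F)⁻¹ • (w + w') := by
        ext l; fin_cases l <;> simp [hw, hw', ev_apply]
        field_simp; norm_num
      rw [show m⁻¹ * (g.val *ᵥ ev 2) i = (2 : F)⁻¹ * (vw i + m' / m * vw' i) by
          rw [e, Matrix.mulVec_smul, Matrix.mulVec_add, hgw, hgw']
          simp
          field_simp,
        map_mul, map_mul, map_add, map_add, map_inv₀, map_inv₀, hr2, map_mul, map_mul, hc2, hvw,
        hvw2]
  -- the form is multiplied by a constant on the four points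
  have hgg : g.val = m • g₀ := by rw [hg₀, smul_smul, mul_inv_cancel₀ hm, one_smul]
  have hθ : ∀ (x v : Fin 3 → F) (μ l : F), (∀ i, σ (σ (x i)) = x i) → μ ≠ 0 → v ≠ 0 → l ≠ 0 →
      (∀ i, σ (σ (v i)) = v i) → g.val *ᵥ x = μ • v →
      μ • ((C • hat σ k C x) ᵥ* g⁻¹.val) = l • hat σ k C v →
      ∃ θ : F, θ ≠ 0 ∧ hat σ k C (g₀ *ᵥ x) ᵥ* g₀ = θ • hat σ k C x := by
    intro x v μ l hx hμ hv0 hl hv hgx ha
    set s := μ / m with hs
    have hgx0 : g₀ *ᵥ x = s • v := by
      rw [hg₀, Matrix.smul_mulVec, hgx, smul_smul, hs, div_eq_inv_mul]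
    have hs0 : s ≠ 0 := div_ne_zero hμ hm
    refine ⟨σ s * s * C / l, div_ne_zero (mul_ne_zero (mul_ne_zero ((map_ne_zero σ).2 hs0) hs0) hC) hl,
      ?_⟩
    have hhv : hat σ k C v ᵥ* g₀ = (s * C / l) • hat σ k C x := by
      have h := congrArg (fun y => l⁻¹ • (y ᵥ* g₀)) ha
      simp only [Matrix.smul_vecMul, smul_smul, inv_mul_cancel₀ hl, one_smul] at h
      rw [← h, hg₀, Matrix.vecMul_smul, inv_mul_vecMul, smul_smul, hs]
      congr 1
      field_simp
    rw [hgx0, hat_smul, Matrix.smul_vecMul, hhv, smul_smul]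
    congr 1
    ring
  obtain ⟨t0, ht0, e0⟩ := hθ _ v0 m0 l0 f0 hm0 hv0' hl0' hv0 hg0 ha0
  obtain ⟨t1, ht1, e1⟩ := hθ _ v1 m1 l1 f1 hm1 hv1' hl1' hv1 hg1 ha1
  obtain ⟨t, ht, ew⟩ := hθ _ vw m lw fw hm hvw' hlw' hvw hgw haw
  obtain ⟨t', ht', ew'⟩ := hθ _ vw' m' lw2 fw' hm' hvw2' hlw2' hvw2 hgw' haw2
  set D := fun x => hat σ k C (g₀ *ᵥ x) ᵥ* g₀ with hD
  have hDadd : ∀ x y, D (x + y) = D x + D y := fun x y => by
    simp only [hD, Matrix.mulVec_add, hat_add, Matrix.add_vecMul]
  have hDsmul : ∀ (c : F) x, D (c • x) = σ c • D x := fun c x => by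
    simp only [hD, Matrix.mulVec_smul, hat_smul, Matrix.smul_vecMul]
  have key : D w = D w' + D ((2 * r) • ev 0) + D ((2 : F) • ev 1) := by
    rw [← hDadd, ← hDadd]
    congr 1
    ext i; fin_cases i <;> simp [hw, hw', ev_apply, Matrix.vecHead, Matrix.vecTail] <;> ring
  rw [hDsmul, hDsmul] at key
  simp only [hD] at key
  rw [e0, e1, ew, ew'] at key
  have k0 := congrFun key 0
  have k1 := congrFun key 1
  have k2 := congrFun key 2
  simp [hat, hw, hw', ev_apply, map_ofNat, Matrix.vecHead, Matrix.vecTail] at k0 k1 k2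
  have hh : C ^ 2 / k ≠ 0 := div_ne_zero (pow_ne_zero 2 hC) hk
  have q2 : t = t' := by
    rcases k2 with e | e
    · exact e
    · exact absurd e (by simpa using hh)
  subst q2
  have q1 : t1 = t := mul_left_cancel₀ (mul_ne_zero h2 hC) (by linear_combination -k0)
  have q0 : t0 = t := mul_left_cancel₀ (mul_ne_zero (mul_ne_zero h2 hC) hσr) (by linear_combination k1)
  subst q1 q0
  have hall : ∀ x, D x = t0 • hat σ k C x := by
    intro x
    have hx : x = (x 0 - x 2 * 0) • ev 0 + x 1 • ev 1 + (x 2 * (2 : F)⁻¹) • (w + w') := by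
      ext i; fin_cases i <;> simp [hw, hw', ev_apply]
      field_simp
      norm_num
    rw [hx, hDadd, hDadd, hDsmul, hDsmul, hDsmul, hDadd, hat_add, hat_add, hat_smul, hat_smul,
      hat_smul, hat_add]
    simp only [hD, e0, e1, ew, ew']
    module
  refine ⟨m, t0, g₀, hm, hgg, hfix, ?_, ht0, hall⟩
  have ea : hat σ k C (g₀ *ᵥ ev 1) ⬝ᵥ (g₀ *ᵥ ev 0) = t0 * C := by
    rw [Matrix.dotProduct_mulVec, e1]
    simp [hat, dot_ev, ev_apply, Matrix.vecHead, Matrix.vecTail]
  have eb : hat σ k C (g₀ *ᵥ ev 0) ⬝ᵥ (g₀ *ᵥ ev 1) = -(t0 * C) := by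
    rw [Matrix.dotProduct_mulVec, e0]
    simp [hat, dot_ev, ev_apply, Matrix.vecHead, Matrix.vecTail]
  have hcolfix : ∀ j i, σ (σ ((g₀ *ᵥ ev j) i)) = (g₀ *ᵥ ev j) i := fun j i => by
    simp [ev, Matrix.mulVec_single, hfix]
  have hs := hU.symm (a := g₀ *ᵥ ev 0) (b := g₀ *ᵥ ev 1) (hcolfix 0)
  rw [show σ ∘ σ ∘ (g₀ *ᵥ ev 1) = g₀ *ᵥ ev 1 from funext (hcolfix 1), ea, eb, map_mul, hU.C_conj]
    at hs
  exact mul_right_cancel₀ hC (by linear_combination -hs)

/-- The two alternatives in the unitary case. -/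
def UnitaryType (G : Subgroup (GL (Fin 3) F)) : Prop :=
  ∃ (Q : GL (Fin 3) F) (K K₂ : Subfield F), Nat.card K₂ = Nat.card K ^ 2 ∧
    ((Cfsg.GU 3 K₂ (Nat.card K) ⊓ specialLinear (Fin 3) K₂).map
        (Matrix.GeneralLinearGroup.map K₂.subtype)).map (MulAut.conj Q).toMonoidHom ≤ G ∧
      G ≤ ((similarityGroup (Cfsg.hermForm 3 K₂ (Nat.card K))).map
        (Matrix.GeneralLinearGroup.map K₂.subtype) ⊔ scalars (Fin 3) F).map
          (MulAut.conj Q).toMonoidHom

/-- A basis in which the form is the standard one. -/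
theorem UCtx.exists_basis [Finite F] (hU : UCtx H K σ r k C)
    (hσq : ∀ x, σ x = x ^ Nat.card K) :
    ∃ P : GL (Fin 3) (quadField σ), ∀ v : Fin 3 → F,
      hat σ k C ((Matrix.GeneralLinearGroup.map (quadField σ).subtype P).val *ᵥ v) ᵥ*
        (Matrix.GeneralLinearGroup.map (quadField σ).subtype P).val = fun i => σ (v i) := by
  classical
  haveI := Fintype.ofFinite F
  have hC := hU.C_ne
  have hk := hU.k_ne
  have hk' := hU.conj_hK hU.k_mem
  have hrne : r - σ r ≠ 0 := sub_ne_zero.2 (Ne.symm hU.r_ne)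
  set h := C ^ 2 / k with hh
  have hh0 : h ≠ 0 := div_ne_zero (pow_ne_zero 2 hC) hk
  have hσh : σ h = h := by rw [hh, map_div₀, map_pow, hU.C_conj, hk', neg_sq]
  haveI := Fintype.ofFinite (quadField σ)
  have hF2 : Fintype.card (quadField σ) = Nat.card K ^ 2 := by
    rw [← Nat.card_eq_fintype_card, hU.card_quadField]
  have hnorm : ∀ c : F, σ c = c → c ≠ 0 → ∃ n : quadField σ, (n : F) * σ n * c = 1 := by
    intro c hc hc0
    have hmem : c⁻¹ ∈ quadField σ := mem_quadField.2 (by rw [map_inv₀, map_inv₀, hc, hc])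
    obtain ⟨n, hn⟩ := Herm.exists_norm_eq hF2 (μ := (⟨c⁻¹, hmem⟩ : quadField σ))
      (fun e => inv_ne_zero hc0 (congrArg Subtype.val e))
      (Subtype.ext (by rw [SubmonoidClass.coe_pow, ← hσq, map_inv₀, hc]))
    refine ⟨n, ?_⟩
    have := congrArg Subtype.val hn
    rw [SubmonoidClass.coe_pow, pow_succ', ← hσq] at this
    rw [this]
    exact inv_mul_cancel₀ hc0
  obtain ⟨n₀, hn₀⟩ := hnorm (-h) (by rw [map_neg, hσh]) (neg_ne_zero.2 hh0)
  obtain ⟨n₁, hn₁⟩ := hnorm h hσh hh0
  let rK : quadField σ := ⟨r, hU.r_fix⟩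
  let sK : quadField σ := ⟨σ r, by rw [mem_quadField, hU.r_fix]⟩
  let M : Matrix (Fin 3) (Fin 3) (quadField σ) :=
    !![rK * n₀, sK * n₁, 0; n₀, n₁, 0; 0, 0, n₁]
  have hdet : M.det ≠ 0 := by
    rw [Matrix.det_fin_three]
    simp [M]
    intro e
    have e' : ((rK : F) * n₀) * n₁ * n₁ - (sK : F) * n₁ * n₀ * n₁ = 0 := by
      have := congrArg Subtype.val e
      simpa using this
    refine mul_ne_zero (mul_ne_zero (mul_ne_zero hrne ?_) ?_) ?_ (show (r - σ r) * (n₀ : F) * n₁ * n₁ = 0 by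
      linear_combination e')
    · intro e0; rw [e0] at hn₀; simp at hn₀
    · intro e0; rw [e0] at hn₁; simp at hn₁
    · intro e0; rw [e0] at hn₁; simp at hn₁
  refine ⟨Matrix.GeneralLinearGroup.mkOfDetNeZero M hdet, fun v => ?_⟩
  have hP : (Matrix.GeneralLinearGroup.map (quadField σ).subtype
      (Matrix.GeneralLinearGroup.mkOfDetNeZero M hdet)).val =
      !![r * n₀, σ r * n₁, 0; (n₀ : F), n₁, 0; 0, 0, n₁] := by
    ext i j
    fin_cases i <;> fin_cases j <;>
      simp [M, rK, sK, Matrix.GeneralLinearGroup.map, Matrix.GeneralLinearGroup.mkOfDetNeZero]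
  have hrel : C * (r - σ r) = -h := by
    rw [hh]; field_simp; linear_combination hU.rel
  rw [hP]
  funext i
  fin_cases i <;> simp [hat, Matrix.mulVec, Matrix.vecMul, dotProduct, Fin.sum_univ_three,
    hU.r_fix, map_ofNat, ← hh]
  · linear_combination σ (v 0) * hn₀ + (n₀ : F) * σ n₀ * σ (v 0) * hrel
  · linear_combination σ (v 1) * hn₁ - (n₁ : F) * σ n₁ * σ (v 1) * hrel
  · linear_combination σ (v 2) * hn₁

theorem hermForm_eq (hσq : ∀ x, σ x = x ^ Nat.card K) (u v : Fin 3 → quadField σ) :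
    (Cfsg.hermForm 3 (quadField σ) (Nat.card K) u v : F) =
      (fun i => (u i : F)) ⬝ᵥ fun i => σ (v i : F) := by
  simp [Cfsg.hermForm, dotProduct, hσq]

/-- Unique axes give the unitary type. -/
theorem of_unique [Fintype F] (h2 : (2 : F) ≠ 0) (hirr : ActsIrreducibly (matrixSet G))
    (hA : ¬ TwoAxes G) (hT : ∃ z a, InT G z a ∧ z ≠ 0 ∧ a ≠ 0) : UnitaryType G := by
  classical
  obtain ⟨Q, K, hF⟩ := exists_fr h2 hirr hA hT
  obtain ⟨D, σ, r, k, C, hσq, hU⟩ := hF.exists_ctx
  obtain ⟨P, hP⟩ := hU.exists_basis hσq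
  set P' := Matrix.GeneralLinearGroup.map (quadField σ).subtype P with hP'
  haveI := Fintype.ofFinite (quadField σ)
  haveI := Fintype.ofFinite K
  set q := Nat.card K with hq
  have hF2 : Fintype.card (quadField σ) = q ^ 2 := by
    rw [← Nat.card_eq_fintype_card, hU.card_quadField]
  have hq3 : 3 ≤ q := by
    by_contra hlt
    have h1 : 1 < q := by rw [hq, Nat.card_eq_fintype_card]; exact Fintype.one_lt_card
    have hc : ((Fintype.card K : ℕ) : K) = 0 := FiniteField.cast_card_eq_zero K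
    rw [← Nat.card_eq_fintype_card, ← hq, show q = 2 by omega] at hc
    have := congrArg K.subtype hc
    simp only [map_natCast, map_zero, Nat.cast_ofNat] at this
    exact h2 this
  set f : GL (Fin 3) (quadField σ) →* GL (Fin 3) F :=
    Matrix.GeneralLinearGroup.map (quadField σ).subtype
  have hfv : ∀ (g : GL (Fin 3) (quadField σ)) (v : Fin 3 → quadField σ),
      (f g).val *ᵥ (fun i => (v i : F)) = fun i => ((g.val *ᵥ v) i : F) := fun g v => by
    funext i
    exact ((quadField σ).subtype.map_mulVec g.val v i).symm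
  -- the group in the coordinates of the standard form
  set H' := cj P'⁻¹ (cj D (cj Q⁻¹ G)) with hH'
  refine ⟨(P'⁻¹ * D * Q⁻¹)⁻¹, K, quadField σ, hU.card_quadField, ?_, ?_⟩
  · have hmem : ∀ A : ↥(Cfsg.SU 3 (quadField σ) q),
        f (Matrix.SpecialLinearGroup.toGL (A : Matrix.SpecialLinearGroup (Fin 3) (quadField σ))) ∈ H' := by
      intro A
      have hA' : A ∈ (⊤ : Subgroup ↥(Cfsg.SU 3 (quadField σ) q)) := trivial
      rw [← Cfsg.Agent.S0780.result hF2 3 le_rfl (by omega)] at hA'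
      induction hA' using Subgroup.closure_induction with
      | one => rw [OneMemClass.coe_one, map_one, map_one]; exact one_mem _
      | mul x y _ _ hx hy => rw [Subgroup.coe_mul, map_mul, map_mul]; exact mul_mem hx hy
      | inv x _ hx => rw [Subgroup.coe_inv, map_inv, map_inv]; exact inv_mem hx
      | mem B hB =>
        obtain ⟨v, c, hv, hBv⟩ := hB
        set v' : Fin 3 → F := fun i => (v i : F) with hv'
        have hvv : v' ⬝ᵥ (fun i => σ (v' i)) = 0 := by
          rw [hv', ← hermForm_eq hσq, hv]; rfl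
        have hBF : (f (Matrix.SpecialLinearGroup.toGL (B : Matrix.SpecialLinearGroup (Fin 3) _))).val =
            tvMat v' ((c : F) • fun i => σ (v' i)) := by
          ext i j
          show (((Subtype.val (Subtype.val B : Matrix.SpecialLinearGroup (Fin 3) (quadField σ)) :
            Matrix (Fin 3) (Fin 3) (quadField σ)) i j : quadField σ) : F) = _
          rw [hBv]
          simp [Cfsg.unitaryTransvection, tvMat, Matrix.vecMulVec_apply, Matrix.one_apply, hv', hσq]
          split_ifs <;> simp <;> ring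
        rcases eq_or_ne v 0 with hv0 | hv0
        · convert one_mem H'
          apply Units.ext
          rw [hBF, hv', hv0]
          simp [tvMat, Units.val_one]
          right; funext i; simp
        have hc : σ (c : F) = -(c : F) := by
          obtain ⟨j, hj⟩ : ∃ j, v j ≠ 0 := Function.ne_iff.1 hv0
          have hj' : σ (v' j) ≠ 0 := (map_ne_zero σ).2 (fun e => hj (Subtype.ext e))
          have h := B.2 (Pi.single j 1) (Pi.single j 1)
          have h' := congrArg (fun x : quadField σ => (x : F)) h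
          rw [hermForm_eq hσq, hermForm_eq hσq] at h'
          have hcol : ∀ i, (((Cfsg.slToMat 3 (quadField σ)) (B : Matrix.SpecialLinearGroup (Fin 3) _) *ᵥ
              Pi.single j 1) i : F) = ev j i + ((c : F) * σ (v' j)) * v' i := by
            intro i
            rw [show (Cfsg.slToMat 3 (quadField σ)) (B : Matrix.SpecialLinearGroup (Fin 3) _) =
              Cfsg.unitaryTransvection 3 q v c from hBv]
            simp [Cfsg.unitaryTransvection, Matrix.mulVec_single, Matrix.vecMulVec_apply,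
              Matrix.one_apply, ev_apply, hv', hσq]
            split_ifs <;> simp <;> ring
          rw [funext hcol, show (fun i => σ (((Cfsg.slToMat 3 (quadField σ))
              (B : Matrix.SpecialLinearGroup (Fin 3) _) *ᵥ Pi.single j 1) i : F)) =
            fun i => ev j i + σ ((c : F) * σ (v' j)) * σ (v' i) from funext fun i => by
              rw [hcol, map_add, map_mul]; simp [ev_apply]] at h'
          have hone : (fun i => ((Pi.single j (1 : quadField σ) : Fin 3 → quadField σ) i : F)) = ev j := by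
            funext i; simp [ev_apply, Pi.single_apply]; split_ifs <;> simp
          have hone' : (fun i => σ ((Pi.single j (1 : quadField σ) : Fin 3 → quadField σ) i : F)) = ev j := by
            funext i; simp [ev_apply, Pi.single_apply]; split_ifs <;> simp
          rw [hone, hone', show (fun i => ev j i + (c : F) * σ (v' j) * v' i) =
            ev j + ((c : F) * σ (v' j)) • v' from rfl,
            show (fun i => ev j i + σ ((c : F) * σ (v' j)) * σ (v' i)) =
            ev j + σ ((c : F) * σ (v' j)) • (fun i => σ (v' i)) from rfl] at h'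
          simp [dotProduct_add, ev_dot, dot_ev, hvv] at h'
          have hvj : σ (σ (v' j)) = v' j := (v j).2
          rw [hvj] at h'
          have h3 : ((c : F) + σ (c : F)) * (v' j * σ (v' j)) = 0 := by linear_combination h'
          exact eq_neg_of_add_eq_zero_right ((mul_eq_zero.1 h3).resolve_right
            (mul_ne_zero (fun e => hj (Subtype.ext e)) hj'))
        have hfix : ∀ i, σ (σ ((P'.val *ᵥ v') i)) = (P'.val *ᵥ v') i := fun i => by
          rw [hfv]; exact ((P.val *ᵥ v) i).2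
        have hiso : (P'.val *ᵥ v') ⬝ᵥ hat σ k C (P'.val *ᵥ v') = 0 := by
          rw [dotProduct_comm, Matrix.dotProduct_mulVec, hP, dotProduct_comm, hvv]
        have hT' : InT H' v' ((c : F) • fun i => σ (v' i)) := by
          rw [hH', inT_cj, inv_inv, Matrix.smul_vecMul, ← hP v', mul_inv_vecMul]
          exact hU.full hfix hiso hc
        obtain ⟨hd, hm⟩ := hT'
        convert hm
        exact Units.ext (hBF.trans (coe_tv _ _ _).symm)
    rintro _ ⟨_, ⟨g, ⟨hgU, hgS⟩, rfl⟩, rfl⟩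
    have hs : g.val.det = 1 := by
      rw [← Matrix.GeneralLinearGroup.val_det_apply, show Matrix.GeneralLinearGroup.det g = 1 from hgS,
        Units.val_one]
    have h := hmem ⟨⟨g.val, hs⟩, hgU⟩
    rw [show Matrix.SpecialLinearGroup.toGL (⟨g.val, hs⟩ : Matrix.SpecialLinearGroup (Fin 3) _) = g from
      Units.ext rfl, hH', mem_cj, mem_cj, mem_cj, inv_inv, inv_inv] at h
    simpa [MulAut.conj_apply, mul_assoc] using h
  · intro g hg
    refine ⟨P'⁻¹ * D * Q⁻¹ * g * (P'⁻¹ * D * Q⁻¹)⁻¹, ?_, by simp [MulAut.conj_apply, mul_assoc]⟩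
    have hg' : D * Q⁻¹ * g * (D * Q⁻¹)⁻¹ ∈ cj D (cj Q⁻¹ G) := by
      rw [mem_cj, mem_cj, inv_inv]; simpa [mul_assoc] using hg
    obtain ⟨μ, θ, g₀, hμ, hgv, hfix, hσθ, hθ, hall⟩ := hU.similitude hg'
    have hd0 : g₀.det ≠ 0 := by
      intro e
      apply (D * Q⁻¹ * g * (D * Q⁻¹)⁻¹).det_ne_zero
      rw [hgv, Matrix.det_smul, e, mul_zero]
    let g₁ : Matrix (Fin 3) (Fin 3) (quadField σ) := Matrix.of fun i j => ⟨g₀ i j, hfix i j⟩
    have hg1 : g₁.det ≠ 0 := fun e => hd0 (by
      rw [show g₀ = (quadField σ).subtype.mapMatrix g₁ from rfl, ← RingHom.map_det, e, map_zero])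
    set g₂ := Matrix.GeneralLinearGroup.mkOfDetNeZero g₁ hg1
    have hsim : P⁻¹ * g₂ * P ∈ similarityGroup (Cfsg.hermForm 3 (quadField σ) q) := by
      have hθm : θ ∈ quadField σ := mem_quadField.2 (by rw [hσθ, hσθ])
      refine ⟨Units.mk0 ⟨θ, hθm⟩ (fun e => hθ (congrArg Subtype.val e)), fun u v => ?_⟩
      refine Subtype.ext ?_
      show (Cfsg.hermForm 3 (quadField σ) q _ _ : F) = θ * (Cfsg.hermForm 3 (quadField σ) q u v : F)
      rw [hermForm_eq hσq, hermForm_eq hσq]
      have hM : P'.val * (f (P⁻¹ * g₂ * P)).val = g₀ * P'.val := by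
        rw [← Units.val_mul, hP', ← map_mul, show P * (P⁻¹ * g₂ * P) = g₂ * P by group, map_mul]
        rfl
      rw [← hfv, ← hP (fun i => ((P⁻¹ * g₂ * P).val *ᵥ v) i : Fin 3 → F), ← hP (fun i => (v i : F)),
        dotProduct_comm, ← Matrix.dotProduct_mulVec, dotProduct_comm, Matrix.mulVec_mulVec, hM,
        show (fun i => ((P⁻¹ * g₂ * P).val *ᵥ v) i : Fin 3 → F) =
          (f (P⁻¹ * g₂ * P)).val *ᵥ fun i => (v i : F) from (hfv _ _).symm,
        Matrix.mulVec_mulVec, hM, ← Matrix.mulVec_mulVec, ← Matrix.mulVec_mulVec,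
        dotProduct_comm, Matrix.dotProduct_mulVec, hall, smul_dotProduct, smul_eq_mul,
        dotProduct_comm (hat σ k C (P'.val *ᵥ fun i => (v i : F))),
        dotProduct_comm (fun i => (u i : F)), ← Matrix.dotProduct_mulVec, dotProduct_comm]
    have e : P'⁻¹ * D * Q⁻¹ * g * (P'⁻¹ * D * Q⁻¹)⁻¹ = f (P⁻¹ * g₂ * P) *
        Units.map (Matrix.scalar (Fin 3) : F →+* Matrix (Fin 3) (Fin 3) F).toMonoidHom (Units.mk0 μ hμ) := by
      have e1 : P'⁻¹ * D * Q⁻¹ * g * (P'⁻¹ * D * Q⁻¹)⁻¹ = P'⁻¹ * (D * Q⁻¹ * g * (D * Q⁻¹)⁻¹) * P' := by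
        group
      rw [e1, map_mul, map_mul, map_inv, ← hP']
      apply Units.ext
      rw [Units.val_mul, Units.val_mul, hgv, Units.val_mul, Units.val_mul, Units.val_mul]
      show _ = P'⁻¹.val * g₀ * P'.val * Matrix.scalar (Fin 3) μ
      rw [show Matrix.scalar (Fin 3) μ = μ • (1 : Matrix (Fin 3) (Fin 3) F) from
        (Matrix.smul_one_eq_diagonal μ).symm]
      simp [Matrix.mul_smul, Matrix.smul_mul]
    rw [e]
    exact Subgroup.mul_mem_sup ⟨_, hsim, rfl⟩ ⟨_, rfl⟩

/-- Mitchell's theorem on irreducible groups with transvections, odd characteristic. -/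
theorem transvection_cases [Fintype F] (h2 : (2 : F) ≠ 0) (hirr : ActsIrreducibly (matrixSet G))
    (hT : ∃ z a, InT G z a ∧ z ≠ 0 ∧ a ≠ 0) : SplitType G ∨ UnitaryType G := by
  by_cases hA : TwoAxes G
  · exact Or.inl (of_twoAxes h2 hirr hA)
  · exact Or.inr (of_unique h2 hirr hA hT)

end Cfsg.Lib.Linear.Mitchell
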