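import Cfsg.Agent.Lib.Linear.SLBasic

/-!
# Extensions of `A₆` with a quaternion group on a Sylow three-subgroup

If such an extension is not contained in `A₆`, some element of order five is conjugate to its square.
-/

set_option autoImplicit false
set_option linter.unusedSectionVars false

namespace Cfsg.Lib.Linear.Mitchell.A6Ext

open Equiv

/-- The plane over three elements. -/
abbrev V := Fin 2 → ZMod 3

/-- Two by two matrices over three elements. -/
abbrev M2 := Matrix (Fin 2) (Fin 2) (ZMod 3)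

/-- The first quaternion generator. -/
def qA : M2 := !![0, 2; 1, 0]

/-- The second quaternion generator. -/
def qB : M2 := !![2, 1; 1, 1]

/-- The eight quaternion matrices. -/
def qW (t : Fin 4 × Fin 2) : M2 := qA ^ (t.1 : ℕ) * qB ^ (t.2 : ℕ)

theorem qW_injective : ∀ s t, qW s = qW t → s = t := by decide +kernel

theorem qW_trans : ∀ v : V, v ≠ 0 → ∀ w : V, w ≠ 0 → ∃ t, (qW t).mulVec v = w := by decide +kernel

theorem qA_det : qA.det = 1 := by decide +kernel
theorem qB_det : qB.det = 1 := by decide +kernel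

theorem qA_sq : qA * qA = -1 := by decide +kernel
theorem qB_sq : qB * qB = -1 := by decide +kernel

/-- A matrix of determinant one permutes the plane evenly. -/
theorem sign_toPerm (L : Matrix.SpecialLinearGroup (Fin 2) (ZMod 3)) (p : Perm V)
    (hp : ∀ v, p v = L.1.mulVec v) : Perm.sign p = 1 := by
  let ψ : Matrix.SpecialLinearGroup (Fin 2) (ZMod 3) →* Perm V :=
    MonoidHom.mk' (fun L => (Matrix.SpecialLinearGroup.toLin' L).toEquiv) (fun a b => by ext v; simp)
  have hker : Perm.sign.comp ψ = 1 := by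
    refine MonoidHom.eq_of_eqOn_dense Cfsg.Lib.Linear.closure_transvection_eq_top ?_
    rintro _ ⟨i, j, hij, c, rfl⟩
    set t := Matrix.SpecialLinearGroup.transvection hij c
    have h3 : t ^ 3 = 1 := by
      refine Subtype.ext ?_
      rw [Matrix.SpecialLinearGroup.coe_pow, Matrix.SpecialLinearGroup.coe_one]
      show Matrix.transvection i j c ^ 3 = 1
      rw [pow_succ, pow_two, Matrix.transvection_mul_transvection_same i j hij,
        Matrix.transvection_mul_transvection_same i j hij, show c + c + c = 0 by revert c; decide,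
        Matrix.transvection_zero]
    have h := congrArg (Perm.sign.comp ψ) h3
    rw [map_pow, map_one] at h
    rcases Int.units_eq_one_or (Perm.sign.comp ψ t) with e | e
    · exact e
    · rw [e] at h; exact absurd h (by decide)
  have hpψ : p = ψ L := Equiv.ext fun v => hp v
  rw [hpψ]
  exact DFunLike.congr_fun hker L

variable {G : Type*} [Group G] [Finite G]

/-- The Sylow three-subgroups of a normal subgroup. -/
abbrev Pts (S : Subgroup G) := {Q : Subgroup G // Q ≤ S ∧ Nat.card Q = 9}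

/-- The action by conjugation on them. -/
def act (S : Subgroup G) [S.Normal] : G →* Perm (Pts S) :=
  MonoidHom.mk'
    (fun g =>
      { toFun := fun Q => ⟨Q.1.map (MulAut.conj g).toMonoidHom, by
          rintro _ ⟨x, hx, rfl⟩; exact ‹S.Normal›.conj_mem x (Q.2.1 hx) g, by
          rw [← Nat.card_congr (Q.1.equivMapOfInjective _ (MulAut.conj g).injective).toEquiv, Q.2.2]⟩
        invFun := fun Q => ⟨Q.1.map (MulAut.conj g⁻¹).toMonoidHom, by
          rintro _ ⟨x, hx, rfl⟩; exact ‹S.Normal›.conj_mem x (Q.2.1 hx) g⁻¹, by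
          rw [← Nat.card_congr (Q.1.equivMapOfInjective _ (MulAut.conj g⁻¹).injective).toEquiv, Q.2.2]⟩
        left_inv := fun Q => Subtype.ext (by
          show (Q.1.map _).map _ = Q.1
          rw [Subgroup.map_map]
          ext x; simp [mul_assoc])
        right_inv := fun Q => Subtype.ext (by
          show (Q.1.map _).map _ = Q.1
          rw [Subgroup.map_map]
          ext x; simp [mul_assoc]) })
    (fun g h => Equiv.ext fun Q => Subtype.ext (by
      show Q.1.map _ = (Q.1.map _).map _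
      rw [Subgroup.map_map]
      congr 1
      ext x; simp [mul_assoc]))

theorem coe_act {S : Subgroup G} [S.Normal] (g : G) (Q : Pts S) :
    (act S g Q).1 = Q.1.map (MulAut.conj g).toMonoidHom := rfl

theorem act_eq_self {S : Subgroup G} [S.Normal] {g : G} {Q : Pts S} :
    act S g Q = Q ↔ g ∈ Subgroup.normalizer (Q.1 : Set G) := by
  rw [Subtype.ext_iff, coe_act, Subgroup.mem_normalizer_iff]
  constructor
  · intro h x
    show x ∈ Q.1 ↔ g * x * g⁻¹ ∈ Q.1
    conv_rhs => rw [← h]
    exact ⟨fun hx => ⟨x, hx, rfl⟩, fun ⟨y, hy, e⟩ => (MulAut.conj g).injective e ▸ hy⟩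
  · intro h
    ext x
    refine ⟨fun ⟨y, hy, e⟩ => e ▸ (h y).1 hy, fun hx => ⟨g⁻¹ * x * g, ?_, by simp [mul_assoc]⟩⟩
    exact (h _).2 (by simpa [mul_assoc] using hx)

/-- An element of order five in the alternating group of degree six, and one inverting it. -/
theorem exists_five :
    ∃ u w : alternatingGroup (Fin 6), orderOf u = 5 ∧ w * u * w⁻¹ = u⁻¹ := by
  refine ⟨⟨⟨![1, 2, 3, 4, 0, 5], ![4, 0, 1, 2, 3, 5], by decide, by decide⟩, by
      rw [Perm.mem_alternatingGroup]; decide +kernel⟩,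
    ⟨⟨![0, 4, 3, 2, 1, 5], ![0, 4, 3, 2, 1, 5], by decide, by decide⟩, by
      rw [Perm.mem_alternatingGroup]; decide +kernel⟩, ?_, ?_⟩
  · haveI : Fact (Nat.Prime 5) := ⟨by norm_num⟩
    exact orderOf_eq_prime (by decide +kernel) (by decide +kernel)
  · decide +kernel

theorem card_alt_six : Nat.card (alternatingGroup (Fin 6)) = 360 := by
  rw [nat_card_alternatingGroup]
  simp [Nat.factorial]

/-- The main statement: some element of order five is conjugate to its square. -/
theorem exists_conj_sq (S : Subgroup G) [hS : S.Normal] (e : S ≃* alternatingGroup (Fin 6))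
    (hidx : S.index ∣ 4) (hfaith : ∀ x, (∀ s ∈ S, x * s = s * x) → x = 1)
    (f : Multiplicative V →* G) (hf : Function.Injective f) {a b : G}
    (ha : ∀ v, a * f (.ofAdd v) * a⁻¹ = f (.ofAdd (qA.mulVec v)))
    (hb : ∀ v, b * f (.ofAdd v) * b⁻¹ = f (.ofAdd (qB.mulVec v))) :
    ∃ k u : G, u ∈ S ∧ orderOf u = 5 ∧ k * u * k⁻¹ = u ^ 2 := by
  classical
  haveI : Fintype G := Fintype.ofFinite G
  haveI hsimp : IsSimpleGroup S :=
    haveI : IsSimpleGroup (alternatingGroup (Fin 6)) := alternatingGroup.isSimpleGroup (by simp)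
    e.isSimpleGroup
  have hcard : Nat.card S = 360 := (Nat.card_congr e.toEquiv).trans card_alt_six
  have hpowmem : ∀ (x : G) (k : ℕ), Nat.Coprime k 4 → x ^ k ∈ S → x ∈ S := fun x k hk hx => by
    rw [← QuotientGroup.eq_one_iff] at hx ⊢
    rw [QuotientGroup.mk_pow] at hx
    refine orderOf_eq_one_iff.1 (Nat.dvd_one.1 ?_)
    have h4 : orderOf (x : G ⧸ S) ∣ 4 := (orderOf_dvd_natCard _).trans (S.index_eq_card ▸ hidx)
    exact hk.gcd_eq_one ▸ Nat.dvd_gcd (orderOf_dvd_of_pow_eq_one hx) h4
  set T := f.range with hTdef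
  have hTcard : Nat.card T = 9 := by
    rw [← Nat.card_congr (MonoidHom.ofInjective hf).toEquiv]
    simp [Nat.card_eq_fintype_card]
  have hTS : T ≤ S := by
    rintro _ ⟨v, rfl⟩
    refine hpowmem _ 3 (by norm_num) ?_
    rw [← map_pow, show v ^ 3 = 1 from ?_, map_one]
    · exact one_mem _
    · revert v; decide
  let T₀ : Pts S := ⟨T, hTS, hTcard⟩
  -- the Sylow subgroups of `S` in two guises
  haveI : Fact (Nat.Prime 3) := ⟨Nat.prime_three⟩
  haveI : Fact (Nat.Prime 5) := ⟨by norm_num⟩
  have hf9 : (3 : ℕ) ^ (Nat.card S).factorization 3 = 9 := by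
    rw [hcard, show 360 = 3 ^ 2 * 40 by norm_num, Nat.factorization_mul (by norm_num) (by norm_num),
      Finsupp.add_apply, Nat.Prime.factorization_pow (by norm_num), Finsupp.single_eq_same,
      Nat.factorization_eq_zero_of_not_dvd (by norm_num)]
    rfl
  let eS : Pts S ≃ Sylow 3 S :=
    { toFun := fun Q => Sylow.ofCard (Q.1.subgroupOf S) (by
        rw [Nat.card_congr (Subgroup.subgroupOfEquivOfLe Q.2.1).toEquiv, Q.2.2, hf9])
      invFun := fun P => ⟨(P : Subgroup S).map S.subtype, Subgroup.map_subtype_le _, by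
        rw [← Nat.card_congr ((P : Subgroup S).equivMapOfInjective _ S.subtype_injective).toEquiv,
          Sylow.card_eq_multiplicity, hf9]⟩
      left_inv := fun Q => Subtype.ext (Subgroup.map_subgroupOf_eq_of_le Q.2.1)
      right_inv := fun P => Sylow.ext (Subgroup.comap_map_eq_self_of_injective S.subtype_injective _) }
  -- words in the two quaternion elements
  let w : Fin 4 × Fin 2 → G := fun t => a ^ (t.1 : ℕ) * b ^ (t.2 : ℕ)
  have hpow : ∀ (g : G) (L : M2), (∀ v, g * f (.ofAdd v) * g⁻¹ = f (.ofAdd (L.mulVec v))) →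
      ∀ (n : ℕ) v, g ^ n * f (.ofAdd v) * (g ^ n)⁻¹ = f (.ofAdd ((L ^ n).mulVec v)) := by
    intro g L hg n
    induction n with
    | zero => intro v; simp
    | succ n ih =>
      intro v
      rw [pow_succ' L, ← Matrix.mulVec_mulVec, ← hg, ← ih, pow_succ']
      group
  have hw : ∀ t v, w t * f (.ofAdd v) * (w t)⁻¹ = f (.ofAdd ((qW t).mulVec v)) := fun t v => by
    rw [qW, ← Matrix.mulVec_mulVec, ← hpow a qA ha, ← hpow b qB hb]
    simp only [w]; group
  have hwN : ∀ t, w t ∈ Subgroup.normalizer (T : Set G) := fun t => by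
    refine Subgroup.mem_normalizer_fintype fun x hx => ?_
    obtain ⟨v, rfl⟩ := hx
    exact ⟨_, (hw t (Multiplicative.toAdd v)).symm⟩
  have hTabel : ∀ v v' : Multiplicative V, f v' * f v * (f v')⁻¹ = f v := fun v v' => by
    rw [← map_mul, mul_comm v', map_mul, mul_inv_cancel_right]
  have hdistinct : ∀ s t, ∀ r ∈ T, w t = r * w s → s = t := by
    intro s t r hr he
    refine qW_injective s t (Matrix.toLin'.injective (LinearMap.ext fun v => ?_))
    simp only [Matrix.toLin'_apply]
    refine Multiplicative.ofAdd.injective (hf ?_)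
    obtain ⟨r', rfl⟩ := hr
    rw [← hw t v, he,
      show f r' * w s * f (Multiplicative.ofAdd v) * (f r' * w s)⁻¹ =
        f r' * (w s * f (Multiplicative.ofAdd v) * (w s)⁻¹) * (f r')⁻¹ by group, hw, hTabel]
  -- there are ten Sylow three-subgroups
  set N := Subgroup.normalizer (T : Set G) ⊓ S with hN
  have hTN : T ≤ N := le_inf Subgroup.le_normalizer hTS
  have hNcard : Nat.card (Pts S) * Nat.card N = 360 := by
    rw [Nat.card_congr eS, Sylow.card_eq_index_normalizer (eS T₀), ← hcard]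
    refine Eq.trans ?_ (Subgroup.index_mul_card (Subgroup.normalizer ((eS T₀ : Sylow 3 S) : Set S)))
    congr 1
    rw [← Nat.card_congr (Subgroup.subgroupOfEquivOfLe (inf_le_right : N ≤ S)).toEquiv]
    congr 2
    ext x
    rw [Subgroup.mem_subgroupOf, Subgroup.mem_inf, and_iff_left x.2, Subgroup.mem_normalizer_iff]
    refine Iff.trans ?_ (Subgroup.mem_normalizer_iff (H := ((eS T₀ : Sylow 3 S) : Subgroup S))).symm
    exact ⟨fun h y => ⟨fun hy => (h y).1 hy, fun hy => (h y).2 hy⟩, fun h y =>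
      ⟨fun hy => by
        have hyS : y ∈ S := hTS hy
        exact (h ⟨y, hyS⟩).1 hy, fun hy => by
        have hyS : y ∈ S := by
          have := hS.conj_mem _ (hTS hy) (x : G)⁻¹
          simpa [mul_assoc] using this
        exact (h ⟨y, hyS⟩).2 hy⟩⟩
  have hmod : Nat.card (Pts S) % 3 = 1 := by
    rw [Nat.card_congr eS]
    exact card_sylow_modEq_one 3 S
  have hne1 : Nat.card (Pts S) ≠ 1 := fun h1 => by
    have hnorm : (T.subgroupOf S).Normal := ⟨fun x hx y => by
      haveI := (Nat.card_eq_one_iff_unique.1 h1).1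
      have := Subsingleton.elim (act S (y : G) T₀) T₀
      exact (((act_eq_self.1 this) (x : G)).1 hx)⟩
    rcases hnorm.eq_bot_or_eq_top with h | h
    · have := Nat.card_congr (Subgroup.subgroupOfEquivOfLe hTS).toEquiv
      rw [h, hTcard, Subgroup.card_bot] at this; omega
    · have := Nat.card_congr (Subgroup.subgroupOfEquivOfLe hTS).toEquiv
      rw [h, hTcard, Subgroup.card_top, hcard] at this; omega
  have hne40 : Nat.card N ≠ 9 := fun h9 => by
    have hNT : N = T := (Subgroup.eq_of_le_of_card_ge hTN (by rw [hTcard, h9])).symm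
    have hlt : Nat.card (G ⧸ S) < Nat.card (Fin 4 × Fin 2) := by
      rw [← Subgroup.index_eq_card]
      refine lt_of_le_of_lt (Nat.le_of_dvd (by norm_num) hidx) ?_
      simp
    obtain ⟨s, t, hst, he⟩ : ∃ s t, s ≠ t ∧ (w s : G ⧸ S) = w t := by
      by_contra h
      push Not at h
      exact absurd (Nat.card_le_card_of_injective (fun t => (w t : G ⧸ S))
        (fun s t he => by_contra fun hne => h s t hne he)) (by omega)
    have hmem : w t * (w s)⁻¹ ∈ S := by
      have h1 := hS.conj_mem _ (QuotientGroup.eq.1 he) (w s)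
      simpa [mul_assoc] using h1
    have hT' : w t * (w s)⁻¹ ∈ T := by
      rw [← hNT]; exact Subgroup.mem_inf.2 ⟨mul_mem (hwN t) (inv_mem (hwN s)), hmem⟩
    exact hst (hdistinct s t _ hT' (by group))
  have hP10 : Nat.card (Pts S) = 10 ∧ Nat.card N = 36 := by
    have h9 : 9 ∣ Nat.card N := hTcard ▸ Subgroup.card_dvd_of_le hTN
    obtain ⟨k, hk⟩ := h9
    have hP : Nat.card (Pts S) ∣ 40 := ⟨k, by rw [hk] at hNcard; linarith⟩
    have hle : Nat.card (Pts S) ≤ 40 := Nat.le_of_dvd (by norm_num) hP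
    obtain ⟨m, hm⟩ := hP
    have hk' : k * Nat.card (Pts S) = 40 := by rw [hk] at hNcard; linarith
    interval_cases h : Nat.card (Pts S) <;> try omega
    · -- four subgroups
      exfalso
      let ψ := (act S).comp S.subtype
      have hψ : ψ.ker = ⊥ := by
        rcases (MonoidHom.normal_ker ψ).eq_bot_or_eq_top with h' | h'
        · exact h'
        · exfalso
          have h1 : ∀ y : S, act S (y : G) T₀ = T₀ := fun y => by
            have : y ∈ ψ.ker := h' ▸ Subgroup.mem_top y
            exact congrArg (fun p : Perm (Pts S) => p T₀) (MonoidHom.mem_ker.1 this)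
          have hN' : N = S := inf_eq_right.2 fun y hy => act_eq_self.1 (h1 ⟨y, hy⟩)
          rw [hN', hcard] at hNcard
          omega
      have h1 := Nat.card_le_card_of_injective ψ (MonoidHom.ker_eq_bot_iff ψ |>.1 hψ)
      rw [hcard, Nat.card_perm, h] at h1
      simp [Nat.factorial] at h1
  obtain ⟨hP, hN36⟩ := hP10
  have hSeven : ∀ s ∈ S, Perm.sign (act S s) = 1 := by
    intro s hs
    let ψ : S →* ℤˣ := Perm.sign.comp ((act S).comp S.subtype)
    rcases (MonoidHom.normal_ker ψ).eq_bot_or_eq_top with h' | h'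
    · exfalso
      have h1 := Nat.card_le_card_of_injective ψ ((MonoidHom.ker_eq_bot_iff ψ).1 h')
      rw [hcard, Nat.card_eq_fintype_card] at h1
      simp at h1
    · exact MonoidHom.mem_ker.1 (h' ▸ Subgroup.mem_top (⟨s, hs⟩ : S) : (⟨s, hs⟩ : S) ∈ ψ.ker)
  have hker : ∀ x, act S x = 1 → x = 1 := by
    have hK : (act S).ker ⊓ S = ⊥ := by
      have hn : (((act S).ker).subgroupOf S).Normal := inferInstance
      rcases hn.eq_bot_or_eq_top with h | h
      · rwa [Subgroup.subgroupOf_eq_bot, disjoint_iff] at h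
      · exfalso
        have hN' : N = S := inf_eq_right.2 fun y hy => act_eq_self.1 (by
          have : (⟨y, hy⟩ : S) ∈ (act S).ker.subgroupOf S := h ▸ Subgroup.mem_top _
          exact congrArg (fun p : Perm (Pts S) => p T₀) (MonoidHom.mem_ker.1 this))
        rw [hN', hcard] at hN36
        omega
    intro x hx
    refine hfaith x fun s hs => ?_
    have h1 : x * s * x⁻¹ * s⁻¹ ∈ (act S).ker ⊓ S :=
      Subgroup.mem_inf.2 ⟨by rw [MonoidHom.mem_ker]; simp [hx], mul_mem (hS.conj_mem s hs x) (inv_mem hs)⟩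
    rw [hK, Subgroup.mem_bot] at h1
    exact mul_inv_eq_iff_eq_mul.1 (mul_inv_eq_one.1 h1)
  -- the three-group acts regularly on the other nine
  let Y := {Q : Pts S // Q ≠ T₀}
  have hY : Nat.card Y = 9 := by
    haveI : Fintype (Pts S) := Fintype.ofFinite _
    rw [Nat.card_eq_fintype_card, Fintype.card_subtype_compl, Fintype.card_subtype_eq,
      ← Nat.card_eq_fintype_card, hP]
  have hfixT : ∀ g, g ∈ Subgroup.normalizer (T : Set G) → act S g T₀ = T₀ := fun g hg => act_eq_self.2 hg
  have hfT : ∀ v, act S (f v) T₀ = T₀ := fun v => hfixT _ (Subgroup.le_normalizer ⟨v, rfl⟩)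
  letI : MulAction (Multiplicative V) Y :=
    { smul := fun v Q => ⟨act S (f v) Q.1, fun h => Q.2 ((act S (f v)).injective (h.trans (hfT v).symm))⟩
      one_smul := fun Q => Subtype.ext (show act S (f 1) Q.1 = Q.1 by simp)
      mul_smul := fun v v' Q => Subtype.ext (show act S (f (v * v')) Q.1 = act S (f v) (act S (f v') Q.1) by simp) }
  have hfree : ∀ (v : V), v ≠ 0 → ∀ Q : Y, act S (f (.ofAdd v)) Q.1 ≠ Q.1 := by
    let k : V → ℕ := fun v => Nat.card {Q : Y // act S (f (.ofAdd v)) Q.1 = Q.1}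
    have hk : ∀ v v', v ≠ 0 → v' ≠ 0 → k v = k v' := by
      intro v v' hv hv'
      obtain ⟨t, ht⟩ := qW_trans v hv v' hv'
      have hT₀ : act S (w t) T₀ = T₀ := hfixT _ (hwN t)
      have heq : f (.ofAdd v') * w t = w t * f (.ofAdd v) := by rw [← ht, ← hw]; group
      refine Nat.card_congr
        { toFun := fun Q => ⟨⟨act S (w t) Q.1.1, fun h => Q.1.2 ((act S (w t)).injective (h.trans hT₀.symm))⟩, ?_⟩
          invFun := fun Q => ⟨⟨(act S (w t))⁻¹ Q.1.1, fun h => Q.1.2 (by
            rw [Perm.inv_eq_iff_eq] at h; rw [h, hT₀])⟩, ?_⟩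
          left_inv := fun Q => Subtype.ext (Subtype.ext (by simp))
          right_inv := fun Q => Subtype.ext (Subtype.ext (by simp)) }
      · show act S _ (act S _ _) = act S _ _
        rw [← Perm.mul_apply, ← map_mul, heq, map_mul, Perm.mul_apply, Q.2]
      · show act S _ ((act S _)⁻¹ _) = (act S _)⁻¹ _
        rw [eq_comm, Perm.inv_eq_iff_eq]
        rw [← Perm.mul_apply (act S (w t)), ← map_mul, ← heq, map_mul, Perm.mul_apply,
          Perm.inv_def, Equiv.apply_symm_apply, Q.2]
    haveI : Fintype Y := Fintype.ofFinite _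
    have hB := MulAction.sum_card_fixedBy_eq_card_orbits_mul_card_group (Multiplicative V) Y
    rw [← Finset.add_sum_erase _ _ (Finset.mem_univ (1 : Multiplicative V))] at hB
    intro v hv Q hQ
    have hsum : ∀ x ∈ (Finset.univ : Finset (Multiplicative V)).erase 1,
        Fintype.card (MulAction.fixedBy Y x) = k v := by
      intro x hx
      have hx1 : Multiplicative.toAdd x ≠ 0 := fun h => (Finset.mem_erase.1 hx).1 (toAdd_eq_zero.1 h)
      rw [← hk _ v hx1 hv, ← Nat.card_eq_fintype_card]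
      exact Nat.card_congr (Equiv.subtypeEquivRight fun Q => by
        rw [MulAction.mem_fixedBy, Subtype.ext_iff]; rfl)
    rw [Finset.sum_congr rfl hsum, Finset.sum_const, Finset.card_erase_of_mem (Finset.mem_univ _),
      Finset.card_univ, show Fintype.card (Multiplicative V) = 9 by simp, smul_eq_mul] at hB
    have h1 : Fintype.card (MulAction.fixedBy Y (1 : Multiplicative V)) = 9 := by
      rw [← Nat.card_eq_fintype_card]
      exact (Nat.card_congr (Equiv.subtypeUnivEquiv fun Q => by simp)).trans hY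
    rw [h1] at hB
    have hkpos : 0 < k v := Nat.card_pos_iff.2 ⟨⟨⟨Q, hQ⟩⟩, inferInstance⟩
    have hkle : k v ≤ 9 := hY ▸ Nat.card_le_card_of_injective _ Subtype.val_injective
    have hk9 : k v = 9 := by omega
    have hall : ∀ Q' : Y, act S (f (.ofAdd v)) Q'.1 = Q'.1 := by
      haveI : Fintype {Q : Y // act S (f (.ofAdd v)) Q.1 = Q.1} := Fintype.ofFinite _
      have hbij : Function.Bijective (Subtype.val : {Q : Y // act S (f (.ofAdd v)) Q.1 = Q.1} → Y) :=
        (Nat.bijective_iff_injective_and_card _).2 ⟨Subtype.val_injective, hk9.trans hY.symm⟩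
      intro Q'
      obtain ⟨⟨Q'', h⟩, rfl⟩ := hbij.2 Q'
      exact h
    refine hv (Multiplicative.ofAdd.injective (hf ?_))
    rw [ofAdd_zero, map_one]
    refine hker _ (Equiv.ext fun Q' => ?_)
    by_cases h : Q' = T₀
    · subst h; exact hfT _
    · exact hall ⟨Q', h⟩
  -- one of the quaternion elements is outside `S`
  obtain ⟨g, L, hgS, hgL, hL2⟩ : ∃ (g : G) (L : Matrix.SpecialLinearGroup (Fin 2) (ZMod 3)), g ∉ S ∧
      (∀ v, g * f (.ofAdd v) * g⁻¹ = f (.ofAdd (L.1.mulVec v))) ∧ L.1 * L.1 = -1 := by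
    by_contra h
    push Not at h
    have haS : a ∈ S := by_contra fun h' => h a ⟨qA, qA_det⟩ h' ha qA_sq
    have hbS : b ∈ S := by_contra fun h' => h b ⟨qB, qB_det⟩ h' hb qB_sq
    have hinj : Function.Injective fun x : Multiplicative V × (Fin 4 × Fin 2) =>
        (⟨f x.1 * w x.2, mul_mem (hTN ⟨_, rfl⟩) ⟨hwN _, mul_mem (pow_mem haS _) (pow_mem hbS _)⟩⟩ : N) := by
      rintro ⟨v, s⟩ ⟨v', t⟩ he
      have he' : f v * w s = f v' * w t := congrArg Subtype.val he
      have hst := hdistinct s t _ (mul_mem (inv_mem ⟨v', rfl⟩) ⟨v, rfl⟩ : (f v')⁻¹ * f v ∈ T)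
        (by rw [mul_assoc, he']; group)
      subst hst
      rw [mul_left_inj] at he'
      rw [hf he']
    have h1 := Nat.card_le_card_of_injective _ hinj
    rw [hN36, Nat.card_eq_fintype_card] at h1
    simp at h1
  have hgN : act S g T₀ = T₀ := hfixT g (Subgroup.mem_normalizer_fintype fun x ⟨v, hv⟩ => by
    subst hv; exact ⟨_, (hgL (Multiplicative.toAdd v)).symm⟩)
  have hgeven : Perm.sign (act S g) = 1 := by
    haveI : Nonempty Y := (Nat.card_pos_iff.1 (by omega)).1
    obtain ⟨Q₁⟩ := ‹Nonempty Y›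
    let ev : Y → V → Y := fun Q v => Multiplicative.ofAdd v • Q
    have hev : ∀ Q, Function.Bijective (ev Q) := fun Q => by
      refine (Nat.bijective_iff_injective_and_card _).2 ⟨fun v v' h => ?_, by
        rw [hY, Nat.card_eq_fintype_card]; simp⟩
      by_contra hne
      refine hfree (v - v') (sub_ne_zero.2 hne) (ev Q v') (congrArg Subtype.val ?_ :
        (Multiplicative.ofAdd (v - v') • ev Q v').1 = (ev Q v').1)
      show Multiplicative.ofAdd (v - v') • Multiplicative.ofAdd v' • Q = Multiplicative.ofAdd v' • Q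
      rw [← mul_smul, ← ofAdd_add, sub_add_cancel]
      exact h
    obtain ⟨t₁, ht₁⟩ := (hev Q₁).2 ⟨act S g Q₁.1, fun h => Q₁.2 ((act S g).injective (h.trans hgN.symm))⟩
    let s : V := -((L.1 + 1).mulVec t₁)
    have hgv : ∀ (v : V) (Q : Y), act S g (ev Q v).1 = act S (f (.ofAdd (L.1.mulVec v))) (act S g Q.1) :=
      fun v Q => by
        show act S g (act S (f _) Q.1) = _
        rw [← Perm.mul_apply, ← Perm.mul_apply, ← map_mul, ← map_mul, ← hgL, inv_mul_cancel_right]
    have hs : L.1.mulVec s + t₁ = s := by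
      have h1 : L.1.mulVec (L.1.mulVec t₁) = -t₁ := by
        rw [Matrix.mulVec_mulVec, hL2, Matrix.neg_mulVec, Matrix.one_mulVec]
      simp only [s, Matrix.add_mulVec, Matrix.one_mulVec, Matrix.mulVec_neg, Matrix.mulVec_add, h1]
      ext i
      have h3 : (3 : ZMod 3) = 0 := rfl
      simp only [Pi.add_apply, Pi.neg_apply]
      linear_combination (t₁ i) * h3
    let Q₀ := ev Q₁ s
    have hQ₀ : act S g Q₀.1 = Q₀.1 := by
      have e1 : (ev Q₁ t₁).1 = act S g Q₁.1 := congrArg Subtype.val ht₁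
      rw [hgv, ← e1]
      show act S _ (act S _ Q₁.1) = act S _ Q₁.1
      rw [← Perm.mul_apply, ← map_mul, ← map_mul, ← ofAdd_add, hs]
    let pg : Perm Y := (act S g).subtypePerm fun Q => by
      constructor
      · intro h e'; exact h (by rw [e', hgN])
      · intro h e'; exact h ((act S g).injective (e'.trans hgN.symm))
    let E : V ≃ Y := Equiv.ofBijective _ (hev Q₀)
    have hpg : ∀ v, (E.symm.permCongr pg) v = L.1.mulVec v := by
      intro v
      rw [Equiv.permCongr_apply, Equiv.symm_symm, Equiv.symm_apply_eq]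
      refine Subtype.ext ?_
      show act S g (ev Q₀ v).1 = act S (f (.ofAdd (L.1.mulVec v))) Q₀.1
      rw [hgv, hQ₀]
    have h1 := sign_toPerm L _ hpg
    rw [Perm.sign_permCongr] at h1
    rw [← h1, Perm.sign_subtypePerm]
    intro Q hQ e'
    exact hQ (by rw [e', hgN])
  -- the five-element
  obtain ⟨u₀, w₀, hu₀, hw₀⟩ := exists_five
  set u : G := ((e.symm u₀ : S) : G) with hudef
  set wi : G := ((e.symm w₀ : S) : G) with hwdef
  have huS : u ∈ S := (e.symm u₀).2
  have hou : orderOf u = 5 := by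
    rw [hudef, Subgroup.orderOf_coe, MulEquiv.orderOf_eq, hu₀]
  have hwu : wi * u * wi⁻¹ = u⁻¹ := by
    have := congrArg (fun x => ((e.symm x : S) : G)) hw₀
    simpa using this
  have hu5 : u ^ 5 = 1 := hou ▸ pow_orderOf_eq_one u
  have hf5 : (5 : ℕ) ^ (Nat.card S).factorization 5 = 5 := by
    rw [hcard, show 360 = 5 ^ 1 * 72 by norm_num, Nat.factorization_mul (by norm_num) (by norm_num),
      Finsupp.add_apply, Nat.Prime.factorization_pow (by norm_num), Finsupp.single_eq_same,
      Nat.factorization_eq_zero_of_not_dvd (by norm_num)]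
    rfl
  obtain ⟨n, hnS, j, hj⟩ : ∃ n, n * g⁻¹ ∈ S ∧ ∃ j : ℕ, n * u * n⁻¹ = u ^ j := by
    have hg' : g * u * g⁻¹ ∈ S := hS.conj_mem u huS g
    have hcyc : ∀ x : S, orderOf x = 5 → Nat.card (Subgroup.zpowers x) = 5 ^ (Nat.card S).factorization 5 :=
      fun x hx => by rw [Nat.card_zpowers, hx, hf5]
    have ho' : orderOf (⟨g * u * g⁻¹, hg'⟩ : S) = 5 := by
      rw [← Subgroup.orderOf_coe, ← hou]
      exact MulEquiv.orderOf_eq (MulAut.conj g) u
    let U₁ := Sylow.ofCard _ (hcyc ⟨g * u * g⁻¹, hg'⟩ ho')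
    let U₂ := Sylow.ofCard _ (hcyc (e.symm u₀) (by rw [MulEquiv.orderOf_eq, hu₀]))
    obtain ⟨s, hs⟩ := MulAction.exists_smul_eq S U₁ U₂
    refine ⟨s * g, by rw [mul_inv_cancel_right]; exact s.2, ?_⟩
    have hmem : MulAut.conj s ⟨g * u * g⁻¹, hg'⟩ ∈ (U₂ : Subgroup S) := by
      rw [← hs, Sylow.coe_subgroup_smul]
      exact Subgroup.smul_mem_pointwise_smul _ (MulAut.conj s) _ (Subgroup.mem_zpowers _)
    obtain ⟨j, hj⟩ := mem_powers_iff_mem_zpowers.2 hmem
    refine ⟨j, ?_⟩
    have hj' := congrArg Subtype.val hj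
    simp only [SubmonoidClass.coe_pow, MulAut.conj_apply, Subgroup.coe_mul, Subgroup.coe_inv] at hj'
    rw [show u ^ j = _ from hj']
    group
  by_contra hno
  push Not at hno
  have hnpow : ∀ (x : G) (i : ℕ), x * u * x⁻¹ = u ^ i → ∀ k : ℕ, x ^ k * u * (x ^ k)⁻¹ = u ^ i ^ k := by
    intro x i hi k
    induction k with
    | zero => simp
    | succ k ih =>
      calc x ^ (k + 1) * u * (x ^ (k + 1))⁻¹ = x * (x ^ k * u * (x ^ k)⁻¹) * x⁻¹ := by rw [pow_succ']; group
        _ = (x * u * x⁻¹) ^ i ^ k := by rw [ih, conj_pow]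
        _ = u ^ i ^ (k + 1) := by rw [hi, ← pow_mul, pow_succ']
  have hmod5 : ∀ i : ℕ, u ^ i = u ^ (i % 5) := fun i => by rw [← hou, pow_mod_orderOf]
  have hsign : ∀ x, x * g⁻¹ ∈ S → Perm.sign (act S x) = 1 := fun x hx => by
    rw [← inv_mul_cancel_right x g, map_mul, map_mul, hSeven _ hx, hgeven, one_mul]
  -- a centralising element outside `S`
  obtain ⟨c, hcS, hcu⟩ : ∃ c, c * g⁻¹ ∈ S ∧ c * u = u * c := by
    rw [hmod5 j] at hj
    have h5 : j % 5 < 5 := Nat.mod_lt _ (by norm_num)
    interval_cases j % 5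
    · exfalso
      rw [pow_zero, mul_inv_eq_one, mul_eq_left] at hj
      rw [hj, orderOf_one] at hou; omega
    · rw [pow_one] at hj
      exact ⟨n, hnS, mul_inv_eq_iff_eq_mul.1 hj⟩
    · exact absurd hj (hno n u huS hou)
    · refine absurd ?_ (hno (n ^ 3) u huS hou)
      rw [hnpow n 3 hj 3, hmod5 (3 ^ 3)]
      norm_num
    · refine ⟨wi * n, by rw [mul_assoc]; exact mul_mem (e.symm w₀).2 hnS, mul_inv_eq_iff_eq_mul.1 ?_⟩
      calc wi * n * u * (wi * n)⁻¹ = wi * (n * u * n⁻¹) * wi⁻¹ := by group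
        _ = (wi * u * wi⁻¹) ^ 4 := by rw [hj, conj_pow]
        _ = u := by rw [hwu, inv_pow, inv_eq_iff_mul_eq_one, ← pow_succ, hu5]
  have hcnS : c ∉ S := fun h => hgS (by simpa using mul_mem (inv_mem hcS) h)
  -- it commutes with a fixed point free permutation with two orbits
  set U := Subgroup.zpowers (act S u) with hU
  have hou' : orderOf (act S u) = 5 := by
    refine orderOf_eq_prime (by rw [← map_pow, hu5, map_one]) fun h => ?_
    rw [hker u h, orderOf_one] at hou; omega
  have hufix : ∀ (Q : Pts S) (i : ℕ), act S (u ^ i) Q = Q → i % 5 = 0 := by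
    intro Q i hi
    by_contra h0
    have hmem : u ^ i ∈ Subgroup.normalizer (Q.1 : Set G) ⊓ S := ⟨act_eq_self.1 hi, pow_mem huS i⟩
    have hord : orderOf (u ^ i) = 5 := by
      refine orderOf_eq_prime ?_ fun h => h0 ?_
      · rw [← pow_mul, mul_comm, pow_mul, hu5, one_pow]
      · exact Nat.eq_zero_of_dvd_of_lt ((Nat.dvd_mod_iff dvd_rfl).2 (hou ▸ orderOf_dvd_of_pow_eq_one h))
          (Nat.mod_lt _ (by norm_num))
    have h5 : 5 ∣ Nat.card (Subgroup.normalizer (Q.1 : Set G) ⊓ S : Subgroup G) :=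
      hord ▸ (Subgroup.orderOf_mk _ hmem).symm ▸ orderOf_dvd_natCard _
    obtain ⟨y, hy⟩ := MulAction.exists_smul_eq S (eS T₀) (eS Q)
    have hQ : Q.1 = T.map (MulAut.conj (y : G)).toMonoidHom := by
      have h1 := congrArg (fun P : Sylow 3 S => (P : Subgroup S).map S.subtype) hy
      have hr : ((eS Q : Sylow 3 S) : Subgroup S).map S.subtype = Q.1 := Subgroup.map_subgroupOf_eq_of_le Q.2.1
      rw [hr] at h1
      rw [← h1, Sylow.coe_subgroup_smul]
      ext x
      constructor
      · rintro ⟨_, ⟨z, hz, rfl⟩, rfl⟩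
        exact ⟨z, hz, rfl⟩
      · rintro ⟨z, hz, rfl⟩
        exact ⟨_, ⟨⟨z, hTS hz⟩, hz, rfl⟩, rfl⟩
    have heq : (Subgroup.normalizer (Q.1 : Set G) ⊓ S : Subgroup G) = N.map (MulAut.conj (y : G)).toMonoidHom := by
      rw [hN, Subgroup.map_inf _ _ _ (MulAut.conj (y : G)).injective, Subgroup.map_equiv_normalizer_eq, hQ]
      congr 1
      refine le_antisymm (fun x hx => ⟨(y : G)⁻¹ * x * y, ?_, by simp [mul_assoc]⟩) ?_
      · rintro _ ⟨x, hx, rfl⟩
        exact hS.conj_mem x hx y
      · exact mul_mem (mul_mem (inv_mem y.2) hx) y.2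
    rw [heq, ← Nat.card_congr (N.equivMapOfInjective _ (MulAut.conj (y : G)).injective).toEquiv, hN36] at h5
    omega
  have horb : ∀ Q Q' Q'' : Pts S, (∀ i : ℕ, act S (u ^ i) Q ≠ Q') → (∀ i : ℕ, act S (u ^ i) Q ≠ Q'') →
      ∃ i : ℕ, act S (u ^ i) Q' = Q'' := by
    intro Q Q' Q'' h1 h2
    by_contra h3
    push Not at h3
    have hinj : Function.Injective (fun x : Fin 5 ⊕ (Fin 5 ⊕ Unit) => Sum.elim (fun i : Fin 5 => act S (u ^ (i : ℕ)) Q)
        (Sum.elim (fun i : Fin 5 => act S (u ^ (i : ℕ)) Q') (fun _ => Q'')) x) := by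
      have hsub : ∀ (Q Q' : Pts S) (i k : Fin 5), act S (u ^ (i : ℕ)) Q = act S (u ^ (k : ℕ)) Q' →
          act S (u ^ ((i : ℕ) + (5 - k))) Q = Q' := fun Q Q' i k h => by
        rw [add_comm, pow_add, map_mul, Perm.mul_apply, h, ← Perm.mul_apply, ← map_mul, ← pow_add,
          show 5 - (k : ℕ) + k = 5 by omega, hu5, map_one, Perm.one_apply]
      have hsame : ∀ (Q : Pts S) (i k : Fin 5), act S (u ^ (i : ℕ)) Q = act S (u ^ (k : ℕ)) Q → i = k :=
        fun Q i k h => by
          have := hufix Q _ (hsub Q Q i k h)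
          exact Fin.ext (by omega)
      rintro (i | i | i) (k | k | k) h <;> simp only [Sum.elim_inl, Sum.elim_inr] at h
      · rw [hsame Q i k h]
      · exact absurd (hsub Q Q' i k h) (h1 _)
      · exact absurd h (h2 _)
      · exact absurd (hsub Q Q' k i h.symm) (h1 _)
      · rw [hsame Q' i k h]
      · exact absurd h (h3 _)
      · exact absurd h.symm (h2 _)
      · exact absurd h.symm (h3 _)
      · rfl
    have := Nat.card_le_card_of_injective _ hinj
    rw [hP, Nat.card_eq_fintype_card] at this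
    simp at this
  -- centralising elements outside `S` exchange the orbits
  have hswap : ∀ x, x * u = u * x → x ∉ S → ∀ Q, ∀ i : ℕ, act S (u ^ i) Q ≠ act S x Q := by
    intro x hx hxS Q i hi
    let x' := (u ^ i)⁻¹ * x
    have hx' : Commute x' u := ((Commute.pow_self u i).inv_left).mul_left hx
    have hfixQ : ∀ k : ℕ, act S x' (act S (u ^ k) Q) = act S (u ^ k) Q := by
      intro k
      rw [← Perm.mul_apply, ← map_mul, (hx'.pow_right k).eq, map_mul, Perm.mul_apply]
      congr 1
      rw [show x' = (u ^ i)⁻¹ * x from rfl, map_mul, map_inv, Perm.mul_apply, Perm.inv_eq_iff_eq, hi]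
    have hpow5 : act S (x' ^ 5) = 1 := Equiv.ext fun Q' => by
      by_cases h1 : ∃ k : ℕ, act S (u ^ k) Q = Q'
      · obtain ⟨k, rfl⟩ := h1
        rw [map_pow]
        exact Perm.pow_apply_eq_self_of_apply_eq_self (hfixQ k) 5
      · push Not at h1
        have h2 : ∀ k : ℕ, act S (u ^ k) Q ≠ act S x' Q' := fun k h =>
          h1 k ((act S x').injective (by rw [hfixQ k]; exact h))
        obtain ⟨l, hl⟩ := horb Q Q' _ h1 h2
        have hit : ∀ m : ℕ, act S (x' ^ m) Q' = act S (u ^ (l * m)) Q' := by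
          intro m
          induction m with
          | zero => simp
          | succ m ih =>
            rw [pow_succ', map_mul, Perm.mul_apply, ih, ← Perm.mul_apply, ← map_mul, (hx'.pow_right _).eq, map_mul,
              Perm.mul_apply, ← hl, ← Perm.mul_apply, ← map_mul, ← pow_add, mul_add_one]
        rw [hit, mul_comm, pow_mul, hu5, one_pow, map_one]
    refine hxS ?_
    have h1 : x' ∈ S := hpowmem x' 5 (by norm_num) (by rw [hker _ hpow5]; exact one_mem _)
    simpa [x'] using mul_mem (pow_mem huS i) h1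
  -- an involution among them
  set m := c ^ 5 with hm
  have hmS : m ∉ S := fun h => hcnS (hpowmem c 5 (by norm_num) h)
  have hmu : Commute m u := (Commute.pow_left hcu 5)
  haveI : Nonempty (Pts S) := ⟨T₀⟩
  have hsq : ∃ l : ℕ, m * m = u ^ l := by
    have hh := hswap m hmu.eq hmS
    obtain ⟨i, hi⟩ := horb (act S m T₀) T₀ (act S (m * m) T₀) (fun k hk => by
      rcases Nat.eq_zero_or_pos (k % 5) with h0 | h0
      · refine hh T₀ 0 ?_
        rw [hmod5, h0, pow_zero, map_one, Perm.one_apply] at hk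
        rw [pow_zero, map_one, Perm.one_apply, hk]
      · refine hh T₀ (5 - k % 5) ?_
        conv_lhs => rw [← hk, hmod5 k]
        rw [← Perm.mul_apply, ← map_mul, ← pow_add, Nat.sub_add_cancel (Nat.mod_lt _ (by norm_num)).le, hu5,
          map_one, Perm.one_apply])
      (fun k hk => hh (act S m T₀) k (by rw [hk, map_mul, Perm.mul_apply]))
    refine ⟨i, ?_⟩
    refine (inv_mul_eq_one.1 (hker ((u ^ i)⁻¹ * (m * m)) (Equiv.ext fun Q => ?_))).symm
    rw [Perm.one_apply, map_mul, Perm.mul_apply, map_inv, Perm.inv_eq_iff_eq]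
    have hcomm : ∀ (x : G) k Q', Commute x u → act S x (act S (u ^ k) Q') = act S (u ^ k) (act S x Q') :=
      fun x k Q' hx => by rw [← Perm.mul_apply, ← map_mul, (hx.pow_right k).eq, map_mul, Perm.mul_apply]
    by_cases h1 : ∃ k : ℕ, act S (u ^ k) T₀ = Q
    · obtain ⟨k, rfl⟩ := h1
      rw [hcomm _ k _ (Commute.pow_self u i), hi, hcomm _ k _ (hmu.mul_left hmu)]
    · push Not at h1
      obtain ⟨k, rfl⟩ := horb T₀ (act S m T₀) Q (hswap m hmu.eq hmS T₀) h1
      rw [hcomm _ k _ (Commute.pow_self u i), hcomm _ k _ (hmu.mul_left hmu)]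
      congr 1
      rw [← hcomm m i T₀ hmu, hi, ← Perm.mul_apply, ← map_mul, ← Perm.mul_apply, ← map_mul, mul_assoc]
  obtain ⟨l, hl⟩ := hsq
  set τ := m * u ^ (2 * l) with hτ
  have hτS : τ ∉ S := fun h => hmS (by simpa [hτ] using mul_mem h (inv_mem (pow_mem huS (2 * l))))
  have hτu : Commute τ u := hmu.mul_left (Commute.pow_self u _)
  have hτ2 : τ * τ = 1 := by
    calc τ * τ = m * m * (u ^ (2 * l) * u ^ (2 * l)) := by
          rw [hτ]
          exact (Commute.pow_right hmu (2 * l)).symm.mul_mul_mul_comm _ _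
      _ = 1 := by rw [hl, ← pow_add, ← pow_add, show l + (2 * l + 2 * l) = 5 * l by ring, pow_mul, hu5, one_pow]
  have hsignτ : Perm.sign (act S τ) = 1 := by
    rw [hτ, map_mul, map_mul, hSeven _ (pow_mem huS _), mul_one, hm, map_pow, map_pow, hsign c hcS, one_pow]
  have hsupp : (act S τ).support = Finset.univ := Finset.eq_univ_of_forall fun Q => Perm.mem_support.2 fun h =>
    hswap τ hτu.eq hτS Q 0 (by rw [pow_zero, map_one, Perm.one_apply, h])
  have hord : orderOf (act S τ) = 2 := orderOf_eq_prime (by rw [← map_pow, sq, hτ2, map_one]) fun h => by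
    rw [h, Perm.support_one] at hsupp
    exact Finset.univ_nonempty.ne_empty hsupp.symm
  obtain ⟨d, hd⟩ := Perm.cycleType_prime_order (σ := act S τ) (by rw [hord]; exact Nat.prime_two)
  have hsum := Perm.sum_cycleType (act S τ)
  rw [hd, hord, hsupp, Finset.card_univ, Fintype.card_eq_nat_card, hP] at hsum
  simp at hsum
  rw [Perm.sign_of_cycleType, hd, hord] at hsignτ
  obtain rfl : d = 4 := by omega
  exact absurd hsignτ (by decide)

end Cfsg.Lib.Linear.Mitchell.A6Ext
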