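import Cfsg.Agent.Lib.Linear.Mitchell.HomologyPair

/-!
# No two commuting homologies of order four

In an irreducible group without transvections, in which no homology of eigenvalue `i` commutes with
all its conjugates, two distinct homologies of eigenvalue `i` never commute.
-/

set_option autoImplicit false

namespace Cfsg.Lib.Linear.Mitchell

open Cfsg.Geo
open Cfsg.Lib.Linear.TVec
open scoped Matrix MatrixGroups

variable {F : Type*} [Field F] [Fintype F] {G : Subgroup (GL (Fin 3) F)}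

theorem Same.smul_eq {v φ w ψ : Fin 3 → F} (h : Same v φ w ψ) (x : Fin 3 → F) :
    (ψ ⬝ᵥ x) • w = (φ ⬝ᵥ x) • v := by
  have e := congrArg (fun M => M *ᵥ x) h
  funext i
  have := congrFun e i
  simpa [Matrix.vecMulVec_mulVec, mul_comm] using this

/-- The invariant of two distinct non-commuting homologies is one half. -/
theorem pair_half (hT : NoT G) (h2 : (2 : F) ≠ 0) {μ : F} (hμ : μ * μ = -1)
    {v φ w ψ : Fin 3 → F} (ha : InH G μ v φ) (hb : InH G μ w ψ) :
    (φ ⬝ᵥ w = 0 ∧ ψ ⬝ᵥ v = 0) ∨ ((φ ⬝ᵥ w) * (ψ ⬝ᵥ v) = 1 ∧ Same v φ w ψ) ∨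
      2 * ((φ ⬝ᵥ w) * (ψ ⬝ᵥ v)) = 1 := by
  rcases pair_cases hT h2 hμ ha hb with h | h | ⟨hne, h⟩
  · exact Or.inl h
  · exact Or.inr (Or.inl h)
  refine Or.inr (Or.inr ?_)
  set c := (φ ⬝ᵥ w) * (ψ ⬝ᵥ v) with hc
  rcases mul_eq_zero.1 (show (2 * c - 1) * (2 * c - 3) = 0 by linear_combination h) with e | e
  · linear_combination e
  exfalso
  have h0 : μ ≠ 0 := fun e => by simp [e] at hμ
  have hinv : μ⁻¹ = -μ := inv_eq_of_mul_eq_one_right (by linear_combination -hμ)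
  have hb' := InH.conj_hom h0 ha hb
  have hp := pair_cases hT h2 hμ hb hb'
  simp only [dotProduct_add, add_dotProduct, dotProduct_smul, smul_dotProduct, smul_eq_mul, hb.1,
    hinv] at hp
  have e1 : 1 + (μ - 1) * (φ ⬝ᵥ w) * (ψ ⬝ᵥ v) = 1 + (μ - 1) * c := by rw [hc]; ring
  have e2 : 1 + (-μ - 1) * (ψ ⬝ᵥ v) * (φ ⬝ᵥ w) = 1 + (-μ - 1) * c := by rw [hc]; ring
  rw [e1, e2] at hp
  have hprod : (1 + (μ - 1) * c) * (1 + (-μ - 1) * c) = 1 - 2 * c + 2 * c * c := by
    linear_combination (-(c * c)) * hμ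
  rcases hp with ⟨f1, f2⟩ | ⟨f, -⟩ | ⟨-, f⟩
  · have : 2 * μ * c = 0 := by linear_combination f1 - f2
    exact mul_ne_zero (mul_ne_zero h2 h0) hne this
  · rw [hprod] at f
    exact mul_ne_zero h2 hne (by
      linear_combination (2 : F) * f - (2 * c + 1) * e + e)
  · rw [hprod] at f
    have h8 : (2 : F) * 2 * 2 = 0 := by
      linear_combination f - (1 + 2 * (1 - 2 * c + 2 * c * c)) * (2 * c + 1) * e
    exact mul_ne_zero (mul_ne_zero h2 h2) h2 h8

/-- A homology linked to both members of a commuting pair has its centre on their line. -/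
theorem chain (hT : NoT G) (h2 : (2 : F) ≠ 0) {μ : F} (hμ : μ * μ = -1)
    {v φ w ψ u ξ : Fin 3 → F} (ha : InH G μ v φ) (hd : InH G μ w ψ) (hb : InH G μ u ξ)
    (hav : φ ⬝ᵥ w = 0) (hdv : ψ ⬝ᵥ v = 0) (hau : φ ⬝ᵥ u ≠ 0) (hdu : ψ ⬝ᵥ u ≠ 0) :
    ∃ s r : F, u = s • v + r • w := by
  have h0 : μ ≠ 0 := fun e => by simp [e] at hμ
  have h1 : μ ≠ 1 := fun e => h2 (by rw [e] at hμ; linear_combination hμ)
  have hξv : ξ ⬝ᵥ v ≠ 0 := fun e => hau (zero_right hT h0 h1 ha hb e)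
  have hξw : ξ ⬝ᵥ w ≠ 0 := fun e => hdu (zero_right hT h0 h1 hd hb e)
  have c1 : 2 * ((φ ⬝ᵥ u) * (ξ ⬝ᵥ v)) = 1 := by
    rcases pair_half hT h2 hμ ha hb with h | ⟨-, h⟩ | h
    · exact absurd h.1 hau
    · have := h.smul_eq w
      rw [hav, zero_smul, smul_eq_zero] at this
      exact absurd (this.resolve_right hb.ne_zero.1) hξw
    · exact h
  have c2 : 2 * ((ψ ⬝ᵥ u) * (ξ ⬝ᵥ w)) = 1 := by
    rcases pair_half hT h2 hμ hd hb with h | ⟨-, h⟩ | h
    · exact absurd h.1 hdu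
    · have := h.smul_eq v
      rw [hdv, zero_smul, smul_eq_zero] at this
      exact absurd (this.resolve_right hb.ne_zero.1) hξv
    · exact h
  have hd' := InH.conj_hom (ν := μ) (neg_ne_zero.2 one_ne_zero) (hμ ▸ hb.sq) hd
  have hne : φ ⬝ᵥ (w + ((-1 - 1) * (ξ ⬝ᵥ w)) • u) ≠ 0 := by
    rw [dotProduct_add, dotProduct_smul, hav, zero_add, smul_eq_mul]
    refine mul_ne_zero (mul_ne_zero (fun e => h2 ?_) hξw) hau
    linear_combination -e
  rcases pair_half hT h2 hμ ha hd' with h | ⟨-, h⟩ | h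
  · exact absurd h.1 hne
  · have h' := h.smul_eq (w + ((-1 - 1) * (ξ ⬝ᵥ w)) • u)
    rw [hd'.1, one_smul] at h'
    refine ⟨((-1 - 1) * (ξ ⬝ᵥ w))⁻¹ * (φ ⬝ᵥ (w + ((-1 - 1) * (ξ ⬝ᵥ w)) • u)),
      -((-1 - 1) * (ξ ⬝ᵥ w))⁻¹, ?_⟩
    rw [← smul_smul, ← h', smul_add, smul_smul, inv_mul_cancel₀, one_smul, neg_smul]
    · abel
    · exact mul_ne_zero (fun e => h2 (by linear_combination -e)) hξw
  · exfalso
    simp only [dotProduct_add, add_dotProduct, dotProduct_smul, smul_dotProduct, smul_eq_mul, hav,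
      hdv, zero_add, inv_neg, inv_one] at h
    have : (1 : F) = 0 := by
      linear_combination h - (2 : F) * (2 * ((ψ ⬝ᵥ u) * (ξ ⬝ᵥ w))) * c1 - (2 : F) * c2
    exact one_ne_zero this

theorem exists_smul_of_kernels {v φ w ψ : Fin 3 → F} (hφ : φ ⬝ᵥ v = 1) (hψ : ψ ⬝ᵥ w = 1)
    (hφw : φ ⬝ᵥ w = 0) (hψv : ψ ⬝ᵥ v = 0) {z z' : Fin 3 → F} (hz0 : z ≠ 0) (h1 : φ ⬝ᵥ z = 0)
    (h2 : ψ ⬝ᵥ z = 0) (h3 : φ ⬝ᵥ z' = 0) (h4 : ψ ⬝ᵥ z' = 0) : ∃ k : F, z' = k • z := by
  have hli : LinearIndependent F ![v, w, z] := by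
    rw [Fintype.linearIndependent_iff]
    intro g hg
    simp [Fin.sum_univ_three] at hg
    have e1 := congrArg (φ ⬝ᵥ ·) hg
    have e2 := congrArg (ψ ⬝ᵥ ·) hg
    simp [dotProduct_add, dotProduct_smul, hφ, hψ, hφw, hψv, h1, h2] at e1 e2
    rw [e1, e2, zero_smul, zero_smul, zero_add, zero_add] at hg
    intro i
    fin_cases i
    · exact e1
    · exact e2
    · exact (smul_eq_zero.1 hg).resolve_right hz0
  have hz' : z' ∈ Submodule.span F (Set.range ![v, w, z]) := by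
    rw [hli.span_eq_top_of_card_eq_finrank (by simp)]
    trivial
  obtain ⟨g, hg⟩ := Submodule.mem_span_range_iff_exists_fun F |>.1 hz'
  simp [Fin.sum_univ_three] at hg
  have e1 := congrArg (φ ⬝ᵥ ·) hg
  have e2 := congrArg (ψ ⬝ᵥ ·) hg
  simp [dotProduct_add, dotProduct_smul, hφ, hψ, hφw, hψv, h1, h2, h3, h4] at e1 e2
  exact ⟨g 2, by rw [← hg, e1, e2, zero_smul, zero_smul, zero_add, zero_add]⟩

theorem not_mem_span_case (hT : NoT G) (h2 : (2 : F) ≠ 0) {μ : F} (hμ : μ * μ = -1)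
    (hnc : ∀ v φ, InH G μ v φ → ∃ g ∈ G, φ ⬝ᵥ (g.val *ᵥ v) ≠ 0 ∧
      ¬ Same v φ (g.val *ᵥ v) (φ ᵥ* g⁻¹.val))
    {v φ w ψ u ξ : Fin 3 → F} (ha : InH G μ v φ) (hd : InH G μ w ψ) (hb : InH G μ u ξ)
    (hav : φ ⬝ᵥ w = 0) (hdv : ψ ⬝ᵥ v = 0) (hu : ∀ s r : F, u ≠ s • v + r • w)
    (hau : φ ⬝ᵥ u ≠ 0) : False := by
  have h0 : μ ≠ 0 := fun e => by simp [e] at hμ
  have h1 : μ ≠ 1 := fun e => h2 (by rw [e] at hμ; linear_combination hμ)
  have hdu : ψ ⬝ᵥ u = 0 := by
    by_contra h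
    obtain ⟨s, r, e⟩ := chain hT h2 hμ ha hd hb hav hdv hau h
    exact hu s r e
  have hξw : ξ ⬝ᵥ w = 0 := zero_left hT h0 h1 hd hb hdu
  have hξv : ξ ⬝ᵥ v ≠ 0 := fun e => hau (zero_right hT h0 h1 ha hb e)
  obtain ⟨g, hg, hdu', hns⟩ := hnc w ψ hd
  have hb' := hd.conj hg
  set u' := g.val *ᵥ w with hu'
  set ξ' := ψ ᵥ* g⁻¹.val with hξ'
  by_cases hau' : φ ⬝ᵥ u' = 0
  · by_cases hbu' : ξ ⬝ᵥ u' = 0
    · -- all three orthogonal relations
      have hli : LinearIndependent F ![v, w, u] := by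
        rw [Fintype.linearIndependent_iff]
        intro c hc
        simp [Fin.sum_univ_three] at hc
        have hc2 : c 2 = 0 := by
          by_contra h
          refine hu (-(c 2)⁻¹ * c 0) (-(c 2)⁻¹ * c 1) ?_
          have e : c 2 • u = -(c 0 • v) + -(c 1 • w) := by
            linear_combination (norm := module) hc
          have e' := congrArg (fun x => (c 2)⁻¹ • x) e
          simp only [smul_smul, inv_mul_cancel₀ h, one_smul] at e'
          rw [e']
          module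
        rw [hc2, zero_smul, add_zero] at hc
        have e1 := congrArg (φ ⬝ᵥ ·) hc
        have e2 := congrArg (ψ ⬝ᵥ ·) hc
        simp [dotProduct_add, dotProduct_smul, ha.1, hd.1, hav, hdv] at e1 e2
        intro i
        fin_cases i <;> assumption
      have hu'm : u' ∈ Submodule.span F (Set.range ![v, w, u]) := by
        rw [hli.span_eq_top_of_card_eq_finrank (by simp)]
        trivial
      obtain ⟨c, hc⟩ := Submodule.mem_span_range_iff_exists_fun F |>.1 hu'm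
      simp [Fin.sum_univ_three] at hc
      have e1 := congrArg (φ ⬝ᵥ ·) hc
      have e3 := congrArg (ξ ⬝ᵥ ·) hc
      simp [dotProduct_add, dotProduct_smul, ha.1, hb.1, hav, hξw, hau', hbu'] at e1 e3
      rcases pair_half hT h2 hμ ha hb with h | ⟨-, h⟩ | h
      · exact hau h.1
      · have e := h.smul_eq u
        rw [hb.1, one_smul] at e
        exact hu (φ ⬝ᵥ u) 0 (by rw [zero_smul, add_zero]; exact e)
      · have hc2 : c 2 = 0 := by
          linear_combination (2 : F) * e3 - (2 : F) * (ξ ⬝ᵥ v) * e1 + c 2 * h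
        rw [hc2, zero_mul, add_zero] at e1
        rw [hc2, e1, zero_smul, zero_smul, zero_add, add_zero] at hc
        exact hns (same_of_centre hT h0 h1 hd hb' hc.symm)
    · obtain ⟨s, r, e⟩ := chain hT h2 hμ ha hb' hb hau' (zero_left hT h0 h1 ha hb' hau') hau
        (fun e => hbu' (zero_left hT h0 h1 hb' hb e))
      have e' := congrArg (ψ ⬝ᵥ ·) e
      simp [dotProduct_add, dotProduct_smul, hdv, hdu, hdu'] at e'
      exact hu s 0 (by rw [e, e', zero_smul, zero_smul])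
  · obtain ⟨s, r, e⟩ := chain hT h2 hμ ha hd hb' hav hdv hau' hdu'
    have e1 : φ ⬝ᵥ u' = s := by
      rw [e]; simp [dotProduct_add, dotProduct_smul, ha.1, hav]
    have hbu' : ξ ⬝ᵥ u' ≠ 0 := by
      rw [e]
      simp [dotProduct_add, dotProduct_smul, hξw, hξv, ← e1, hau']
    obtain ⟨s', r', e'⟩ := chain hT h2 hμ hd hb hb' hdu hξw hdu' hbu'
    by_cases hr' : r' = 0
    · rw [hr', zero_smul, add_zero] at e'
      exact hau' (by rw [e', dotProduct_smul, hav, smul_zero])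
    · refine hu (r'⁻¹ * s) (r'⁻¹ * (r - s')) ?_
      have e'' : r' • u = s • v + (r - s') • w := by
        linear_combination (norm := module) e'.symm.trans e
      have := congrArg (fun x => r'⁻¹ • x) e''
      simp only [smul_add, smul_smul, inv_mul_cancel₀ hr', one_smul] at this
      exact this

/-- Two commuting homologies of eigenvalue `i` do not occur. -/
theorem no_orth_pair (hT : NoT G) (h2 : (2 : F) ≠ 0) {μ : F} (hμ : μ * μ = -1)
    (hirr : ActsIrreducibly (matrixSet G))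
    (hnc : ∀ v φ, InH G μ v φ → ∃ g ∈ G, φ ⬝ᵥ (g.val *ᵥ v) ≠ 0 ∧
      ¬ Same v φ (g.val *ᵥ v) (φ ᵥ* g⁻¹.val))
    {v φ w ψ : Fin 3 → F} (ha : InH G μ v φ) (hd : InH G μ w ψ)
    (hav : φ ⬝ᵥ w = 0) (hdv : ψ ⬝ᵥ v = 0) : False := by
  have h0 : μ ≠ 0 := fun e => by simp [e] at hμ
  have h1 : μ ≠ 1 := fun e => h2 (by rw [e] at hμ; linear_combination hμ)
  obtain ⟨g, hg, hau, hns⟩ := hnc v φ ha
  set u := g.val *ᵥ v with hu
  set L := Submodule.span F (Set.range ![v, w]) with hL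
  have hmem : ∀ x, x ∈ L ↔ ∃ s r : F, x = s • v + r • w := fun x => by
    rw [hL, Submodule.mem_span_range_iff_exists_fun]
    constructor
    · rintro ⟨c, rfl⟩
      exact ⟨c 0, c 1, by simp [Fin.sum_univ_two]⟩
    · rintro ⟨s, r, rfl⟩
      exact ⟨![s, r], by simp [Fin.sum_univ_two]⟩
  by_cases hu' : u ∈ L
  swap
  · exact not_mem_span_case hT h2 hμ hnc ha hd (ha.conj hg) hav hdv
      (fun s r e => hu' ((hmem u).2 ⟨s, r, e⟩)) hau
  obtain ⟨s, r, hsr⟩ := (hmem u).1 hu'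
  have hs : s ≠ 0 := fun e => hau (by
    rw [hsr, e, zero_smul, zero_add, dotProduct_smul, hav, smul_zero])
  have hr : r ≠ 0 := fun e => hns (same_of_centre hT h0 h1 ha (ha.conj hg) (s := s)
    (hsr.trans (by rw [e, zero_smul, add_zero])))
  -- no homology centre outside the line is linked to the pair
  have key : ∀ z ζ, InH G μ z ζ → z ∉ L → φ ⬝ᵥ z = 0 ∧ ψ ⬝ᵥ z = 0 := by
    intro z ζ hz hzL
    constructor
    · by_contra h
      exact not_mem_span_case hT h2 hμ hnc ha hd hz hav hdv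
        (fun a b e => hzL ((hmem z).2 ⟨a, b, e⟩)) h
    · by_contra h
      exact not_mem_span_case hT h2 hμ hnc hd ha hz hdv hav
        (fun a b e => hzL ((hmem z).2 ⟨b, a, by rw [e]; abel⟩)) h
  have hv0 := ha.ne_zero.1
  have hw0 := hd.ne_zero.1
  have hstep : ∀ k ∈ G, k.val *ᵥ v ∈ L ∧ k.val *ᵥ w ∈ L := by
    intro k hk
    have Hu := (ha.conj hg).conj hk
    rw [← hu, hsr, Matrix.mulVec_add, Matrix.mulVec_smul, Matrix.mulVec_smul] at Hu
    have hinj : ∀ {x : Fin 3 → F}, k.val *ᵥ x = 0 → x = 0 := fun {x} e => by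
      rw [← inv_mul_mulVec k x, e, Matrix.mulVec_zero]
    by_cases hkv : k.val *ᵥ v ∈ L
    · refine ⟨hkv, ?_⟩
      by_contra hkw
      have hku : s • (k.val *ᵥ v) + r • (k.val *ᵥ w) ∉ L := fun h => hkw (by
        have := L.smul_mem r⁻¹ (L.sub_mem h (L.smul_mem s hkv))
        rwa [add_sub_cancel_left, inv_smul_smul₀ hr] at this)
      obtain ⟨c, hc⟩ := exists_smul_of_kernels ha.1 hd.1 hav hdv (fun e => hw0 (hinj e))
        (key _ _ (hd.conj hk) hkw).1 (key _ _ (hd.conj hk) hkw).2 (key _ _ Hu hku).1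
        (key _ _ Hu hku).2
      have e : k.val *ᵥ (s • v + (r - c) • w) = 0 := by
        rw [Matrix.mulVec_add, Matrix.mulVec_smul, Matrix.mulVec_smul]
        linear_combination (norm := module) hc
      have e' := congrArg (φ ⬝ᵥ ·) (hinj e)
      simp [dotProduct_add, dotProduct_smul, ha.1, hav] at e'
      exact hs e'
    · exfalso
      by_cases hkw : k.val *ᵥ w ∈ L
      · have hku : s • (k.val *ᵥ v) + r • (k.val *ᵥ w) ∉ L := fun h => hkv (by
          have := L.smul_mem s⁻¹ (L.sub_mem h (L.smul_mem r hkw))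
          rwa [add_sub_cancel_right, inv_smul_smul₀ hs] at this)
        obtain ⟨c, hc⟩ := exists_smul_of_kernels ha.1 hd.1 hav hdv (fun e => hv0 (hinj e))
          (key _ _ (ha.conj hk) hkv).1 (key _ _ (ha.conj hk) hkv).2 (key _ _ Hu hku).1
          (key _ _ Hu hku).2
        have e : k.val *ᵥ ((s - c) • v + r • w) = 0 := by
          rw [Matrix.mulVec_add, Matrix.mulVec_smul, Matrix.mulVec_smul]
          linear_combination (norm := module) hc
        have e' := congrArg (ψ ⬝ᵥ ·) (hinj e)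
        simp [dotProduct_add, dotProduct_smul, hd.1, hdv] at e'
        exact hr e'
      · obtain ⟨c, hc⟩ := exists_smul_of_kernels ha.1 hd.1 hav hdv (fun e => hv0 (hinj e))
          (key _ _ (ha.conj hk) hkv).1 (key _ _ (ha.conj hk) hkv).2 (key _ _ (hd.conj hk) hkw).1
          (key _ _ (hd.conj hk) hkw).2
        have e : k.val *ᵥ (w - c • v) = 0 := by
          rw [Matrix.mulVec_sub, Matrix.mulVec_smul, hc, sub_self]
        have e' := congrArg (ψ ⬝ᵥ ·) (hinj e)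
        simp [dotProduct_sub, dotProduct_smul, hd.1, hdv] at e'
  have hinvL : ∀ x ∈ matrixSet G, L.map (Matrix.toLin' x) ≤ L := by
    rintro _ ⟨k, hk, rfl⟩ _ ⟨x, hx, rfl⟩
    obtain ⟨a, b, rfl⟩ := (hmem x).1 hx
    rw [Matrix.toLin'_apply, Matrix.mulVec_add, Matrix.mulVec_smul, Matrix.mulVec_smul]
    exact L.add_mem (L.smul_mem a (hstep k hk).1) (L.smul_mem b (hstep k hk).2)
  rcases hirr L hinvL with h | h
  · have : v ∈ L := (hmem v).2 ⟨1, 0, by simp⟩
    rw [h, Submodule.mem_bot] at this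
    exact hv0 this
  · have h3 : (Module.finrank F L) ≤ 2 := by
      rw [hL]
      simpa [Set.finrank] using finrank_range_le_card (R := F) ![v, w]
    rw [h, finrank_top] at h3
    simp at h3

end Cfsg.Lib.Linear.Mitchell
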