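import Cfsg.Agent.Lib.Linear.Mitchell.TransBasic
import Cfsg.Agent.Lib.Linear.Mitchell.HomologyChain
import Cfsg.Agent.Lib.Linear.Aschbacher.Basic

/-!
# Perfect simple groups in dimension three: basic facts

For a perfect subgroup `P` of `SL₃(F)` simple modulo scalars: scalars of `P` have order dividing
three, the group `P ⊔ scalars` has no transvection if `P` has none, no homology commutes with all
its conjugates, and involutions are conjugate to `diag(-1, -1, 1)`.
-/

set_option autoImplicit false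

namespace Cfsg.Lib.Linear.Mitchell

open Cfsg.Geo
open Cfsg.Lib.Linear.TVec
open scoped Matrix MatrixGroups

variable {F : Type*} [Field F]

/-- `P` is a perfect subgroup of `SL₃`, non-abelian simple modulo scalars, absolutely
irreducible. -/
structure Core (P : Subgroup (GL (Fin 3) F)) : Prop where
  le_sl : P ≤ specialLinear (Fin 3) F
  perfect : ⁅P, P⁆ = P
  simple : IsSimpleGroup (P ⧸ (scalars (Fin 3) F).subgroupOf P)
  nonab : ¬ IsMulCommutative (P ⧸ (scalars (Fin 3) F).subgroupOf P)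
  absIrr : ActsAbsolutelyIrreducibly (matrixSet P)

theorem exists_scalar {s : GL (Fin 3) F} (hs : s ∈ scalars (Fin 3) F) :
    ∃ c : F, c ≠ 0 ∧ s.val = c • 1 := by
  obtain ⟨u, rfl⟩ := hs
  exact ⟨(u : F), u.ne_zero, by simp [Matrix.smul_one_eq_diagonal]⟩

theorem mem_scalars_of_val {s : GL (Fin 3) F} {c : F} (h : s.val = c • 1) :
    s ∈ scalars (Fin 3) F :=
  Cfsg.Lib.Linear.Asch.mem_scalars_of_smul h

theorem det_val_eq_one {g : GL (Fin 3) F} (hg : g ∈ specialLinear (Fin 3) F) : g.val.det = 1 := by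
  have h := congrArg Units.val (MonoidHom.mem_ker.1 hg)
  simpa using h

theorem scalar_cube {s : GL (Fin 3) F} (hs : s ∈ scalars (Fin 3) F)
    (hd : s ∈ specialLinear (Fin 3) F) : s ^ 3 = 1 := by
  obtain ⟨c, -, hc⟩ := exists_scalar hs
  have hd' := det_val_eq_one hd
  rw [hc, Matrix.det_smul, Matrix.det_one, mul_one, Fintype.card_fin] at hd'
  apply Units.ext
  rw [Units.val_pow_eq_pow_val, hc, smul_pow, one_pow, hd', one_smul, Units.val_one]

theorem scalars_comm' {s : GL (Fin 3) F} (hs : s ∈ scalars (Fin 3) F) (g : GL (Fin 3) F) :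
    g * s = s * g := Cfsg.Lib.Linear.Asch.scalars_comm hs

/-- Elements of `P ⊔ scalars`. -/
theorem exists_of_mem_sup {P : Subgroup (GL (Fin 3) F)} {g : GL (Fin 3) F}
    (hg : g ∈ P ⊔ scalars (Fin 3) F) : ∃ x ∈ P, ∃ s ∈ scalars (Fin 3) F, g = x * s := by
  haveI : (scalars (Fin 3) F).Normal :=
    ⟨fun n hn g => by rw [scalars_comm' hn g, mul_inv_cancel_right]; exact hn⟩
  rw [← SetLike.mem_coe, Subgroup.mul_normal, Set.mem_mul] at hg
  obtain ⟨x, hx, s, hs, e⟩ := hg
  exact ⟨x, hx, s, hs, e.symm⟩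

theorem tv_pow (p : ℕ) [Fact p.Prime] [CharP F p] {z a : Fin 3 → F} (h : a ⬝ᵥ z = 0) :
    tv z a h ^ p = 1 := by
  apply Units.ext
  rw [Units.val_pow_eq_pow_val, coe_tv, tvMat, Units.val_one]
  haveI : CharP (Matrix (Fin 3) (Fin 3) F) p := inferInstance
  rw [add_pow_char_of_commute (R := Matrix (Fin 3) (Fin 3) F) p (Commute.one_left _), one_pow]
  obtain ⟨m, hm⟩ : ∃ m, p = m + 2 := ⟨p - 2, by have := (Fact.out : p.Prime).two_le; omega⟩
  rw [hm, pow_add, pow_two, Matrix.vecMulVec_mul_vecMulVec, h, zero_smul, Matrix.vecMulVec_zero,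
    mul_zero, add_zero]

theorem noT_sup {P : Subgroup (GL (Fin 3) F)} (hP : Core P) [Finite F] (hT : NoT P) :
    NoT (P ⊔ scalars (Fin 3) F) := by
  rintro z a ⟨h, hm⟩
  obtain ⟨x, hx, s, hs, e⟩ := exists_of_mem_sup hm
  obtain ⟨p, hp⟩ := CharP.exists F
  haveI : Fact p.Prime := ⟨CharP.char_is_prime F p⟩
  have hds : s ∈ specialLinear (Fin 3) F := by
    rw [show s = x⁻¹ * tv z a h by rw [e, inv_mul_cancel_left]]
    exact mul_mem (inv_mem (hP.le_sl hx)) (tv_mem_SL z a h)
  refine hT z a ⟨h, ?_⟩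
  have hs3 := scalar_cube hs hds
  by_cases h3 : p = 3
  · subst h3
    have : s = 1 := by
      obtain ⟨c, -, hc⟩ := exists_scalar hs
      have hd' := det_val_eq_one hds
      rw [hc, Matrix.det_smul, Matrix.det_one, mul_one, Fintype.card_fin] at hd'
      have hc1 : c = 1 := by
        have hz : (c - 1) ^ 3 = 0 := by rw [sub_pow_char, one_pow, hd', sub_self]
        exact sub_eq_zero.1 (eq_zero_of_pow_eq_zero hz)
      exact Units.ext (by rw [hc, hc1, one_smul, Units.val_one])
    rw [e, this, mul_one]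
    exact hx
  · have hmod : p % 3 ≠ 0 := fun hmod =>
      h3 ((Nat.prime_dvd_prime_iff_eq Nat.prime_three Fact.out).1 (Nat.dvd_of_mod_eq_zero hmod)).symm
    obtain ⟨j, hj⟩ : ∃ j, 3 ∣ 1 + p * j := by
      rcases (show p % 3 = 1 ∨ p % 3 = 2 by omega) with hh | hh
      · exact ⟨2, by omega⟩
      · exact ⟨1, by omega⟩
    obtain ⟨l, hl⟩ := hj
    have ht : tv z a h ^ (1 + p * j) = tv z a h := by
      rw [pow_add, pow_one, pow_mul, tv_pow, one_pow, mul_one]
    rw [← ht, e, Commute.mul_pow (scalars_comm' hs x), hl, pow_mul s, hs3, one_pow, mul_one]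
    exact pow_mem hx _

variable {P : Subgroup (GL (Fin 3) F)}

theorem not_le_scalars (hP : Core P) : ¬ P ≤ scalars (Fin 3) F := by
  intro h
  refine hP.nonab ⟨⟨fun a b => ?_⟩⟩
  induction a using QuotientGroup.induction_on
  induction b using QuotientGroup.induction_on
  rename_i a b
  rw [← QuotientGroup.mk_mul, ← QuotientGroup.mk_mul]
  exact congrArg _ (Subtype.ext (scalars_comm' (h b.2) a))

/-- An element of `P` commuting with all its conjugates is scalar. -/
theorem scalar_of_commute_conj (hP : Core P) {x : GL (Fin 3) F} (hx : x ∈ P)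
    (h : ∀ g ∈ P, Commute x (g * x * g⁻¹)) : x ∈ scalars (Fin 3) F := by
  haveI := hP.simple
  set q := QuotientGroup.mk' ((scalars (Fin 3) F).subgroupOf P) with hq
  set N := Subgroup.normalClosure ({q ⟨x, hx⟩} : Set (P ⧸ (scalars (Fin 3) F).subgroupOf P))
  rcases (Subgroup.normalClosure_normal (s := ({q ⟨x, hx⟩} : Set _))).eq_bot_or_eq_top with e | e
  · have h1 : q ⟨x, hx⟩ ∈ N := Subgroup.subset_normalClosure rfl
    rw [show N = ⊥ from e, Subgroup.mem_bot, hq, QuotientGroup.mk'_apply,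
      QuotientGroup.eq_one_iff] at h1
    exact Subgroup.mem_subgroupOf.1 h1
  · exfalso
    refine hP.nonab ?_
    have hcomm : ∀ a ∈ Group.conjugatesOfSet ({q ⟨x, hx⟩} : Set _),
        ∀ b ∈ Group.conjugatesOfSet ({q ⟨x, hx⟩} : Set _), a * b = b * a := by
      intro a ha b hb
      rw [Group.mem_conjugatesOfSet_iff] at ha hb
      obtain ⟨_, rfl, ha⟩ := ha
      obtain ⟨_, rfl, hb⟩ := hb
      obtain ⟨ga, rfl⟩ := isConj_iff.1 ha
      obtain ⟨gb, rfl⟩ := isConj_iff.1 hb
      obtain ⟨ga, rfl⟩ := QuotientGroup.mk'_surjective _ ga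
      obtain ⟨gb, rfl⟩ := QuotientGroup.mk'_surjective _ gb
      rw [← hq, ← map_inv, ← map_inv, ← map_mul, ← map_mul, ← map_mul, ← map_mul, ← map_mul,
        ← map_mul]
      refine congrArg q (Subtype.ext ?_)
      have hc := (h ((ga : GL (Fin 3) F)⁻¹ * gb) (mul_mem (inv_mem ga.2) gb.2)).map
        (MulAut.conj (ga : GL (Fin 3) F)).toMonoidHom
      simp only [MulEquiv.coe_toMonoidHom, MulAut.conj_apply] at hc
      simp only [Subgroup.coe_mul, Subgroup.coe_inv]
      simpa [Commute, SemiconjBy, mul_assoc] using hc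
    haveI := Subgroup.isMulCommutative_closure hcomm
    refine ⟨⟨fun a b => ?_⟩⟩
    have ha : a ∈ Subgroup.normalClosure ({q ⟨x, hx⟩} : Set _) := by rw [show _ = ⊤ from e]; trivial
    have hb : b ∈ Subgroup.normalClosure ({q ⟨x, hx⟩} : Set _) := by rw [show _ = ⊤ from e]; trivial
    exact congrArg Subtype.val (IsMulCommutative.is_comm.comm
      (⟨a, ha⟩ : Subgroup.closure (Group.conjugatesOfSet ({q ⟨x, hx⟩} : Set _))) ⟨b, hb⟩)

theorem hMat_not_scalar {μ : F} (h1 : μ ≠ 1) {v φ : Fin 3 → F} (hd : φ ⬝ᵥ v = 1) (c : F) :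
    hMat μ v φ ≠ c • (1 : Matrix (Fin 3) (Fin 3) F) := by
  intro e
  have hφ : φ ≠ 0 := fun e => by simp [e] at hd
  have hv : v ≠ 0 := fun e => by simp [e] at hd
  have hμc : μ = c := by
    have := congrArg (fun M : Matrix (Fin 3) (Fin 3) F => φ ⬝ᵥ (M *ᵥ v)) e
    simp [hMat_mulVec, Matrix.smul_mulVec, dotProduct_add, dotProduct_smul, hd] at this
    linear_combination this
  obtain ⟨z, hz, hzk⟩ : ∃ z : Fin 3 → F, z ≠ 0 ∧ φ ⬝ᵥ z = 0 := by
    by_cases h : φ 0 = 0
    · exact ⟨ev 0, fun e => by simpa [ev] using congrFun e 0, by rw [dot_ev, h]⟩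
    · refine ⟨![-φ 1, φ 0, 0], fun e => h (by simpa using congrFun e 1), ?_⟩
      simp [dotProduct, Fin.sum_univ_three]
      ring
  have := congrArg (fun M : Matrix (Fin 3) (Fin 3) F => M *ᵥ z) e
  simp [hMat_mulVec, Matrix.smul_mulVec, hzk] at this
  have h' : ((1 : F) - c) • z = 0 := by rw [sub_smul, one_smul, ← this, sub_self]
  rcases smul_eq_zero.1 h' with e' | e'
  · exact h1 (by rw [hμc]; exact (sub_eq_zero.1 e').symm)
  · exact hz e'

/-- No homology commutes with all its conjugates. -/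
theorem core_hnc (hP : Core P) [Finite F] (hT : NoT P) {μ : F} (h0 : μ ≠ 0) (h1 : μ ≠ 1)
    (v φ : Fin 3 → F) (hv : InH (P ⊔ scalars (Fin 3) F) μ v φ) :
    ∃ g ∈ P ⊔ scalars (Fin 3) F, φ ⬝ᵥ (g.val *ᵥ v) ≠ 0 ∧
      ¬ Same v φ (g.val *ᵥ v) (φ ᵥ* g⁻¹.val) := by
  by_contra hne
  push Not at hne
  obtain ⟨hd, k, hk, hkv⟩ := id hv
  obtain ⟨x, hx, s, hs, rfl⟩ := exists_of_mem_sup hk
  have hsc : x ∈ scalars (Fin 3) F := by
    refine scalar_of_commute_conj hP hx fun g hg => ?_
    have hg' : g ∈ P ⊔ scalars (Fin 3) F := Subgroup.mem_sup_left hg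
    have hw := hv.conj hg'
    have hkk : Commute (x * s) (g * (x * s) * g⁻¹) := by
      have hgv : (g * (x * s) * g⁻¹).val = hMat μ (g.val *ᵥ v) (φ ᵥ* g⁻¹.val) := by
        rw [Units.val_mul, Units.val_mul g, hkv, hMat, hMat, mul_add, add_mul, mul_one,
          Units.mul_inv, Matrix.mul_smul, Matrix.smul_mul, Matrix.mul_vecMulVec,
          Matrix.vecMulVec_mul]
      apply Units.ext
      rw [Units.val_mul, Units.val_mul (g * (x * s) * g⁻¹), hkv, hgv]
      by_cases hz : φ ⬝ᵥ (g.val *ᵥ v) = 0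
      · have hz' := zero_left (noT_sup hP hT) h0 h1 hv hw hz
        simp only [hMat, add_mul, mul_add, one_mul, mul_one, Matrix.smul_mul, Matrix.mul_smul,
          Matrix.vecMulVec_mul_vecMulVec, hz, hz', zero_smul, Matrix.vecMulVec_zero, smul_zero]
        abel
      · rw [hMat, hMat, hne g hg' hz]
    have e : g * (x * s) * g⁻¹ = g * x * g⁻¹ * s := by
      simp only [mul_assoc]
      rw [scalars_comm' hs g⁻¹]
    rw [e] at hkk
    have hs1 : ∀ y : GL (Fin 3) F, Commute y s := fun y => scalars_comm' hs y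
    have := ((hkk.mul_left (hs1 (g * x * g⁻¹ * s)).inv_right.symm).mul_right
      ((hs1 _).inv_right))
    simpa [mul_assoc] using this
  obtain ⟨c, -, hc⟩ := exists_scalar (mul_mem hsc hs)
  exact hMat_not_scalar h1 hd c (hkv.symm.trans hc)

/-- An involution of `SL₃` is conjugate to `diag(-1, -1, 1)`. -/
theorem exists_flip_frame [Finite F] (h2 : (2 : F) ≠ 0) {t : GL (Fin 3) F}
    (hd : t ∈ specialLinear (Fin 3) F) (ht : t * t = 1) (h1 : t ≠ 1) :
    ∃ Q : GL (Fin 3) F, (Q⁻¹ * t * Q).val = flipMat := by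
  set f := Matrix.toLin' t.val with hf
  have hff : ∀ v, f (f v) = v := fun v => by
    rw [hf, Matrix.toLin'_apply, Matrix.toLin'_apply, Matrix.mulVec_mulVec, ← Units.val_mul, ht,
      Units.val_one, Matrix.one_mulVec]
  set M := LinearMap.ker (f - LinearMap.id) with hM
  set W := LinearMap.ker (f + LinearMap.id) with hW
  have hMm : ∀ v, v ∈ M ↔ f v = v := fun v => by
    rw [hM, LinearMap.mem_ker, LinearMap.sub_apply, LinearMap.id_apply, sub_eq_zero]
  have hWm : ∀ v, v ∈ W ↔ f v = -v := fun v => by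
    rw [hW, LinearMap.mem_ker, LinearMap.add_apply, LinearMap.id_apply, add_eq_zero_iff_eq_neg]
  have hc : IsCompl W M := by
    refine ⟨disjoint_iff.2 ((Submodule.eq_bot_iff _).2 fun v hv => ?_), codisjoint_iff.2 ?_⟩
    · have e : (2 : F) • v = 0 := by
        rw [two_smul]
        nth_rewrite 1 [← (hMm v).1 hv.2]
        rw [(hWm v).1 hv.1, neg_add_cancel]
      exact (smul_eq_zero.1 e).resolve_left h2
    · refine eq_top_iff.2 fun v _ => Submodule.mem_sup.2 ⟨(2 : F)⁻¹ • (v - f v), (hWm _).2 ?_,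
        (2 : F)⁻¹ • (v + f v), (hMm _).2 ?_, ?_⟩
      · rw [map_smul, map_sub, hff, ← smul_neg, neg_sub]
      · rw [map_smul, map_add, hff, add_comm]
      · rw [← smul_add, sub_add_add_cancel, ← two_smul F, smul_smul, inv_mul_cancel₀ h2, one_smul]
  obtain ⟨a, bW⟩ : ∃ a, Nonempty (Module.Basis (Fin a) F W) := ⟨_, ⟨Module.finBasis F W⟩⟩
  obtain ⟨b, bM⟩ : ∃ b, Nonempty (Module.Basis (Fin b) F M) := ⟨_, ⟨Module.finBasis F M⟩⟩
  obtain ⟨bW⟩ := bW
  obtain ⟨bM⟩ := bM
  set B := (bW.prod bM).map (Submodule.prodEquivOfIsCompl W M hc) with hB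
  have hBl : ∀ i, B (Sum.inl i) = (bW i : Fin 3 → F) := fun i => by simp [hB]
  have hBr : ∀ i, B (Sum.inr i) = (bM i : Fin 3 → F) := fun i => by simp [hB]
  have hsum : a + b = 3 := by
    have h := Module.finrank_eq_card_basis B
    simpa using h.symm
  have hmat : LinearMap.toMatrix B B f =
      Matrix.diagonal (Sum.elim (fun _ : Fin a => (-1 : F)) (fun _ : Fin b => 1)) := by
    ext i j
    rw [LinearMap.toMatrix_apply]
    rcases j with j | j
    · rw [hBl, (hWm _).1 (bW j).2, map_neg, ← hBl, Module.Basis.repr_self]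
      rcases eq_or_ne i (Sum.inl j) with e | e
      · subst e; simp
      · simp [Matrix.diagonal_apply_ne _ e, Finsupp.single_eq_of_ne e]
    · rw [hBr, (hMm _).1 (bM j).2, ← hBr, Module.Basis.repr_self]
      rcases eq_or_ne i (Sum.inr j) with e | e
      · subst e; simp
      · simp [Matrix.diagonal_apply_ne _ e, Finsupp.single_eq_of_ne e]
  have hdet : (-1 : F) ^ a = 1 := by
    have h := LinearMap.det_toMatrix B f
    rw [hmat, Matrix.det_diagonal, hf, LinearMap.det_toLin', det_val_eq_one hd] at h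
    simpa using h
  have ha : a = 2 := by
    rcases (show a = 0 ∨ a = 1 ∨ a = 2 ∨ a = 3 by omega) with rfl | rfl | rfl | rfl
    · exfalso
      apply h1
      apply Units.ext
      refine Matrix.toLin'.injective ?_
      refine B.ext fun i => ?_
      rcases i with i | i
      · exact i.elim0
      · rw [hBr, ← hf, (hMm _).1 (bM i).2, Units.val_one, Matrix.toLin'_one, LinearMap.id_apply]
    · exact absurd hdet fun e => h2 (by linear_combination -e)
    · rfl
    · exact absurd hdet fun e => h2 (by linear_combination -e)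
  obtain rfl : b = 1 := by omega
  subst ha
  set C : Matrix (Fin 3) (Fin 3) F :=
    (Matrix.of ![B (Sum.inl 0), B (Sum.inl 1), B (Sum.inr 0)]).transpose with hC
  have hli : LinearIndependent F ![B (Sum.inl 0), B (Sum.inl 1), B (Sum.inr 0)] := by
    have := B.linearIndependent.comp ![Sum.inl 0, Sum.inl 1, Sum.inr 0]
      (by intro i j e; fin_cases i <;> fin_cases j <;> simp at e ⊢)
    rw [show (![B (Sum.inl 0), B (Sum.inl 1), B (Sum.inr 0)] : Fin 3 → Fin 3 → F) =
      ⇑B ∘ ![Sum.inl 0, Sum.inl 1, Sum.inr 0] from funext fun i => by fin_cases i <;> rfl]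
    exact this
  have hCdet : C.det ≠ 0 := by
    rw [hC, Matrix.det_transpose, ← isUnit_iff_ne_zero, ← Matrix.isUnit_iff_isUnit_det]
    exact Matrix.linearIndependent_rows_iff_isUnit.1 hli
  refine ⟨Matrix.GeneralLinearGroup.mkOfDetNeZero C hCdet, ?_⟩
  set Q := Matrix.GeneralLinearGroup.mkOfDetNeZero C hCdet with hQ
  have hcol : t.val * C = C * flipMat := by
    ext i j
    have hl : ∀ v, t.val *ᵥ v = f v := fun v => by rw [hf, Matrix.toLin'_apply]
    have key : (t.val * C) i j = (t.val *ᵥ (fun k => C k j)) i := rfl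
    rw [key, hl]
    fin_cases j
    · show f (B (Sum.inl 0)) i = _
      rw [hBl, (hWm _).1 (bW 0).2, ← hBl]
      simp [hC, flipMat, Matrix.mul_apply, Fin.sum_univ_three]
    · show f (B (Sum.inl 1)) i = _
      rw [hBl, (hWm _).1 (bW 1).2, ← hBl]
      simp [hC, flipMat, Matrix.mul_apply, Fin.sum_univ_three]
    · show f (B (Sum.inr 0)) i = _
      rw [hBr, (hMm _).1 (bM 0).2, ← hBr]
      simp [hC, flipMat, Matrix.mul_apply, Fin.sum_univ_three]
  rw [Units.val_mul, Units.val_mul, mul_assoc, show Q.val = C from rfl, hcol, ← mul_assoc,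
    show C = Q.val from rfl, Units.inv_mul, one_mul]

end Cfsg.Lib.Linear.Mitchell
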