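import Cfsg.Agent.Lib.Small.RepSymFour
import Cfsg.Agent.Lib.TwoGroup.Models

/-!
# Finite facts on `A₄`, `A₅`, `S₄` and the double cover `GL(2,3)`
-/

set_option autoImplicit false

namespace Cfsg.Lib.Linear.Mitchell

/-- An involution `a` with a conjugate `b` commuting with it, `a * b` being a conjugate too. -/
def FourProp {X : Type*} [Group X] (a : X) : Prop :=
  ∃ g h : X, g * a * g⁻¹ ≠ a ∧ a * (g * a * g⁻¹) = g * a * g⁻¹ * a ∧
    h * a * h⁻¹ = a * (g * a * g⁻¹)

theorem four_alt_four : ∀ a : alternatingGroup (Fin 4), a * a = 1 → a ≠ 1 → FourProp a := by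
  unfold FourProp; decide +kernel

theorem four_alt_five : ∀ a : alternatingGroup (Fin 5), a * a = 1 → a ≠ 1 → FourProp a := by
  unfold FourProp; decide +kernel

theorem four_perm_four : ∀ a : Equiv.Perm (Fin 4), a * a = 1 → a ≠ 1 →
    Equiv.Perm.sign a = 1 → FourProp a := by
  unfold FourProp; decide +kernel

theorem perm_four_centralizer_odd : ∀ a b : Equiv.Perm (Fin 4), a * a = 1 →
    Equiv.Perm.sign a = -1 → a * b = b * a → b ^ 4 = 1 := by decide +kernel

theorem perm_four_commutator : ∀ a : Equiv.Perm (Fin 4), a * a = 1 → Equiv.Perm.sign a = -1 →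
    ∃ b : Equiv.Perm (Fin 4), (b * a * b⁻¹ * a⁻¹) ^ 3 = 1 ∧ b * a * b⁻¹ * a⁻¹ ≠ 1 := by decide +kernel

theorem perm_four_three : ∀ a c : Equiv.Perm (Fin 4), a * a = 1 → Equiv.Perm.sign a = -1 →
    c ^ 3 = 1 → c ≠ 1 → a * c ≠ c * a := by decide +kernel

/-- The Klein four-group in `S₄`. -/
def klein : Subgroup (Equiv.Perm (Fin 4)) where
  carrier := {p | p * p = 1 ∧ Equiv.Perm.sign p = 1}
  one_mem' := by simp
  mul_mem' := fun {x y} hx hy => by
    have h : ∀ x y : Equiv.Perm (Fin 4), x * x = 1 → Equiv.Perm.sign x = 1 → y * y = 1 →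
        Equiv.Perm.sign y = 1 → x * y * (x * y) = 1 := by decide +kernel
    exact ⟨h x y hx.1 hx.2 hy.1 hy.2, by rw [map_mul, hx.2, hy.2, one_mul]⟩
  inv_mem' := fun {x} hx => by
    obtain ⟨h1, h2⟩ := hx
    exact ⟨by rw [← mul_inv_rev, h1, inv_one], by rw [Equiv.Perm.sign_inv, h2]⟩

instance : klein.Normal := ⟨fun x hx g => by
  obtain ⟨h1, h2⟩ := hx
  refine ⟨?_, ?_⟩
  · rw [show g * x * g⁻¹ * (g * x * g⁻¹) = g * (x * x) * g⁻¹ by group, h1, mul_one, mul_inv_cancel]
  · rw [map_mul, map_mul, h2, Equiv.Perm.sign_inv, mul_one, Int.units_mul_self]⟩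

theorem card_klein : Nat.card klein = 4 := by
  rw [show Nat.card klein = Nat.card {p : Equiv.Perm (Fin 4) // p * p = 1 ∧ Equiv.Perm.sign p = 1}
    from rfl, Nat.card_eq_fintype_card]
  decide +kernel

/-- A double cover of `S₄` with an involution over a transposition and none over the four-group is
`GL(2, 3)`. -/
theorem gl_two_three_of_cover {C : Type*} [Group C] [Finite C] {z : C} (hz1 : z ≠ 1)
    (hz2 : z * z = 1) (hzc : ∀ c : C, c * z = z * c) (f : C →* Equiv.Perm (Fin 4))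
    (hf : Function.Surjective f) (hker : ∀ c : C, f c = 1 ↔ c = 1 ∨ c = z) {x : C} (hx : x * x = 1)
    (hodd : Equiv.Perm.sign (f x) = -1) (hV : ∀ y : C, f y ∈ klein → f y ≠ 1 → y * y ≠ 1) :
    Nonempty (C ≃* GL (Fin 2) (ZMod 3)) := by
  classical
  have hk2 : Nat.card f.ker = 2 := by
    rw [Nat.card_eq_two_iff]
    refine ⟨1, ⟨z, (hker z).2 (Or.inr rfl)⟩, fun e => hz1 (congrArg Subtype.val e).symm, ?_⟩
    ext ⟨c, hc⟩
    simpa [Subtype.ext_iff] using (hker c).1 hc
  set Q := klein.comap f with hQ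
  haveI : Q.Normal := inferInstance
  have h48 : Nat.card C = 48 := by
    rw [Subgroup.card_eq_card_quotient_mul_card_subgroup f.ker,
      Nat.card_congr (QuotientGroup.quotientKerEquivOfSurjective f hf).toEquiv, hk2,
      Nat.card_perm, Nat.card_fin]
    rfl
  have hQ8 : Nat.card Q = 8 := by
    have h := Subgroup.card_eq_card_quotient_mul_card_subgroup (f.comp Q.subtype).ker
    rw [Nat.card_congr (QuotientGroup.quotientKerEquivRange (f.comp Q.subtype)).toEquiv] at h
    have hr : (f.comp Q.subtype).range = klein := by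
      rw [MonoidHom.range_comp, Subgroup.range_subtype, hQ,
        Subgroup.map_comap_eq_self_of_surjective hf]
    have hk : Nat.card (f.comp Q.subtype).ker = 2 := by
      rw [← hk2]
      refine Nat.card_congr ⟨fun c => ⟨(c.1 : C), MonoidHom.mem_ker.2 (MonoidHom.mem_ker.1 c.2 :)⟩,
        fun c => ⟨⟨c.1, Subgroup.mem_comap.2 (by rw [MonoidHom.mem_ker.1 c.2]; exact one_mem _)⟩,
          MonoidHom.mem_ker.2 (MonoidHom.mem_ker.1 c.2 :)⟩, fun c => rfl, fun c => rfl⟩
    rw [hr, card_klein, hk] at h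
    exact h
  have hu : ∃ u v : Equiv.Perm (Fin 4), u ∈ klein ∧ v ∈ klein ∧ u ≠ 1 ∧ v ≠ 1 ∧ u * v ≠ 1 ∧
      u * v = v * u ∧ ∀ w : Equiv.Perm (Fin 4), u * w = w * u → v * w = w * v → w ∈ klein := by
    have h : ∃ u v : Equiv.Perm (Fin 4), (u * u = 1 ∧ Equiv.Perm.sign u = 1) ∧
        (v * v = 1 ∧ Equiv.Perm.sign v = 1) ∧ u ≠ 1 ∧ v ≠ 1 ∧ u * v ≠ 1 ∧ u * v = v * u ∧
        ∀ w : Equiv.Perm (Fin 4), u * w = w * u → v * w = w * v →
          w * w = 1 ∧ Equiv.Perm.sign w = 1 :=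
      ⟨Equiv.swap 0 1 * Equiv.swap 2 3, Equiv.swap 0 2 * Equiv.swap 1 3, by decide +kernel⟩
    exact h
  obtain ⟨u, v, hu, hv, hu1, hv1, huv1, huv, hcen⟩ := hu
  obtain ⟨a, ha⟩ := hf u
  obtain ⟨b, hb⟩ := hf v
  have hsq : ∀ y : C, f y ∈ klein → f y ≠ 1 → y * y = z := by
    intro y hy hy1
    rcases (hker (y * y)).1 (by rw [map_mul]; exact hy.1) with e | e
    · exact absurd e (hV y hy hy1)
    · exact e
  have ha2 : a * a = z := hsq a (ha ▸ hu) (ha ▸ hu1)
  have hb2 : b * b = z := hsq b (hb ▸ hv) (hb ▸ hv1)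
  have hab2 : a * b * (a * b) = z :=
    hsq (a * b) (by rw [map_mul, ha, hb]; exact mul_mem hu hv) (by rw [map_mul, ha, hb]; exact huv1)
  have hinv : b * a * b⁻¹ = a⁻¹ := by
    rcases (hker (b * a * b⁻¹ * a⁻¹)).1 (by
      rw [map_mul, map_mul, map_mul, map_inv, map_inv, ha, hb, ← huv, mul_inv_cancel_right,
        mul_inv_cancel]) with e | e
    · exfalso
      have hba : b * a = a * b := by rwa [mul_inv_eq_one, mul_inv_eq_iff_eq_mul] at e
      refine hz1 ?_
      calc z = a * b * (a * b) := hab2.symm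
        _ = a * (b * a) * b := by group
        _ = a * a * (b * b) := by rw [hba]; group
        _ = 1 := by rw [ha2, hb2, hz2]
    · have hzi : z = z⁻¹ := eq_inv_of_mul_eq_one_left hz2
      calc b * a * b⁻¹ = z * a := by rw [← e]; group
        _ = z⁻¹ * a := by rw [← hzi]
        _ = (a * a)⁻¹ * a := by rw [ha2]
        _ = a⁻¹ := by group
  have hao : orderOf a = 2 * 2 := by
    have := orderOf_eq_prime_pow (x := a) (p := 2) (n := 1) (hfin := ?_) (hnot := ?_)
    · simpa using this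
    · rw [show 2 ^ 1 = 2 by rfl, pow_two, ha2]; exact hz1
    · rw [show 2 ^ (1 + 1) = 2 + 2 by rfl, pow_add, pow_two, ha2, hz2]
  have hbz : b ∉ Subgroup.zpowers a := by
    rintro ⟨n, rfl⟩
    refine hz1 ?_
    calc z = a * a ^ n * (a * a ^ n) := hab2.symm
      _ = a * a * (a ^ n * a ^ n) := by
        rw [show a * a ^ n * (a * a ^ n) = a * (a ^ n * a) * a ^ n by group,
          (Commute.refl a).zpow_left n |>.eq]
        group
      _ = 1 := by rw [ha2, hb2, hz2]
  obtain ⟨e⟩ := Cfsg.Lib.TwoGroup.equiv_quaternion hao (by rw [hb2, pow_two, ha2]) hinv hbz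
  have hcl : Subgroup.closure ({a, b} : Set C) = Q := by
    refine Subgroup.eq_of_le_of_card_ge ((Subgroup.closure_le _).2 ?_) ?_
    · rintro y (rfl | hy)
      · exact Subgroup.mem_comap.2 (ha ▸ hu)
      · rw [Set.mem_singleton_iff] at hy
        subst hy
        exact Subgroup.mem_comap.2 (hb ▸ hv)
    · rw [hQ8, Nat.card_congr e.toEquiv, Cfsg.Lib.TwoGroup.card_quaternion (by norm_num)]
  refine Cfsg.Lib.Small.RepSymFour.iso_gl h48 Q ((MulEquiv.subgroupCongr hcl.symm).trans e) ?_ x hx ?_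
  · intro y hy
    rw [Subgroup.mem_centralizer_iff] at hy
    refine Subgroup.mem_comap.2 (hcen _ ?_ ?_)
    · rw [← ha, ← map_mul, ← map_mul, hy a (Subgroup.mem_comap.2 (ha ▸ hu))]
    · rw [← hb, ← map_mul, ← map_mul, hy b (Subgroup.mem_comap.2 (hb ▸ hv))]
  · intro h
    have := (Subgroup.mem_comap.1 h).2
    rw [hodd] at this
    exact absurd this (by decide)

end Cfsg.Lib.Linear.Mitchell
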