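import Cfsg.Agent.Lib.Linear.Mitchell.CoreBasic
import Cfsg.Agent.Lib.Linear.Aschbacher.Basic

/-!
# Representations with equal traces, and invariant forms

An absolutely irreducible subgroup of `GL₃` and a representation of it with the same traces are
conjugate.  Hence, if `tr g⁻¹ = σ (tr g)` on such a group for a field automorphism `σ` with `σ² = 1`,
the group fixes a quadratic form (`σ = 1`, odd characteristic) or a unitary form.
-/

set_option autoImplicit false

namespace Cfsg.Lib.Linear.Mitchell

open Cfsg.Geo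
open scoped Matrix MatrixGroups

variable {F : Type*} [Field F] [Finite F] {P : Subgroup (GL (Fin 3) F)}

theorem exists_intertwiner (hP : ActsAbsolutelyIrreducibly (matrixSet P)) (ρ : P →* GL (Fin 3) F)
    (ht : ∀ x : P, (ρ x).val.trace = (x : GL (Fin 3) F).val.trace) :
    ∃ B : GL (Fin 3) F, ∀ x : P, (ρ x).val * B.val = B.val * (x : GL (Fin 3) F).val := by
  classical
  -- the two maps from finitely supported functions
  let S := Finsupp.linearCombination F (fun x : P => (x : GL (Fin 3) F).val)
  let R := Finsupp.linearCombination F (fun x : P => (ρ x).val)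
  have hS : Function.Surjective S := by
    rw [← LinearMap.range_eq_top, Finsupp.range_linearCombination]
    rw [← Cfsg.Lib.Linear.Asch.span_eq_top hP]
    congr 1
    ext M
    simp [matrixSet]
  have hS1 : ∀ x : P, S (Finsupp.single x 1) = (x : GL (Fin 3) F).val := fun x => by simp [S]
  have hR1 : ∀ x : P, R (Finsupp.single x 1) = (ρ x).val := fun x => by simp [R]
  have htr : ∀ (c : P →₀ F) (y : P),
      (R c * (ρ y).val).trace = (S c * (y : GL (Fin 3) F).val).trace := by
    intro c y
    simp only [S, R, Finsupp.linearCombination_apply, Finsupp.sum, Matrix.sum_mul, Matrix.trace_sum,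
      Matrix.smul_mul, Matrix.trace_smul]
    refine Finset.sum_congr rfl fun x _ => ?_
    rw [← Units.val_mul, ← map_mul, ht, Subgroup.coe_mul, Units.val_mul]
  have hker : LinearMap.ker R ≤ LinearMap.ker S := by
    intro c hc
    rw [LinearMap.mem_ker] at hc ⊢
    have h0 : ∀ N : Matrix (Fin 3) (Fin 3) F, (S c * N).trace = 0 := fun N => by
      obtain ⟨d, rfl⟩ := hS N
      induction d using Finsupp.induction_linear with
      | zero => simp
      | add a b ha hb => rw [map_add, mul_add, Matrix.trace_add, ha, hb, add_zero]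
      | single x r =>
        have := htr c x
        rw [hc, zero_mul, Matrix.trace_zero] at this
        simp [S, Matrix.trace_smul, ← this]
    ext i j
    simpa [Matrix.trace_mul_single] using h0 (Matrix.single j i 1)
  -- `ρ` also spans, so the kernels agree
  have hdim : LinearMap.ker S ≤ LinearMap.ker R := by
    have e1 := LinearMap.finrank_range_add_finrank_ker S
    have e2 := LinearMap.finrank_range_add_finrank_ker R
    have hle := Submodule.finrank_mono hker
    have hr : Module.finrank F (LinearMap.range R) ≤ Module.finrank F (LinearMap.range S) := by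
      rw [LinearMap.range_eq_top.2 hS, finrank_top]
      exact Submodule.finrank_le _
    haveI : Finite P := inferInstance
    exact (Submodule.eq_of_le_of_finrank_le hker (by omega)).ge
  let inv : Matrix (Fin 3) (Fin 3) F → (P →₀ F) := Function.surjInv hS
  have hinv : ∀ M, S (inv M) = M := Function.surjInv_eq hS
  let L : Matrix (Fin 3) (Fin 3) F → Matrix (Fin 3) (Fin 3) F := fun M => R (inv M)
  have hL : ∀ c, L (S c) = R c := fun c => by
    have : inv (S c) - c ∈ LinearMap.ker R :=
      hdim (by rw [LinearMap.mem_ker, map_sub, hinv, sub_self])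
    rwa [LinearMap.mem_ker, map_sub, sub_eq_zero] at this
  have hLadd : ∀ M N, L (M + N) = L M + L N := fun M N => by
    nth_rewrite 1 [← hinv M, ← hinv N]
    rw [← map_add, hL, map_add]
  have hLsmul : ∀ (r : F) M, L (r • M) = r • L M := fun r M => by
    nth_rewrite 1 [← hinv M]
    rw [← map_smul, hL, map_smul]
  have hLx : ∀ x : P, L (x : GL (Fin 3) F).val = (ρ x).val := fun x => by rw [← hS1, hL, hR1]
  have hmul : ∀ M N, L (M * N) = L M * L N := by
    have hxy : ∀ (x : P) (d : P →₀ F), L ((x : GL (Fin 3) F).val * S d) = (ρ x).val * L (S d) := by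
      intro x d
      induction d using Finsupp.induction_linear with
      | zero =>
        have h0 : L 0 = 0 := by
          have := hLsmul 0 0
          rwa [zero_smul, zero_smul] at this
        rw [map_zero, mul_zero, h0, mul_zero]
      | add a b ha hb => rw [map_add, mul_add, hLadd, ha, hb, hLadd, mul_add]
      | single y r =>
        rw [show S (Finsupp.single y r) = r • (y : GL (Fin 3) F).val by simp [S], Matrix.mul_smul,
          hLsmul, hLsmul, ← Units.val_mul, ← Subgroup.coe_mul, hLx, hLx, map_mul, Units.val_mul,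
          Matrix.mul_smul]
    intro M N
    obtain ⟨c, rfl⟩ := hS M
    obtain ⟨d, rfl⟩ := hS N
    induction c using Finsupp.induction_linear with
    | zero =>
      have h0 : L 0 = 0 := by
        have := hLsmul 0 0
        rwa [zero_smul, zero_smul] at this
      rw [map_zero, zero_mul, h0, zero_mul]
    | add a b ha hb => rw [map_add, add_mul, hLadd, ha, hb, hLadd, add_mul]
    | single x r =>
      rw [show S (Finsupp.single x r) = r • (x : GL (Fin 3) F).val by simp [S], Matrix.smul_mul,
        hLsmul, hLsmul, hxy, hLx, Matrix.smul_mul]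
  have hL0 : ∀ M, L M = 0 → M = 0 := fun M h => by
    have : inv M ∈ LinearMap.ker S := hker h
    rwa [LinearMap.mem_ker, hinv] at this
  -- the matrix units
  set E : Fin 3 → Fin 3 → Matrix (Fin 3) (Fin 3) F := fun i j => L (Matrix.single i j 1) with hE
  have hEE : ∀ i j k l, E i j * E k l = if j = k then E i l else 0 := by
    intro i j k l
    rw [hE]
    simp only
    rw [← hmul]
    split_ifs with h
    · subst h; rw [Matrix.single_mul_single_same, mul_one]
    · rw [Matrix.single_mul_single_of_ne _ _ _ _ h]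
      have := hLsmul 0 0
      rwa [zero_smul, zero_smul] at this
  obtain ⟨u, hu⟩ : ∃ u, E 0 0 *ᵥ u ≠ 0 := by
    by_contra h
    push Not at h
    have e : E 0 0 = 0 := Matrix.toLin'.injective (LinearMap.ext fun u => by simp [h u])
    have := congrFun (congrFun (hL0 _ e) 0) 0
    simp at this
  set B : Matrix (Fin 3) (Fin 3) F := Matrix.of fun r i => (E i 0 *ᵥ u) r with hB
  have hBv : ∀ c : Fin 3 → F, B *ᵥ c = ∑ i, c i • (E i 0 *ᵥ u) := fun c => by
    funext r
    simp [hB, Matrix.mulVec, dotProduct, Finset.sum_apply, mul_comm]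
  have hdet : B.det ≠ 0 := by
    intro hd
    obtain ⟨c, hc0, hc⟩ := Matrix.exists_mulVec_eq_zero_iff.2 hd
    refine hc0 (funext fun j => ?_)
    rw [hBv] at hc
    have h := congrArg (E 0 j *ᵥ ·) hc
    simp only [Matrix.mulVec_zero, Matrix.mulVec_sum, Matrix.mulVec_smul, Matrix.mulVec_mulVec, hEE,
      ite_smul, zero_smul] at h
    rw [Finset.sum_eq_single j (fun i _ hi => by rw [if_neg (Ne.symm hi), Matrix.zero_mulVec, smul_zero])
      (fun h => absurd (Finset.mem_univ j) h), if_pos rfl] at h
    exact (smul_eq_zero.1 h).resolve_right hu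
  refine ⟨Matrix.GeneralLinearGroup.mkOfDetNeZero B hdet, fun x => ?_⟩
  show (ρ x).val * B = B * (x : GL (Fin 3) F).val
  rw [← hLx]
  generalize (x : GL (Fin 3) F).val = M
  have key : ∀ k l, L (Matrix.single k l 1) * B = B * Matrix.single k l 1 := by
    intro k l
    ext r i
    have e1 : (L (Matrix.single k l 1) * B) r i = ((E k l * E i 0) *ᵥ u) r := by
      rw [← Matrix.mulVec_mulVec]; rfl
    rw [e1, hEE]
    simp only [hB, Matrix.mul_apply, Matrix.of_apply, Matrix.single_apply]
    split_ifs with h
    · subst h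
      simp
    · simp [h]
  have hM : M = ∑ k, ∑ l, M k l • Matrix.single k l (1 : F) := by
    conv_lhs => rw [Matrix.matrix_eq_sum_single M]
    simp [Matrix.smul_single]
  have hsum : ∀ (s : Finset (Fin 3)) (f : Fin 3 → Matrix (Fin 3) (Fin 3) F),
      L (∑ i ∈ s, f i) = ∑ i ∈ s, L (f i) := by
    intro s f
    induction s using Finset.induction_on with
    | empty =>
      have := hLsmul 0 0
      rw [zero_smul, zero_smul] at this
      simpa using this
    | @insert a s ha ih => rw [Finset.sum_insert ha, Finset.sum_insert ha, hLadd, ih]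
  rw [hM]
  simp only [hsum, hLsmul, Matrix.sum_mul, Matrix.mul_sum, Matrix.smul_mul, Matrix.mul_smul, key]

/-- `x ↦ σ(x⁻¹)ᵀ`. -/
noncomputable def twistDual (σ : F ≃+* F) (P : Subgroup (GL (Fin 3) F)) : P →* GL (Fin 3) F where
  toFun x := Matrix.GeneralLinearGroup.mkOfDetNeZero
    ((((x : GL (Fin 3) F)⁻¹ : GL (Fin 3) F).val.map σ).transpose) (by
      rw [Matrix.det_transpose, show ((((x : GL (Fin 3) F)⁻¹ : GL (Fin 3) F).val.map σ)).det =
        σ ((((x : GL (Fin 3) F)⁻¹ : GL (Fin 3) F).val).det) from (σ.toRingHom.map_det _).symm, map_ne_zero]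
      exact (Matrix.GeneralLinearGroup.det ((x : GL (Fin 3) F)⁻¹)).ne_zero)
  map_one' := Units.ext (by
    show ((((1 : P) : GL (Fin 3) F)⁻¹ : GL (Fin 3) F).val.map σ).transpose = 1
    rw [OneMemClass.coe_one, inv_one, Units.val_one, Matrix.map_one σ (map_zero σ) (map_one σ),
      Matrix.transpose_one])
  map_mul' x y := Units.ext (by
    show ((((x * y : P) : GL (Fin 3) F)⁻¹ : GL (Fin 3) F).val.map σ).transpose = _
    rw [Subgroup.coe_mul, mul_inv_rev, Units.val_mul, Matrix.map_mul, Matrix.transpose_mul]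
    rfl)

/-- Traces with `tr x⁻¹ = σ (tr x)` give an invertible `M` with `xᵀ M σ(x) = M`, and then
`σ(M)ᵀ` is a multiple of `M`. -/
theorem exists_gram (hP : ActsAbsolutelyIrreducibly (matrixSet P)) (σ : F ≃+* F)
    (hσ : ∀ a, σ (σ a) = a)
    (ht : ∀ x ∈ P, (x⁻¹).val.trace = σ (x.val.trace)) :
    ∃ (M : GL (Fin 3) F) (c : F), (M.val.map σ).transpose = c • M.val ∧
      ∀ x ∈ P, x.val.transpose * M.val * x.val.map σ = M.val := by
  have ht' : ∀ x : P, (twistDual σ P x).val.trace = (x : GL (Fin 3) F).val.trace := fun x => by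
    show ((((x : GL (Fin 3) F)⁻¹ : GL (Fin 3) F).val.map σ).transpose).trace = _
    rw [Matrix.trace_transpose]
    show ∑ i, σ _ = _
    rw [← map_sum]
    show σ ((x : GL (Fin 3) F)⁻¹).val.trace = _
    rw [ht _ x.2, hσ]
  obtain ⟨B, hB⟩ := exists_intertwiner hP (twistDual σ P) ht'
  have hinv : ∀ x ∈ P, x.val.transpose * B.val.transpose * x.val.map σ = B.val.transpose := by
    intro x hx
    have h := hB ⟨x, hx⟩
    have h' : ((x⁻¹).val.map σ).transpose * B.val = B.val * x.val := h
    have h'' : (x.val.map σ).transpose * (((x⁻¹).val.map σ).transpose * B.val) =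
        (x.val.map σ).transpose * (B.val * x.val) := by rw [h']
    rw [← mul_assoc, ← Matrix.transpose_mul, ← Matrix.map_mul, Units.inv_mul,
      Matrix.map_one σ (map_zero σ) (map_one σ), Matrix.transpose_one, one_mul] at h''
    conv_rhs => rw [h'']
    simp only [Matrix.transpose_mul, Matrix.transpose_transpose, mul_assoc]
  set T := (B.val.transpose.map σ).transpose with hT
  have hT' : ∀ x ∈ P, x.val.transpose * T * x.val.map σ = T := by
    intro x hx
    have h := congrArg (fun M => (M.map σ).transpose) (hinv x hx)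
    simp only [Matrix.map_mul, Matrix.transpose_mul, Matrix.map_map, Matrix.transpose_map,
      Matrix.transpose_transpose] at h
    have hid : x.val.map (⇑σ ∘ ⇑σ) = x.val := by ext i j; simp [hσ]
    rw [hid] at h
    rw [hT]
    simp only [Matrix.transpose_map, Matrix.transpose_transpose]
    rw [mul_assoc]
    exact h
  have hdet : B.val.transpose.det ≠ 0 := by
    rw [Matrix.det_transpose]; exact (Matrix.GeneralLinearGroup.det B).ne_zero
  set M := Matrix.GeneralLinearGroup.mkOfDetNeZero B.val.transpose hdet with hM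
  obtain ⟨c, hc⟩ := hP.2 (M⁻¹.val * T) (by
    rintro _ ⟨x, hx, rfl⟩
    have e1 : x.val.transpose * M.val * x.val.map σ = M.val := hinv x hx
    have e2 := hT' x hx
    -- `(M⁻¹ T)` commutes with `σ(x)`, apply `σ`
    have hcomm : ∀ y ∈ P, (M⁻¹.val * T) * y.val.map σ = y.val.map σ * (M⁻¹.val * T) := by
      intro y hy
      have f1 : y.val.transpose * M.val * y.val.map σ = M.val := hinv y hy
      have f2 := hT' y hy
      have hdy : IsUnit (y.val.transpose) := by
        rw [Matrix.isUnit_iff_isUnit_det, Matrix.det_transpose]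
        exact (Matrix.GeneralLinearGroup.det y).isUnit
      have g1 : y.val.transpose * (T * y.val.map σ) = y.val.transpose * (M.val * (y.val.map σ * (M⁻¹.val * T))) := by
        rw [← mul_assoc _ T, f2, ← mul_assoc M.val, ← mul_assoc y.val.transpose, ← mul_assoc _ M.val,
          f1, ← mul_assoc M.val, Units.mul_inv, one_mul]
      rw [mul_assoc, hdy.mul_left_cancel g1, ← mul_assoc M⁻¹.val, Units.inv_mul, one_mul]
    have hσP : ∃ d : F, M⁻¹.val * T = d • 1 := by
      obtain ⟨d, hd⟩ := hP.2 ((M⁻¹.val * T).map σ) (by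
        rintro _ ⟨y, hy, rfl⟩
        have := congrArg (fun N => N.map σ) (hcomm y hy)
        simp only [Matrix.map_mul, Matrix.map_map] at this
        have hid : y.val.map (⇑σ ∘ ⇑σ) = y.val := by ext i j; simp [hσ]
        rw [hid] at this
        rw [Matrix.map_mul]
        exact this)
      refine ⟨σ d, ?_⟩
      have := congrArg (fun N => N.map σ) hd
      simp only [Matrix.map_map] at this
      ext i j
      have hij := congrFun (congrFun this i) j
      simp only [Matrix.map_apply, Function.comp_apply, hσ, Matrix.smul_apply, smul_eq_mul, map_mul] at hij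
      rw [hij, Matrix.smul_apply, smul_eq_mul]
      congr 1
      by_cases h : i = j <;> simp [Matrix.one_apply, h]
    obtain ⟨d, hd⟩ := hσP
    rw [hd, Matrix.smul_mul, one_mul, Matrix.mul_smul, mul_one])
  refine ⟨M, c, ?_, hinv⟩
  have : M.val * (M⁻¹.val * T) = M.val * (c • 1) := by rw [hc]
  rw [← mul_assoc, Units.mul_inv, one_mul, Matrix.mul_smul, mul_one] at this
  exact this

/-- Real traces give a quadratic form. -/
theorem exists_quad_of_trace (h2 : (2 : F) ≠ 0) (hP : ActsAbsolutelyIrreducibly (matrixSet P))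
    (ht : ∀ x ∈ P, (x⁻¹).val.trace = x.val.trace) :
    ∃ Q : (Fin 3 → F) → F, IsNondegenerateQuadraticForm Q ∧ FixesQuadForm (matrixSet P) Q := by
  obtain ⟨M, c, hc, hM⟩ := exists_gram hP (RingEquiv.refl F) (fun _ => rfl) ht
  have hid : ∀ A : Matrix (Fin 3) (Fin 3) F, A.map (RingEquiv.refl F) = A := fun A => by ext; rfl
  rw [hid] at hc
  have hdM : M.val.det ≠ 0 := (Matrix.GeneralLinearGroup.det M).ne_zero
  have hc1 : c = 1 := by
    have hd := congrArg Matrix.det hc
    rw [Matrix.det_transpose, Matrix.det_smul, Fintype.card_fin] at hd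
    have h3 : c ^ 3 = 1 := mul_right_cancel₀ hdM (by rw [one_mul, ← hd])
    have hcc : c * c = 1 := by
      have := congrArg Matrix.transpose hc
      rw [Matrix.transpose_transpose, Matrix.transpose_smul, hc, smul_smul] at this
      have hd' := congrArg Matrix.det this
      rw [Matrix.det_smul, Fintype.card_fin] at hd'
      have h6 : (c * c) ^ 3 = 1 := mul_right_cancel₀ hdM (by rw [one_mul, ← hd'])
      obtain ⟨i, j, hij⟩ : ∃ i j, M.val i j ≠ 0 := by
        by_contra h
        push Not at h
        exact hdM (by rw [show M.val = 0 from Matrix.ext h, Matrix.det_zero])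
      have e := congrFun (congrFun this i) j
      simp at e
      exact mul_right_cancel₀ hij (by rw [one_mul, ← e])
    linear_combination h3 - c * hcc
  rw [hc1, one_smul] at hc
  have hs : ∀ u v : Fin 3 → F, u ⬝ᵥ (M.val *ᵥ v) = v ⬝ᵥ (M.val *ᵥ u) := fun u v => by
    rw [Matrix.dotProduct_mulVec, ← Matrix.mulVec_transpose, hc, dotProduct_comm]
  set Qf : (Fin 3 → F) → F := fun v => v ⬝ᵥ (M.val *ᵥ v) with hQ
  have hpol : ∀ u v, QuadraticMap.polar Qf u v = 2 * (u ⬝ᵥ (M.val *ᵥ v)) := fun u v => by
    simp only [QuadraticMap.polar, hQ, Matrix.mulVec_add, dotProduct_add, add_dotProduct, hs v u]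
    ring
  refine ⟨Qf, ⟨fun a v => ?_, ⟨?_, ?_, ?_, ?_⟩, ?_⟩, ?_⟩
  · simp only [hQ, Matrix.mulVec_smul, dotProduct_smul, smul_dotProduct, smul_eq_mul]
    ring
  · intro x y v; simp only [hpol, add_dotProduct]; ring
  · intro a x v; simp only [hpol, smul_dotProduct, smul_eq_mul]; ring
  · intro v x y; simp only [hpol, Matrix.mulVec_add, dotProduct_add]; ring
  · intro a v x; simp only [hpol, Matrix.mulVec_smul, dotProduct_smul, smul_eq_mul]; ring
  · intro v hv
    obtain ⟨i, hi⟩ : ∃ i, (M.val *ᵥ v) i ≠ 0 := by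
      by_contra h
      push Not at h
      refine hv ?_
      rw [← Matrix.one_mulVec v, ← Units.inv_mul M, ← Matrix.mulVec_mulVec,
        show M.val *ᵥ v = 0 from funext h, Matrix.mulVec_zero]
    refine ⟨⟨Pi.single i 1, ?_⟩, ⟨Pi.single i 1, ?_⟩⟩
    · rw [hpol, single_dotProduct, one_mul]; exact mul_ne_zero h2 hi
    · rw [hpol, hs, single_dotProduct, one_mul]; exact mul_ne_zero h2 hi
  · rintro _ ⟨x, hx, rfl⟩ v
    show (x.val *ᵥ v) ⬝ᵥ (M.val *ᵥ (x.val *ᵥ v)) = v ⬝ᵥ (M.val *ᵥ v)
    have h := hM x hx
    rw [hid] at h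
    conv_rhs => rw [← h]
    rw [← Matrix.mulVec_mulVec, ← Matrix.mulVec_mulVec, Matrix.dotProduct_mulVec v,
      Matrix.vecMul_transpose]

/-- Conjugate traces give a unitary form. -/
theorem exists_unitary_of_trace (hP : ActsAbsolutelyIrreducibly (matrixSet P)) (σ : F ≃+* F)
    (hne : σ ≠ RingEquiv.refl F) (hσ : ∀ a, σ (σ a) = a)
    (ht : ∀ x ∈ P, (x⁻¹).val.trace = σ (x.val.trace)) :
    ∃ f : (Fin 3 → F) → (Fin 3 → F) → F, IsUnitaryForm σ f ∧ FixesForm (matrixSet P) f := by
  obtain ⟨M, c, hc, hM⟩ := exists_gram hP σ hσ ht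
  have hdM : M.val.det ≠ 0 := (Matrix.GeneralLinearGroup.det M).ne_zero
  obtain ⟨i, j, hij⟩ : ∃ i j, M.val i j ≠ 0 := by
    by_contra h
    push Not at h
    exact hdM (by rw [show M.val = 0 from Matrix.ext h, Matrix.det_zero])
  have hcM : ∀ i j, σ (M.val j i) = c * M.val i j := fun i j => by
    simpa using congrFun (congrFun hc i) j
  have hcc : σ c * c = 1 := by
    have h1 := congrArg σ (hcM i j)
    rw [hσ, map_mul, hcM j i] at h1
    refine mul_right_cancel₀ (b := M.val j i) (fun e => hij ?_) (by linear_combination -h1)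
    have := hcM i j
    rw [e, map_zero, eq_comm, mul_eq_zero] at this
    exact this.resolve_left fun e' => by simp [e'] at hc hcM; exact hij (by
      have := hcM j i
      simpa using this)
  obtain ⟨d, hd0, hd⟩ : ∃ d : F, d ≠ 0 ∧ σ d * c = d := by
    by_cases h : c = -1
    · obtain ⟨θ, hθ⟩ : ∃ θ, σ θ ≠ θ := by
        by_contra hh
        push Not at hh
        exact hne (RingEquiv.ext hh)
      refine ⟨θ - σ θ, sub_ne_zero.2 (Ne.symm hθ), ?_⟩
      rw [map_sub, hσ, h]; ring
    · refine ⟨1 + c, fun e => h (eq_neg_of_add_eq_zero_right e), ?_⟩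
      rw [map_add, map_one]; linear_combination hcc
  set M' := d • M.val with hM'
  have hherm : ∀ i j, σ (M' j i) = M' i j := fun i j => by
    simp only [hM', Matrix.smul_apply, smul_eq_mul, map_mul, hcM]
    linear_combination M.val i j * hd
  refine ⟨fun u v => u ⬝ᵥ (M' *ᵥ fun k => σ (v k)),
    ⟨hne, hσ, ?_, ?_, ?_, ?_⟩, ?_⟩
  · intro x y v; simp only [add_dotProduct]
  · intro a x v; simp only [smul_dotProduct, smul_eq_mul]
  · intro v w
    simp only [dotProduct, Matrix.mulVec, map_sum, map_mul, hσ, Finset.mul_sum]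
    rw [Finset.sum_comm]
    refine Finset.sum_congr rfl fun a _ => Finset.sum_congr rfl fun b _ => ?_
    rw [hherm b a]
    ring
  · intro v hv
    have hne0 : ∀ w : Fin 3 → F, w ≠ 0 → M' *ᵥ w ≠ 0 := fun w hw e => hw (by
      rw [hM', Matrix.smul_mulVec, smul_eq_zero] at e
      rw [← Matrix.one_mulVec w, ← Units.inv_mul M, ← Matrix.mulVec_mulVec, e.resolve_left hd0,
        Matrix.mulVec_zero])
    have hσv : (fun k => σ (v k)) ≠ 0 := fun e => hv (funext fun k => by
      simpa using congrFun e k)
    obtain ⟨k, hk⟩ := Function.ne_iff.1 (hne0 _ hσv)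
    refine ⟨⟨Pi.single k 1, ?_⟩, ⟨Pi.single k 1, ?_⟩⟩
    · show Pi.single k 1 ⬝ᵥ _ ≠ 0
      rw [single_dotProduct, one_mul]; exact hk
    · show v ⬝ᵥ _ ≠ 0
      intro e
      refine hk ?_
      show (M' *ᵥ fun k => σ (v k)) k = 0
      have e' := congrArg σ e
      simp only [dotProduct, Matrix.mulVec, map_sum, map_mul, map_zero, Finset.mul_sum] at e'
      simp only [Pi.single_apply, apply_ite σ, map_one, map_zero, mul_ite, mul_one, mul_zero,
        Finset.sum_ite_eq', Finset.mem_univ, if_true, hσ] at e'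
      simp only [Matrix.mulVec, dotProduct]
      rw [← e']
      refine Finset.sum_congr rfl fun a _ => ?_
      rw [hherm k a]
      ring
  · rintro _ ⟨x, hx, rfl⟩ u v
    show (x.val *ᵥ u) ⬝ᵥ (M' *ᵥ fun k => σ ((x.val *ᵥ v) k)) = u ⬝ᵥ (M' *ᵥ fun k => σ (v k))
    have hσv : (fun k => σ ((x.val *ᵥ v) k)) = x.val.map σ *ᵥ fun k => σ (v k) := by
      funext k
      simp [Matrix.mulVec, dotProduct, map_sum]
    rw [hσv]
    have h : x.val.transpose * M' * x.val.map σ = M' := by
      rw [hM', Matrix.mul_smul, Matrix.smul_mul, hM x hx]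
    conv_rhs => rw [← h]
    rw [← Matrix.mulVec_mulVec, ← Matrix.mulVec_mulVec, Matrix.dotProduct_mulVec u,
      Matrix.vecMul_transpose]

end Cfsg.Lib.Linear.Mitchell
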