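import Cfsg.Agent.Lib.Linear.Mitchell.CoreBasic
import Cfsg.Agent.Lib.Fusion.Basic

/-!
# The centraliser of an involution in a group without transvections

For an involution `t` with frame `Q`, the centraliser of `t` in `P` is the group `K` of `2 × 2`
matrices `A` with `diag(A, det A⁻¹)` in the conjugated group.  If its image in `PGL₂` is cyclic or
dihedral the centraliser has a normal 2-complement; otherwise the image is `A₄`, `S₄` or `A₅`, the
scalars of `K` contain no square root of `-1`, and no involution of `K` has image with even sign.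
-/

set_option autoImplicit false

namespace Cfsg.Lib.Linear.Mitchell

open Cfsg.Geo
open Cfsg.Lib.Linear.TVec
open scoped Matrix MatrixGroups

variable {F : Type*} [Field F]

/-- The matrix `diag(A, det A⁻¹)`. -/
def embMat (A : Matrix (Fin 2) (Fin 2) F) : Matrix (Fin 3) (Fin 3) F :=
  !![A 0 0, A 0 1, 0; A 1 0, A 1 1, 0; 0, 0, A.det⁻¹]

theorem embMat_mul (A B : Matrix (Fin 2) (Fin 2) F) : embMat (A * B) = embMat A * embMat B := by
  rw [embMat, embMat, embMat, Matrix.det_mul, mul_inv]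
  ext i j
  fin_cases i <;> fin_cases j <;>
    simp [Matrix.mul_apply, Fin.sum_univ_three, Fin.sum_univ_two]

/-- `A ↦ diag(A, det A⁻¹)`. -/
def emb : GL (Fin 2) F →* GL (Fin 3) F where
  toFun A := Matrix.GeneralLinearGroup.mkOfDetNeZero (embMat A.val) (by
      have h := (Matrix.GeneralLinearGroup.det A).ne_zero
      rw [Matrix.GeneralLinearGroup.val_det_apply] at h
      have e : (embMat A.val).det = A.val.det * A.val.det⁻¹ := by
        rw [embMat]
        generalize hd : A.val.det = d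
        rw [← hd]
        conv_rhs => rw [Matrix.det_fin_two]
        simp [Matrix.det_fin_three, Matrix.det_fin_two]
        ring
      rw [e]
      exact mul_ne_zero h (inv_ne_zero h))
  map_one' := Units.ext (by
    show embMat ((1 : GL (Fin 2) F) : Matrix (Fin 2) (Fin 2) F) = 1
    rw [Units.val_one, embMat, Matrix.det_one, inv_one]
    ext i j
    fin_cases i <;> fin_cases j <;> simp)
  map_mul' A B := Units.ext (by
    show embMat ((A * B : GL (Fin 2) F) : Matrix (Fin 2) (Fin 2) F) = embMat A.val * embMat B.val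
    rw [Units.val_mul, embMat_mul])

theorem emb_val (A : GL (Fin 2) F) :
    (emb A).val = !![A.val 0 0, A.val 0 1, 0; A.val 1 0, A.val 1 1, 0; 0, 0, A.val.det⁻¹] := rfl

theorem emb_injective : Function.Injective (emb : GL (Fin 2) F →* GL (Fin 3) F) := by
  intro A B e
  have e' : (emb A).val = (emb B).val := congrArg Units.val e
  have h00 := congrFun (congrFun e' 0) 0
  have h01 := congrFun (congrFun e' 0) 1
  have h10 := congrFun (congrFun e' 1) 0
  have h11 := congrFun (congrFun e' 1) 1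
  simp [emb_val] at h00 h01 h10 h11
  apply Units.ext
  ext i j
  fin_cases i <;> fin_cases j <;> assumption

theorem emb_flip_commute (A : GL (Fin 2) F) :
    (emb A).val * flipMat = flipMat * (emb A).val := by
  ext i j
  fin_cases i <;> fin_cases j <;> simp [emb_val, flipMat, Matrix.mul_apply, Fin.sum_univ_three]

theorem exists_emb (h2 : (2 : F) ≠ 0) {g : GL (Fin 3) F} (hd : g.val.det = 1)
    (hc : g.val * flipMat = flipMat * g.val) : ∃ A, emb A = g := by
  have h := fun i j => congrFun (congrFun hc i) j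
  have a1 := h 0 2
  have a2 := h 1 2
  have a3 := h 2 0
  have a4 := h 2 1
  simp [flipMat, Matrix.mul_apply, Fin.sum_univ_three] at a1 a2 a3 a4
  have z : ∀ {x : F}, x = -x → x = 0 := fun {x} e => by
    have : (2 : F) * x = 0 := by linear_combination e
    exact (mul_eq_zero.1 this).resolve_left h2
  have b1 : g.val 0 2 = 0 := z (by linear_combination a1)
  have b2 : g.val 1 2 = 0 := z (by linear_combination a2)
  have b3 : g.val 2 0 = 0 := z (by linear_combination -a3)
  have b4 : g.val 2 1 = 0 := z (by linear_combination -a4)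
  have hdet : (g.val 0 0 * g.val 1 1 - g.val 0 1 * g.val 1 0) * g.val 2 2 = 1 := by
    rw [← hd, Matrix.det_fin_three, b1, b2, b3, b4]
    ring
  refine ⟨Matrix.GeneralLinearGroup.mkOfDetNeZero
    !![g.val 0 0, g.val 0 1; g.val 1 0, g.val 1 1] (by
      rw [Matrix.det_fin_two]
      simpa using left_ne_zero_of_mul_eq_one hdet), Units.ext ?_⟩
  have e22 : (g.val 0 0 * g.val 1 1 - g.val 0 1 * g.val 1 0)⁻¹ = g.val 2 2 :=
    inv_eq_of_mul_eq_one_right hdet
  ext i j
  fin_cases i <;> fin_cases j <;>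
    simp [emb_val, Matrix.GeneralLinearGroup.mkOfDetNeZero, Matrix.det_fin_two, b1, b2, b3, b4, e22]

theorem emb_eq_blk2 {A : GL (Fin 2) F} (h : A.val.det = 1) : emb A = blk2 A :=
  Units.ext (by rw [emb_val, blk2_val, h, inv_one])

/-- The group of `2 × 2` parts of the centraliser. -/
def cGroup (P : Subgroup (GL (Fin 3) F)) (Q : GL (Fin 3) F) : Subgroup (GL (Fin 2) F) :=
  (cj Q⁻¹ P).comap emb

theorem mem_cGroup {P : Subgroup (GL (Fin 3) F)} {Q : GL (Fin 3) F} {A : GL (Fin 2) F} :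
    A ∈ cGroup P Q ↔ Q * emb A * Q⁻¹ ∈ P := by
  rw [cGroup, Subgroup.mem_comap, mem_cj, inv_inv]

variable {P : Subgroup (GL (Fin 3) F)}

theorem commute_frame {Q t : GL (Fin 3) F} (hQ : (Q⁻¹ * t * Q).val = flipMat) (A : GL (Fin 2) F) :
    Commute t (Q * emb A * Q⁻¹) := by
  have h : (Q⁻¹ * t * Q) * emb A = emb A * (Q⁻¹ * t * Q) :=
    Units.ext (by
      rw [Units.val_mul _ (emb A), Units.val_mul (emb A), hQ]; exact (emb_flip_commute A).symm)
  have h' := congrArg (fun x => Q * x * Q⁻¹) h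
  simp only [mul_assoc, mul_inv_cancel_left] at h'
  simpa [Commute, SemiconjBy, mul_assoc] using h'

theorem exists_cGroup (h2 : (2 : F) ≠ 0) (hP : Core P) {Q t : GL (Fin 3) F}
    (hQ : (Q⁻¹ * t * Q).val = flipMat) {g : GL (Fin 3) F} (hg : g ∈ P) (hc : Commute t g) :
    ∃ A ∈ cGroup P Q, Q * emb A * Q⁻¹ = g := by
  have hd : (Q⁻¹ * g * Q).val.det = 1 := by
    have hq : Q⁻¹.val.det * Q.val.det = 1 := by
      rw [← Matrix.det_mul, ← Units.val_mul, inv_mul_cancel, Units.val_one, Matrix.det_one]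
    rw [Units.val_mul, Units.val_mul, Matrix.det_mul, Matrix.det_mul,
      det_val_eq_one (hP.le_sl hg), mul_one, hq]
  have hcm : (Q⁻¹ * g * Q).val * flipMat = flipMat * (Q⁻¹ * g * Q).val := by
    rw [← hQ, ← Units.val_mul, ← Units.val_mul]
    refine congrArg Units.val ?_
    calc (Q⁻¹ * g * Q) * (Q⁻¹ * t * Q) = Q⁻¹ * (g * t) * Q := by group
      _ = Q⁻¹ * (t * g) * Q := by rw [hc.eq]
      _ = (Q⁻¹ * t * Q) * (Q⁻¹ * g * Q) := by group
  obtain ⟨A, hA⟩ := exists_emb h2 hd hcm
  have e : Q * emb A * Q⁻¹ = g := by rw [hA]; group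
  exact ⟨A, mem_cGroup.2 (e ▸ hg), e⟩

theorem not_dvd_card_cGroup [Finite F] (hT : NoT P) (Q : GL (Fin 3) F) (p : ℕ) [Fact p.Prime]
    [CharP F p] : ¬ p ∣ Nat.card (cGroup P Q) := by
  intro hd
  obtain ⟨⟨g, hg⟩, ho⟩ := exists_prime_orderOf_dvd_card' p hd
  rw [Subgroup.orderOf_mk] at ho
  have hdet : g.val.det = 1 := by
    have hp : g.val.det ^ p = 1 := by
      rw [← Matrix.det_pow, ← Units.val_pow_eq_pow_val, ← ho, pow_orderOf_eq_one, Units.val_one,
        Matrix.det_one]
    have hz : (g.val.det - 1) ^ p = 0 := by rw [sub_pow_char, one_pow, hp, sub_self]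
    exact sub_eq_zero.1 (eq_zero_of_pow_eq_zero hz)
  apply not_dvd_card_comap (noT_cj hT Q⁻¹) p
  have hgm : g ∈ (cj Q⁻¹ P).comap blk2 := by
    rw [Subgroup.mem_comap, ← emb_eq_blk2 hdet]; exact hg
  rw [← ho, ← Subgroup.orderOf_mk g hgm]
  exact orderOf_dvd_natCard _

/-- A cyclic or dihedral image gives a normal 2-complement. -/
theorem complement_of_image [Finite F] (K : Subgroup (GL (Fin 2) F))
    {r : Matrix.ProjGenLinGroup (Fin 2) F}
    (hr : ∀ x ∈ K, Matrix.ProjGenLinGroup.mk (x * x) ∈ Subgroup.zpowers r) :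
    Cfsg.HasNormalPComplement 2 K := by
  haveI : Fact (Nat.Prime 2) := ⟨Nat.prime_two⟩
  obtain ⟨n, e, he, hne⟩ := Nat.exists_eq_two_pow_mul_odd (Nat.card_pos (α := K)).ne'
  obtain ⟨d, hd⟩ := he
  -- elements of odd order are squares, so they commute
  have hcomm : ∀ x y : K, x ^ e = 1 → y ^ e = 1 → x * y = y * x := by
    intro x y hx hy
    have hsq : ∀ z : K, z ^ e = 1 → z = z ^ (d + 1) * z ^ (d + 1) := fun z hz => by
      rw [← pow_add, show d + 1 + (d + 1) = e + 1 by omega, pow_succ, hz, one_mul]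
    obtain ⟨i, hi⟩ := hr _ (x ^ (d + 1)).2
    obtain ⟨j, hj⟩ := hr _ (y ^ (d + 1)).2
    rw [← Subgroup.coe_mul, ← hsq x hx] at hi
    rw [← Subgroup.coe_mul, ← hsq y hy] at hj
    simp only at hi hj
    obtain ⟨r', rfl⟩ := Matrix.ProjGenLinGroup.mk_surjective r
    rw [← map_zpow, Matrix.ProjGenLinGroup.mk_eq_mk_iff] at hi hj
    obtain ⟨u, hu⟩ := hi
    obtain ⟨w, hw⟩ := hj
    apply Subtype.ext
    rw [Subgroup.coe_mul, Subgroup.coe_mul, ← hu, ← hw]
    have hs : ∀ (u : Fˣ) (g : GL (Fin 2) F), Commute (Matrix.GeneralLinearGroup.scalar (Fin 2) u) g :=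
      fun u g => Units.ext (by
        rw [Units.val_mul, Units.val_mul, Matrix.GeneralLinearGroup.coe_scalar]
        exact Matrix.scalar_comm _ (fun z => Commute.all _ z) _)
    exact ((((Commute.refl r').zpow_zpow i j).mul_right (hs w _).symm).mul_left (hs u _)).eq
  let N : Subgroup K :=
    { carrier := {x | x ^ e = 1}
      one_mem' := one_pow _
      mul_mem' := fun {x y} hx hy => by
        show (x * y) ^ e = 1
        rw [Commute.mul_pow (hcomm x y hx hy), show x ^ e = 1 from hx, show y ^ e = 1 from hy,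
          one_mul]
      inv_mem' := fun {x} hx => by
        show x⁻¹ ^ e = 1
        rw [inv_pow, show x ^ e = 1 from hx, inv_one] }
  haveI : N.Normal := ⟨fun x hx g => by
    show (g * x * g⁻¹) ^ e = 1
    rw [conj_pow, show x ^ e = 1 from hx, mul_one, mul_inv_cancel]⟩
  refine Cfsg.Lib.Fusion.hasNormalPComplement_of_normal N ?_ ?_
  · rw [Nat.coprime_comm, Nat.Prime.coprime_iff_not_dvd Nat.prime_two]
    intro h
    obtain ⟨x, hx⟩ := exists_prime_orderOf_dvd_card' 2 h
    have hxe : (x : K) ^ e = 1 := x.2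
    have h' : orderOf x ∣ e := by
      rw [← Subgroup.orderOf_coe]; exact orderOf_dvd_of_pow_eq_one hxe
    rw [hx] at h'
    omega
  · intro q
    obtain ⟨x, rfl⟩ := QuotientGroup.mk'_surjective N q
    refine ⟨n, ?_⟩
    rw [← map_pow, QuotientGroup.mk'_apply, QuotientGroup.eq_one_iff]
    show (x ^ 2 ^ n) ^ e = 1
    rw [← pow_mul, ← hne, pow_card_eq_one']

theorem noT_mono {G G' : Subgroup (GL (Fin 3) F)} (h : G ≤ G') (hT : NoT G') : NoT G :=
  fun z a ⟨hz, hm⟩ => hT z a ⟨hz, h hm⟩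

/-- An involution of `K` other than `±1` has determinant `-1`. -/
theorem det_invol (h2 : (2 : F) ≠ 0) {A : GL (Fin 2) F} (hA : A * A = 1) (h1 : A ≠ 1)
    (hm : A.val ≠ -1) : A.val.det = -1 := by
  have hsq : A.val * A.val = 1 := by rw [← Units.val_mul, hA, Units.val_one]
  have hd : A.val.det * A.val.det = 1 := by rw [← Matrix.det_mul, hsq, Matrix.det_one]
  rcases mul_self_eq_one_iff.1 hd with e | e
  · exfalso
    have := sl_two_involution h2 (A := ⟨A.val, e⟩) (Subtype.ext hsq)
      (fun he => h1 (Units.ext (congrArg Subtype.val he)))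
    exact hm (this.trans (by ext i j; fin_cases i <;> fin_cases j <;> simp))
  · exact e

/-- The point fixed by a commuting conjugate involution lies on the axis of `t`. -/
theorem fix_orth (h2 : (2 : F) ≠ 0) {Q t g : GL (Fin 3) F}
    (hQ : (Q⁻¹ * t * Q).val = flipMat) {x : GL (Fin 2) F} (hx : Q * emb x * Q⁻¹ = g * t * g⁻¹)
    (hdet : x.val.det = -1) :
    (ev 2 ᵥ* Q⁻¹.val) ⬝ᵥ (g.val *ᵥ (Q.val *ᵥ ev 2)) = 0 := by
  set v := Q.val *ᵥ ev 2 with hv
  set φ := ev 2 ᵥ* Q⁻¹.val with hφ
  have hflip : flipMat *ᵥ (ev 2 : Fin 3 → F) = ev 2 := by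
    funext i
    fin_cases i <;> simp [flipMat, ev, Matrix.mulVec, dotProduct, Fin.sum_univ_three]
  have htv : t.val *ᵥ v = v := by
    have : t.val * Q.val = Q.val * flipMat := by
      rw [← hQ, ← Units.val_mul, ← Units.val_mul]; congr 1; group
    rw [hv, Matrix.mulVec_mulVec, this, ← Matrix.mulVec_mulVec, hflip]
  have hfix : (g * t * g⁻¹).val *ᵥ (g.val *ᵥ v) = g.val *ᵥ v := by
    rw [Matrix.mulVec_mulVec, ← Units.val_mul, inv_mul_cancel_right, Units.val_mul,
      ← Matrix.mulVec_mulVec, htv]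
  have hφt : φ ᵥ* (g * t * g⁻¹).val = -φ := by
    rw [← hx, hφ, Units.val_mul, Units.val_mul, ← Matrix.vecMul_vecMul, ← Matrix.vecMul_vecMul,
      inv_mul_vecMul, ← Matrix.neg_vecMul]
    congr 1
    funext i
    fin_cases i <;> simp [emb_val, hdet, ev, Matrix.vecMul, dotProduct, Fin.sum_univ_three]
  have e : φ ⬝ᵥ (g.val *ᵥ v) = -(φ ⬝ᵥ (g.val *ᵥ v)) := by
    nth_rewrite 1 [← hfix]
    rw [Matrix.dotProduct_mulVec, hφt, neg_dotProduct]
  exact (mul_eq_zero.1 (show (2 : F) * (φ ⬝ᵥ (g.val *ᵥ v)) = 0 by linear_combination e)).resolve_left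
    h2

/-- With a second involution in the centraliser, `K` contains no scalar square root of `-1`. -/
theorem no_sqrt [Fintype F] (h2 : (2 : F) ≠ 0) (hP : Core P) (hT : NoT P) {Q t g : GL (Fin 3) F}
    (hQ : (Q⁻¹ * t * Q).val = flipMat) (hg : g ∈ P) {x : GL (Fin 2) F}
    (hx : Q * emb x * Q⁻¹ = g * t * g⁻¹) (hdet : x.val.det = -1)
    {A : GL (Fin 2) F} (hA : A ∈ cGroup P Q) {a : F} (ha : A.val = a • 1) : a * a ≠ -1 := by
  intro haa
  set G := P ⊔ scalars (Fin 3) F
  have ha0 : a ≠ 0 := fun e => by simp [e] at haa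
  have ha1 : a ≠ 1 := fun e => h2 (by rw [e] at haa; linear_combination haa)
  set v := Q.val *ᵥ ev 2 with hv
  set φ := ev 2 ᵥ* Q⁻¹.val with hφ
  have hφv : φ ⬝ᵥ v = 1 := by
    rw [hφ, hv, ← Matrix.dotProduct_mulVec, inv_mul_mulVec]
    simp [ev]
  have hH : InH G a v φ := by
    refine ⟨hφv, (Q * emb A * Q⁻¹) * Matrix.GeneralLinearGroup.scalar (Fin 3) (Units.mk0 a ha0)⁻¹,
      Subgroup.mul_mem _ (Subgroup.mem_sup_left (mem_cGroup.1 hA))
        (Subgroup.mem_sup_right ⟨_, rfl⟩), ?_⟩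
    have hE : (emb A).val * Matrix.scalar (Fin 3) a⁻¹ =
        1 + (a - 1) • Matrix.vecMulVec (ev 2) (ev 2) := by
      have h22 : (a * a)⁻¹ * a⁻¹ = a := by
        rw [haa, inv_neg, inv_one, neg_one_mul]
        exact neg_eq_iff_eq_neg.2 (inv_eq_of_mul_eq_one_right (by linear_combination -haa))
      have h22' : a⁻¹ * a⁻¹ * a⁻¹ = a := by rw [← mul_inv]; exact h22
      rw [emb_val, ha]
      ext i j
      fin_cases i <;> fin_cases j <;>
        simp [Matrix.scalar_apply, Matrix.vecMulVec_apply, ev, Matrix.det_fin_two, ha0, h22, h22', pow_two,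
          Matrix.one_apply]
    rw [Units.val_mul, Units.val_mul, Units.val_mul, Matrix.GeneralLinearGroup.coe_scalar,
      Units.val_inv_eq_inv_val, Units.val_mk0]
    have hsc : Q⁻¹.val * Matrix.scalar (Fin 3) a⁻¹ = Matrix.scalar (Fin 3) a⁻¹ * Q⁻¹.val := by
      rw [Matrix.scalar_apply, ← Matrix.smul_one_eq_diagonal, Matrix.mul_smul, Matrix.smul_mul,
        mul_one, one_mul]
    rw [mul_assoc _ (Q⁻¹.val), hsc, ← mul_assoc, mul_assoc Q.val, hE, mul_add, add_mul, mul_one,
      Units.mul_inv, Matrix.mul_smul, Matrix.smul_mul, Matrix.mul_vecMulVec, Matrix.vecMulVec_mul]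
    rfl
  have hg' : g ∈ G := Subgroup.mem_sup_left hg
  have hH' := hH.conj hg'
  have horth : φ ⬝ᵥ (g.val *ᵥ v) = 0 := fix_orth h2 hQ hx hdet
  have hTG := noT_sup hP hT
  have hirr : ActsIrreducibly (matrixSet G) := fun W hW => hP.absIrr.1 W fun s hs => hW s (by
    obtain ⟨y, hy, rfl⟩ := hs
    exact ⟨y, Subgroup.mem_sup_left hy, rfl⟩)
  exact no_orth_pair hTG h2 haa hirr (core_hnc hP hT ha0 ha1) hH hH' horth
    (zero_left hTG ha0 ha1 hH hH' horth)

/-- Commuting involutions in `K` with different images, whose product's image is again the image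
of an involution, give a scalar square root of `-1`. -/
theorem exists_sqrt_of_four (h2 : (2 : F) ≠ 0) {K : Subgroup (GL (Fin 2) F)}
    {a b c : GL (Fin 2) F} (haK : a ∈ K) (hbK : b ∈ K) (hcK : c ∈ K) (ha : a * a = 1)
    (hb : b * b = 1) (hc : c * c = 1)
    (hca : Matrix.ProjGenLinGroup.mk c = Matrix.ProjGenLinGroup.mk (a * b))
    (ha1 : Matrix.ProjGenLinGroup.mk a ≠ 1) (hb1 : Matrix.ProjGenLinGroup.mk b ≠ 1)
    (hab : Matrix.ProjGenLinGroup.mk a ≠ Matrix.ProjGenLinGroup.mk b)
    (hcomm : Matrix.ProjGenLinGroup.mk (a * b) = Matrix.ProjGenLinGroup.mk (b * a)) :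
    ∃ A ∈ K, ∃ s : F, A.val = s • 1 ∧ s * s = -1 := by
  have hns : ∀ {y : GL (Fin 2) F}, Matrix.ProjGenLinGroup.mk y ≠ 1 → ∀ r : F, y.val ≠ r • 1 :=
    fun {y} hy r e => hy (by
      have hr : r ≠ 0 := fun h => y.isUnit.ne_zero (by rw [e, h, zero_smul])
      rw [show y = Matrix.GeneralLinearGroup.scalar (Fin 2) (Units.mk0 r hr) from Units.ext (by
        rw [e, Matrix.GeneralLinearGroup.coe_scalar]; simp [Matrix.smul_one_eq_diagonal]),
        Matrix.ProjGenLinGroup.mk_scalar])
  have hdet : ∀ {y : GL (Fin 2) F}, y * y = 1 → Matrix.ProjGenLinGroup.mk y ≠ 1 →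
      y.val.det = -1 := fun {y} hy hy1 =>
    det_invol h2 hy (fun e => hy1 (by rw [e, map_one]))
      (fun e => hns hy1 (-1) (by rw [e, neg_one_smul]))
  rw [map_mul, map_mul] at hcomm
  obtain ⟨s, hs⟩ := mk_commute_iff hcomm
  have hba : (a * b) * (b * a) = 1 := by
    rw [mul_assoc, ← mul_assoc b b a, hb, one_mul, ha]
  have hd : s * s = 1 := by
    have h := congrArg Matrix.det hs
    rw [Matrix.det_smul, Matrix.det_mul, Matrix.det_mul, hdet ha ha1, hdet hb hb1,
      Fintype.card_fin] at h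
    linear_combination -h
  rcases mul_self_eq_one_iff.1 hd with e | e
  · exfalso
    rw [e, one_smul] at hs
    have hab2 : (a * b) * (a * b) = 1 := by
      nth_rewrite 2 [show a * b = b * a from Units.ext (by rw [Units.val_mul, Units.val_mul, hs])]
      exact hba
    have hab1 : Matrix.ProjGenLinGroup.mk (a * b) ≠ 1 := fun e => hab (by
      rw [map_mul, mul_eq_one_iff_eq_inv] at e
      rw [e, ← map_inv, inv_eq_of_mul_eq_one_right hb])
    have hdd := hdet hab2 hab1
    rw [Units.val_mul, Matrix.det_mul, hdet ha ha1, hdet hb hb1] at hdd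
    exact h2 (by linear_combination hdd)
  · rw [e] at hs
    have hq : (a * b).val * (a * b).val = -1 := by
      have h1 : (b * a).val = -(a * b).val := by
        rw [Units.val_mul, Units.val_mul, hs, neg_one_smul, neg_neg]
      have h2' := congrArg Units.val hba
      rw [Units.val_mul, h1, Units.val_one, mul_neg] at h2'
      rw [← h2', neg_neg]
    obtain ⟨u, hu⟩ := Matrix.ProjGenLinGroup.mk_eq_mk_iff.1 hca.symm
    refine ⟨Matrix.GeneralLinearGroup.scalar (Fin 2) u, ?_, u, ?_, ?_⟩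
    · rw [show Matrix.GeneralLinearGroup.scalar (Fin 2) u = (a * b)⁻¹ * c by
        rw [← hu, inv_mul_cancel_left]]
      exact K.mul_mem (K.inv_mem (K.mul_mem haK hbK)) hcK
    · rw [Matrix.GeneralLinearGroup.coe_scalar]
      simp [Matrix.smul_one_eq_diagonal]
    · have h := congrArg Units.val hu
      rw [Units.val_mul, Matrix.GeneralLinearGroup.coe_scalar, Matrix.scalar_apply,
        ← Matrix.smul_one_eq_diagonal, Matrix.mul_smul, mul_one] at h
      have hcc := congrArg Units.val hc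
      rw [Units.val_mul, ← h, Matrix.smul_mul, Matrix.mul_smul, hq, smul_smul, Units.val_one] at hcc
      have h00 := congrFun (congrFun hcc 0) 0
      simp at h00
      linear_combination -h00

end Cfsg.Lib.Linear.Mitchell
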