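import Cfsg.Agent.Lib.Linear.Mitchell.CoreImage
import Cfsg.Agent.Lib.Linear.Mitchell.CoreCover
import Cfsg.Agent.Lib.Small.CentralizerGL23Card
import Cfsg.Agent.Lib.ZStar.Main
import Cfsg.Agent.Lib.Dickson.PGLMax.Borel

/-!
# Involution centralisers in a group without transvections

If `P` has no transvection, every involution of `P/Z` has a centraliser with a normal 2-complement.
-/

set_option autoImplicit false
set_option maxHeartbeats 800000

namespace Cfsg.Lib.Linear.Mitchell

open Cfsg.Geo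
open Cfsg.Lib.Linear.TVec
open scoped Matrix MatrixGroups

variable {F : Type*} [Field F] {P : Subgroup (GL (Fin 3) F)}

/-- A scalar commutator of a conjugate involution is trivial. -/
theorem commute_of_invol_mod {t g : GL (Fin 3) F} (ht : t * t = 1)
    (hs : g * t * g⁻¹ * t⁻¹ ∈ scalars (Fin 3) F)
    (hd : g * t * g⁻¹ * t⁻¹ ∈ specialLinear (Fin 3) F) : Commute t g := by
  set z := g * t * g⁻¹ * t⁻¹ with hz
  have hgt : g * t * g⁻¹ = z * t := by rw [hz, inv_mul_cancel_right]
  have hz2 : z * z = 1 := by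
    have h1 : g * t * g⁻¹ * (g * t * g⁻¹) = 1 := by
      rw [show g * t * g⁻¹ * (g * t * g⁻¹) = g * (t * t) * g⁻¹ by group, ht, mul_one, mul_inv_cancel]
    rw [hgt, mul_assoc, ← mul_assoc t z, scalars_comm' hs t, mul_assoc z t, ht, mul_one] at h1
    exact h1
  have hz1 : z = 1 := by
    have h3 := scalar_cube hs hd
    rw [pow_three, hz2, mul_one] at h3
    exact h3
  rw [hz1, one_mul, mul_inv_eq_iff_eq_mul] at hgt
  exact hgt.symm

theorem mk_scalar_of_one {x : GL (Fin 2) F} (h : Matrix.ProjGenLinGroup.mk x = 1) :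
    ∃ a : F, a ≠ 0 ∧ x.val = a • 1 := by
  obtain ⟨u, rfl⟩ := Matrix.GeneralLinearGroup.center_eq_range_scalar (n := Fin 2) (R := F) ▸
    Matrix.ProjGenLinGroup.mk_eq_one.1 h
  exact ⟨(u : F), u.ne_zero, by simp [Matrix.smul_one_eq_diagonal]⟩

theorem mk_one_of_scalar {x : GL (Fin 2) F} {a : F} (e : x.val = a • 1) :
    Matrix.ProjGenLinGroup.mk x = 1 := by
  have hr : a ≠ 0 := fun h => x.isUnit.ne_zero (by rw [e, h, zero_smul])
  rw [show x = Matrix.GeneralLinearGroup.scalar (Fin 2) (Units.mk0 a hr) from Units.ext (by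
    rw [e, Matrix.GeneralLinearGroup.coe_scalar]; simp [Matrix.smul_one_eq_diagonal]),
    Matrix.ProjGenLinGroup.mk_scalar]

/-- A scalar of `K` whose fourth power commutes with a conjugate of itself in the centraliser. -/
theorem scalar_pow_twelve (h2 : (2 : F) ≠ 0) {Q g : GL (Fin 3) F} {A y : GL (Fin 2) F} {α β : F}
    (hα : A.val = α • 1) (hβ : y.val = β • 1)
    (hy : Q * emb y * Q⁻¹ = g * (Q * emb A * Q⁻¹) * g⁻¹)
    (horth : (ev 2 ᵥ* Q⁻¹.val) ⬝ᵥ (g.val *ᵥ (Q.val *ᵥ ev 2)) = 0)
    (horth' : (ev 2 ᵥ* Q⁻¹.val) ⬝ᵥ (g⁻¹.val *ᵥ (Q.val *ᵥ ev 2)) = 0) : α ^ 3 = 1 := by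
  set v := Q.val *ᵥ ev 2 with hv
  set φ := ev 2 ᵥ* Q⁻¹.val with hφ
  have hφv : φ ⬝ᵥ v = 1 := by
    rw [hφ, hv, ← Matrix.dotProduct_mulVec, inv_mul_mulVec]
    simp [ev]
  have hv0 : v ≠ 0 := fun e => by simp [e] at hφv
  have hblock : ∀ (B : GL (Fin 2) F) (b : F), B.val = b • 1 → ∀ u,
      (Q * emb B * Q⁻¹).val *ᵥ u = b • u + (((b * b)⁻¹ - b) * (φ ⬝ᵥ u)) • v := by
    intro B b hB u
    have he : ∀ w : Fin 3 → F, (emb B).val *ᵥ w = b • w + (((b * b)⁻¹ - b) * w 2) • ev 2 := by
      intro w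
      rw [emb_val, hB]
      funext i
      fin_cases i <;> simp [ev, Matrix.mulVec, dotProduct, Fin.sum_univ_three,
        Matrix.det_fin_two]
      · ring
    rw [Units.val_mul, Units.val_mul, ← Matrix.mulVec_mulVec, ← Matrix.mulVec_mulVec, he,
      Matrix.mulVec_add, Matrix.mulVec_smul, Matrix.mulVec_smul, mul_inv_mulVec, ← hv, hφ,
      ← Matrix.dotProduct_mulVec, ev_dot]
  have key : ∀ u, (Q * emb y * Q⁻¹).val *ᵥ u =
      g.val *ᵥ ((Q * emb A * Q⁻¹).val *ᵥ (g⁻¹.val *ᵥ u)) := fun u => by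
    rw [hy, Units.val_mul, Units.val_mul g, ← Matrix.mulVec_mulVec, ← Matrix.mulVec_mulVec]
  have hgi : ∀ u, g.val *ᵥ (g⁻¹.val *ᵥ u) = u := mul_inv_mulVec g
  have e1 := key v
  rw [hblock A α hα, hblock y β hβ, hφv, horth', mul_zero, zero_smul, add_zero, mul_one,
    Matrix.mulVec_smul, hgi, ← add_smul, add_sub_cancel] at e1
  have e2 := key (g.val *ᵥ v)
  rw [hblock A α hα, hblock y β hβ, horth, mul_zero, zero_smul, add_zero, inv_mul_mulVec, hφv,
    mul_one, ← add_smul, add_sub_cancel, Matrix.mulVec_smul] at e2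
  have f1 := smul_left_injective F hv0 e1
  have hgv0 : g.val *ᵥ v ≠ 0 := fun e => hv0 (by rw [← inv_mul_mulVec g v, e, Matrix.mulVec_zero])
  have f2 := smul_left_injective F hgv0 e2
  have hα0 : α ≠ 0 := fun h => A.isUnit.ne_zero (by rw [hα, h, zero_smul])
  have f3 : α = (α * α) * (α * α) := by
    calc α = (β * β)⁻¹ := f1.symm
      _ = ((α * α)⁻¹ * (α * α)⁻¹)⁻¹ := by rw [f2]
      _ = (α * α) * (α * α) := by rw [mul_inv, inv_inv]
  refine mul_left_cancel₀ hα0 ?_
  rw [mul_one]
  linear_combination -f3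

theorem block_of_commute_emb {A : GL (Fin 2) F} (hd : A.val.det = 1)
    (hne : (A.val - 1).det ≠ 0) {M : Matrix (Fin 3) (Fin 3) F}
    (h : M * (emb A).val = (emb A).val * M) : M * flipMat = flipMat * M := by
  rw [Matrix.det_fin_two] at hne
  simp only [Matrix.sub_apply, Matrix.one_apply_eq, Matrix.one_apply_ne (show (0 : Fin 2) ≠ 1 by decide),
    Matrix.one_apply_ne (show (1 : Fin 2) ≠ 0 by decide), sub_zero] at hne
  rw [emb_val, hd, inv_one] at h
  have h02 := congrFun (congrFun h 0) 2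
  have h12 := congrFun (congrFun h 1) 2
  have h20 := congrFun (congrFun h 2) 0
  have h21 := congrFun (congrFun h 2) 1
  simp [Matrix.mul_apply, Fin.sum_univ_three] at h02 h12 h20 h21
  have z : ∀ {u : F}, ((A.val 0 0 - 1) * (A.val 1 1 - 1) - A.val 0 1 * A.val 1 0) * u = 0 → u = 0 :=
    fun {u} e => (mul_eq_zero.1 e).resolve_left hne
  have b1 : M 0 2 = 0 := z (by linear_combination (A.val 1 1 - 1) * (-h02) - A.val 0 1 * (-h12))
  have b2 : M 1 2 = 0 := z (by linear_combination (A.val 0 0 - 1) * (-h12) - A.val 1 0 * (-h02))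
  have b3 : M 2 0 = 0 := z (by linear_combination (A.val 1 1 - 1) * h20 - A.val 1 0 * h21)
  have b4 : M 2 1 = 0 := z (by linear_combination (A.val 0 0 - 1) * h21 - A.val 0 1 * h20)
  ext i j
  fin_cases i <;> fin_cases j <;>
    simp [flipMat, Matrix.mul_apply, Fin.sum_univ_three, b1, b2, b3, b4]

theorem card_gl_two_three : Nat.card (GL (Fin 2) (ZMod 3)) = 48 := by
  rw [Matrix.card_GL_field, Fin.prod_univ_two]
  simp

theorem three_group_contra {G : Type*} [Group G] [Finite G] {τ η : G} (_hτ : orderOf τ = 2)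
    (h3 : η ^ 3 = 1) (h1 : η ≠ 1) (hcen : ∀ w : G, Commute w η → Commute w τ)
    (hcard : Nat.card G = 5616 ∨ Nat.card G = 7920)
    (hC : Nat.card (Subgroup.centralizer ({τ} : Set G)) = 48) : False := by
  haveI : Fact (Nat.Prime 3) := ⟨Nat.prime_three⟩
  have ho : orderOf η = 3 := orderOf_eq_prime h3 h1
  have hZ : IsPGroup 3 (Subgroup.zpowers η) :=
    IsPGroup.of_card (n := 1) (by rw [Nat.card_zpowers, ho, pow_one])
  obtain ⟨R, hR⟩ := hZ.exists_le_sylow
  have h9 : 9 ∣ Nat.card (R : Subgroup G) := by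
    rw [R.card_eq_multiplicity]
    refine Nat.pow_dvd_pow (m := 2) 3 ?_
    refine (Nat.Prime.pow_dvd_iff_le_factorization Nat.prime_three Nat.card_pos.ne').1 ?_
    rcases hcard with h | h <;> rw [h] <;> norm_num
  have hE : ∀ E : Subgroup G, E ≤ R → (∀ w ∈ E, Commute w η) → Nat.card E ≤ 3 := by
    intro E hER hEη
    obtain ⟨n, hn⟩ := IsPGroup.iff_card.1 (R.2.to_le hER)
    have hd : Nat.card E ∣ 48 := hC ▸ Subgroup.card_dvd_of_le fun w hw =>
      Subgroup.mem_centralizer_singleton_iff.2 (hcen w (hEη w hw)).eq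
    rw [hn] at hd ⊢
    by_contra hlt
    have h2 : 2 ≤ n := by
      by_contra hn2
      exact hlt (le_trans (Nat.pow_le_pow_right (by norm_num) (by omega : n ≤ 1)) (by norm_num))
    exact absurd ((pow_dvd_pow 3 h2).trans hd) (by norm_num)
  have hηR : η ∈ (R : Subgroup G) := hR (Subgroup.mem_zpowers η)
  haveI : Nontrivial (R : Subgroup G) :=
    ⟨⟨⟨η, hηR⟩, 1, fun e => h1 (congrArg Subtype.val e)⟩⟩
  haveI := IsPGroup.center_nontrivial R.2
  obtain ⟨⟨z, hz⟩, hz1⟩ := exists_ne (1 : Subgroup.center (R : Subgroup G))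
  have hzc : ∀ w ∈ (R : Subgroup G), Commute w (z : G) := fun w hw =>
    congrArg Subtype.val (Subgroup.mem_center_iff.1 hz ⟨w, hw⟩)
  have hz1' : (z : G) ≠ 1 := fun e => hz1 (Subtype.ext (Subtype.ext e))
  by_cases hzη : (z : G) ∈ Subgroup.zpowers η
  · -- `η` is central in `R`
    obtain ⟨m, hm⟩ := hzη
    simp only at hm
    have hηz : η ∈ Subgroup.zpowers (z : G) := by
      have hle : Subgroup.zpowers (z : G) ≤ Subgroup.zpowers η :=
        Subgroup.zpowers_le.2 ⟨m, hm⟩
      have hzo : orderOf (z : G) = 3 := by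
        refine orderOf_eq_prime ?_ hz1'
        rw [← hm, ← zpow_natCast, ← zpow_mul, mul_comm, zpow_mul, zpow_natCast, h3, one_zpow]
      have := Subgroup.eq_of_le_of_card_ge hle
        (by rw [Nat.card_zpowers, Nat.card_zpowers, hzo, ho])
      rw [this]
      exact Subgroup.mem_zpowers η
    obtain ⟨k, hk⟩ := hηz
    simp only at hk
    have := hE R le_rfl fun w hw => hk ▸ (hzc w hw).zpow_right k
    have := Nat.le_of_dvd Nat.card_pos h9
    omega
  · set E := (R : Subgroup G) ⊓ Subgroup.centralizer ({η} : Set G) with hEd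
    have hle := hE E inf_le_left fun w hw =>
      Subgroup.mem_centralizer_singleton_iff.1 (Subgroup.mem_inf.1 hw).2
    have hηE : Subgroup.zpowers η ≤ E := Subgroup.zpowers_le.2
      ⟨hηR, Subgroup.mem_centralizer_singleton_iff.2 rfl⟩
    have heq := Subgroup.eq_of_le_of_card_ge hηE (by rw [Nat.card_zpowers, ho]; exact hle)
    refine hzη ?_
    rw [heq]
    exact ⟨z.2, Subgroup.mem_centralizer_singleton_iff.2 ((hzc η hηR).symm.eq)⟩

variable [Fintype F]

set_option maxHeartbeats 4000000 in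
/-- In a group without transvections the centraliser of an involution of `P/Z` has a normal
2-complement. -/
theorem two_nilpotent_centralizers (h2 : (2 : F) ≠ 0) (hP : Core P) (hT : NoT P)
    (τ : P ⧸ (scalars (Fin 3) F).subgroupOf P) (hτ : orderOf τ = 2) :
    Cfsg.HasNormalPComplement 2
      ↥(Subgroup.centralizer ({τ} : Set (P ⧸ (scalars (Fin 3) F).subgroupOf P))) := by
  classical
  haveI := hP.simple
  haveI : Fact (Nat.Prime 2) := ⟨Nat.prime_two⟩
  haveI : Fact (Nat.Prime 3) := ⟨Nat.prime_three⟩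
  revert τ
  set S := (scalars (Fin 3) F).subgroupOf P with hS
  intro τ hτ
  set q := QuotientGroup.mk' S with hq
  haveI : Finite (P ⧸ S) := inferInstance
  -- the lift
  obtain ⟨s, hs⟩ := QuotientGroup.mk'_surjective S τ
  have hτ2 : τ * τ = 1 := by rw [← pow_two, ← hτ, pow_orderOf_eq_one]
  have hτ1 : τ ≠ 1 := fun e => by rw [e, orderOf_one] at hτ; omega
  have hτi : τ⁻¹ = τ := inv_eq_of_mul_eq_one_right hτ2
  obtain ⟨t, ht⟩ : ∃ t, t = s * s * s := ⟨_, rfl⟩
  have hss : (s : GL (Fin 3) F) * s ∈ scalars (Fin 3) F := by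
    have : q (s * s) = 1 := by rw [map_mul, hs, hτ2]
    rw [hq, QuotientGroup.mk'_apply, QuotientGroup.eq_one_iff, hS, Subgroup.mem_subgroupOf] at this
    simpa using this
  have ht2 : (t : GL (Fin 3) F) * t = 1 := by
    have h := scalar_cube hss (mul_mem (hP.le_sl s.2) (hP.le_sl s.2))
    rw [← h, ht]
    simp only [Subgroup.coe_mul, pow_three, mul_assoc]
  have hqt : q t = τ := by rw [ht, map_mul, map_mul, hs, hτ2, one_mul]
  have htP : (t : GL (Fin 3) F) ∈ P := t.2
  have ht1 : (t : GL (Fin 3) F) ≠ 1 := fun e => hτ1 (by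
    rw [← hqt, show t = 1 from Subtype.ext e, map_one])
  obtain ⟨Q, hQ⟩ := exists_flip_frame h2 (hP.le_sl htP) ht2 ht1
  set K := cGroup P Q with hK
  -- elements commuting with `τ`
  have hlift : ∀ g : P, Commute (q g) τ → Commute (t : GL (Fin 3) F) (g : GL (Fin 3) F) := by
    intro g hg
    refine commute_of_invol_mod ht2 ?_
      (mul_mem (mul_mem (mul_mem (hP.le_sl g.2) (hP.le_sl htP)) (inv_mem (hP.le_sl g.2)))
        (inv_mem (hP.le_sl htP)))
    have h : q (g * t * g⁻¹ * t⁻¹) = 1 := by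
      rw [map_mul, map_mul, map_mul, map_inv, map_inv, hqt, hg.eq, mul_inv_cancel_right,
        mul_inv_cancel]
    rw [hq, QuotientGroup.mk'_apply, QuotientGroup.eq_one_iff, hS, Subgroup.mem_subgroupOf] at h
    simpa using h
  let ι : K →* P :=
    ((MulAut.conj Q).toMonoidHom.comp (emb.comp K.subtype)).codRestrict P fun A => by
      simpa [MulAut.conj_apply] using mem_cGroup.1 A.2
  have hι : ∀ A : K, (ι A : GL (Fin 3) F) = Q * emb (A : GL (Fin 2) F) * Q⁻¹ := fun A => by
    simp [ι, MulAut.conj_apply]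
  let ψ : K →* Subgroup.centralizer ({τ} : Set (P ⧸ S)) :=
    (q.comp ι).codRestrict _ fun A => by
      rw [Subgroup.mem_centralizer_singleton_iff, ← hqt, MonoidHom.comp_apply, ← map_mul, ← map_mul]
      refine congrArg q (Subtype.ext ?_)
      rw [Subgroup.coe_mul, Subgroup.coe_mul, hι]
      exact (commute_frame hQ (A : GL (Fin 2) F)).eq.symm
  have hψv : ∀ A : K, (ψ A : P ⧸ S) = q (ι A) := fun A => rfl
  have hψs : Function.Surjective ψ := by
    rintro ⟨c, hc⟩
    obtain ⟨g, rfl⟩ := QuotientGroup.mk'_surjective S c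
    rw [Subgroup.mem_centralizer_singleton_iff] at hc
    obtain ⟨A, hA, hAg⟩ := exists_cGroup h2 hP hQ g.2 (hlift g hc)
    refine ⟨⟨A, hA⟩, Subtype.ext ?_⟩
    rw [hψv]
    exact congrArg q (Subtype.ext (by rw [hι]; exact hAg))
  -- the image in `PGL₂`
  set mk := (Matrix.ProjGenLinGroup.mk (n := Fin 2) (R := F)) with hmk
  obtain ⟨p, hp⟩ := CharP.exists F
  haveI : Fact p.Prime := ⟨CharP.char_is_prime F p⟩
  have hodd : Fintype.card F % 2 = 1 := by
    refine FiniteField.odd_card_of_char_ne_two fun e => h2 ?_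
    have := ringChar.charP F
    rw [e] at this
    exact_mod_cast CharP.cast_eq_zero F 2
  set M := K.map mk with hM
  have hpM : ¬ p ∣ Nat.card M := fun h =>
    not_dvd_card_cGroup hT Q p (h.trans (Subgroup.card_map_dvd _ _))
  have hcompl : ∀ r, (∀ x ∈ K, mk (x * x) ∈ Subgroup.zpowers r) →
      Cfsg.HasNormalPComplement 2 ↥(Subgroup.centralizer ({τ} : Set (P ⧸ S))) := fun r hr =>
    Cfsg.Lib.Fusion.hasNormalPComplement_of_surjective ψ hψs (complement_of_image K hr)
  -- a commuting conjugate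
  have hZ : ∃ g : P, q g * τ * (q g)⁻¹ ≠ τ ∧ Commute (q g * τ * (q g)⁻¹) τ := by
    by_contra hne
    push Not at hne
    have hiso : Cfsg.IsIsolatedInvolution τ := ⟨hτ, fun γ hγ => by
      obtain ⟨g, rfl⟩ := QuotientGroup.mk'_surjective S γ
      by_contra h
      exact hne g h hγ.symm⟩
    have hcore := Cfsg.Lib.ZStar.zStarHolds (P ⧸ S) τ hiso
    rcases (inferInstance : (Cfsg.oddCore (P ⧸ S)).Normal).eq_bot_or_eq_top with e | e
    · have hz : τ ∈ Subgroup.center (P ⧸ S) := Subgroup.mem_center_iff.2 fun γ => by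
        have h := hcore γ
        rw [e, Subgroup.mem_bot] at h
        rw [mul_inv_eq_one, mul_inv_eq_iff_eq_mul] at h
        exact h.symm
      rcases (inferInstance : (Subgroup.center (P ⧸ S)).Normal).eq_bot_or_eq_top with e' | e'
      · rw [e', Subgroup.mem_bot] at hz; exact hτ1 hz
      · exact hP.nonab ⟨⟨fun a b => Subgroup.mem_center_iff.1 (e'.ge (Subgroup.mem_top b)) a⟩⟩
    · have hco : Odd (Nat.card (Cfsg.oddCore (P ⧸ S))) := Cfsg.Lib.ZStar.odd_card_oddCore
      rw [e, Subgroup.card_top] at hco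
      have h2d : 2 ∣ Nat.card (P ⧸ S) := hτ ▸ orderOf_dvd_natCard τ
      obtain ⟨k, hk⟩ := hco
      omega
  obtain ⟨g, hgne, hgc⟩ := hZ
  -- the two conjugate involutions
  have hconj : ∀ g : P, q g * τ * (q g)⁻¹ ≠ τ → Commute (q g * τ * (q g)⁻¹) τ →
      ∃ x ∈ K, Q * emb x * Q⁻¹ = (g : GL (Fin 3) F) * t * (g : GL (Fin 3) F)⁻¹ ∧ x * x = 1 ∧
        x.val.det = -1 ∧ mk x ≠ 1 := by
    intro g hne hc
    have e : q (g * t * g⁻¹) = q g * τ * (q g)⁻¹ := by rw [map_mul, map_mul, map_inv, hqt]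
    obtain ⟨x, hx, hxg⟩ := exists_cGroup h2 hP hQ (g * t * g⁻¹).2 (hlift _ (e ▸ hc))
    simp only [Subgroup.coe_mul, Subgroup.coe_inv] at hxg
    have hxx : x * x = 1 := by
      apply emb_injective
      have h : (Q * emb x * Q⁻¹) * (Q * emb x * Q⁻¹) = 1 := by
        rw [hxg, show (g : GL (Fin 3) F) * t * (g : GL (Fin 3) F)⁻¹ * ((g : GL (Fin 3) F) * t *
          (g : GL (Fin 3) F)⁻¹) = g * ((t : GL (Fin 3) F) * t) * (g : GL (Fin 3) F)⁻¹ by group, ht2,
          mul_one, mul_inv_cancel]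
      rw [show Q * emb x * Q⁻¹ * (Q * emb x * Q⁻¹) = Q * (emb x * emb x) * Q⁻¹ by group,
        mul_inv_eq_one, mul_eq_left, ← map_mul] at h
      rw [h, map_one]
    have hnot1 : x ≠ 1 := fun h => by
      rw [h, map_one, mul_one, mul_inv_cancel, eq_comm, mul_inv_eq_one, mul_eq_left] at hxg
      exact ht1 hxg
    have hnotm : x.val ≠ -1 := fun h => by
      have hflip : (emb x).val = flipMat := by
        rw [emb_val, h]
        ext i j
        fin_cases i <;> fin_cases j <;> simp [flipMat, Matrix.det_fin_two]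
      have hx' : Q * emb x * Q⁻¹ = t := by
        rw [show emb x = Q⁻¹ * t * Q from Units.ext (hflip.trans hQ.symm)]
        group
      rw [hxg] at hx'
      refine hne (e.symm.trans ?_)
      rw [show g * t * g⁻¹ = t from Subtype.ext (by simpa using hx'), hqt]
    refine ⟨x, hx, hxg, hxx, det_invol h2 hxx hnot1 hnotm, fun h => ?_⟩
    obtain ⟨a, -, ha⟩ := mk_scalar_of_one h
    have haa : a * a = 1 := by
      have := congrArg Units.val hxx
      rw [Units.val_mul, ha, Units.val_one, Matrix.smul_mul, Matrix.mul_smul, one_mul,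
        smul_smul] at this
      simpa using congrFun (congrFun this 0) 0
    rcases mul_self_eq_one_iff.1 haa with e' | e'
    · exact hnot1 (Units.ext (by rw [ha, e', one_smul, Units.val_one]))
    · exact hnotm (by rw [ha, e', neg_one_smul])
  obtain ⟨x, hxK, hxg, hxx, hxdet, hxm⟩ := hconj g hgne hgc
  have hsqrt : ∀ A ∈ K, ∀ a : F, A.val = a • 1 → a * a ≠ -1 := fun A hA a ha =>
    no_sqrt h2 hP hT hQ g.2 hxg hxdet hA ha
  -- no involution whose image has the four-group property
  have hfour : ∀ {X : Type} [Group X] (f : K →* X), (∀ A : K, f A = 1 ↔ mk A = 1) →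
      Function.Surjective f → ∀ A : K, A * A = 1 → FourProp (f A) → False := by
    intro X _ f hf hfs A hA hprop
    obtain ⟨γ, η, hne, hcomm, hmul⟩ := hprop
    obtain ⟨γ, rfl⟩ := hfs γ
    obtain ⟨η, rfl⟩ := hfs η
    set B := γ * A * γ⁻¹ with hB
    set C := η * A * η⁻¹ with hC
    have hiff : ∀ u w : K, f u = f w ↔ mk (u : GL (Fin 2) F) = mk (w : GL (Fin 2) F) := by
      intro u w
      rw [← mul_inv_eq_one, ← map_inv, ← map_mul, hf, Subgroup.coe_mul, Subgroup.coe_inv, map_mul,
        map_inv, mul_inv_eq_one]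
    have hfB : f B = f γ * f A * (f γ)⁻¹ := by rw [hB, map_mul, map_mul, map_inv]
    have hfC : f C = f A * f B := by rw [hC, map_mul, map_mul, map_inv, hfB, hmul]
    have hsq : ∀ u : K, (u * A * u⁻¹) * (u * A * u⁻¹) = 1 := fun u => by
      rw [show u * A * u⁻¹ * (u * A * u⁻¹) = u * (A * A) * u⁻¹ by group, hA, mul_one, mul_inv_cancel]
    have hA1 : f A ≠ 1 := fun h => hne (by rw [h, mul_one, mul_inv_cancel])
    have hB1 : f B ≠ 1 := fun h => hA1 (by
      rw [hfB, mul_inv_eq_one, mul_eq_left] at h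
      exact h)
    obtain ⟨D, hD, r, hr, hrr⟩ := exists_sqrt_of_four h2 A.2 B.2 C.2 (congrArg Subtype.val hA)
      (congrArg Subtype.val (hsq γ)) (congrArg Subtype.val (hsq η))
      (by rw [← hmk, ← Subgroup.coe_mul]; exact (hiff _ _).1 (by rw [hfC, map_mul f A B]))
      (fun h => hA1 ((hf A).2 h)) (fun h => hB1 ((hf B).2 h))
      (fun h => hne (by rw [← hfB]; exact ((hiff _ _).2 h).symm))
      (by rw [← hmk, ← Subgroup.coe_mul, ← Subgroup.coe_mul]
          exact (hiff _ _).1 (by rw [map_mul f A B, map_mul f B A, hfB]; exact hcomm))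
    exact hsqrt D hD r hr hrr
  let mkK : K →* M := (mk.comp K.subtype).codRestrict M fun A => Subgroup.mem_map_of_mem mk A.2
  have hmkK : Function.Surjective mkK := by
    rintro ⟨m, hm⟩
    obtain ⟨A, hA, rfl⟩ := hm
    exact ⟨⟨A, hA⟩, rfl⟩
  have hsq : ∀ {X : Type} [Group X] (e : M ≃* X) (r : X),
      (∀ y : X, y * y ∈ Subgroup.zpowers r) →
        Cfsg.HasNormalPComplement 2 ↥(Subgroup.centralizer ({τ} : Set (P ⧸ S))) := by
    intro X _ e r hr
    refine hcompl (e.symm r : M) fun A hA => ?_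
    obtain ⟨n, hn⟩ := hr (e (mkK ⟨A, hA⟩))
    refine ⟨n, ?_⟩
    simp only at hn ⊢
    have h := congrArg e.symm hn
    rw [map_zpow, map_mul, MulEquiv.symm_apply_apply] at h
    have h' := congrArg Subtype.val h
    simpa [mkK, map_mul] using h'
  rcases Cfsg.Lib.Dickson.pgl_subgroup_cases p hodd M with
    ⟨k, -, ⟨hcyc, -⟩ | ⟨⟨e⟩⟩⟩ | ⟨R, -, hR, hne⟩ | ⟨⟨e⟩⟩ | ⟨⟨e⟩⟩ | ⟨⟨e⟩⟩ |
      ⟨F', _, _, m, _, hF3, -, hF'⟩
  · obtain ⟨r, hr⟩ := hcyc.exists_generator
    refine hcompl (r : Matrix.ProjGenLinGroup (Fin 2) F) fun A hA => ?_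
    obtain ⟨n, hn⟩ := hr (mkK ⟨A, hA⟩ * mkK ⟨A, hA⟩)
    exact ⟨n, by have h := congrArg Subtype.val hn; simpa [mkK, map_mul] using h⟩
  · refine hsq e (DihedralGroup.r 1) fun y => ?_
    rcases y with i | i
    · exact ⟨((i + i).cast : ℤ), by simp⟩
    · rw [DihedralGroup.sr_mul_self]; exact one_mem _
  · refine absurd ?_ hpM
    obtain ⟨n, hn⟩ := IsPGroup.iff_card.1 hR
    refine dvd_trans ?_ (Subgroup.card_subgroup_dvd_card R)
    rw [hn]
    refine dvd_pow_self p fun e => hne ?_
    rw [← Subgroup.card_eq_one, hn, e, pow_zero]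
  all_goals exfalso
  · exact hfour (e.toMonoidHom.comp mkK)
      (fun A => by simp [mkK, Subtype.ext_iff]) (e.surjective.comp hmkK) ⟨x, hxK⟩ (Subtype.ext hxx)
      (four_alt_four _ (by rw [← map_mul, show (⟨x, hxK⟩ : K) * ⟨x, hxK⟩ = 1 from Subtype.ext hxx,
        map_one]) (fun h => hxm (by simpa [mkK, Subtype.ext_iff] using h)))
  · -- the symmetric group
    set f : K →* Equiv.Perm (Fin 4) := e.toMonoidHom.comp mkK with hf
    have hfk : ∀ A : K, f A = 1 ↔ mk A = 1 := fun A => by simp [hf, mkK, Subtype.ext_iff]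
    have hfs : Function.Surjective f := e.surjective.comp hmkK
    have hxxK : (⟨x, hxK⟩ : K) * ⟨x, hxK⟩ = 1 := Subtype.ext hxx
    have hfx2 : f ⟨x, hxK⟩ * f ⟨x, hxK⟩ = 1 := by rw [← map_mul, hxxK, map_one]
    have hfx1 : f ⟨x, hxK⟩ ≠ 1 := fun h => hxm ((hfk _).1 h)
    have hxodd : Equiv.Perm.sign (f ⟨x, hxK⟩) = -1 := (Int.units_eq_one_or _).resolve_left fun h =>
      hfour f hfk hfs _ hxxK (four_perm_four _ hfx2 hfx1 h)
    -- the scalars
    have hgne' : q g⁻¹ * τ * (q g⁻¹)⁻¹ ≠ τ := by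
      rw [map_inv, inv_inv]
      intro h
      refine hgne ?_
      nth_rewrite 1 [← h]
      group
    have hgc' : Commute (q g⁻¹ * τ * (q g⁻¹)⁻¹) τ := by
      rw [map_inv, inv_inv]
      have := (hgc.map (MulAut.conj (q g)⁻¹).toMonoidHom).symm
      simpa [MulAut.conj_apply, mul_assoc] using this
    obtain ⟨x', -, hxg', -, hxdet', -⟩ := hconj g⁻¹ hgne' hgc'
    have hscal : ∀ A : K, mk (A : GL (Fin 2) F) = 1 → ∃ a : F, (A : GL (Fin 2) F).val = a • 1 ∧
        (a ^ 3 = 1 ∨ a ^ 3 = -1) := by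
      intro A hA
      obtain ⟨a, ha0, ha⟩ := mk_scalar_of_one hA
      refine ⟨a, ha, ?_⟩
      have hA4 : (A ^ 4 : K).val.val = (a ^ 4) • 1 := by
        rw [Subgroup.coe_pow, Units.val_pow_eq_pow_val, ha, smul_pow, one_pow]
      have hmem : ((g : GL (Fin 3) F) * (ι A) * (g : GL (Fin 3) F)⁻¹) ∈ P :=
        mul_mem (mul_mem g.2 (ι A).2) (inv_mem g.2)
      have hcm : Commute (t : GL (Fin 3) F) ((g : GL (Fin 3) F) * (ι A) * (g : GL (Fin 3) F)⁻¹) := by
        obtain ⟨c, -, hc⟩ : ∃ c ∈ K, Q * emb c * Q⁻¹ = (g : GL (Fin 3) F)⁻¹ * t * g := by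
          obtain ⟨c, hc, hc', -⟩ := hconj g⁻¹ hgne' hgc'
          exact ⟨c, hc, by rw [hc', Subgroup.coe_inv, inv_inv]⟩
        have hcA : Commute (Q * emb c * Q⁻¹) (ι A : GL (Fin 3) F) := by
          rw [hι]
          have h : Commute (emb c) (emb (A : GL (Fin 2) F)) := by
            refine Commute.map ?_ emb
            refine Units.ext ?_
            rw [Units.val_mul, Units.val_mul, ha, Matrix.mul_smul, mul_one, Matrix.smul_mul, one_mul]
          have := h.map (MulAut.conj Q).toMonoidHom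
          simpa [MulAut.conj_apply] using this
        rw [hc] at hcA
        have := hcA.map (MulAut.conj (g : GL (Fin 3) F)).toMonoidHom
        simpa [MulAut.conj_apply, mul_assoc] using this
      obtain ⟨y, hy, hyA⟩ := exists_cGroup h2 hP hQ hmem hcm
      have hyx : Commute (⟨y, hy⟩ : K) ⟨x, hxK⟩ := by
        refine Subtype.ext (emb_injective ?_)
        have h1 : Commute ((g : GL (Fin 3) F) * (ι A) * (g : GL (Fin 3) F)⁻¹)
            ((g : GL (Fin 3) F) * t * (g : GL (Fin 3) F)⁻¹) := by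
          have hb : Commute (ι A : GL (Fin 3) F) t := by
            rw [hι]; exact (commute_frame hQ _).symm
          have := hb.map (MulAut.conj (g : GL (Fin 3) F)).toMonoidHom
          simpa [MulAut.conj_apply] using this
        rw [← hyA, ← hxg] at h1
        have h1' := h1.map (MulAut.conj Q⁻¹).toMonoidHom
        simp [MulAut.conj_apply, mul_assoc] at h1'
        rw [Subgroup.coe_mul, Subgroup.coe_mul, map_mul, map_mul]
        exact h1'.eq
      have hy4 := perm_four_centralizer_odd _ (f ⟨y, hy⟩) hfx2 hxodd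
        (by rw [← map_mul, ← map_mul, hyx.eq])
      rw [← map_pow, hfk, Subgroup.coe_pow] at hy4
      obtain ⟨b, -, hb⟩ := mk_scalar_of_one hy4
      have h3 := scalar_pow_twelve h2 (g := (g : GL (Fin 3) F)) (Q := Q) hA4 hb (by
        rw [map_pow, ← conj_pow, hyA, conj_pow, ← Subgroup.coe_pow, ← map_pow, hι])
        (fix_orth h2 hQ hxg hxdet)
        (fix_orth h2 hQ (by rw [hxg', Subgroup.coe_inv]) hxdet')
      have h12 : (a ^ 3 * a ^ 3) * (a ^ 3 * a ^ 3) = 1 := by
        rw [← h3]; ring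
      rcases mul_self_eq_one_iff.1 h12 with h | h
      · exact mul_self_eq_one_iff.1 h
      · exfalso
        refine hsqrt _ (K.pow_mem A.2 3) (a ^ 3) ?_ h
        rw [Units.val_pow_eq_pow_val, ha, smul_pow, one_pow]
    -- the double cover
    set z : Subgroup.centralizer ({τ} : Set (P ⧸ S)) :=
      ⟨τ, Subgroup.mem_centralizer_singleton_iff.2 rfl⟩ with hzdef
    have hψone : ∀ A : K, mk (A : GL (Fin 2) F) = 1 → ψ A = 1 ∨ ψ A = z := by
      intro A hA
      obtain ⟨a, ha, h3⟩ := hscal A hA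
      have hembS : ∀ (B : GL (Fin 2) F) (b : F), B.val = b • 1 → b ^ 3 = 1 →
          Q * emb B * Q⁻¹ ∈ scalars (Fin 3) F := fun B b hB hb => by
        have hb0 : b ≠ 0 := fun e => by simp [e] at hb
        refine mem_scalars_of_val (c := b) ?_
        have he : (emb B).val = b • 1 := by
          have hi : (b * b)⁻¹ = b := inv_eq_of_mul_eq_one_right (by linear_combination hb)
          have hi' : b⁻¹ * b⁻¹ = b := by rw [← mul_inv]; exact hi
          rw [emb_val, hB]
          ext i j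
          fin_cases i <;> fin_cases j <;> simp [Matrix.det_fin_two, hi, hi', pow_two]
        rw [Units.val_mul, Units.val_mul, he, Matrix.mul_smul, mul_one, Matrix.smul_mul,
          Units.mul_inv]
      rcases h3 with h3 | h3
      · left
        refine Subtype.ext ?_
        rw [hψv, Subgroup.coe_one, hq, QuotientGroup.mk'_apply, QuotientGroup.eq_one_iff, hS,
          Subgroup.mem_subgroupOf, hι]
        exact hembS _ a ha h3
      · right
        refine Subtype.ext ?_
        rw [hψv]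
        show q (ι A) = τ
        rw [← hτi, eq_inv_iff_mul_eq_one, ← hqt, ← map_mul, hq, QuotientGroup.mk'_apply,
          QuotientGroup.eq_one_iff, hS, Subgroup.mem_subgroupOf, Subgroup.coe_mul, hι]
        obtain ⟨m, -, hm⟩ := exists_cGroup h2 hP hQ htP (Commute.refl _)
        have hm1 : m.val = (-1 : F) • 1 := by
          have : emb m = Q⁻¹ * t * Q := by rw [← hm]; group
          have h := congrArg Units.val this
          rw [hQ] at h
          have e00 := congrFun (congrFun h 0) 0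
          have e01 := congrFun (congrFun h 0) 1
          have e10 := congrFun (congrFun h 1) 0
          have e11 := congrFun (congrFun h 1) 1
          simp [emb_val, flipMat] at e00 e01 e10 e11
          ext i j
          fin_cases i <;> fin_cases j <;> simp [e00, e01, e10, e11]
        rw [← hm, show Q * emb (A : GL (Fin 2) F) * Q⁻¹ * (Q * emb m * Q⁻¹) =
          Q * (emb (A : GL (Fin 2) F) * emb m) * Q⁻¹ by group, ← map_mul]
        refine hembS _ (-a) ?_ (by linear_combination -h3)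
        rw [Units.val_mul, ha, hm1, Matrix.smul_mul, one_mul, smul_smul, mul_neg_one]
    have hψmk : ∀ A : K, ψ A = 1 → mk (A : GL (Fin 2) F) = 1 := by
      intro A hA
      have h := congrArg Subtype.val hA
      rw [hψv, Subgroup.coe_one, hq, QuotientGroup.mk'_apply, QuotientGroup.eq_one_iff, hS,
        Subgroup.mem_subgroupOf, hι] at h
      obtain ⟨c, -, hc⟩ := exists_scalar h
      have he : (emb (A : GL (Fin 2) F)).val = c • 1 := by
        have : emb (A : GL (Fin 2) F) = Q⁻¹ * (Q * emb (A : GL (Fin 2) F) * Q⁻¹) * Q := by group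
        rw [this, Units.val_mul, Units.val_mul, hc, Matrix.mul_smul, mul_one, Matrix.smul_mul,
          Units.inv_mul]
      refine mk_one_of_scalar (a := c) ?_
      have e00 := congrFun (congrFun he 0) 0
      have e01 := congrFun (congrFun he 0) 1
      have e10 := congrFun (congrFun he 1) 0
      have e11 := congrFun (congrFun he 1) 1
      simp [emb_val] at e00 e01 e10 e11
      ext i j
      fin_cases i <;> fin_cases j <;> simp [e00, e01, e10, e11]
    let fbar : Subgroup.centralizer ({τ} : Set (P ⧸ S)) →* Equiv.Perm (Fin 4) :=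
      ψ.liftOfSurjective hψs ⟨f, fun A hA => (hfk A).2 (hψmk A hA)⟩
    have hfbar : ∀ A : K, fbar (ψ A) = f A := fun A =>
      MonoidHom.liftOfRightInverse_comp_apply ψ _ (Function.rightInverse_surjInv hψs) _ A
    have hz1 : z ≠ 1 := fun h => hτ1 (congrArg Subtype.val h)
    obtain ⟨e'⟩ := gl_two_three_of_cover hz1 (Subtype.ext hτ2)
      (fun c => Subtype.ext (Subgroup.mem_centralizer_singleton_iff.1 c.2))
      fbar (fun u => by obtain ⟨A, rfl⟩ := hfs u; exact ⟨ψ A, hfbar A⟩)
      (fun c => by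
        obtain ⟨A, rfl⟩ := hψs c
        rw [hfbar, hfk]
        refine ⟨hψone A, ?_⟩
        rintro (h | h)
        · exact hψmk A h
        · obtain ⟨m, hmK, hm⟩ := exists_cGroup h2 hP hQ htP (Commute.refl _)
          have hψm : ψ ⟨m, hmK⟩ = z := Subtype.ext (by
            rw [hψv, hzdef, show ι ⟨m, hmK⟩ = t from Subtype.ext (by rw [hι]; exact hm), hqt])
          have hm1 : mk m = 1 := by
            refine mk_one_of_scalar (a := (-1 : F)) ?_
            have : emb m = Q⁻¹ * t * Q := by rw [← hm]; group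
            have h := congrArg Units.val this
            rw [hQ] at h
            have e00 := congrFun (congrFun h 0) 0
            have e01 := congrFun (congrFun h 0) 1
            have e10 := congrFun (congrFun h 1) 0
            have e11 := congrFun (congrFun h 1) 1
            simp [emb_val, flipMat] at e00 e01 e10 e11
            ext i j
            fin_cases i <;> fin_cases j <;> simp [e00, e01, e10, e11]
          have := hψmk (A * ⟨m, hmK⟩⁻¹) (by rw [map_mul, map_inv, h, hψm, mul_inv_cancel])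
          rwa [Subgroup.coe_mul, Subgroup.coe_inv, map_mul, map_inv, hm1, inv_one, mul_one] at this)
      (x := ψ ⟨x, hxK⟩) (by rw [← map_mul, hxxK, map_one]) (by rw [hfbar]; exact hxodd)
      (fun y hy hy1 h => by
        obtain ⟨A, rfl⟩ := hψs y
        rw [hfbar] at hy hy1
        rw [← map_mul] at h
        obtain ⟨a, ha, -⟩ := hscal (A * A) (hψmk _ h)
        have hA3 : (A * A * A) * (A * A * A) = 1 := by
          have h' := congrArg Subtype.val h
          rw [hψv, Subgroup.coe_one, hq, QuotientGroup.mk'_apply, QuotientGroup.eq_one_iff, hS,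
            Subgroup.mem_subgroupOf] at h'
          have h3 := scalar_cube h' (hP.le_sl (ι (A * A)).2)
          rw [← Subgroup.coe_pow, ← map_pow, hι, mul_inv_eq_one, mul_eq_left] at h3
          have := emb_injective (h3.trans (map_one emb).symm)
          rw [← Subgroup.coe_one K, Subtype.val_inj] at this
          rw [← this]
          simp only [pow_three, mul_assoc]
        refine hfour f hfk hfs (A * A * A) hA3 (four_perm_four _ ?_ ?_ ?_)
        · rw [← map_mul, hA3, map_one]
        · rw [map_mul f, map_mul f, hy.1, one_mul]; exact hy1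
        · rw [map_mul f, map_mul f, hy.1, one_mul]; exact hy.2)
    have hcard := Cfsg.Lib.Small.CentralizerGL23.card_eq e' hτ
    -- an element of order three
    obtain ⟨b₀, hb3, hb1⟩ := perm_four_commutator _ hfx2 hxodd
    obtain ⟨B₀, rfl⟩ := hfs b₀
    set c₀ : K := B₀ * ⟨x, hxK⟩ * B₀⁻¹ * (⟨x, hxK⟩ : K)⁻¹ with hc₀
    have hfc₀ : f c₀ = f B₀ * f ⟨x, hxK⟩ * (f B₀)⁻¹ * (f ⟨x, hxK⟩)⁻¹ := by
      rw [hc₀, map_mul, map_mul, map_mul, map_inv, map_inv]
    have hc₀det : (c₀ : GL (Fin 2) F).val.det = 1 := by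
      have hi : (⟨x, hxK⟩ : K)⁻¹ = ⟨x, hxK⟩ := inv_eq_of_mul_eq_one_right hxxK
      rw [hc₀, hi]
      simp only [Subgroup.coe_mul, Units.val_mul, Matrix.det_mul, hxdet, Subgroup.coe_inv]
      have : (B₀ : GL (Fin 2) F).val.det * ((B₀ : GL (Fin 2) F)⁻¹).val.det = 1 := by
        rw [← Matrix.det_mul, ← Units.val_mul, mul_inv_cancel, Units.val_one, Matrix.det_one]
      linear_combination this
    obtain ⟨a, ha, -⟩ := hscal (c₀ ^ 3) ((hfk _).1 (by rw [map_pow, hfc₀, hb3]))
    set c : K := c₀ ^ 4 with hc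
    have hc3 : c ^ 3 = 1 := by
      have haa : a * a = 1 := by
        have := congrArg Matrix.det ha
        rw [Matrix.det_smul, Matrix.det_one, mul_one, Fintype.card_fin, Subgroup.coe_pow,
          Units.val_pow_eq_pow_val, Matrix.det_pow, hc₀det, one_pow] at this
        linear_combination -this
      refine Subtype.ext (Units.ext ?_)
      rw [hc, ← pow_mul, show 4 * 3 = 3 * 4 by rfl, pow_mul, Subgroup.coe_pow,
        Units.val_pow_eq_pow_val, ha, smul_pow, one_pow, show a ^ 4 = 1 by linear_combination (a * a + 1) * haa,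
        one_smul]
      rfl
    have hcdet : (c : GL (Fin 2) F).val.det = 1 := by
      rw [hc, Subgroup.coe_pow, Units.val_pow_eq_pow_val, Matrix.det_pow, hc₀det, one_pow]
    have hfc3 : f c ^ 3 = 1 := by rw [← map_pow, hc3, map_one]
    have hfc1 : f c ≠ 1 := fun h => hb1 (by
      rw [hc, map_pow, pow_succ, hfc₀, hb3, one_mul] at h
      exact h)
    have hne1 : ((c : GL (Fin 2) F).val - 1).det ≠ 0 := by
      intro h0
      have hns : ∀ r : F, (c : GL (Fin 2) F).val ≠ r • 1 := fun r e =>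
        hfc1 ((hfk _).2 (mk_one_of_scalar e))
      have htr := trace_sq_of_cube (Q := (c : GL (Fin 2) F).val) (s := 1) (by
        rw [one_smul, ← Units.val_mul, ← Units.val_mul, ← Units.val_one]
        refine congrArg Units.val ?_
        rw [← Subgroup.coe_one K, ← hc3]
        simp [pow_three, mul_assoc]) hns
      have h3 : (3 : F) = 0 := by
        rw [hcdet] at htr
        rw [Matrix.det_fin_two] at h0 hcdet
        simp at h0
        rw [Matrix.trace_fin_two] at htr
        linear_combination htr + ((c : GL (Fin 2) F).val 0 0 + (c : GL (Fin 2) F).val 1 1 + 2) * h0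
          - ((c : GL (Fin 2) F).val 0 0 + (c : GL (Fin 2) F).val 1 1 + 2) * hcdet
      have hp3 : p = 3 := by
        have hd : p ∣ 3 := (CharP.cast_eq_zero_iff F p 3).1 (by exact_mod_cast h3)
        exact (Nat.prime_dvd_prime_iff_eq Fact.out Nat.prime_three).1 hd
      refine not_dvd_card_cGroup hT Q p ?_
      rw [hp3, ← orderOf_eq_prime hc3 (fun h => hfc1 (by rw [h, map_one]))]
      exact orderOf_dvd_natCard c
    set γ := ψ c with hγ
    have hγ3 : γ ^ 3 = 1 := by rw [hγ, ← map_pow, hc3, map_one]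
    have hγ1 : γ ≠ 1 := fun h => hfc1 ((hfk _).2 (hψmk c h))
    set η : P ⧸ S := (γ : P ⧸ S) with hη
    have hη3 : η ^ 3 = 1 := by rw [hη, ← Subgroup.coe_pow, hγ3, Subgroup.coe_one]
    have hη1 : η ≠ 1 := fun h => hγ1 (Subtype.ext h)
    -- the centraliser of `η` lies in that of `τ`
    have hcen : ∀ w : P ⧸ S, Commute w η → Commute w τ := by
      intro w hw
      obtain ⟨w, rfl⟩ := QuotientGroup.mk'_surjective S w
      set t' := (w : GL (Fin 3) F) * t * (w : GL (Fin 3) F)⁻¹ with ht'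
      set G3 := (ι c : GL (Fin 3) F) with hG3
      have hz : ∃ s ∈ scalars (Fin 3) F, (w : GL (Fin 3) F) * G3 * (w : GL (Fin 3) F)⁻¹ = s * G3 := by
        refine ⟨(w : GL (Fin 3) F) * G3 * (w : GL (Fin 3) F)⁻¹ * G3⁻¹, ?_, by group⟩
        have h : q (w * ι c * w⁻¹ * (ι c)⁻¹) = 1 := by
          rw [map_mul, map_mul, map_mul, map_inv, map_inv, ← hψv, ← hγ, ← hη, hw.eq,
            mul_inv_cancel_right, mul_inv_cancel]
        rw [hq, QuotientGroup.mk'_apply, QuotientGroup.eq_one_iff, hS, Subgroup.mem_subgroupOf] at h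
        simpa [hG3] using h
      obtain ⟨s, hs, hws⟩ := hz
      have ht'G : Commute t' G3 := by
        have h0 : Commute (t : GL (Fin 3) F) G3 := by rw [hG3, hι]; exact commute_frame hQ _
        have h1 := h0.map (MulAut.conj (w : GL (Fin 3) F)).toMonoidHom
        simp only [MulEquiv.coe_toMonoidHom, MulAut.conj_apply] at h1
        rw [← ht', hws] at h1
        have h2' : Commute t' s⁻¹ := (scalars_comm' (inv_mem hs) t')
        simpa using h2'.mul_right h1
      have hM : (Q⁻¹ * t' * Q).val * flipMat = flipMat * (Q⁻¹ * t' * Q).val := by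
        refine block_of_commute_emb (A := (c : GL (Fin 2) F)) hcdet hne1 ?_
        have h1 := ht'G.map (MulAut.conj Q⁻¹).toMonoidHom
        simp only [MulEquiv.coe_toMonoidHom, MulAut.conj_apply, inv_inv, hG3, hι] at h1
        rw [show Q⁻¹ * (Q * emb (c : GL (Fin 2) F) * Q⁻¹) * Q = emb (c : GL (Fin 2) F) by group]
          at h1
        exact congrArg Units.val h1.eq
      have htt' : Commute t' (t : GL (Fin 3) F) := by
        have h : (Q⁻¹ * t' * Q) * (Q⁻¹ * t * Q) = (Q⁻¹ * t * Q) * (Q⁻¹ * t' * Q) :=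
          Units.ext (by
            rw [Units.val_mul _ (Q⁻¹ * (t : GL (Fin 3) F) * Q),
              Units.val_mul (Q⁻¹ * (t : GL (Fin 3) F) * Q), hQ]
            exact hM)
        have h' := congrArg (fun u => Q * u * Q⁻¹) h
        simpa [Commute, SemiconjBy, mul_assoc] using h'
      by_contra hnc
      have hne : q w * τ * (q w)⁻¹ ≠ τ := fun h => hnc (mul_inv_eq_iff_eq_mul.1 h)
      have hcc : Commute (q w * τ * (q w)⁻¹) τ := by
        rw [← hqt, ← map_inv, ← map_mul, ← map_mul]
        have : Commute (w * t * w⁻¹ : P) t := Subtype.ext (by simpa [ht', mul_assoc] using htt'.eq)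
        exact this.map q
      obtain ⟨y, hy, hyt, hyy, -, hym⟩ := hconj w hne hcc
      have hcy : Commute (⟨y, hy⟩ : K) c := by
        refine Subtype.ext (emb_injective ?_)
        rw [ht', ← hyt, hG3, hι] at ht'G
        have h1' := ht'G.map (MulAut.conj Q⁻¹).toMonoidHom
        simp [MulAut.conj_apply, mul_assoc] at h1'
        rw [Subgroup.coe_mul, Subgroup.coe_mul, map_mul, map_mul]
        exact h1'.eq
      have hyyK : (⟨y, hy⟩ : K) * ⟨y, hy⟩ = 1 := Subtype.ext hyy
      have hfy2 : f ⟨y, hy⟩ * f ⟨y, hy⟩ = 1 := by rw [← map_mul, hyyK, map_one]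
      have hfy1 : f ⟨y, hy⟩ ≠ 1 := fun h => hym ((hfk _).1 h)
      have hyodd : Equiv.Perm.sign (f ⟨y, hy⟩) = -1 := (Int.units_eq_one_or _).resolve_left fun h =>
        hfour f hfk hfs _ hyyK (four_perm_four _ hfy2 hfy1 h)
      exact perm_four_three _ _ hfy2 hyodd hfc3 hfc1 (by rw [← map_mul, ← map_mul, hcy.eq])
    exact three_group_contra hτ hη3 hη1 hcen hcard
      ((Nat.card_congr e'.toEquiv).trans card_gl_two_three)
  · exact hfour (e.toMonoidHom.comp mkK)
      (fun A => by simp [mkK, Subtype.ext_iff]) (e.surjective.comp hmkK) ⟨x, hxK⟩ (Subtype.ext hxx)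
      (four_alt_five _ (by rw [← map_mul, show (⟨x, hxK⟩ : K) * ⟨x, hxK⟩ = 1 from Subtype.ext hxx,
        map_one]) (fun h => hxm (by simpa [mkK, Subtype.ext_iff] using h)))
  · refine hpM ?_
    have hsyl : ∀ R : Sylow p (Matrix.ProjectiveSpecialLinearGroup (Fin 2) F'),
        p ∣ Nat.card (Matrix.ProjectiveSpecialLinearGroup (Fin 2) F') := fun R => by
      refine dvd_trans ?_ (Subgroup.card_subgroup_dvd_card (R : Subgroup _))
      rw [Cfsg.Lib.Dickson.card_sylow_psl p R]
      exact Cfsg.Lib.Linear.Two.dvd_card p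
    rcases hF' with ⟨⟨e⟩, -⟩ | ⟨⟨e⟩⟩
    · rw [Nat.card_congr e.toEquiv]
      exact hsyl default
    · rw [Nat.card_congr e.toEquiv]
      exact (hsyl default).trans
        (Subgroup.card_dvd_of_injective _ Matrix.ProjectiveSpecialLinearGroup.toPGL_injective)

end Cfsg.Lib.Linear.Mitchell
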