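import Cfsg.Agent.Lib.Linear.Mitchell.CoreL2Eigen

/-!
# `L₂(r)` in dimension three: `r ≤ 9` unless `r` is a power of the characteristic

The preimage of a Sylow group of `L₂(r)` has at most three weights, which a torus element permutes.
-/

set_option autoImplicit false
set_option maxHeartbeats 800000

namespace Cfsg.Lib.Linear.Mitchell

open Cfsg.Geo
open scoped Matrix MatrixGroups

namespace L2

variable {K : Type} [Field K] [Fintype K]

/-- The unipotent `[[1, a], [0, 1]]`. -/
def uS (a : K) : Matrix.SpecialLinearGroup (Fin 2) K :=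
  ⟨!![1, a; 0, 1], by simp [Matrix.det_fin_two_of]⟩

/-- Its image in the projective group. -/
def u (a : K) : Matrix.ProjectiveSpecialLinearGroup (Fin 2) K :=
  QuotientGroup.mk (uS a)

/-- The torus element `diag(t, t⁻¹)`. -/
def dS (t : Kˣ) : Matrix.SpecialLinearGroup (Fin 2) K :=
  ⟨!![(t : K), 0; 0, (↑t⁻¹ : K)], by simp [Matrix.det_fin_two_of]⟩

theorem u_add (a b : K) : u (a + b) = u a * u b := by
  rw [u, u, u, ← QuotientGroup.mk_mul]
  refine congrArg _ (Subtype.ext ?_)
  rw [Matrix.SpecialLinearGroup.coe_mul]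
  ext i j
  fin_cases i <;> fin_cases j <;> simp [uS, Matrix.mul_apply, Fin.sum_univ_two, add_comm]

theorem u_zero : u (0 : K) = 1 := by
  have h := u_add (0 : K) 0
  rw [add_zero] at h
  exact left_eq_mul.1 h

theorem u_injective : Function.Injective (u : K → _) := by
  intro a b e
  have e' : u (b - a) = 1 := by
    have h := u_add a (b - a)
    rw [add_sub_cancel, ← e] at h
    exact left_eq_mul.1 h
  rw [u, QuotientGroup.eq_one_iff, Matrix.SpecialLinearGroup.mem_center_iff] at e'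
  obtain ⟨r, -, hr⟩ := e'
  have := congrFun (congrFun hr 0) 1
  simp [uS] at this
  linear_combination this

theorem d_conj_u (t : Kˣ) (a : K) :
    (QuotientGroup.mk (dS t) : Matrix.ProjectiveSpecialLinearGroup (Fin 2) K) * u a *
      (QuotientGroup.mk (dS t))⁻¹ = u ((t : K) ^ 2 * a) := by
  rw [mul_inv_eq_iff_eq_mul, u, u, ← QuotientGroup.mk_mul, ← QuotientGroup.mk_mul]
  refine congrArg _ (Subtype.ext ?_)
  rw [Matrix.SpecialLinearGroup.coe_mul, Matrix.SpecialLinearGroup.coe_mul]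
  ext i j
  fin_cases i <;> fin_cases j <;> simp [uS, dS, Matrix.mul_apply, Fin.sum_univ_two]
  field_simp

theorem u_pow (a : K) (n : ℕ) : u a ^ n = u (n • a) := by
  induction n with
  | zero => rw [pow_zero, zero_smul, u_zero]
  | succ n ih => rw [pow_succ, ih, succ_nsmul, u_add]

theorem sum_two_squares (h2 : ringChar K ≠ 2) (c : K) : ∃ x y : K, c = x ^ 2 + y ^ 2 := by
  obtain ⟨x, y, h⟩ := FiniteField.exists_root_sum_quadratic (R := K) (f := Polynomial.X ^ 2)
    (g := Polynomial.X ^ 2 - Polynomial.C c) (Polynomial.degree_X_pow 2)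
    (Polynomial.degree_X_pow_sub_C (by norm_num) c) (FiniteField.odd_card_of_char_ne_two h2)
  refine ⟨x, y, ?_⟩
  simp at h
  linear_combination -h

end L2

variable {F : Type*} [Field F] [Finite F] {P : Subgroup (GL (Fin 3) F)} {K : Type} [Field K] [Fintype K]

open L2

theorem Core.scalar_iff (ψ : P →* Matrix.ProjectiveSpecialLinearGroup (Fin 2) K)
    (hψ : ψ.ker = (scalars (Fin 3) F).subgroupOf P) {x : P} :
    ψ x = 1 ↔ (x : GL (Fin 3) F) ∈ scalars (Fin 3) F := by
  rw [← MonoidHom.mem_ker, hψ, Subgroup.mem_subgroupOf]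

/-- A cross-characteristic `L₂(r)`, `r` odd, has `r ≤ 9`. -/
theorem card_of_cross (hP : Core P) (ψ : P →* Matrix.ProjectiveSpecialLinearGroup (Fin 2) K)
    (hs : Function.Surjective ψ) (hψ : ψ.ker = (scalars (Fin 3) F).subgroupOf P)
    (hodd : ringChar K ≠ 2) (h3K : 3 < Fintype.card K) (hchar : ((ringChar K : ℕ) : F) ≠ 0) :
    Fintype.card K = 5 ∨ Fintype.card K = 7 ∨ Fintype.card K = 9 := by
  classical
  set ℓ := ringChar K with hℓ
  haveI : Fact ℓ.Prime := ⟨CharP.char_is_prime K ℓ⟩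
  obtain ⟨N, -, hN⟩ := FiniteField.card K ℓ
  have hodd' : Fintype.card K % 2 = 1 := FiniteField.odd_card_of_char_ne_two hodd
  choose l hl using fun a : K => hs (u a)
  let U : Subgroup (GL (Fin 3) F) :=
    { carrier := {w | ∃ x : P, (x : GL (Fin 3) F) = w ∧ ∃ a, ψ x = u a}
      one_mem' := ⟨1, rfl, 0, by rw [map_one, u_zero]⟩
      mul_mem' := by
        rintro _ _ ⟨x, rfl, a, ha⟩ ⟨y, rfl, b, hb⟩
        exact ⟨x * y, rfl, a + b, by rw [map_mul, ha, hb, u_add]⟩
      inv_mem' := by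
        rintro _ ⟨x, rfl, a, ha⟩
        exact ⟨x⁻¹, rfl, -a, by rw [map_inv, ha, inv_eq_iff_mul_eq_one, ← u_add, add_neg_cancel,
          u_zero]⟩ }
  have hUP : ∀ w ∈ U, w ∈ P := fun w hw => by obtain ⟨x, rfl, -⟩ := hw; exact x.2
  have hUSL : U ≤ specialLinear (Fin 3) F := fun w hw => hP.le_sl (hUP w hw)
  have hlU : ∀ a, (l a : GL (Fin 3) F) ∈ U := fun a => ⟨l a, rfl, a, hl a⟩
  have hcube : ∀ s ∈ scalars (Fin 3) F, s ∈ P → s ^ 3 = 1 := fun s hs hsP =>
    scalar_cube hs (hP.le_sl hsP)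
  -- lifts differ by scalars
  have hcom : ∀ a b : GL (Fin 3) F, a ∈ U → b ∈ U → a * b * a⁻¹ * b⁻¹ ∈ scalars (Fin 3) F := by
    rintro _ _ ⟨x, rfl, a, ha⟩ ⟨y, rfl, b, hb⟩
    have h : ψ (x * y * x⁻¹ * y⁻¹) = 1 := by
      simp only [map_mul, map_inv, ha, hb]
      rw [← u_add, add_comm a b, u_add, mul_inv_cancel_right, mul_inv_cancel]
    exact (Core.scalar_iff ψ hψ).1 h
  have hpowl : ∀ w ∈ U, w ^ ℓ ∈ scalars (Fin 3) F := by
    rintro _ ⟨x, rfl, a, ha⟩
    have h : ψ (x ^ ℓ) = 1 := by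
      rw [map_pow, ha, u_pow, nsmul_eq_mul, CharP.cast_eq_zero, zero_mul, u_zero]
    exact (Core.scalar_iff ψ hψ).1 h
  by_cases hcomm : ∀ a ∈ U, ∀ b ∈ U, Commute a b
  · -- abelian: a power of the torus centralises
    obtain ⟨n, hn, hexp⟩ : ∃ n : ℕ, (n : F) ≠ 0 ∧ ∀ a ∈ U, a ^ n = 1 := by
      by_cases h3 : (3 : F) = 0
      · refine ⟨ℓ, hchar, fun a ha => ?_⟩
        obtain ⟨c, -, hc⟩ := exists_scalar (hpowl a ha)
        have hd := det_val_eq_one (hUSL (pow_mem ha ℓ))
        rw [hc, Matrix.det_smul, Matrix.det_one, mul_one, Fintype.card_fin] at hd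
        haveI : Fact (Nat.Prime 3) := ⟨by norm_num⟩
        haveI : CharP F 3 := (CharP.charP_iff_prime_eq_zero Nat.prime_three).2 (by exact_mod_cast h3)
        have hc1 : c = 1 := by
          have hz : (c - 1) ^ 3 = 0 := by rw [sub_pow_char, one_pow, hd, sub_self]
          exact sub_eq_zero.1 (eq_zero_of_pow_eq_zero hz)
        exact Units.ext (by rw [hc, hc1, one_smul, Units.val_one])
      · refine ⟨ℓ * 3, by push_cast; exact mul_ne_zero hchar h3, fun a ha => ?_⟩
        rw [pow_mul]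
        exact hcube _ (hpowl a ha) (hUP _ (pow_mem ha ℓ))
    obtain ⟨s, hs'⟩ := IsCyclic.exists_generator (α := Kˣ)
    have hso : orderOf s = Fintype.card K - 1 := by
      rw [orderOf_eq_card_of_forall_mem_zpowers hs', Nat.card_eq_fintype_card, Fintype.card_units]
    obtain ⟨g, hg⟩ := hs (QuotientGroup.mk (dS s))
    have hnorm : ∀ a ∈ U, (g : GL (Fin 3) F) * a * (g : GL (Fin 3) F)⁻¹ ∈ U := by
      rintro _ ⟨x, rfl, a, ha⟩
      exact ⟨g * x * g⁻¹, rfl, (s : K) ^ 2 * a, by rw [map_mul, map_mul, map_inv, hg, ha, d_conj_u]⟩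
    obtain ⟨k, hk1, hk3, hk⟩ := exists_pow_centralizes hcomm hn hexp hnorm
    have hgk : ∀ (k : ℕ) (a : K), ψ (g ^ k) * u a * (ψ (g ^ k))⁻¹ = u ((s : K) ^ (2 * k) * a) := by
      intro k
      induction k with
      | zero => intro a; simp
      | succ k ih =>
        intro a
        rw [pow_succ', map_mul, mul_inv_rev, show ψ g * ψ (g ^ k) * u a * ((ψ (g ^ k))⁻¹ * (ψ g)⁻¹) =
          ψ g * (ψ (g ^ k) * u a * (ψ (g ^ k))⁻¹) * (ψ g)⁻¹ by group, ih, hg, d_conj_u, ← mul_assoc,
          ← pow_add, show 2 + 2 * k = 2 * (k + 1) by ring]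
    have hc : Commute (g ^ k) (l 1) := Subtype.ext (hk _ (hlU 1)).eq
    have h1 := hgk k 1
    rw [← hl, ← map_inv, ← map_mul, ← map_mul, hc.eq, mul_inv_cancel_right, hl, mul_one] at h1
    have hpow : s ^ (2 * k) = 1 := Units.ext (by
      rw [Units.val_pow_eq_pow_val, Units.val_one]; exact (u_injective h1).symm)
    have hd := orderOf_dvd_of_pow_eq_one hpow
    rw [hso] at hd
    have hle := Nat.le_of_dvd (by omega) hd
    omega
  · -- non-abelian
    push Not at hcomm
    obtain ⟨x, hx, y, hy, hxy⟩ := hcomm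
    set z := y * x * y⁻¹ * x⁻¹ with hzdef
    have hzs : z ∈ scalars (Fin 3) F := hcom y x hy hx
    have hz1 : z ≠ 1 := fun e => hxy (by
      rw [hzdef, mul_inv_eq_one, mul_inv_eq_iff_eq_mul] at e
      exact e.symm)
    have hzU : z ∈ U := mul_mem (mul_mem (mul_mem hy hx) (inv_mem hy)) (inv_mem hx)
    have hz3 : z ^ 3 = 1 := hcube z hzs (hUP z hzU)
    obtain ⟨c, -, hc⟩ := exists_scalar hzs
    have hc3 : c ^ 3 = 1 := by
      have := det_val_eq_one (hUSL hzU)
      rwa [hc, Matrix.det_smul, Matrix.det_one, mul_one, Fintype.card_fin] at this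
    have hc1 : c ≠ 1 := fun e => hz1 (Units.ext (by rw [hc, e, one_smul, Units.val_one]))
    have h3F : (3 : F) ≠ 0 := by
      intro h3
      haveI : Fact (Nat.Prime 3) := ⟨by norm_num⟩
      haveI : CharP F 3 := (CharP.charP_iff_prime_eq_zero Nat.prime_three).2 (by exact_mod_cast h3)
      have hzero : (c - 1) ^ 3 = 0 := by rw [sub_pow_char, one_pow, hc3, sub_self]
      exact hc1 (sub_eq_zero.1 (eq_zero_of_pow_eq_zero hzero))
    have hℓ3 : ℓ = 3 := by
      have hzx : y * x * y⁻¹ = z * x := by rw [hzdef, inv_mul_cancel_right]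
      have h := congrArg (· ^ ℓ) hzx
      simp only [conj_pow] at h
      rw [Commute.mul_pow (scalars_comm' hzs x).symm, scalars_comm' (hpowl x hx) y,
        mul_inv_cancel_right] at h
      have hzl : z ^ ℓ = 1 := right_eq_mul.1 h
      have hd := orderOf_dvd_of_pow_eq_one hzl
      rw [orderOf_eq_prime (p := 3) hz3 hz1] at hd
      exact ((Nat.prime_dvd_prime_iff_eq Nat.prime_three Fact.out).1 hd).symm
    -- the centraliser of `x` in `U`
    let A : Subgroup (GL (Fin 3) F) := U ⊓ Subgroup.centralizer {x}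
    have hmA : ∀ {w}, w ∈ A ↔ w ∈ U ∧ Commute x w := by
      intro w
      show w ∈ U ∧ w ∈ Subgroup.centralizer {x} ↔ _
      rw [Subgroup.mem_centralizer_singleton_iff]
      exact and_congr_right fun _ => ⟨fun h => h.symm, fun h => h.symm⟩
    have hAcomm : ∀ a ∈ A, ∀ b ∈ A, Commute a b := by
      intro a ha b hb
      refine commute_of_twisted (x := x) (g := y) (c := c ^ 2) (by rw [← pow_mul, pow_mul', hc3, one_pow])
        (fun e => hc1 (by linear_combination hc3 - c * e)) ?_ (hmA.1 ha).2 (hmA.1 hb).2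
      have e : y * x = z * (x * y) := by rw [hzdef]; group
      have hv := congrArg Units.val e
      rw [Units.val_mul z, hc, Matrix.smul_mul, one_mul] at hv
      rw [hv, smul_smul, ← pow_succ, hc3, one_smul]
    have hA27 : Nat.card A ≤ 27 := card_le_twenty_seven hAcomm h3F
      (fun a ha => by have h := hpowl a (hmA.1 ha).1; rwa [hℓ3] at h) (fun a ha => hUSL (hmA.1 ha).1)
    haveI : Fintype (GL (Fin 3) F) := Fintype.ofFinite _
    haveI : Fintype U := Fintype.ofFinite _
    haveI : Fintype A := Fintype.ofFinite _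
    let S : Finset (GL (Fin 3) F) :=
      Finset.univ.filter fun s => s ∈ scalars (Fin 3) F ∧ s ∈ specialLinear (Fin 3) F
    have hS : S.card ≤ 3 := by
      have hsub : S.image (fun s => s.val 0 0) ⊆ (Polynomial.X ^ 3 - Polynomial.C (1 : F)).roots.toFinset := by
        intro r hr
        obtain ⟨s, hs, rfl⟩ := Finset.mem_image.1 hr
        obtain ⟨hs1, hs2⟩ := (Finset.mem_filter.1 hs).2
        obtain ⟨e, -, he⟩ := exists_scalar hs1
        have hd := det_val_eq_one hs2
        rw [he, Matrix.det_smul, Matrix.det_one, mul_one, Fintype.card_fin] at hd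
        rw [Multiset.mem_toFinset, Polynomial.mem_roots (Polynomial.X_pow_sub_C_ne_zero (by norm_num) _)]
        simp [he, hd]
      have hinj : Set.InjOn (fun s : GL (Fin 3) F => s.val 0 0) S := by
        intro s hs t ht e
        obtain ⟨a, -, ha⟩ := exists_scalar (Finset.mem_filter.1 hs).2.1
        obtain ⟨b, -, hb⟩ := exists_scalar (Finset.mem_filter.1 ht).2.1
        simp [ha, hb] at e
        exact Units.ext (by rw [ha, hb, e])
      rw [← Finset.card_image_of_injOn hinj]
      refine (Finset.card_le_card hsub).trans ((Multiset.toFinset_card_le _).trans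
        ((Polynomial.card_roots' _).trans ?_))
      rw [Polynomial.natDegree_X_pow_sub_C]
    have hupper : Fintype.card U ≤ Fintype.card A * 3 := by
      rw [← Finset.card_univ]
      refine le_trans (Finset.card_le_mul_card_image (f := fun w : U => (w : GL (Fin 3) F) * x *
        (w : GL (Fin 3) F)⁻¹ * x⁻¹) _ (Fintype.card A) fun r hr => ?_) ?_
      · obtain ⟨w₀, -, rfl⟩ := Finset.mem_image.1 hr
        rw [← Finset.card_univ (α := A)]
        refine Finset.card_le_card_of_injOn (fun w : U => if h : (w₀ : GL (Fin 3) F)⁻¹ * w ∈ A then ⟨_, h⟩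
          else 1) (fun _ _ => Finset.mem_univ _) ?_
        intro w hw w' hw' e
        have hmem : ∀ v : U, (v : GL (Fin 3) F) * x * (v : GL (Fin 3) F)⁻¹ * x⁻¹ =
            (w₀ : GL (Fin 3) F) * x * (w₀ : GL (Fin 3) F)⁻¹ * x⁻¹ → (w₀ : GL (Fin 3) F)⁻¹ * v ∈ A := by
          intro v hv
          refine hmA.2 ⟨mul_mem (inv_mem w₀.2) v.2, ?_⟩
          have h1 := mul_right_cancel hv
          show x * ((w₀ : GL (Fin 3) F)⁻¹ * v) = (w₀ : GL (Fin 3) F)⁻¹ * v * x
          calc x * ((w₀ : GL (Fin 3) F)⁻¹ * v) = (w₀ : GL (Fin 3) F)⁻¹ *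
              ((w₀ : GL (Fin 3) F) * x * (w₀ : GL (Fin 3) F)⁻¹) * v := by group
            _ = (w₀ : GL (Fin 3) F)⁻¹ * ((v : GL (Fin 3) F) * x * (v : GL (Fin 3) F)⁻¹) * v := by rw [h1]
            _ = (w₀ : GL (Fin 3) F)⁻¹ * v * x := by group
        have hw1 := hmem w (Finset.mem_filter.1 hw).2
        have hw2 := hmem w' (Finset.mem_filter.1 hw').2
        simp only [dif_pos hw1, dif_pos hw2, Subtype.mk.injEq, mul_right_inj] at e
        exact Subtype.ext e
      · refine Nat.mul_le_mul_left _ ((Finset.card_le_card ?_).trans hS)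
        intro r hr
        obtain ⟨w, -, rfl⟩ := Finset.mem_image.1 hr
        exact Finset.mem_filter.2 ⟨Finset.mem_univ _, hcom _ _ w.2 hx,
          hUSL (mul_mem (mul_mem (mul_mem w.2 hx) (inv_mem w.2)) (inv_mem hx))⟩
    have hlower : Fintype.card K * 3 ≤ Fintype.card U := by
      have hinj : Function.Injective (fun p : K × Fin 3 =>
          (⟨(l p.1 : GL (Fin 3) F) * z ^ (p.2 : ℕ), mul_mem (hlU _) (pow_mem hzU _)⟩ : U)) := by
        rintro ⟨a, i⟩ ⟨b, j⟩ e
        have e' : (l a : GL (Fin 3) F) * z ^ (i : ℕ) = (l b : GL (Fin 3) F) * z ^ (j : ℕ) :=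
          congrArg Subtype.val e
        have hzψ : ψ ⟨z, hUP z hzU⟩ = 1 := (Core.scalar_iff ψ hψ).2 hzs
        have hψe := congrArg ψ (show l a * ⟨z, hUP z hzU⟩ ^ (i : ℕ) = l b * ⟨z, hUP z hzU⟩ ^ (j : ℕ) from
          Subtype.ext (by simpa using e'))
        simp only [map_mul, map_pow, hzψ, one_pow, mul_one, hl] at hψe
        obtain rfl := u_injective hψe
        have e2 := mul_left_cancel e'
        have h := pow_inj_mod.1 e2
        rw [orderOf_eq_prime (p := 3) hz3 hz1, Nat.mod_eq_of_lt i.2, Nat.mod_eq_of_lt j.2] at h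
        rw [Fin.ext h]
      simpa using Fintype.card_le_of_injective _ hinj
    rw [Nat.card_eq_fintype_card] at hA27
    have hr : Fintype.card K = 9 ∨ Fintype.card K = 27 := by
      rw [hℓ3] at hN
      have h27 : Fintype.card K ≤ 27 := by omega
      rw [hN] at h27 h3K ⊢
      rcases (show (N : ℕ) = 1 ∨ (N : ℕ) = 2 ∨ (N : ℕ) = 3 ∨ 4 ≤ (N : ℕ) by have := N.pos; omega) with
        h | h | h | h
      · rw [h] at h3K; omega
      · exact Or.inl (by rw [h]; norm_num)
      · exact Or.inr (by rw [h]; norm_num)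
      · have := le_trans (Nat.pow_le_pow_right (show 1 ≤ 3 by norm_num) h) h27; omega
    refine Or.inr (Or.inr (hr.resolve_right fun h27 => ?_))
    -- `r = 27`
    have hA : Fintype.card A = 27 := by omega
    have hU : Fintype.card U = 81 := by omega
    obtain ⟨b, hbU, hbA⟩ : ∃ b ∈ U, b ∉ A := ⟨y, hy, fun h => hxy (hmA.1 h).2⟩
    obtain ⟨a₀, ha₀A, ha₀b, ha₀⟩ : ∃ a ∈ A, Commute a b ∧ a ∉ scalars (Fin 3) F := by
      by_contra hne
      push Not at hne
      have hle : (Finset.univ : Finset A).card ≤ 3 * 3 := by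
        refine le_trans (Finset.card_le_mul_card_image (f := fun a : A => b * (a : GL (Fin 3) F) * b⁻¹ *
          (a : GL (Fin 3) F)⁻¹) _ 3 fun r hr => ?_) (Nat.mul_le_mul_left _ ((Finset.card_le_card ?_).trans hS))
        · obtain ⟨a, -, rfl⟩ := Finset.mem_image.1 hr
          refine le_trans (Finset.card_le_card_of_injOn (fun a' : A => (a : GL (Fin 3) F)⁻¹ * (a' : GL (Fin 3) F))
            (fun a' ha' => ?_) (fun a' _ a'' _ e => Subtype.ext (mul_left_cancel e))) hS
          have hmem : (a : GL (Fin 3) F)⁻¹ * a' ∈ A := mul_mem (inv_mem a.2) a'.2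
          refine Finset.mem_filter.2 ⟨Finset.mem_univ _, hne _ hmem ?_, hUSL (hmA.1 hmem).1⟩
          have e := (Finset.mem_filter.1 ha').2
          have hca : Commute (a' : GL (Fin 3) F) (a : GL (Fin 3) F)⁻¹ := (hAcomm _ a'.2 _ a.2).inv_right
          show (a : GL (Fin 3) F)⁻¹ * a' * b = b * ((a : GL (Fin 3) F)⁻¹ * a')
          have hsc : b * (a : GL (Fin 3) F) * b⁻¹ * (a : GL (Fin 3) F)⁻¹ ∈ scalars (Fin 3) F :=
            hcom _ _ hbU (hmA.1 a.2).1
          have e1 : b * (a' : GL (Fin 3) F) * b⁻¹ = b * (a : GL (Fin 3) F) * b⁻¹ * (a : GL (Fin 3) F)⁻¹ * a' :=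
            by rw [← e, inv_mul_cancel_right]
          have e2 : b * ((a : GL (Fin 3) F)⁻¹ * a') * b⁻¹ = (a : GL (Fin 3) F)⁻¹ * a' := by
            rw [show b * ((a : GL (Fin 3) F)⁻¹ * a') * b⁻¹ =
              (b * (a : GL (Fin 3) F) * b⁻¹)⁻¹ * (b * (a' : GL (Fin 3) F) * b⁻¹) by group, e1]
            group
          exact (mul_inv_eq_iff_eq_mul.1 e2).symm
        · intro r hr
          obtain ⟨a, -, rfl⟩ := Finset.mem_image.1 hr
          exact Finset.mem_filter.2 ⟨Finset.mem_univ _, hcom _ _ hbU (hmA.1 a.2).1,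
            hUSL (mul_mem (mul_mem (mul_mem hbU (hmA.1 a.2).1) (inv_mem hbU)) (inv_mem (hmA.1 a.2).1))⟩
      rw [Finset.card_univ, hA] at hle
      omega
    have hcent : ∀ w ∈ U, Commute a₀ w := by
      let C : Subgroup (GL (Fin 3) F) := U ⊓ Subgroup.centralizer {a₀}
      have hmC : ∀ {w}, w ∈ C ↔ w ∈ U ∧ Commute a₀ w := by
        intro w
        show w ∈ U ∧ w ∈ Subgroup.centralizer {a₀} ↔ _
        rw [Subgroup.mem_centralizer_singleton_iff]
        exact and_congr_right fun _ => ⟨fun h => h.symm, fun h => h.symm⟩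
      have hAC : A < C := lt_of_le_of_ne
        (fun a ha => hmC.2 ⟨(hmA.1 ha).1, hAcomm _ ha₀A _ ha⟩)
        (fun e => hbA (e ▸ hmC.2 ⟨hbU, ha₀b⟩))
      have hd := Subgroup.card_dvd_of_le (show C ≤ U from inf_le_left)
      have hlt : Nat.card A < Nat.card C := by
        rw [← SetLike.coe_ssubset_coe] at hAC
        have := Set.ncard_lt_ncard hAC (Set.toFinite _)
        rwa [← Nat.card_coe_set_eq, ← Nat.card_coe_set_eq] at this
      have hleU := Subgroup.card_le_of_le (show C ≤ U from inf_le_left)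
      rw [Nat.card_eq_fintype_card (α := U), hU] at hd hleU
      rw [Nat.card_eq_fintype_card (α := A), hA] at hlt
      have h81 : Nat.card C = 81 := by
        rcases (Nat.dvd_prime_pow Nat.prime_three).1 (show Nat.card C ∣ 3 ^ 4 from hd) with ⟨j, hj, e⟩
        rw [e] at hlt ⊢
        interval_cases j <;> omega
      have hCU : C = U := Subgroup.eq_of_le_of_card_ge inf_le_left (by
        rw [h81, Nat.card_eq_fintype_card, hU])
      exact fun w hw => (hmC.1 (hCU.ge hw)).2
    obtain ⟨x₀, hx₀, a, ha⟩ := (hmA.1 ha₀A).1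
    have ha0 : a ≠ 0 := fun e => ha₀ (hx₀ ▸ (Core.scalar_iff ψ hψ).1 (by rw [ha, e, u_zero]))
    -- squares move the central lifts
    let W : K → Prop := fun c => ∀ w ∈ U, Commute (l c : GL (Fin 3) F) w
    have hW : ∀ (c : K) (v : P), ψ v = u c → (∀ w ∈ U, Commute (v : GL (Fin 3) F) w) → W c := by
      intro c v hv h w hw
      have hsc : ((v⁻¹ * l c : P) : GL (Fin 3) F) ∈ scalars (Fin 3) F :=
        (Core.scalar_iff ψ hψ).1 (by rw [map_mul, map_inv, hv, hl, inv_mul_cancel])
      have hh := (h w hw).mul_left (show Commute ((v⁻¹ * l c : P) : GL (Fin 3) F) w from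
        (scalars_comm' hsc w).symm)
      simpa using hh
    have hWa : W a := hW a x₀ ha (hx₀ ▸ hcent)
    have hWsq : ∀ t : K, W (t ^ 2 * a) := by
      intro t
      by_cases ht : t = 0
      · refine hW _ 1 ?_ (fun w _ => Commute.one_left w)
        rw [map_one, ht, zero_pow (by norm_num), zero_mul, u_zero]
      obtain ⟨g, hg⟩ := hs (QuotientGroup.mk (dS (Units.mk0 t ht)))
      refine hW _ (g * l a * g⁻¹) (by rw [map_mul, map_mul, map_inv, hg, hl, d_conj_u, Units.val_mk0])
        fun w hw => ?_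
      obtain ⟨x', rfl, a', ha'⟩ := hw
      have hw' : ((g⁻¹ * x' * g : P) : GL (Fin 3) F) ∈ U := by
        refine ⟨g⁻¹ * x' * g, rfl, ((Units.mk0 t ht)⁻¹ : Kˣ).val ^ 2 * a', ?_⟩
        have h := d_conj_u (Units.mk0 t ht) (((Units.mk0 t ht)⁻¹ : Kˣ).val ^ 2 * a')
        rw [← mul_assoc, ← mul_pow, ← Units.val_mul, mul_inv_cancel, Units.val_one, one_pow, one_mul,
          ← hg, ← ha'] at h
        rw [map_mul, map_mul, map_inv, ← h]
        group
      have h := (hWa _ hw').map (MulAut.conj (g : GL (Fin 3) F)).toMonoidHom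
      simpa [mul_assoc] using h
    have hall : ∀ c, W c := by
      intro c
      obtain ⟨p, q, hpq⟩ := sum_two_squares hodd (c / a)
      refine hW c (l (p ^ 2 * a) * l (q ^ 2 * a)) ?_ fun w hw => ?_
      · rw [map_mul, hl, hl, ← u_add, ← add_mul, ← hpq, div_mul_cancel₀ _ ha0]
      · exact (hWsq p w hw).mul_left (hWsq q w hw)
    obtain ⟨x', rfl, a', ha'⟩ := hx
    have hsc : (((l a')⁻¹ * x' : P) : GL (Fin 3) F) ∈ scalars (Fin 3) F :=
      (Core.scalar_iff ψ hψ).1 (by rw [map_mul, map_inv, hl, ha', inv_mul_cancel])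
    have := (hall a' y hy).mul_left (show Commute (((l a')⁻¹ * x' : P) : GL (Fin 3) F) y from
      (scalars_comm' hsc y).symm)
    exact hxy (by simpa using this)

end Cfsg.Lib.Linear.Mitchell
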