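import Cfsg.Agent.Lib.Linear.Mitchell.CoreWeights

/-!
# Eigenvectors in dimension three

An element twisted by a scalar of order three has three different eigenvalues, so its centraliser is
commutative; an element of order five is conjugate to its square only in characteristic five.
-/

set_option autoImplicit false

namespace Cfsg.Lib.Linear.Mitchell

open Cfsg.Geo
open scoped Matrix MatrixGroups

variable {F : Type*} [Field F]

theorem linearIndependent_of_eigen {ι : Type*} {g : GL (Fin 3) F} {μ : ι → AlgebraicClosure F}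
    (hμ : Function.Injective μ) (v : ι → (Fin 3 → AlgebraicClosure F))
    (hv : ∀ i, v i ≠ 0 ∧ actL g (v i) = μ i • v i) : LinearIndependent (AlgebraicClosure F) v :=
  Module.End.eigenvectors_linearIndependent' (actL g) μ hμ v fun i =>
    ⟨Module.End.mem_eigenspace_iff.2 (hv i).2, (hv i).1⟩

/-- Three different eigenvalues make the centraliser commutative. -/
theorem commute_of_three_eigen {x : GL (Fin 3) F} {μ : Fin 3 → AlgebraicClosure F}
    (hμ : Function.Injective μ) (v : Fin 3 → (Fin 3 → AlgebraicClosure F))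
    (hv : ∀ i, v i ≠ 0 ∧ actL x (v i) = μ i • v i) {a b : GL (Fin 3) F} (ha : Commute x a)
    (hb : Commute x b) : Commute a b := by
  let B := basisOfLinearIndependentOfCardEqFinrank (linearIndependent_of_eigen hμ v hv) (by simp)
  have hB : ∀ i, B i = v i := fun i => by simp [B]
  have hdiag : ∀ a : GL (Fin 3) F, Commute x a → ∀ i, ∃ c : (AlgebraicClosure F), actL a (v i) = c • v i := by
    intro a ha i
    set w := actL a (v i) with hw
    have hxw : actL x w = μ i • w := by
      rw [hw, actL_apply_mul, ha.eq, ← actL_apply_mul, (hv i).2, map_smul]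
    have hcoord : ∀ j, j ≠ i → B.repr w j = 0 := by
      intro j hj
      have h1 : B.repr (actL x w) j = μ j * B.repr w j := by
        conv_lhs => rw [← B.sum_repr w]
        simp only [map_sum, map_smul]
        simp only [hB, (hv _).2, smul_smul]
        simp only [← hB, map_smul, Finsupp.coe_finsetSum, Finset.sum_apply, Finsupp.smul_apply,
          Module.Basis.repr_self, smul_eq_mul]
        rw [Finset.sum_eq_single j (fun k _ hk => by simp [hk.symm])
          (fun h => absurd (Finset.mem_univ j) h), Finsupp.single_eq_same, mul_one, mul_comm]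
      rw [hxw, map_smul, Finsupp.smul_apply, smul_eq_mul] at h1
      have h2 : (μ i - μ j) * B.repr w j = 0 := by rw [sub_mul, h1, sub_self]
      exact (mul_eq_zero.1 h2).resolve_left (sub_ne_zero.2 fun e => hj (hμ e).symm)
    refine ⟨B.repr w i, ?_⟩
    conv_lhs => rw [← B.sum_repr w]
    rw [Finset.sum_eq_single i (fun k _ hk => by rw [hcoord k hk, zero_smul])
      (fun h => absurd (Finset.mem_univ i) h), hB]
  refine actL_injective (B.ext fun i => ?_)
  obtain ⟨c, hc⟩ := hdiag a ha i
  obtain ⟨d, hd⟩ := hdiag b hb i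
  rw [hB, ← actL_apply_mul, ← actL_apply_mul, hd, hc, map_smul, map_smul, hd, hc, smul_smul,
    smul_smul, mul_comm]

/-- The centraliser of an element twisted by a scalar of order three is commutative. -/
theorem commute_of_twisted {x g : GL (Fin 3) F} {c : F} (hc : c ^ 3 = 1) (hc1 : c ≠ 1)
    (hg : (x * g).val = c • (g * x).val) {a b : GL (Fin 3) F} (ha : Commute x a)
    (hb : Commute x b) : Commute a b := by
  obtain ⟨μ, hμ⟩ := Module.End.exists_eigenvalue (actL x)
  obtain ⟨w, hw⟩ := hμ.exists_hasEigenvector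
  have hμ0 : μ ≠ 0 := fun e => actL_ne_zero x hw.2 (by rw [hw.apply_eq_smul, e, zero_smul])
  set d := algebraMap F (AlgebraicClosure F) c with hd
  have hxg : ∀ u, actL x (actL g u) = d • actL g (actL x u) := by
    intro u
    rw [actL_apply_mul, actL_apply_mul, actL, actL, hg,
      show (c • (g * x).val).map (algebraMap F (AlgebraicClosure F)) = d • (g * x).val.map (algebraMap F (AlgebraicClosure F)) by
        ext i j; simp only [Matrix.map_apply, Matrix.smul_apply, smul_eq_mul, map_mul, hd], map_smul]
    rfl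
  have hpow : ∀ k : ℕ, actL x (actL (g ^ k) w) = (d ^ k * μ) • actL (g ^ k) w := by
    intro k
    induction k with
    | zero => rw [pow_zero, pow_zero, one_mul, actL_one]; exact hw.apply_eq_smul
    | succ k ih =>
      rw [pow_succ' g, ← actL_apply_mul, hxg, ih, map_smul, smul_smul, pow_succ' d]
      congr 1
      ring
  have hd3 : d ^ 3 = 1 := by rw [hd, ← map_pow, hc, map_one]
  have hd1 : d ≠ 1 := fun e => hc1 ((algebraMap F (AlgebraicClosure F)).injective (by rw [← hd, e, map_one]))
  refine commute_of_three_eigen (μ := fun i : Fin 3 => d ^ (i : ℕ) * μ) ?_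
    (fun i => actL (g ^ (i : ℕ)) w) (fun i => ⟨actL_ne_zero _ hw.2, hpow i⟩) ha hb
  have hdo : orderOf d = 3 := by
    haveI : Fact (Nat.Prime 3) := ⟨by norm_num⟩
    exact orderOf_eq_prime hd3 hd1
  intro i j e
  have e' := (IsOfFinOrder.pow_eq_pow_iff_modEq
    (isOfFinOrder_iff_pow_eq_one.2 ⟨3, by norm_num, hd3⟩)).1 (mul_right_cancel₀ hμ0 e)
  rw [hdo, Nat.ModEq] at e'
  fin_cases i <;> fin_cases j <;> simp at e' ⊢

/-- An element of order five conjugate to its square needs characteristic five. -/
theorem five_eq_zero_of_conj_square [Finite F] {x y : GL (Fin 3) F} (hx : x ^ 5 = 1) (hx1 : x ≠ 1)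
    (hy : y * x * y⁻¹ = x ^ 2) : (5 : F) = 0 := by
  by_contra h5
  obtain ⟨μ, hμ, hμ1⟩ : ∃ μ : (AlgebraicClosure F), (actL x).HasEigenvalue μ ∧ μ ≠ 1 := by
    by_contra h
    push Not at h
    have e := scalar_of_eigen (n := 5) (by exact_mod_cast h5) hx h
    refine hx1 (actL_injective ?_)
    rw [actL_one, actL, e, one_smul, Matrix.toLin'_one]
    rfl
  obtain ⟨w, hw⟩ := hμ.exists_hasEigenvector
  have hpow : ∀ (v : Fin 3 → (AlgebraicClosure F)) (ν : (AlgebraicClosure F)), actL x v = ν • v → ∀ k : ℕ, actL (x ^ k) v = ν ^ k • v := by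
    intro v ν hv k
    induction k with
    | zero => rw [pow_zero, actL_one, pow_zero, one_smul]; rfl
    | succ k ih => rw [pow_succ, ← actL_apply_mul, hv, map_smul, ih, smul_smul, pow_succ, mul_comm]
  have hμ5 : μ ^ 5 = 1 := by
    have h := hpow w μ hw.apply_eq_smul 5
    rw [hx, actL_one] at h
    exact smul_left_injective _ hw.2 (h.symm.trans (one_smul _ w).symm)
  have hxy : x * y⁻¹ = y⁻¹ * x ^ 2 := by rw [← hy]; group
  have hk : ∀ k : ℕ, actL x (actL (y⁻¹ ^ k) w) = (μ ^ 2 ^ k) • actL (y⁻¹ ^ k) w := by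
    intro k
    induction k with
    | zero => rw [pow_zero, pow_zero, pow_one, actL_one]; exact hw.apply_eq_smul
    | succ k ih =>
      rw [pow_succ' y⁻¹, ← actL_apply_mul, actL_apply_mul x, hxy, ← actL_apply_mul, hpow _ _ ih 2,
        map_smul, ← pow_mul, ← pow_succ]
  have hμo : orderOf μ = 5 := by
    haveI : Fact (Nat.Prime 5) := ⟨by norm_num⟩
    exact orderOf_eq_prime hμ5 hμ1
  have hinj : Function.Injective fun i : Fin 4 => μ ^ 2 ^ (i : ℕ) := by
    intro i j e
    have h := (IsOfFinOrder.pow_eq_pow_iff_modEq (isOfFinOrder_iff_pow_eq_one.2 ⟨5, by norm_num, hμ5⟩)).1 e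
    rw [hμo, Nat.ModEq] at h
    fin_cases i <;> fin_cases j <;> simp at h ⊢
  have := (linearIndependent_of_eigen hinj (fun i : Fin 4 => actL (y⁻¹ ^ (i : ℕ)) w)
    (fun i => ⟨actL_ne_zero _ hw.2, hk i⟩)).fintype_card_le_finrank
  simp at this

end Cfsg.Lib.Linear.Mitchell
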