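import Cfsg.Agent.Lib.Linear.Mitchell.CoreForms
import Cfsg.Agent.Lib.Linear.Mitchell.CoreL2Eigen
import Cfsg.Agent.Lib.Linear.Mitchell.CoreL2Bound
import Cfsg.Agent.S2086

/-!
# `L₂(p^k)` and `A₅` in dimension three fix a quadratic form; `A₇` needs characteristic five

The triple cover does not exist, and every element is conjugate to its inverse or of order `p`.
-/

set_option autoImplicit false

universe u

namespace Cfsg.Lib.Linear.Mitchell

open Cfsg.Geo
open scoped Matrix MatrixGroups

variable {K : Type} [Field K] [Fintype K]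

/-- An element of `SL₂(K)` with trace not `±2`, or with `-1` a square, is conjugate to its inverse. -/
theorem exists_inverting (hK : ringChar K ≠ 2) (A : Matrix.SpecialLinearGroup (Fin 2) K)
    (h : A.1.trace ^ 2 ≠ 4 ∨ IsSquare (-1 : K)) :
    ∃ y : Matrix.SpecialLinearGroup (Fin 2) K, A * y * A = y := by
  have h2 : (2 : K) ≠ 0 := Ring.two_ne_zero hK
  obtain ⟨a, b, c, hdet, htr⟩ : ∃ a b c : K, -a ^ 2 - b * c = 1 ∧
      a * (A.1 0 0 - A.1 1 1) + b * A.1 1 0 + c * A.1 0 1 = 0 := by
    have hd := A.2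
    rw [Matrix.det_fin_two] at hd
    rw [Matrix.trace_fin_two] at h
    by_cases h10 : A.1 1 0 = 0
    · by_cases h01 : A.1 0 1 = 0
      · exact ⟨0, 1, -1, by ring, by rw [h10, h01]; ring⟩
      by_cases hd0 : A.1 0 0 - A.1 1 1 = 0
      · rcases h with h | ⟨i, hi⟩
        · refine absurd ?_ h
          linear_combination 4 * hd + (A.1 0 0 - A.1 1 1) * hd0 + 4 * A.1 0 1 * h10
        · exact ⟨i, 0, 0, by linear_combination hi, by rw [hd0]; ring⟩
      · refine ⟨1, 2 * A.1 0 1 / (A.1 0 0 - A.1 1 1), -(A.1 0 0 - A.1 1 1) / A.1 0 1, ?_, ?_⟩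
        · field_simp; ring
        · rw [h10]; field_simp; ring
    · rcases h with h | ⟨i, hi⟩
      · -- complete the square
        set d := A.1 0 0 - A.1 1 1 with hdd
        have hD : d ^ 2 + 4 * (A.1 0 1 * A.1 1 0) ≠ 0 := fun e => h (by
          rw [hdd] at e; linear_combination e + 4 * hd)
        obtain ⟨w, c, hwc⟩ := FiniteField.exists_root_sum_quadratic (R := K) (f := Polynomial.X ^ 2)
          (g := Polynomial.C (-((d ^ 2 + 4 * (A.1 0 1 * A.1 1 0)) / (4 * A.1 1 0 ^ 2))) * Polynomial.X ^ 2 +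
            Polynomial.C 1)
          (Polynomial.degree_X_pow 2) (by
            rw [Polynomial.degree_add_C (by
              rw [Polynomial.degree_C_mul_X_pow _ (neg_ne_zero.2 (div_ne_zero hD (by
                rw [show (4 : K) = 2 * 2 by norm_num]
                exact mul_ne_zero (mul_ne_zero h2 h2) (pow_ne_zero _ h10))))]
              norm_num),
              Polynomial.degree_C_mul_X_pow _ (neg_ne_zero.2 (div_ne_zero hD (by
                rw [show (4 : K) = 2 * 2 by norm_num]
                exact mul_ne_zero (mul_ne_zero h2 h2) (pow_ne_zero _ h10))))]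
            norm_num)
          (FiniteField.odd_card_of_char_ne_two hK)
        simp at hwc
        refine ⟨w + d * c / (2 * A.1 1 0), -((w + d * c / (2 * A.1 1 0)) * d + c * A.1 0 1) / A.1 1 0, c,
          ?_, ?_⟩
        · have h4 : (4 : K) ≠ 0 := by
            rw [show (4 : K) = 2 * 2 by norm_num]; exact mul_ne_zero h2 h2
          field_simp at hwc ⊢
          linear_combination -hwc
        · field_simp; ring
      · refine ⟨i, -(i * (A.1 0 0 - A.1 1 1)) / A.1 1 0, 0, by linear_combination hi, ?_⟩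
        field_simp; ring
  refine ⟨⟨!![a, b; c, -a], by rw [Matrix.det_fin_two_of]; linear_combination hdet⟩, Subtype.ext ?_⟩
  have hd := A.2
  rw [Matrix.det_fin_two] at hd
  show A.1 * !![a, b; c, -a] * A.1 = !![a, b; c, -a]
  ext i j
  fin_cases i <;> fin_cases j <;> simp [Matrix.mul_apply, Fin.sum_univ_two]
  · linear_combination A.1 0 0 * htr + a * hd
  · linear_combination A.1 0 1 * htr + b * hd
  · linear_combination A.1 1 0 * htr + c * hd
  · linear_combination A.1 1 1 * htr - a * hd

/-- Trace `±2`: the image has order dividing the characteristic. -/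
theorem pow_char_eq_one {ℓ : ℕ} [Fact ℓ.Prime] [CharP K ℓ] (hℓ : ℓ ≠ 2) (A : Matrix.SpecialLinearGroup (Fin 2) K)
    (h : A.1.trace ^ 2 = 4) :
    (QuotientGroup.mk A : Matrix.ProjectiveSpecialLinearGroup (Fin 2) K) ^ ℓ = 1 := by
  rw [← QuotientGroup.mk_pow, QuotientGroup.eq_one_iff, Matrix.SpecialLinearGroup.mem_center_iff]
  obtain ⟨e, he, he2⟩ : ∃ e : K, A.1.trace = e + e ∧ e ^ 2 = 1 := by
    rcases mul_eq_zero.1 (show (A.1.trace - 2) * (A.1.trace + 2) = 0 by linear_combination h) with h | h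
    · exact ⟨1, by linear_combination h, by norm_num⟩
    · exact ⟨-1, by linear_combination h, by norm_num⟩
  refine ⟨e ^ ℓ, by rw [Fintype.card_fin, ← pow_mul, mul_comm, pow_mul, he2, one_pow], ?_⟩
  have hd := A.2
  rw [Matrix.det_fin_two] at hd
  rw [Matrix.trace_fin_two] at he
  have hN : (A.1 - e • 1) ^ 2 = 0 := by
    ext i j
    fin_cases i <;> fin_cases j <;> simp [pow_two, Matrix.mul_apply, Fin.sum_univ_two]
    · linear_combination A.1 0 0 * he - hd + he2
    · linear_combination A.1 0 1 * he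
    · linear_combination A.1 1 0 * he
    · linear_combination A.1 1 1 * he - hd + he2
  have hA : A.1 = (A.1 - e • 1) + e • (1 : Matrix (Fin 2) (Fin 2) K) := by rw [sub_add_cancel]
  haveI : CharP (Matrix (Fin 2) (Fin 2) K) ℓ := inferInstance
  have hNl : (A.1 - e • 1) ^ ℓ = 0 :=
    pow_eq_zero_of_le (Fact.out : ℓ.Prime).two_le hN
  rw [Matrix.SpecialLinearGroup.coe_pow, hA, add_pow_char_of_commute (R := Matrix (Fin 2) (Fin 2) K) ℓ
    ((Commute.one_right _).smul_right e), hNl, zero_add, smul_pow, one_pow, Matrix.scalar_apply,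
    Matrix.smul_one_eq_diagonal]

variable {F : Type u} [Field F] [Finite F] {P : Subgroup (GL (Fin 3) F)}

/-- No triple cover of `L₂(r)`, `r` odd, other than `r = 9`. -/
theorem scalars_trivial (hP : Core P) (ψ : P →* Matrix.ProjectiveSpecialLinearGroup (Fin 2) K)
    (hs : Function.Surjective ψ) (hψ : ψ.ker = (scalars (Fin 3) F).subgroupOf P) (h3K : 3 < Fintype.card K)
    (hodd : ringChar K ≠ 2) (h9 : (3 : F) = 0 ∨ Fintype.card K ≠ 9) {x : P} (hx : ψ x = 1) : x = 1 := by
  have hxs := (Core.scalar_iff ψ hψ).1 hx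
  have hx3 : x ^ 3 = 1 := Subtype.ext (scalar_cube hxs (hP.le_sl x.2))
  by_cases h3 : (3 : F) = 0
  · obtain ⟨c, -, hc⟩ := exists_scalar hxs
    have hd := det_val_eq_one (hP.le_sl x.2)
    rw [hc, Matrix.det_smul, Matrix.det_one, mul_one, Fintype.card_fin] at hd
    haveI : Fact (Nat.Prime 3) := ⟨by norm_num⟩
    haveI : CharP F 3 := (CharP.charP_iff_prime_eq_zero Nat.prime_three).2 (by exact_mod_cast h3)
    have hz : (c - 1) ^ 3 = 0 := by rw [sub_pow_char, one_pow, hd, sub_self]
    exact Subtype.ext (Units.ext (by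
      rw [hc, sub_eq_zero.1 (eq_zero_of_pow_eq_zero hz), one_smul, OneMemClass.coe_one, Units.val_one]))
  -- a finite model in the lowest universe
  let Γ := Shrink.{0} P
  haveI : Finite Γ := Finite.of_equiv _ (equivShrink.{0} P)
  let e : Γ ≃* P := Shrink.mulEquiv
  let σ := ψ.comp e.toMonoidHom
  have hodd' := FiniteField.odd_card_of_char_ne_two hodd
  have hσ : Cfsg.IsStemExtension σ := by
    refine ⟨hs.comp e.surjective, fun a ha => ?_, fun a ha => ?_⟩
    · have hsc := (Core.scalar_iff ψ hψ).1 ha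
      rw [Subgroup.mem_center_iff]
      intro b
      apply e.injective
      rw [map_mul, map_mul]
      exact Subtype.ext (scalars_comm' hsc _)
    · have hperf : commutator P = ⊤ := by
        refine Subgroup.map_injective P.subtype_injective ?_
        rw [_root_.commutator_def, Subgroup.map_commutator, ← MonoidHom.range_eq_map, Subgroup.range_subtype,
          hP.perfect]
      have : commutator Γ = ⊤ := by
        refine Subgroup.map_injective (f := e.toMonoidHom) e.injective ?_
        rw [_root_.commutator_def, Subgroup.map_commutator,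
          Subgroup.map_top_of_surjective e.toMonoidHom e.surjective, ← _root_.commutator_def, hperf]
      rw [this]; exact Subgroup.mem_top _
  have hmult := Cfsg.Agent.S2086.result (F := K) rfl 2 le_rfl (fun _ => by omega) (by
    simp only [Set.mem_insert_iff, Set.mem_singleton_iff, Prod.mk.injEq]
    rcases h9 with h9 | h9
    · exact absurd h9 h3
    · omega)
  have h2 : Nat.gcd 2 (Fintype.card K - 1) = 2 := Nat.gcd_eq_left (by omega)
  obtain ⟨π, hπ⟩ := hmult.2 Γ σ hσ
  obtain ⟨a, ha⟩ := hπ ⟨e.symm x, by rw [MonoidHom.mem_ker]; simpa [σ] using hx⟩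
  have ha2 : a ^ 2 = 1 := by
    have h : a ^ Nat.gcd 2 (Fintype.card K - 1) = 1 := Multiplicative.toAdd.injective (by
      rw [toAdd_pow, nsmul_eq_mul, toAdd_one, ZMod.natCast_self, zero_mul])
    exact (congrArg (fun k : ℕ => a ^ k) h2).symm.trans h
  have hx2 : x ^ 2 = 1 := by
    have h := congrArg (fun k : σ.ker => e (k : Γ)) ((congrArg π ha2).trans (map_one π))
    simp only [map_pow, ha] at h
    simpa using h
  calc x = x ^ 3 * (x ^ 2)⁻¹ := by group
    _ = 1 := by rw [hx3, hx2, inv_one, mul_one]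

/-- `L₂(r)`, `r` a power of `p` or `r = 5`, fixes a quadratic form. -/
theorem quad_of_psl (h2 : (2 : F) ≠ 0) (hP : Core P)
    (ψ : P →* Matrix.ProjectiveSpecialLinearGroup (Fin 2) K)
    (hs : Function.Surjective ψ) (hψ : ψ.ker = (scalars (Fin 3) F).subgroupOf P) (h3K : 3 < Fintype.card K)
    (hodd : ringChar K ≠ 2) (hchar : ringChar K = ringChar F ∨ Fintype.card K = 5) :
    ∃ Q : (Fin 3 → F) → F, IsNondegenerateQuadraticForm Q ∧ FixesQuadForm (matrixSet P) Q := by
  have hinj : Function.Injective ψ := by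
    refine (injective_iff_map_eq_one ψ).2 fun x hx => scalars_trivial hP ψ hs hψ h3K hodd ?_ hx
    rcases hchar with h | h
    · by_cases h9 : Fintype.card K = 9
      · refine Or.inl ?_
        haveI : Fact (ringChar K).Prime := ⟨CharP.char_is_prime K _⟩
        obtain ⟨N, -, hN⟩ := FiniteField.card K (ringChar K)
        have : ringChar K = 3 := by
          have hd : ringChar K ∣ 3 ^ 2 := by
            rw [show (3 : ℕ) ^ 2 = Fintype.card K by rw [h9]; rfl, hN]; exact dvd_pow_self _ N.pos.ne'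
          exact (Nat.prime_dvd_prime_iff_eq Fact.out Nat.prime_three).1
            ((Fact.out : (ringChar K).Prime).dvd_of_dvd_pow hd)
        have h0 := CharP.cast_eq_zero F (ringChar F)
        rw [← h, this] at h0
        exact_mod_cast h0
      · exact Or.inr h9
    · exact Or.inr (by omega)
  refine exists_quad_of_trace h2 hP.absIrr fun x hx => ?_
  obtain ⟨A, hA⟩ := QuotientGroup.mk_surjective (ψ ⟨x, hx⟩)
  by_cases hconj : A.1.trace ^ 2 ≠ 4 ∨ IsSquare (-1 : K)
  · obtain ⟨y, hy⟩ := exists_inverting hodd A hconj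
    obtain ⟨g, hg⟩ := hs (QuotientGroup.mk y)
    have hcon : (⟨x, hx⟩ : P) = g * (⟨x, hx⟩ : P)⁻¹ * g⁻¹ := by
      apply hinj
      rw [map_mul, map_mul, map_inv, map_inv, ← hA, hg, eq_mul_inv_iff_mul_eq, eq_mul_inv_iff_mul_eq]
      exact congrArg (QuotientGroup.mk) hy
    have e := congrArg (fun v : P => (v : GL (Fin 3) F).val.trace) hcon
    simp only [Subgroup.coe_mul, Subgroup.coe_inv, Units.val_mul] at e
    rw [e, Matrix.trace_units_conj]
  · push Not at hconj
    obtain ⟨htr, hsq⟩ := hconj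
    have hpF : ringChar K = ringChar F := hchar.resolve_right fun h5 =>
      hsq (FiniteField.isSquare_neg_one_iff.2 (by omega))
    set p := ringChar K with hp
    haveI : Fact p.Prime := ⟨CharP.char_is_prime K p⟩
    haveI : CharP F p := hpF ▸ ringChar.charP F
    have hxp : x ^ p = 1 := by
      have h : (⟨x, hx⟩ : P) ^ p = 1 := hinj (by rw [map_pow, ← hA, pow_char_eq_one hodd A htr, map_one])
      exact congrArg Subtype.val h
    have key : ∀ y : GL (Fin 3) F, y ^ p = 1 → y.val.trace = 3 := by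
      intro y hy
      haveI : CharP (Matrix (Fin 3) (Fin 3) F) p := inferInstance
      have hn : IsNilpotent (y.val - 1) := ⟨p, by
        rw [sub_pow_char_of_commute (R := Matrix (Fin 3) (Fin 3) F) p (Commute.one_right _), one_pow,
          ← Units.val_pow_eq_pow_val, hy, Units.val_one, sub_self]⟩
      have := (Matrix.isNilpotent_trace_of_isNilpotent hn).eq_zero
      rw [Matrix.trace_sub, Matrix.trace_one, Fintype.card_fin, sub_eq_zero] at this
      rw [this]; norm_num
    rw [key x hxp, key x⁻¹ (by rw [inv_pow, hxp, inv_one])]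

/-- `A₇` needs characteristic five. -/
theorem char_five_of_A7 (hP : Core P)
    (e : (P ⧸ (scalars (Fin 3) F).subgroupOf P) ≃* alternatingGroup (Fin 7)) : ringChar F = 5 := by
  let c : alternatingGroup (Fin 7) := ⟨c[(0 : Fin 7), 1, 2, 3, 4], Equiv.Perm.mem_alternatingGroup.2 (by decide +kernel)⟩
  let w : alternatingGroup (Fin 7) := ⟨c[(1 : Fin 7), 2, 4, 3] * c[(5 : Fin 7), 6],
    Equiv.Perm.mem_alternatingGroup.2 (by decide +kernel)⟩
  obtain ⟨x, hx⟩ := QuotientGroup.mk'_surjective _ (e.symm c)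
  obtain ⟨y, hy⟩ := QuotientGroup.mk'_surjective _ (e.symm w)
  set q := QuotientGroup.mk' ((scalars (Fin 3) F).subgroupOf P) with hq
  have hsc : ∀ v : P, q v = 1 → (v : GL (Fin 3) F) ∈ scalars (Fin 3) F := fun v hv => by
    rw [hq, QuotientGroup.mk'_apply, QuotientGroup.eq_one_iff, Subgroup.mem_subgroupOf] at hv
    exact hv
  have hc5 : c ^ 5 = 1 := by decide +kernel
  have hc1 : c ≠ 1 := by decide +kernel
  have hconj : w * c * w⁻¹ = c ^ 2 := by decide +kernel
  have hx5 : (x : GL (Fin 3) F) ^ 15 = 1 := by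
    have h : q (x ^ 5) = 1 := by rw [map_pow, hx, ← map_pow, hc5, map_one]
    have := scalar_cube (hsc _ h) (hP.le_sl (x ^ 5 : P).2)
    rw [Subgroup.coe_pow, ← pow_mul] at this
    exact this
  set x' : GL (Fin 3) F := (x : GL (Fin 3) F) ^ 6 with hx'
  have hx'5 : x' ^ 5 = 1 := by rw [hx', ← pow_mul, show 6 * 5 = 15 * 2 by rfl, pow_mul, hx5, one_pow]
  have hx'1 : x' ≠ 1 := by
    intro e1
    have h : q (x ^ 6) = 1 := by rw [show x ^ 6 = 1 from Subtype.ext e1, map_one]
    rw [map_pow, hx, ← map_pow, ← map_one e.symm] at h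
    have h' := e.symm.injective h
    rw [pow_succ, hc5, one_mul] at h'
    exact hc1 h'
  have hy' : (y : GL (Fin 3) F) * x' * (y : GL (Fin 3) F)⁻¹ = x' ^ 2 := by
    have h : q ((x ^ 12)⁻¹ * (y * x ^ 6 * y⁻¹)) = 1 := by
      simp only [map_mul, map_inv, map_pow, hx, hy]
      simp only [← map_pow, ← map_inv, ← map_mul]
      rw [show (c ^ 12)⁻¹ * (w * c ^ 6 * w⁻¹) = 1 by decide +kernel, map_one]
    have hs := hsc _ h
    set s := ((x ^ 12)⁻¹ * (y * x ^ 6 * y⁻¹) : P) with hsdef
    have hs3 := scalar_cube hs (hP.le_sl s.2)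
    have e1 : (y : GL (Fin 3) F) * x' * (y : GL (Fin 3) F)⁻¹ = x' ^ 2 * s := by
      rw [hsdef, hx', ← pow_mul]
      simp only [Subgroup.coe_mul, Subgroup.coe_inv, Subgroup.coe_pow]
      group
    have e5 := congrArg (· ^ 5) e1
    simp only [conj_pow, hx'5, mul_one, mul_inv_cancel] at e5
    rw [Commute.mul_pow (scalars_comm' hs _), ← pow_mul, pow_mul', hx'5, one_pow, one_mul] at e5
    have hs1 : (s : GL (Fin 3) F) = 1 := by
      calc (s : GL (Fin 3) F) = ((s : GL (Fin 3) F) ^ 3) ^ 2 * ((s : GL (Fin 3) F) ^ 5)⁻¹ := by group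
        _ = 1 := by rw [hs3, ← e5, one_pow, inv_one, mul_one]
    rw [e1, hs1, mul_one]
  have h5 := five_eq_zero_of_conj_square hx'5 hx'1 hy'
  haveI : Fact (Nat.Prime 5) := ⟨by norm_num⟩
  haveI : CharP F 5 := (CharP.charP_iff_prime_eq_zero Nat.prime_five).2 (by exact_mod_cast h5)
  exact ringChar.eq F 5

end Cfsg.Lib.Linear.Mitchell
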