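import Cfsg.Agent.Lib.Linear.Mitchell.CoreInvol
import Cfsg.Agent.Lib.Linear.RankThreeEven
import Cfsg.Agent.S3214

/-!
# The groups without transvections

If `P` has no transvection, `P/Z` has elementary abelian 2-subgroups of order at most four and is
`L₂(4)`, `L₂(r)` with `r` odd, or `A₇`.
-/

set_option autoImplicit false

namespace Cfsg.Lib.Linear.Mitchell

open Cfsg.Geo
open Cfsg.Lib.Linear.TVec
open scoped Matrix MatrixGroups

variable {F : Type*} [Field F] [Fintype F] {P : Subgroup (GL (Fin 3) F)}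

theorem exists_lift_invol (hP : Core P) {τ : P ⧸ (scalars (Fin 3) F).subgroupOf P} (hτ : τ * τ = 1) :
    ∃ t : P, (t : GL (Fin 3) F) * t = 1 ∧ QuotientGroup.mk' _ t = τ := by
  obtain ⟨s, hs⟩ := QuotientGroup.mk'_surjective _ τ
  refine ⟨s * s * s, ?_, by rw [map_mul, map_mul, hs, hτ, one_mul]⟩
  have hss : (s : GL (Fin 3) F) * s ∈ scalars (Fin 3) F := by
    have : QuotientGroup.mk' ((scalars (Fin 3) F).subgroupOf P) (s * s) = 1 := by rw [map_mul, hs, hτ]
    rw [QuotientGroup.mk'_apply, QuotientGroup.eq_one_iff, Subgroup.mem_subgroupOf] at this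
    simpa using this
  have h := scalar_cube hss (mul_mem (hP.le_sl s.2) (hP.le_sl s.2))
  rw [← h]
  simp only [Subgroup.coe_mul, pow_three, mul_assoc]

theorem commute_of_mk_commute (hP : Core P) {t g : P} (ht : (t : GL (Fin 3) F) * t = 1)
    (h : Commute (QuotientGroup.mk' ((scalars (Fin 3) F).subgroupOf P) g)
      (QuotientGroup.mk' ((scalars (Fin 3) F).subgroupOf P) t)) :
    Commute (t : GL (Fin 3) F) (g : GL (Fin 3) F) := by
  refine commute_of_invol_mod ht ?_ (mul_mem (mul_mem (mul_mem (hP.le_sl g.2) (hP.le_sl t.2))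
    (inv_mem (hP.le_sl g.2))) (inv_mem (hP.le_sl t.2)))
  have h1 : QuotientGroup.mk' ((scalars (Fin 3) F).subgroupOf P) (g * t * g⁻¹ * t⁻¹) = 1 := by
    rw [map_mul, map_mul, map_mul, map_inv, map_inv, h.eq, mul_inv_cancel_right, mul_inv_cancel]
  rw [QuotientGroup.mk'_apply, QuotientGroup.eq_one_iff, Subgroup.mem_subgroupOf] at h1
  simpa using h1

/-- The 2-rank of `P/Z` is at most two. -/
theorem not_rank_three (h2 : (2 : F) ≠ 0) (hP : Core P) :
    ¬ Cfsg.PRankAtLeast 2 3 (P ⧸ (scalars (Fin 3) F).subgroupOf P) := by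
  classical
  rintro ⟨A, hA, hA2, hcard⟩
  have h8 : 8 ≤ Nat.card A := by simpa using hcard
  have hsq : ∀ a : A, (a : P ⧸ (scalars (Fin 3) F).subgroupOf P) * a = 1 := fun a => by rw [← pow_two]; exact hA2 _ a.2
  choose t ht2 htq using fun a : A => exists_lift_invol hP (hsq a)
  obtain ⟨τ, hτ⟩ : ∃ τ : A, τ ≠ 1 := by
    by_contra h
    push Not at h
    have : Subsingleton A := ⟨fun a b => (h a).trans (h b).symm⟩
    rw [Nat.card_of_subsingleton (1 : A)] at h8
    omega
  have hcomm : ∀ a b : A, Commute (t a : GL (Fin 3) F) (t b) := fun a b =>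
    commute_of_mk_commute hP (ht2 a) (by
      rw [htq, htq]; exact congrArg Subtype.val (hA.is_comm.comm b a))
  have ht1 : (t τ : GL (Fin 3) F) ≠ 1 := fun e => hτ (Subtype.ext (by
    rw [← htq τ, show t τ = 1 from Subtype.ext e, map_one]; rfl))
  obtain ⟨Q, hQ⟩ := exists_flip_frame h2 (hP.le_sl (t τ).2) (ht2 τ) ht1
  choose x hxK hx using fun a : A => exists_cGroup h2 hP hQ (t a).2 (hcomm τ a)
  have hxx : ∀ a, x a * x a = 1 := fun a => emb_injective (by
    rw [map_mul, map_one, show emb (x a) = Q⁻¹ * (t a : GL (Fin 3) F) * Q by rw [← hx a]; group,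
      show Q⁻¹ * (t a : GL (Fin 3) F) * Q * (Q⁻¹ * (t a : GL (Fin 3) F) * Q) =
        Q⁻¹ * ((t a : GL (Fin 3) F) * t a) * Q by group, ht2, mul_one, inv_mul_cancel])
  have hxinj : Function.Injective x := fun a b e => Subtype.ext (by
    rw [← htq a, ← htq b, show t a = t b from Subtype.ext (by rw [← hx a, ← hx b, e])])
  have hxc : ∀ a b, x a * x b = x b * x a := fun a b => emb_injective (by
    rw [map_mul, map_mul]
    have h := (hcomm a b).eq
    rw [← hx a, ← hx b] at h
    have h' := congrArg (fun u => Q⁻¹ * u * Q) h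
    simpa [mul_assoc] using h')
  have key : ∀ a b, x a ≠ 1 → (x a).val ≠ -1 → x b ≠ 1 → (x b).val ≠ -1 → x b ≠ x a →
      (x b).val = -(x a).val := by
    intro a b ha ha' hb hb' hab
    have h1 : (x a * x b) * (x a * x b) = 1 := by
      rw [mul_assoc, ← mul_assoc (x b), ← hxc a b, mul_assoc (x a) (x b), hxx, mul_one, hxx]
    have hd : (x a * x b).val.det = 1 := by
      rw [Units.val_mul, Matrix.det_mul, det_invol h2 (hxx a) ha ha', det_invol h2 (hxx b) hb hb']
      ring
    have hne : x a * x b ≠ 1 := fun e => hab (by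
      calc x b = x a * (x a * x b) := by rw [← mul_assoc, hxx, one_mul]
        _ = x a := by rw [e, mul_one])
    have hm : (x a * x b).val = -1 := by
      by_contra hm
      rw [det_invol h2 h1 hne hm] at hd
      exact h2 (by linear_combination -hd)
    have : (x b).val = (x a).val * (x a * x b).val := by
      rw [← Units.val_mul, ← mul_assoc, hxx, one_mul]
    rw [this, hm, mul_neg, mul_one]
  -- at most four possibilities
  by_cases hex : ∃ a, x a ≠ 1 ∧ (x a).val ≠ -1
  · obtain ⟨a, ha, ha'⟩ := hex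
    have h4 : ∀ b, (x b).val ∈ ({1, -1, (x a).val, -(x a).val} : Finset (Matrix (Fin 2) (Fin 2) F)) := by
      intro b
      simp only [Finset.mem_insert, Finset.mem_singleton]
      by_cases hb : x b = 1
      · exact Or.inl (by rw [hb, Units.val_one])
      by_cases hb' : (x b).val = -1
      · exact Or.inr (Or.inl hb')
      by_cases hab : x b = x a
      · exact Or.inr (Or.inr (Or.inl (by rw [hab])))
      · exact Or.inr (Or.inr (Or.inr (key a b ha ha' hb hb' hab)))
    haveI : Fintype A := Fintype.ofFinite A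
    have := Finset.card_le_card_of_injOn (fun b : A => (x b).val) (s := Finset.univ) (fun b _ => h4 b)
      (fun b _ c _ e => hxinj (Units.ext e))
    rw [Finset.card_univ, ← Nat.card_eq_fintype_card] at this
    have := this.trans Finset.card_le_four
    omega
  · push Not at hex
    haveI : Fintype A := Fintype.ofFinite A
    have := Finset.card_le_card_of_injOn (fun b : A => (x b).val) (s := Finset.univ)
      (t := ({1, -1} : Finset (Matrix (Fin 2) (Fin 2) F))) (fun b _ => by
        simp only [Finset.coe_insert, Finset.coe_singleton, Set.mem_insert_iff,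
          Set.mem_singleton_iff]
        by_cases hb : x b = 1
        · exact Or.inl (by rw [hb, Units.val_one])
        · exact Or.inr (hex b hb))
      (fun b _ c _ e => hxinj (Units.ext e))
    rw [Finset.card_univ, ← Nat.card_eq_fintype_card] at this
    have := this.trans Finset.card_le_two
    omega

/-- The list for groups without transvections. -/
theorem noT_list (h2 : (2 : F) ≠ 0) (hP : Core P) (hT : NoT P) :
    (∃ (K : Type) (_ : Field K) (_ : Fintype K), 3 < Fintype.card K ∧
      (Fintype.card K = 4 ∨ Fintype.card K % 2 = 1) ∧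
      Nonempty ((P ⧸ (scalars (Fin 3) F).subgroupOf P) ≃* Matrix.ProjectiveSpecialLinearGroup (Fin 2) K)) ∨
    Nonempty ((P ⧸ (scalars (Fin 3) F).subgroupOf P) ≃* alternatingGroup (Fin 7)) := by
  haveI := hP.simple
  rcases Cfsg.Agent.S3214.result hP.nonab (two_nilpotent_centralizers h2 hP hT) with
    ⟨K, _, _, h3, ⟨e⟩⟩ | h | h | ⟨K, _, _, h4, ⟨e⟩⟩
  · refine Or.inl ⟨K, inferInstance, inferInstance, h3, ?_, ⟨e⟩⟩
    by_contra hc
    push Not at hc
    obtain ⟨hc4, hodd⟩ := hc
    obtain ⟨q, hq⟩ := CharP.exists K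
    haveI : Fact q.Prime := ⟨CharP.char_is_prime K q⟩
    obtain ⟨N, -, hN⟩ := FiniteField.card K q
    have hq2 : q = 2 := by
      have hd : 2 ∣ q ^ (N : ℕ) := Nat.dvd_of_mod_eq_zero (by rw [← hN]; omega)
      exact ((Nat.prime_dvd_prime_iff_eq Nat.prime_two (Fact.out : q.Prime)).1
        (Nat.prime_two.dvd_of_dvd_pow hd)).symm
    subst hq2
    refine not_rank_three h2 hP (Cfsg.Lib.RankThree.of_equiv e ?_)
    refine Cfsg.Lib.RankThree.psl_rank_three (k := 1) ?_
    rw [pow_one, hN]
    have h2N : 3 ≤ (N : ℕ) := by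
      rw [hN] at h3 hc4
      rcases (show (N : ℕ) = 1 ∨ (N : ℕ) = 2 ∨ 3 ≤ (N : ℕ) by have := N.pos; omega) with h | h | h
      · rw [h] at h3; omega
      · rw [h] at hc4; omega
      · exact h
    exact le_trans (by norm_num : 8 ≤ 2 ^ 3) (Nat.pow_le_pow_right (by norm_num) h2N)
  · exact absurd (Cfsg.Lib.RankThree.rank_three_suzuki h) (not_rank_three h2 hP)
  · exact Or.inr h
  · exfalso
    obtain ⟨q, hq⟩ := CharP.exists K
    haveI : Fact q.Prime := ⟨CharP.char_is_prime K q⟩
    obtain ⟨N, -, hN⟩ := FiniteField.card K q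
    have hq2 : q = 2 := by
      have hd : q ∣ 2 ^ 2 := by rw [show (2 : ℕ) ^ 2 = q ^ (N : ℕ) by rw [← hN, h4]; rfl]; exact dvd_pow_self q N.pos.ne'
      exact (Nat.prime_dvd_prime_iff_eq (Fact.out : q.Prime) Nat.prime_two).1
        ((Fact.out : q.Prime).dvd_of_dvd_pow hd)
    subst hq2
    exact not_rank_three h2 hP (Cfsg.Lib.RankThree.of_equiv e
      (Cfsg.Lib.RankThree.psl_rank_three (k := 2) (by rw [h4]; norm_num)))

end Cfsg.Lib.Linear.Mitchell
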