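import Cfsg.Agent.Lib.Linear.Mitchell.CoreBasic
import Cfsg.Agent.Lib.Linear.AltDeg.Characters

/-!
# Weights of abelian subgroups of `GL₃` of exponent prime to `p`

Over the algebraic closure an abelian group of exponent `n` prime to `p` has at most three weights,
and they separate its elements; an element normalising it permutes them.
-/

set_option autoImplicit false

namespace Cfsg.Lib.Linear.Mitchell

open Cfsg.Geo
open scoped Matrix MatrixGroups

variable {F : Type*} [Field F]

/-- A matrix over the algebraic closure, as an operator. -/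
noncomputable def actL (g : GL (Fin 3) F) :
    Module.End (AlgebraicClosure F) (Fin 3 → AlgebraicClosure F) :=
  Matrix.toLin' (g.val.map (algebraMap F (AlgebraicClosure F)))

theorem actL_mul (g h : GL (Fin 3) F) : actL (g * h) = actL g * actL h := by
  rw [actL, actL, actL, Units.val_mul, Matrix.map_mul, Matrix.toLin'_mul]
  rfl

theorem actL_one : actL (1 : GL (Fin 3) F) = 1 := by
  rw [actL, Units.val_one, Matrix.map_one _ (map_zero _) (map_one _), Matrix.toLin'_one]
  rfl

theorem actL_apply_mul (g h : GL (Fin 3) F) (v : Fin 3 → AlgebraicClosure F) :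
    actL g (actL h v) = actL (g * h) v := by rw [actL_mul]; rfl

theorem actL_injective : Function.Injective (actL : GL (Fin 3) F → _) := by
  intro g h e
  have e' := Matrix.toLin'.injective e
  exact Units.ext (Matrix.ext fun i j =>
    (algebraMap F (AlgebraicClosure F)).injective (congrFun (congrFun e' i) j))

theorem actL_ne_zero (g : GL (Fin 3) F) {v : Fin 3 → AlgebraicClosure F} (hv : v ≠ 0) :
    actL g v ≠ 0 := fun e => hv (by
  have := congrArg (actL g⁻¹) e
  rwa [actL_apply_mul, inv_mul_cancel, actL_one, map_zero] at this)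

variable (A : Subgroup (GL (Fin 3) F))

/-- The weights of `A`. -/
def Weight : Type _ :=
  {χ : A → AlgebraicClosure F // ∃ v, v ≠ 0 ∧ ∀ a : A, actL (a : GL (Fin 3) F) v = χ a • v}

variable {A}

theorem weights_finite : Finite (Weight A) ∧ Nat.card (Weight A) ≤ 3 := by
  choose v hv0 hv using fun χ : Weight A => χ.2
  have h := Cfsg.Lib.Linear.AltDeg.finite_of_systems (fun a : A => actL (a : GL (Fin 3) F))
    (fun χ : Weight A => χ.1) Subtype.val_injective v hv0 (fun a χ => hv χ a)
  exact ⟨h.1, h.2.trans (by simp)⟩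

theorem weight_mul (χ : Weight A) (a b : A) : χ.1 (a * b) = χ.1 a * χ.1 b := by
  obtain ⟨v, hv0, hv⟩ := χ.2
  refine smul_left_injective _ hv0 ?_
  show χ.1 (a * b) • v = (χ.1 a * χ.1 b) • v
  rw [← hv, Subgroup.coe_mul, ← actL_apply_mul, hv b, map_smul, hv a, smul_smul, mul_comm]

theorem weight_one (χ : Weight A) : χ.1 1 = 1 := by
  obtain ⟨v, hv0, hv⟩ := χ.2
  refine smul_left_injective _ hv0 ?_
  show χ.1 1 • v = (1 : AlgebraicClosure F) • v
  rw [← hv, OneMemClass.coe_one, actL_one, one_smul]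
  rfl

theorem weight_pow (χ : Weight A) (a : A) (n : ℕ) : χ.1 (a ^ n) = χ.1 a ^ n := by
  induction n with
  | zero => rw [pow_zero, pow_zero, weight_one]
  | succ n ih => rw [pow_succ, pow_succ, weight_mul, ih]

/-- An element of order prime to `p` whose eigenvalues are all `c` is scalar. -/
theorem scalar_of_eigen {g : GL (Fin 3) F} {n : ℕ} (hn : (n : F) ≠ 0) (hg : g ^ n = 1)
    {c : AlgebraicClosure F}
    (h : ∀ μ : AlgebraicClosure F, (actL g).HasEigenvalue μ → μ = c) :
    g.val.map (algebraMap F (AlgebraicClosure F)) = c • 1 := by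
  classical
  set M := g.val.map (algebraMap F (AlgebraicClosure F)) with hM
  have hsplit : M.charpoly.Splits := IsAlgClosed.splits _
  have hroots : ∀ μ ∈ M.charpoly.roots, μ = c := by
    intro μ hμ
    refine h μ ?_
    rw [Module.End.hasEigenvalue_iff_isRoot_charpoly, actL, Matrix.charpoly_toLin']
    exact Polynomial.isRoot_of_mem_roots hμ
  have hcard : Multiset.card M.charpoly.roots = 3 := by
    rw [← hsplit.natDegree_eq_card_roots, Matrix.charpoly_natDegree_eq_dim, Fintype.card_fin]
  have hrep : M.charpoly.roots = Multiset.replicate 3 c := by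
    have := Multiset.eq_replicate_card.2 hroots
    rwa [hcard] at this
  have hpoly : M.charpoly = (Polynomial.X - Polynomial.C c) ^ 3 := by
    rw [hsplit.eq_prod_roots_of_monic (Matrix.charpoly_monic M), hrep, Multiset.map_replicate,
      Multiset.prod_replicate]
  have hCH := Matrix.aeval_self_charpoly M
  rw [hpoly, map_pow, map_sub, Polynomial.aeval_X, Polynomial.aeval_C,
    Matrix.algebraMap_eq_diagonal, ← Algebra.algebraMap_self_apply c] at hCH
  have hN : (M - c • 1) ^ 3 = 0 := by
    rw [Matrix.smul_one_eq_diagonal]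
    simpa [Pi.algebraMap_def] using hCH
  have hMn : M ^ n = 1 := by
    have : (algebraMap F (AlgebraicClosure F)).mapMatrix (g.val ^ n) = 1 := by
      rw [← Units.val_pow_eq_pow_val, hg, Units.val_one, map_one]
    rw [map_pow] at this
    exact this
  set N := M - c • 1 with hNdef
  have hc : Commute N (c • (1 : Matrix (Fin 3) (Fin 3) (AlgebraicClosure F))) :=
    (Commute.one_right N).smul_right c
  have hcn : c ^ n = 1 := by
    obtain ⟨μ, hμ⟩ := Module.End.exists_eigenvalue (actL g)
    obtain ⟨w, hw⟩ := hμ.exists_hasEigenvector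
    have hpow : ∀ k : ℕ, actL (g ^ k) w = μ ^ k • w := by
      intro k
      induction k with
      | zero => rw [pow_zero, actL_one, pow_zero, one_smul]; rfl
      | succ k ih =>
        rw [pow_succ, ← actL_apply_mul, hw.apply_eq_smul, map_smul, ih, smul_smul, pow_succ,
          mul_comm]
    have h1 := hpow n
    rw [hg, actL_one, h μ hμ] at h1
    exact smul_left_injective _ hw.2 (h1.symm.trans (one_smul _ w).symm)
  have hn' : (n : AlgebraicClosure F) ≠ 0 := by
    rw [← map_natCast (algebraMap F (AlgebraicClosure F))]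
    exact (map_ne_zero _).2 hn
  have hc0 : c ≠ 0 := fun e => by
    rw [e, zero_pow (fun e0 => hn (by rw [e0, Nat.cast_zero]))] at hcn
    exact zero_ne_one hcn
  have hn0 : 1 ≤ n := Nat.pos_of_ne_zero fun e0 => hn (by rw [e0, Nat.cast_zero])
  have hMN : M = N + c • 1 := by rw [hNdef, sub_add_cancel]
  rw [hMN, hc.add_pow] at hMn
  have hterm : ∀ k, 3 ≤ k → N ^ k = 0 := fun k hk => by
    rw [show k = 3 + (k - 3) by omega, pow_add, hN, zero_mul]
  have hterm' : ∀ k, N ^ k * (c • (1 : Matrix (Fin 3) (Fin 3) (AlgebraicClosure F))) ^ (n - k) *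
      ((n.choose k : ℕ) : Matrix (Fin 3) (Fin 3) (AlgebraicClosure F)) =
      (c ^ (n - k) * n.choose k) • N ^ k := fun k => by
    rw [smul_pow, one_pow, Matrix.mul_smul, mul_one, ← nsmul_eq_mul', ← Nat.cast_smul_eq_nsmul
      (AlgebraicClosure F), smul_smul, mul_comm]
  simp only [hterm'] at hMn
  -- multiply by `N`, then by nothing
  have hsum : ∀ X : Matrix (Fin 3) (Fin 3) (AlgebraicClosure F),
      (∑ k ∈ Finset.range (n + 1), (c ^ (n - k) * (n.choose k : AlgebraicClosure F)) • (N ^ k * X)) =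
        X := by
    intro X
    have := congrArg (· * X) hMn
    simpa [Finset.sum_mul, Matrix.smul_mul] using this
  have hN2 : N ^ 2 = 0 := by
    have h := hsum N
    rw [Finset.sum_range_succ', Finset.sum_eq_single 0] at h
    · simp only [pow_zero, one_mul, Nat.choose_zero_right, Nat.cast_one, mul_one, Nat.sub_zero,
        hcn, one_smul, zero_add, pow_one, Nat.choose_one_right, add_eq_right, smul_eq_zero] at h
      rcases h with h | h
      · exact absurd h (mul_ne_zero (pow_ne_zero _ hc0) hn')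
      · rw [pow_two]; exact h
    · intro k _ hk
      rw [← pow_succ, hterm (k + 1 + 1) (by omega), smul_zero]
    · intro h0
      exact absurd (Finset.mem_range.2 hn0) h0
  have hN1 : N = 0 := by
    have h := hsum 1
    rw [Finset.sum_range_succ', Finset.sum_eq_single 0] at h
    · simp only [pow_zero, one_mul, Nat.choose_zero_right, Nat.cast_one, mul_one, Nat.sub_zero,
        hcn, one_smul, zero_add, pow_one, Nat.choose_one_right, add_eq_right, smul_eq_zero] at h
      rcases h with h | h
      · exact absurd h (mul_ne_zero (pow_ne_zero _ hc0) hn')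
      · exact h
    · intro k _ hk
      rw [mul_one, show k + 1 = 2 + (k - 1) by omega, pow_add, hN2, zero_mul, smul_zero]
    · intro h0
      exact absurd (Finset.mem_range.2 hn0) h0
  rw [hMN, hN1, zero_add]

/-- Elements with all weights equal are scalar. -/
theorem scalar_of_weights (hcomm : ∀ a ∈ A, ∀ b ∈ A, Commute a b) {n : ℕ} (hn : (n : F) ≠ 0)
    {a : A} (ha : (a : GL (Fin 3) F) ^ n = 1) {c : AlgebraicClosure F}
    (h : ∀ χ : Weight A, χ.1 a = c) :
    (a : GL (Fin 3) F).val.map (algebraMap F (AlgebraicClosure F)) = c • 1 := by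
  refine scalar_of_eigen hn ha fun μ hμ => ?_
  set E := (actL (a : GL (Fin 3) F)).eigenspace μ with hE
  haveI : Nontrivial E := Submodule.nontrivial_iff_ne_bot.2 hμ
  have hinv : ∀ b : A, ∀ w ∈ E, actL (b : GL (Fin 3) F) w ∈ E := by
    intro b w hw
    rw [hE, Module.End.mem_eigenspace_iff] at hw ⊢
    rw [actL_apply_mul, (hcomm a a.2 b b.2).eq, ← actL_apply_mul, hw, map_smul]
  obtain ⟨w, hw0, hw⟩ := Cfsg.Lib.Linear.AltDeg.exists_common_eigenvector
    (fun b : A => (actL (b : GL (Fin 3) F)).restrict (hinv b)) (fun b b' => by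
      refine LinearMap.ext fun x => Subtype.ext ?_
      show actL _ (actL _ _) = actL _ (actL _ _)
      rw [actL_apply_mul, actL_apply_mul, (hcomm b b.2 b' b'.2).eq])
  choose χ hχ using hw
  have hv0 : (w : Fin 3 → AlgebraicClosure F) ≠ 0 := fun e => hw0 (Subtype.ext e)
  let ω : Weight A := ⟨χ, w, hv0, fun b => congrArg Subtype.val (hχ b)⟩
  have h1 : actL (a : GL (Fin 3) F) (w : Fin 3 → AlgebraicClosure F) =
      μ • (w : Fin 3 → AlgebraicClosure F) := Module.End.mem_eigenspace_iff.1 w.2
  have h2 := congrArg Subtype.val (hχ a)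
  rw [← h ω]
  exact smul_left_injective _ hv0 (h1.symm.trans h2)

/-- A power `≤ 3` of a normalising element centralises `A`. -/
theorem exists_pow_centralizes [Finite F] (hcomm : ∀ a ∈ A, ∀ b ∈ A, Commute a b) {n : ℕ}
    (hn : (n : F) ≠ 0) (hexp : ∀ a ∈ A, a ^ n = 1) {g : GL (Fin 3) F}
    (hg : ∀ a ∈ A, g * a * g⁻¹ ∈ A) :
    ∃ k, 1 ≤ k ∧ k ≤ 3 ∧ ∀ a ∈ A, Commute (g ^ k) a := by
  classical
  obtain ⟨hfin, hcard⟩ := weights_finite (A := A)
  have hgA : ∀ a : A, g * (a : GL (Fin 3) F) * g⁻¹ ∈ A := fun a => hg a a.2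
  -- the action on weights
  let tw : Weight A → Weight A := fun χ => ⟨fun a => χ.1 ⟨_, hgA a⟩, by
    obtain ⟨v, hv0, hv⟩ := χ.2
    refine ⟨actL g⁻¹ v, actL_ne_zero _ hv0, fun a => ?_⟩
    have h := hv ⟨_, hgA a⟩
    rw [actL_apply_mul, show (a : GL (Fin 3) F) * g⁻¹ =
      g⁻¹ * (g * (a : GL (Fin 3) F) * g⁻¹) by group, ← actL_apply_mul, h, map_smul]⟩
  have hgk : ∀ (k : ℕ) (a : A), g ^ k * (a : GL (Fin 3) F) * (g ^ k)⁻¹ ∈ A := by
    intro k
    induction k with
    | zero => intro a; simpa using a.2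
    | succ k ih =>
      intro a
      rw [pow_succ', show g * g ^ k * (a : GL (Fin 3) F) * (g * g ^ k)⁻¹ =
        g * (g ^ k * a * (g ^ k)⁻¹) * g⁻¹ by group]
      exact hg _ (ih a)
  have htw : ∀ (k : ℕ) (χ : Weight A) (a : A), (tw^[k] χ).1 a = χ.1 ⟨_, hgk k a⟩ := by
    intro k
    induction k with
    | zero => intro χ a; simp
    | succ k ih =>
      intro χ a
      rw [Function.iterate_succ_apply, ih]
      show χ.1 _ = χ.1 _
      refine congrArg χ.1 (Subtype.ext ?_)
      show g * (g ^ k * (a : GL (Fin 3) F) * (g ^ k)⁻¹) * g⁻¹ = g ^ (k + 1) * a * (g ^ (k + 1))⁻¹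
      rw [pow_succ']
      group
  have hinj : Function.Injective tw := by
    intro χ χ' e
    refine Subtype.ext (funext fun a => ?_)
    -- surjectivity of conjugation on the finite group
    haveI : Finite A := inferInstance
    have hs : Function.Surjective (fun b : A => (⟨_, hgA b⟩ : A)) :=
      Finite.surjective_of_injective fun b b' e => Subtype.ext (by
        simpa using congrArg Subtype.val e)
    obtain ⟨b, rfl⟩ := hs a
    exact congrFun (congrArg Subtype.val e) b
  let σ : Equiv.Perm (Weight A) := Equiv.ofBijective tw (Finite.injective_iff_bijective.1 hinj)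
  haveI : Fintype (Weight A) := Fintype.ofFinite _
  have hk : orderOf σ ≤ 3 := by
    have h3 : Fintype.card (Weight A) ≤ 3 := by rwa [← Nat.card_eq_fintype_card]
    let e := Function.Embedding.trans (Fintype.equivFin (Weight A)).toEmbedding (Fin.castLEEmb h3)
    let emb' : Equiv.Perm (Weight A) →* Equiv.Perm (Fin 3) := Equiv.Perm.viaEmbeddingHom e
    have hi : Function.Injective emb' := Equiv.Perm.viaEmbeddingHom_injective e
    rw [← orderOf_injective emb' hi σ]
    have : ∀ s : Equiv.Perm (Fin 3), s = 1 ∨ s ^ 2 = 1 ∨ s ^ 3 = 1 := by decide +kernel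
    rcases this (emb' σ) with h | h | h
    · rw [h, orderOf_one]; norm_num
    · exact (orderOf_le_of_pow_eq_one (by norm_num) h).trans (by norm_num)
    · exact orderOf_le_of_pow_eq_one (by norm_num) h
  refine ⟨orderOf σ, orderOf_pos σ, hk, fun a ha => ?_⟩
  set k := orderOf σ with hkdef
  have hfix : ∀ χ : Weight A, tw^[k] χ = χ := fun χ => by
    have h := congrFun (congrArg (fun s : Equiv.Perm (Weight A) => (s : Weight A → Weight A))
      (pow_orderOf_eq_one σ)) χ
    simp only [Equiv.Perm.coe_pow, Equiv.Perm.coe_one, id_eq] at h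
    exact h
  have hdmem : g ^ k * a * (g ^ k)⁻¹ * a⁻¹ ∈ A := mul_mem (hgk k ⟨a, ha⟩) (inv_mem ha)
  have h1 : ∀ χ : Weight A, χ.1 ⟨_, hdmem⟩ = 1 := by
    intro χ
    have e : (⟨_, hdmem⟩ : A) = ⟨_, hgk k ⟨a, ha⟩⟩ * (⟨a, ha⟩ : A)⁻¹ := rfl
    rw [e, weight_mul, ← htw, hfix, ← weight_mul, mul_inv_cancel, weight_one]
  have h := scalar_of_weights hcomm hn (a := ⟨_, hdmem⟩) (hexp _ hdmem) h1
  rw [one_smul] at h
  have : g ^ k * a * (g ^ k)⁻¹ * a⁻¹ = 1 := by
    apply actL_injective
    rw [actL_one, actL, h, Matrix.toLin'_one]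
    rfl
  rw [mul_inv_eq_one, mul_inv_eq_iff_eq_mul] at this
  exact this

/-- An abelian group with cubes scalar and three scalars has order at most twenty-seven. -/
theorem card_le_twenty_seven [Finite F] (hcomm : ∀ a ∈ A, ∀ b ∈ A, Commute a b)
    (h3 : (3 : F) ≠ 0) (hexp : ∀ a ∈ A, a ^ 3 ∈ scalars (Fin 3) F)
    (hd : A ≤ specialLinear (Fin 3) F) : Nat.card A ≤ 27 := by
  classical
  obtain ⟨hfin, hcard⟩ := weights_finite (A := A)
  set L := AlgebraicClosure F
  haveI : Fintype A := Fintype.ofFinite A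
  by_cases hne : IsEmpty (Weight A)
  · have h := scalar_of_weights hcomm (n := 1) (by simp) (a := (1 : A)) (by simp) (c := (0 : L))
      (fun χ => hne.elim χ)
    have := congrFun (congrFun h 0) 0
    simp at this
  rw [not_isEmpty_iff] at hne
  obtain ⟨χ₀⟩ := hne
  let R : Set L := {z | z ^ 3 = 1}
  have hR : R.Finite ∧ R.ncard ≤ 3 := by
    have hsub : R ⊆ ↑((Polynomial.X ^ 3 - Polynomial.C (1 : L)).roots.toFinset) := fun z hz => by
      rw [Finset.mem_coe, Multiset.mem_toFinset,
        Polynomial.mem_roots (Polynomial.X_pow_sub_C_ne_zero (by norm_num) _)]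
      simp only [Polynomial.IsRoot.def, Polynomial.eval_sub, Polynomial.eval_pow,
        Polynomial.eval_X, Polynomial.eval_C]
      rw [show z ^ 3 = 1 from hz, sub_self]
    refine ⟨(Finset.finite_toSet _).subset hsub, (Set.ncard_le_ncard hsub).trans ?_⟩
    rw [Set.ncard_coe_finset]
    refine (Multiset.toFinset_card_le _).trans ((Polynomial.card_roots' _).trans ?_)
    rw [Polynomial.natDegree_X_pow_sub_C]
  haveI : Finite R := hR.1.to_subtype
  have hsc : ∀ a : A, ∃ c : F, c ^ 3 = 1 ∧ ((a ^ 3 : A) : GL (Fin 3) F).val = c • 1 := by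
    intro a
    have hs := hexp a a.2
    rw [← Subgroup.coe_pow] at hs
    obtain ⟨c, -, hc⟩ := exists_scalar hs
    refine ⟨c, ?_, hc⟩
    have := det_val_eq_one (hd (a ^ 3 : A).2)
    rw [hc, Matrix.det_smul, Matrix.det_one, mul_one, Fintype.card_fin] at this
    exact this
  have hne0 : ∀ (χ : Weight A) (a : A), χ.1 a ≠ 0 := fun χ a e => one_ne_zero (α := L) (by
    rw [← weight_one χ, ← mul_inv_cancel a, weight_mul, e, zero_mul])
  have hcube : ∀ (a : A) (χ χ' : Weight A), χ.1 a ^ 3 = χ'.1 a ^ 3 := by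
    intro a χ χ'
    obtain ⟨c, -, hc⟩ := hsc a
    have : ∀ ω : Weight A, ω.1 (a ^ 3) = algebraMap F L c := by
      intro ω
      obtain ⟨v, hv0, hv⟩ := ω.2
      refine smul_left_injective _ hv0 ?_
      show ω.1 (a ^ 3) • v = algebraMap F L c • v
      rw [← hv, actL, hc, Matrix.toLin'_apply]
      ext i
      simp [Matrix.mulVec, dotProduct, Matrix.map_apply, Matrix.one_apply, apply_ite (algebraMap F L),
        ite_mul, L]
    rw [← weight_pow, ← weight_pow, this, this]
  let Φ : A → ({χ : Weight A // χ ≠ χ₀} → R) := fun a χ =>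
    ⟨χ.1.1 a / χ₀.1 a, by
      show (χ.1.1 a / χ₀.1 a) ^ 3 = 1
      rw [div_pow, hcube a χ.1 χ₀, div_self (pow_ne_zero _ (hne0 _ _))]⟩
  -- fibres lie in cosets of the scalars
  have hsame : ∀ a b : A, Φ a = Φ b → ((a : GL (Fin 3) F) * (b : GL (Fin 3) F)⁻¹) ∈ scalars (Fin 3) F := by
    intro a b e
    have h9 : ((a * b⁻¹ : A) : GL (Fin 3) F) ^ 9 = 1 := by
      rw [show 9 = 3 * 3 by rfl, pow_mul, scalar_cube (hexp _ (a * b⁻¹).2)]
      exact Subgroup.pow_mem _ (hd (a * b⁻¹).2) 3
    have h := scalar_of_weights hcomm (n := 9)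
      (by rw [show ((9 : ℕ) : F) = 3 * 3 by norm_num]; exact mul_ne_zero h3 h3)
      (a := a * b⁻¹) h9 (c := χ₀.1 (a * b⁻¹)) (fun χ => by
        by_cases hχ : χ = χ₀
        · rw [hχ]
        have e' := congrArg Subtype.val (congrFun e ⟨χ, hχ⟩)
        simp only [Φ] at e'
        rw [div_eq_div_iff (hne0 _ _) (hne0 _ _)] at e'
        refine mul_right_cancel₀ (hne0 χ b) ?_
        rw [← weight_mul, inv_mul_cancel_right]
        refine mul_right_cancel₀ (hne0 χ₀ b) ?_
        rw [e', mul_right_comm, ← weight_mul χ₀, inv_mul_cancel_right]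
        exact mul_comm _ _)
    refine mem_scalars_of_val (c := ((a : GL (Fin 3) F) * (b : GL (Fin 3) F)⁻¹).val 0 0) ?_
    rw [Subgroup.coe_mul, Subgroup.coe_inv] at h
    ext i j
    apply (algebraMap F L).injective
    have hij := congrFun (congrFun h i) j
    have h00 := congrFun (congrFun h 0) 0
    simp only [Matrix.map_apply, Matrix.smul_apply, smul_eq_mul] at hij h00
    rw [hij, Matrix.smul_apply, smul_eq_mul, map_mul, h00]
    by_cases hh : i = j <;> simp [Matrix.one_apply, hh, L]
  let S : Set (GL (Fin 3) F) := {s | s ∈ scalars (Fin 3) F ∧ s ∈ specialLinear (Fin 3) F}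
  have hS : S.ncard ≤ 3 := by
    have hsub : Set.InjOn (fun s : GL (Fin 3) F => algebraMap F L (s.val 0 0)) S := by
      intro s hs t ht e
      obtain ⟨c, -, hc⟩ := exists_scalar hs.1
      obtain ⟨c', -, hc'⟩ := exists_scalar ht.1
      have e' := (algebraMap F L).injective e
      rw [hc, hc'] at e'
      simp at e'
      exact Units.ext (by rw [hc, hc', e'])
    refine (Set.ncard_le_ncard_of_injOn _ (fun s hs => ?_) hsub hR.1).trans hR.2
    obtain ⟨c, -, hc⟩ := exists_scalar hs.1
    have hd' := det_val_eq_one hs.2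
    rw [hc, Matrix.det_smul, Matrix.det_one, mul_one, Fintype.card_fin] at hd'
    show (algebraMap F L (s.val 0 0)) ^ 3 = 1
    rw [← map_pow, hc]
    simp [hd']
  haveI : Fintype {χ : Weight A // χ ≠ χ₀} := Fintype.ofFinite _
  haveI : Fintype R := Fintype.ofFinite _
  have hfib : ∀ y ∈ Finset.univ.image Φ, (Finset.univ.filter fun a => Φ a = y).card ≤ 3 := by
    intro y hy
    obtain ⟨b, -, rfl⟩ := Finset.mem_image.1 hy
    refine le_trans ?_ hS
    rw [← Set.ncard_coe_finset]
    refine Set.ncard_le_ncard_of_injOn (fun a : A => (a : GL (Fin 3) F) * (b : GL (Fin 3) F)⁻¹)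
      (fun a ha => ⟨hsame a b (by simpa using ha), mul_mem (hd a.2) (inv_mem (hd b.2))⟩)
      (fun a _ a' _ e => Subtype.ext (mul_right_cancel e)) (Set.toFinite _)
  have h1 : Fintype.card A ≤ 3 * (Finset.univ.image Φ).card := by
    rw [← Finset.card_univ]
    exact Finset.card_le_mul_card_image _ 3 hfib
  have h2 : (Finset.univ.image Φ).card ≤ 9 := by
    refine le_trans (Finset.card_le_univ _) ?_
    rw [Fintype.card_fun]
    haveI : Fintype (Weight A) := Fintype.ofFinite _
    have hc1 : Fintype.card R ≤ 3 := by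
      rw [← Nat.card_eq_fintype_card, Nat.card_coe_set_eq]; exact hR.2
    have hc2 : Fintype.card {χ : Weight A // χ ≠ χ₀} ≤ 2 := by
      have := Fintype.card_subtype_lt (p := fun χ : Weight A => χ ≠ χ₀) (x := χ₀) (by simp)
      rw [Nat.card_eq_fintype_card] at hcard
      omega
    rcases Nat.eq_zero_or_pos (Fintype.card R) with h | h
    · rw [h]
      rcases Nat.eq_zero_or_pos (Fintype.card {χ : Weight A // χ ≠ χ₀}) with h' | h'
      · rw [h']; norm_num
      · rw [zero_pow h'.ne']; norm_num
    · exact (Nat.pow_le_pow_left hc1 _).trans (Nat.pow_le_pow_right (by norm_num) hc2)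
  rw [Nat.card_eq_fintype_card]
  omega

end Cfsg.Lib.Linear.Mitchell
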