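import Cfsg.Agent.Lib.Dickson.SubfieldCase

/-!
Two opposite root subgroups of `SL₂` in characteristic two, one of them of order at least four: both are the
same subfield.
-/

set_option autoImplicit false
set_option linter.unusedSectionVars false

open Matrix MulAction
open scoped MatrixGroups OnePoint

namespace Cfsg.Lib.Linear.Mitchell

open Cfsg.Lib.Dickson

section Proj

variable {E : Type*} [Field E] [DecidableEq E] [IsAlgClosed E] [CharP E 2]

local notation "G2" => Matrix.ProjGenLinGroup (Fin 2) E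

theorem involution_fix {g : G2} (h2 : g * g = 1) (h1 : g ≠ 1) : ∃ x, fixedBy (OnePoint E) g = {x} := by
  obtain ⟨x, hx⟩ := fixedBy_nonempty g
  obtain ⟨v, hv⟩ := exists_smul_infty x
  have hfix : (v * g * v⁻¹) • (∞ : OnePoint E) = ∞ := by
    rw [← hv, mul_smul, mul_smul, inv_smul_smul, hx]
  obtain ⟨a, b, hab⟩ := exists_aff_of_smul_infty hfix
  have hsq : (aff (a * a) ((a : E) * b + b) : G2) = aff 1 0 := by
    rw [← aff_mul, ← hab, aff_one, show v * g * v⁻¹ * (v * g * v⁻¹) = v * (g * g) * v⁻¹ by group, h2, mul_one,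
      mul_inv_cancel]
  have ha : a = 1 := by
    have e : ((a : E) - 1) * ((a : E) - 1) = 0 := by
      have e1 : (a : E) * a = 1 := congrArg Units.val (aff_injective hsq).1
      linear_combination e1 + (1 - (a : E)) * CharTwo.two_eq_zero (R := E)
    exact Units.ext (sub_eq_zero.1 (mul_self_eq_zero.1 e))
  subst ha
  have hb : b ≠ 0 := by
    rintro rfl
    exact h1 (conj_eq_one_iff.mp (hab.trans aff_one))
  refine ⟨x, ?_⟩
  have e := fixedBy_conj_eq v⁻¹ (v * g * v⁻¹)
  rw [hab, fixedBy_trans hb, Set.image_singleton, ← hab,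
    show v⁻¹ * (v * g * v⁻¹) * v⁻¹⁻¹ = g by group] at e
  rw [e, ← hv, inv_smul_smul]

/-- Two involutions with different fixed points are conjugate inside any group containing them. -/
theorem involutions_conj (H : Subgroup G2) [Finite H] {g h : G2} (hg : g ∈ H) (hh : h ∈ H) (g2 : g * g = 1)
    (h2 : h * h = 1) {x y : OnePoint E} (hx : fixedBy (OnePoint E) g = {x}) (hy : fixedBy (OnePoint E) h = {y})
    (hxy : x ≠ y) : ∃ d ∈ H, d • x = y := by
  have hfin : IsOfFinOrder (g * h) := MonoidHom.isOfFinOrder H.subtype (isOfFinOrder_of_finite (⟨g * h, mul_mem hg hh⟩ : H))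
  set n := orderOf (g * h)
  rcases Nat.even_or_odd n with ⟨m, hm⟩ | ⟨m, hm⟩
  · exfalso
    have hn : 0 < n := hfin.orderOf_pos
    set z := (g * h) ^ m with hz
    have gi : g⁻¹ = g := inv_eq_of_mul_eq_one_right g2
    have hi : h⁻¹ = h := inv_eq_of_mul_eq_one_right h2
    have hz2 : z * z = 1 := by rw [hz, ← pow_add, ← hm, pow_orderOf_eq_one]
    have hz1 : z ≠ 1 := fun e => by
      have h1 := Nat.le_of_dvd (by omega) (orderOf_dvd_of_pow_eq_one e : n ∣ m)
      omega
    have hzi : z⁻¹ = z := inv_eq_of_mul_eq_one_right hz2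
    obtain ⟨w, hw⟩ := involution_fix hz2 hz1
    have key : ∀ t : G2, t * t = 1 → t * (g * h) * t⁻¹ = (g * h)⁻¹ → ∀ {p : OnePoint E},
        fixedBy (OnePoint E) t = {p} → w = p := by
      intro t ht htc p hp
      have e : t * z * t⁻¹ = z := by rw [hz, ← conj_pow, htc, inv_pow, ← hz, hzi]
      have e2 := fixedBy_conj_eq t z
      rw [e, hw, Set.image_singleton] at e2
      have : t • w = w := (Set.singleton_eq_singleton_iff.1 e2).symm
      exact (Set.mem_singleton_iff.1 (hp ▸ (show w ∈ fixedBy (OnePoint E) t from this)) : w = p)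
    refine hxy ((key g g2 ?_ hx).symm.trans (key h h2 ?_ hy))
    · rw [_root_.mul_inv_rev, gi, hi, ← mul_assoc, g2, one_mul]
    · rw [_root_.mul_inv_rev, gi, hi, mul_assoc, mul_assoc, h2, mul_one]
  · set k := g * h with hk
    set d := k ^ m with hd
    have gi : g⁻¹ = g := inv_eq_of_mul_eq_one_right g2
    have hi : h⁻¹ = h := inv_eq_of_mul_eq_one_right h2
    refine ⟨d, pow_mem (mul_mem hg hh) _, ?_⟩
    have hgk : g * k * g⁻¹ = k⁻¹ := by rw [hk, _root_.mul_inv_rev, gi, hi, ← mul_assoc, g2, one_mul]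
    have e1 : g * d⁻¹ = d * g := by
      have : g * d * g⁻¹ = d⁻¹ := by rw [hd, ← conj_pow, hgk, inv_pow]
      rw [gi] at this
      rw [← this, ← mul_assoc, ← mul_assoc, g2, one_mul]
    have e : d * g * d⁻¹ = h := by
      have hkn : k ^ (m + m) * k = 1 := by
        rw [← pow_succ, show m + m + 1 = n by omega, pow_orderOf_eq_one]
      rw [mul_assoc, e1, ← mul_assoc, hd, ← pow_add, eq_inv_of_mul_eq_one_left hkn, hk, _root_.mul_inv_rev, gi, hi,
        mul_assoc, g2, mul_one]
    have e2 := fixedBy_conj_eq d g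
    rw [e, hx, hy, Set.image_singleton] at e2
    exact (Set.singleton_eq_singleton_iff.1 e2).symm

/-- A group of order sixty with fifteen points having four translations each is impossible. -/
theorem fifteen_false (H : Subgroup G2) [Finite H] (hsmall : ¬ HasSmallOrbitOn H) (h60 : Nat.card H = 60)
    (hstab : stabilizer H (∞ : OnePoint E) = (unip (∞ : OnePoint E)).comap H.subtype)
    (h4 : Nat.card ((unip (∞ : OnePoint E)).comap H.subtype) = 4) : False := by
  haveI : Fact (Nat.Prime 2) := ⟨Nat.prime_two⟩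
  haveI : Fact (Nat.Prime 5) := ⟨by norm_num⟩
  set U := (unip (∞ : OnePoint E)).comap H.subtype
  have hfix : ∀ u ∈ U, ∀ w ∈ U, Commute u w := fun u hu w hw => by
    refine Subtype.ext ?_
    obtain ⟨_, ⟨b, rfl⟩, e⟩ := (hu : (u : G2) ∈ unip (∞ : OnePoint E))
    obtain ⟨_, ⟨c, rfl⟩, e'⟩ := (hw : (w : G2) ∈ unip (∞ : OnePoint E))
    show (u : G2) * w = w * u
    rw [show (u : G2) = H.subtype u from rfl, show (w : G2) = H.subtype w from rfl, ← e, ← e', ← map_mul,
      ← map_mul, ← map_mul, ← map_mul, mul_comm]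
  let S : Sylow 2 H := (isPGroup_unip H 2 (∞ : OnePoint E)).toSylow (p := 2) (by
    have := U.card_mul_index
    rw [h4, h60] at this
    intro hd
    have hd' : 2 ∣ U.index := hd
    obtain ⟨e, he⟩ := hd'
    omega)
  have hSU : (S : Subgroup H) = U := rfl
  have hN : Subgroup.normalizer ((S : Subgroup H) : Set H) ≤ Subgroup.centralizer ((S : Subgroup H) : Set H) := by
    rw [hSU]
    intro n hn
    have hn' : n ∈ U := by
      haveI : Nontrivial U := Finite.one_lt_card_iff_nontrivial.1 (by omega)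
      obtain ⟨⟨u, hu⟩, hu1⟩ := exists_ne (1 : U)
      have hu1' : (u : G2) ≠ 1 := fun e => hu1 (Subtype.ext (Subtype.ext e))
      have hnu := (Subgroup.mem_normalizer_iff.1 hn u).1 hu
      have e1 := (mem_unip_iff.1 hu).resolve_left hu1'
      have e2 := (mem_unip_iff.1 hnu).resolve_left fun e => hu1' (conj_eq_one_iff.mp (by exact_mod_cast e))
      change fixedBy (OnePoint E) ((n : G2) * u * (n : G2)⁻¹) = _ at e2
      rw [fixedBy_conj_eq, show fixedBy (OnePoint E) (u : G2) = {(∞ : OnePoint E)} from e1,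
        Set.image_singleton, Set.singleton_eq_singleton_iff] at e2
      rw [← hstab]
      exact e2
    exact Subgroup.mem_centralizer_iff.2 fun w hw => hfix w hw n hn'
  have hcompl := MonoidHom.ker_transferSylow_isComplement' S hN
  set N := (MonoidHom.transferSylow S hN).ker
  have hNc : Nat.card N = 15 := by
    have h := hcompl.card_mul
    rw [hSU, h4, h60] at h
    omega
  obtain ⟨q, hq⟩ := exists_prime_orderOf_dvd_card' (G := N) 5 (by rw [hNc]; norm_num)
  have hQn : (Subgroup.zpowers q).Normal := by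
    refine Subgroup.normal_of_index_eq_minFac_card ?_
    have h := (Subgroup.zpowers q).card_mul_index
    rw [Nat.card_zpowers, hq, hNc] at h
    rw [hNc]
    norm_num
    omega
  haveI := hQn
  have hall : ∀ y : N, orderOf y = 5 → y ∈ Subgroup.zpowers q := by
    intro y hy
    have hidx : Nat.card (N ⧸ Subgroup.zpowers q) = 3 := by
      have h := (Subgroup.zpowers q).card_mul_index
      rw [Nat.card_zpowers, hq, hNc] at h
      rw [← Subgroup.index_eq_card]
      omega
    have h1 : orderOf (QuotientGroup.mk (s := Subgroup.zpowers q) y) ∣ 5 :=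
      hy ▸ orderOf_map_dvd (QuotientGroup.mk' (Subgroup.zpowers q)) y
    have h2 : orderOf (QuotientGroup.mk (s := Subgroup.zpowers q) y) ∣ 3 := hidx ▸ orderOf_dvd_natCard _
    have h3 := Nat.dvd_gcd h1 h2
    norm_num at h3
    exact (QuotientGroup.eq_one_iff y).1 (orderOf_eq_one_iff.1 (Nat.dvd_one.1 (by simpa using h3)))
  set g : G2 := ((q : H) : G2)
  have hg1 : g ≠ 1 := fun e => by
    rw [show q = 1 from Subtype.ext (Subtype.ext e), orderOf_one] at hq
    norm_num at hq
  have hinv : ∀ h ∈ H, ∀ x ∈ fixedBy (OnePoint E) g, h • x ∈ fixedBy (OnePoint E) g := by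
    intro h hh x hx
    let y : N := ⟨(⟨h, hh⟩ : H)⁻¹ * q * (⟨h, hh⟩ : H)⁻¹⁻¹,
      (inferInstance : N.Normal).conj_mem _ q.2 _⟩
    have hy : orderOf y = 5 := by
      rw [← hq, ← Subgroup.orderOf_coe y, ← Subgroup.orderOf_coe q]
      exact (MulEquiv.orderOf_eq (MulAut.conj (⟨h, hh⟩ : H)⁻¹) (q : H))
    obtain ⟨i, hi⟩ := hall y hy
    have e : h⁻¹ * g * h = g ^ i := by
      have := congrArg (fun z : N => ((z : H) : G2)) hi
      simp only [y, SubgroupClass.coe_zpow, Subgroup.coe_mul, Subgroup.coe_inv, inv_inv] at this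
      exact this.symm
    have hx' : (g ^ i) • x = x := zpow_smul_eq_iff_minimalPeriod_dvd.2 (by
      rw [show Function.minimalPeriod (fun z => g • z) x = 1 from Function.minimalPeriod_eq_one_iff_isFixedPt.2 hx]
      exact one_dvd _)
    rw [← e, mul_smul, mul_smul, inv_smul_eq_iff] at hx'
    exact hx'
  apply hsmall
  rcases fixedBy_ncard hg1 with e | e
  · obtain ⟨x, hx⟩ := Set.ncard_eq_one.1 e
    exact Or.inl ⟨x, fun h hh => by
      have := hinv h hh x (hx ▸ Set.mem_singleton x)
      rwa [hx, Set.mem_singleton_iff] at this⟩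
  · obtain ⟨x, z, hxz, hx⟩ := Set.ncard_eq_two.1 e
    refine Or.inr ⟨x, z, hxz, fun h hh => ?_⟩
    have a := hinv h hh x (hx ▸ Set.mem_insert _ _)
    have b := hinv h hh z (hx ▸ Set.mem_insert_of_mem _ rfl)
    rw [hx] at a b
    rcases a with a | a <;> rcases b with b | b
    · exact absurd (MulAction.injective h (a.trans b.symm)) hxz
    · exact Or.inl ⟨a, b⟩
    · exact Or.inr ⟨a, b⟩
    · exact absurd (MulAction.injective h (Eq.trans a b.symm)) hxz

/-- A group with four translations and an involution moving `∞` to a finite orbit over a field. -/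
theorem pair_field (H : Subgroup G2) [Finite H] (h4 : 4 ≤ Nat.card (transSet H)) (h1 : (1 : E) ∈ transSet H)
    {s : G2} (hs : s ∈ H) (hs2 : s * s = 1) (hs0 : fixedBy (OnePoint E) s = {((0 : E) : OnePoint E)}) :
    ∃ K : Subfield E, (K : Set E) = (transSet H : Set E) ∧
      Nat.card ((unip ((0 : E) : OnePoint E)).comap H.subtype) = Nat.card K ∧
      (∀ g ∈ H, ∀ a : E, g • (∞ : OnePoint E) = (a : OnePoint E) → a ∈ K) := by
  classical
  haveI : Fact (Nat.Prime 2) := ⟨Nat.prime_two⟩
  set U := (unip (∞ : OnePoint E)).comap H.subtype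
  have hU : Nat.card U = Nat.card (transSet H) := card_unip_infty H
  set P := Nat.card (transSet H)
  have hfinL : (transSet H : Set E).Finite := Set.finite_coe_iff.1 (Nat.finite_of_card_ne_zero (show P ≠ 0 by omega))
  have htr : ∀ b ∈ transSet H, b ≠ 0 → (aff 1 b : G2) ∈ H ∧ fixedBy (OnePoint E) (aff 1 b : G2) = {∞} :=
    fun b hb h0 => ⟨hb, fixedBy_trans h0⟩
  have hsmall : ¬ HasSmallOrbitOn H := by
    rintro (⟨x, hx⟩ | ⟨x, y, hxy, hp⟩)
    · have hxi : x = ∞ := by
        have : x ∈ fixedBy (OnePoint E) (aff 1 1 : G2) := hx _ h1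
        rw [fixedBy_trans one_ne_zero] at this
        exact this
      have : x ∈ fixedBy (OnePoint E) s := hx _ hs
      rw [hs0, hxi] at this
      exact OnePoint.infty_ne_coe _ this
    · have hno : ∀ b ∈ transSet H, b ≠ 0 → (aff 1 b : G2) • x = y ∧ (aff 1 b : G2) • y = x := by
        intro b hb h0
        rcases hp _ hb with ⟨e1, e2⟩ | e
        · have a1 : x ∈ fixedBy (OnePoint E) (aff 1 b : G2) := e1
          have a2 : y ∈ fixedBy (OnePoint E) (aff 1 b : G2) := e2
          rw [fixedBy_trans h0] at a1 a2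
          exact absurd (a1.trans a2.symm) hxy
        · exact e
      obtain ⟨b, hb, hb0, hb1⟩ : ∃ b ∈ transSet H, b ≠ 0 ∧ b ≠ 1 := by
        by_contra hne
        push Not at hne
        have hle : Nat.card (transSet H) ≤ ({0, 1} : Finset E).card := by
          rw [← Nat.card_eq_finsetCard]
          refine Nat.card_le_card_of_injective (fun b => ⟨(b : E), ?_⟩) fun a b e =>
            Subtype.ext (by simpa using e)
          by_cases hb0 : (b : E) = 0
          · simp [hb0]
          · simp [hne _ b.2 hb0]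
        have : ({0, 1} : Finset E).card ≤ 2 := Finset.card_le_two
        have h4' : 4 ≤ Nat.card ↥(transSet H) := h4
        omega
      have hsum : (1 : E) + b ≠ 0 := fun e => hb1 (CharTwo.add_eq_zero.1 e).symm
      have e := hno _ (add_mem h1 hb) hsum
      rw [show (aff 1 (1 + b) : G2) = aff 1 1 * aff 1 b by rw [aff_mul]; simp [add_comm], mul_smul,
        (hno b hb hb0).1, (hno 1 h1 one_ne_zero).2] at e
      exact hxy e.1
  have hne : H ≠ ⊥ := fun e => by
    rw [e, Subgroup.mem_bot] at hs
    rw [hs, fixedBy_one_eq_univ] at hs0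
    exact OnePoint.infty_ne_coe (0 : E) (hs0.le (Set.mem_univ (∞ : OnePoint E)))
  -- every involution fixes a point of the orbit
  have horb : ∀ g ∈ H, g * g = 1 → ∀ x, fixedBy (OnePoint E) g = {x} → x ∈ orbit H (∞ : OnePoint E) := by
    intro g hg hg2 x hx
    by_cases hxi : (∞ : OnePoint E) = x
    · rw [← hxi]; exact mem_orbit_self _
    · obtain ⟨d, hd, e⟩ := involutions_conj H h1 hg
        (by rw [aff_mul, one_mul, Units.val_one, one_mul, CharTwo.add_self_eq_zero, aff_one]) hg2
        (fixedBy_trans one_ne_zero) hx hxi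
      exact ⟨⟨d, hd⟩, e⟩
  have hunip : ∀ x ∈ orbit H (∞ : OnePoint E), Nat.card ((unip x).comap H.subtype) = P := by
    rintro x ⟨d, rfl⟩
    rw [← hU]
    let e : ↥U ≃ ↥((unip ((d : G2) • (∞ : OnePoint E))).comap H.subtype) :=
      { toFun := fun u => ⟨d * (u : H) * d⁻¹, ?_⟩
        invFun := fun u => ⟨d⁻¹ * (u : H) * d, ?_⟩
        left_inv := fun u => Subtype.ext (by simp [mul_assoc])
        right_inv := fun u => Subtype.ext (by simp [mul_assoc]) }
    · exact (Nat.card_congr e).symm
    · have h2 : ((u : H) : G2) ∈ unip (∞ : OnePoint E) := u.2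
      show ((d * u * d⁻¹ : H) : G2) ∈ unip ((d : G2) • (∞ : OnePoint E))
      rw [mem_unip_iff] at h2 ⊢
      push_cast
      rcases h2 with h2 | h2
      · exact Or.inl (by rw [h2, mul_one, mul_inv_cancel])
      · exact Or.inr (by rw [fixedBy_conj_eq, h2, Set.image_singleton])
    · have h2 : ((u : H) : G2) ∈ unip ((d : G2) • (∞ : OnePoint E)) := u.2
      show ((d⁻¹ * u * d : H) : G2) ∈ unip (∞ : OnePoint E)
      rw [mem_unip_iff] at h2 ⊢
      push_cast
      rcases h2 with h2 | h2
      · exact Or.inl (by rw [h2, mul_one, inv_mul_cancel])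
      · right
        have e := fixedBy_conj_eq (d : G2)⁻¹ ((u : H) : G2)
        rw [inv_inv] at e
        rw [e, h2, Set.image_singleton, inv_smul_smul]
  have h0mem : ((0 : E) : OnePoint E) ∈ orbit H (∞ : OnePoint E) := horb s hs hs2 _ hs0
  -- the translates of zero
  have htrans : ∀ b ∈ transSet H, ((b : E) : OnePoint E) ∈ orbit H (∞ : OnePoint E) := by
    intro b hb
    obtain ⟨d, hd⟩ := h0mem
    refine ⟨⟨aff 1 b, hb⟩ * d, ?_⟩
    show (⟨aff 1 b, hb⟩ * d : H) • (∞ : OnePoint E) = _
    rw [mul_smul]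
    show (aff 1 b : G2) • (d • (∞ : OnePoint E)) = _
    rw [show d • (∞ : OnePoint E) = ((0 : E) : OnePoint E) from hd, aff_some]
    simp
  have hOfin : (orbit H (∞ : OnePoint E)).Finite := Set.finite_range _
  have hsub : insert (∞ : OnePoint E) ((fun b : E => (b : OnePoint E)) '' (transSet H : Set E)) ⊆
      orbit H (∞ : OnePoint E) := by
    rintro x (rfl | ⟨b, hb, rfl⟩)
    · exact mem_orbit_self _
    · exact htrans b hb
  have hcardsub : (insert (∞ : OnePoint E) ((fun b : E => (b : OnePoint E)) '' (transSet H : Set E))).ncard =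
      P + 1 := by
    rw [Set.ncard_insert_of_notMem (by simp) (hfinL.image _), Set.ncard_image_of_injective _ OnePoint.coe_injective]
    rfl
  have hge : P + 1 ≤ (orbit H (∞ : OnePoint E)).ncard := hcardsub ▸ Set.ncard_le_ncard hsub hOfin
  have hstab : (orbit H (∞ : OnePoint E)).ncard * Nat.card (stabilizer H (∞ : OnePoint E)) = Nat.card H := by
    rw [← index_stabilizer, Subgroup.index_mul_card]
  have hUstab : U ≤ stabilizer H (∞ : OnePoint E) := fun h hh => by
    show (h : G2) • (∞ : OnePoint E) = ∞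
    rcases mem_unip_iff.mp (show (h : G2) ∈ unip (∞ : OnePoint E) from hh) with e | e
    · rw [e, one_smul]
    · exact (e.symm.le (Set.mem_singleton (∞ : OnePoint E)) : (∞ : OnePoint E) ∈ fixedBy (OnePoint E) (h : G2))
  have hPstab : P ∣ Nat.card (stabilizer H (∞ : OnePoint E)) := hU ▸ Subgroup.card_dvd_of_le hUstab
  have extra : P + 2 ≤ (orbit H (∞ : OnePoint E)).ncard → 2 * P + 1 ≤ (orbit H (∞ : OnePoint E)).ncard := by
    intro hn
    obtain ⟨x, hx, hxs⟩ := Set.exists_mem_notMem_of_ncard_lt_ncard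
      (s := insert (∞ : OnePoint E) ((fun b : E => (b : OnePoint E)) '' (transSet H : Set E)))
      (t := orbit H (∞ : OnePoint E)) (by omega) ((hfinL.image _).insert _)
    obtain ⟨a, rfl⟩ : ∃ a : E, (a : OnePoint E) = x := by
      rcases x with _ | a
      · exact absurd (Set.mem_insert _ _) hxs
      · exact ⟨a, rfl⟩
    set X := (fun b : E => ((a + b : E) : OnePoint E)) '' (transSet H : Set E)
    have hX : X.ncard = P :=
      (Set.ncard_image_of_injective _ fun b c e => add_left_cancel (OnePoint.coe_injective e)).trans rfl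
    have hXO : X ⊆ orbit H (∞ : OnePoint E) := by
      rintro _ ⟨b, hb, rfl⟩
      obtain ⟨d, hd⟩ := hx
      refine ⟨⟨aff 1 b, hb⟩ * d, ?_⟩
      show (⟨aff 1 b, hb⟩ * d : H) • (∞ : OnePoint E) = _
      rw [mul_smul]
      show (aff 1 b : G2) • (d • (∞ : OnePoint E)) = _
      rw [show d • (∞ : OnePoint E) = (a : OnePoint E) from hd, aff_some]
      simp [add_comm]
    have hdis : Disjoint (insert (∞ : OnePoint E) ((fun b : E => (b : OnePoint E)) '' (transSet H : Set E))) X := by
      rw [Set.disjoint_left]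
      rintro z hz ⟨b, hb, rfl⟩
      rcases hz with e | ⟨c, hc, e⟩
      · exact OnePoint.coe_ne_infty _ e
      · refine hxs (Or.inr ⟨c - b, sub_mem hc hb, ?_⟩)
        rw [OnePoint.coe_eq_coe] at e
        show ((c - b : E) : OnePoint E) = _
        rw [e, add_sub_cancel_right]
    have := Set.ncard_le_ncard (Set.union_subset hsub hXO) hOfin
    rw [Set.ncard_union_eq hdis ((hfinL.image _).insert _) (hfinL.image _), hcardsub, hX] at this
    omega
  have hP2 : ∃ k, P = 2 ^ k := by
    obtain ⟨k, hk⟩ := (isPGroup_unip H 2 (∞ : OnePoint E)).exists_card_eq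
    exact ⟨k, hU ▸ hk⟩
  have hO : (orbit H (∞ : OnePoint E)).ncard = P + 1 := by
    set n := (orbit H (∞ : OnePoint E)).ncard
    obtain ⟨m, hm⟩ := hPstab
    obtain ⟨k, hk⟩ := hP2
    rw [hm] at hstab
    have hm0 : m ≠ 0 := by rintro rfl; rw [mul_zero, mul_zero] at hstab; exact absurd hstab Nat.card_pos.ne
    have hnP : n * P ∣ Nat.card H := ⟨m, by rw [← hstab]; ring⟩
    rcases configuration_on H 2 hne with h | h | h | h | ⟨x, h3, hx, -⟩
    · exact absurd h hsmall
    · exfalso
      rw [h] at hnP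
      have := Nat.le_of_dvd (by norm_num) hnP
      nlinarith
    · exfalso
      rw [h] at hnP
      have := Nat.le_of_dvd (by norm_num) hnP
      have hP8 : P < 5 := by nlinarith
      have hP4 : P = 4 := by omega
      rw [hP4] at hnP hge this
      obtain hn | hn : n = 5 ∨ n = 6 := by omega
      · rw [hn] at hnP; norm_num at hnP
      · -- a further point has four translates
        exact absurd (extra (by omega)) (by omega)
    · -- order sixty
      rw [h] at hnP
      have hle := Nat.le_of_dvd (by norm_num) hnP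
      have hk4 : P ∣ 4 := by
        have h60 : P ∣ 2 ^ 2 * 15 := (Dvd.intro_left n rfl).trans hnP
        exact (Nat.Coprime.dvd_of_dvd_mul_right (by rw [hk]; exact Nat.Coprime.pow_left _ (by norm_num)) h60)
      have hP4 : P = 4 := by have := Nat.le_of_dvd (by norm_num) hk4; omega
      rw [hP4] at hnP hge hle
      have hn15 : n ∣ 15 := Nat.dvd_of_mul_dvd_mul_right (by norm_num : 0 < 4) (by simpa using hnP)
      have := Nat.le_of_dvd (by norm_num) hn15
      obtain hn | hn : n = 5 ∨ n = 15 := by interval_cases n <;> simp_all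
      · omega
      · exfalso
        refine fifteen_false H hsmall h ?_ (hU.trans hP4)
        refine (Subgroup.eq_of_le_of_card_ge hUstab ?_).symm
        have : Nat.card (stabilizer H (∞ : OnePoint E)) = 4 := by
          rw [hn, hP4, h] at hstab
          rw [hm, hP4]
          omega
        rw [this, hU, hP4]
    · obtain ⟨⟨g, hgu⟩, hg1⟩ : ∃ g : ↥((unip x).comap H.subtype), g ≠ 1 := by
        haveI : Nontrivial ↥((unip x).comap H.subtype) := Finite.one_lt_card_iff_nontrivial.1 (by omega)
        exact exists_ne 1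
      have hgfix : fixedBy (OnePoint E) (g : G2) = {x} :=
        (mem_unip_iff.1 hgu).resolve_left fun e => hg1 (Subtype.ext (Subtype.ext e))
      have hxO : x ∈ orbit H (∞ : OnePoint E) := horb g g.2 (by
        have := pow_char_of_mem_unip 2 (show (g : G2) ∈ unip x from hgu)
        rwa [pow_two] at this) x hgfix
      rw [hunip x hxO, orbit_eq_iff.2 hxO] at hx
      exact hx
  have heq : orbit H (∞ : OnePoint E) =
      insert (∞ : OnePoint E) ((fun b : E => (b : OnePoint E)) '' (transSet H : Set E)) :=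
    (Set.eq_of_subset_of_ncard_le hsub (by rw [hO, hcardsub]) hOfin).symm
  have hOinv : ∀ h ∈ H, ∀ z : OnePoint E, (z = ∞ ∨ ∃ b ∈ transSet H, z = (b : OnePoint E)) →
      (h • z = ∞ ∨ ∃ b ∈ transSet H, h • z = (b : OnePoint E)) := by
    intro h hh z hz
    have hzO : z ∈ orbit H (∞ : OnePoint E) := by
      rcases hz with rfl | ⟨b, hb, rfl⟩
      · exact mem_orbit_self _
      · exact htrans b hb
    have : h • z ∈ orbit H (∞ : OnePoint E) := by
      obtain ⟨d, rfl⟩ := hzO
      exact ⟨⟨h, hh⟩ * d, mul_smul _ _ _⟩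
    rw [heq] at this
    rcases this with e | ⟨b, hb, e⟩
    · exact Or.inl e
    · exact Or.inr ⟨b, hb, e.symm⟩
  obtain ⟨d, hd⟩ := h0mem
  obtain ⟨K, hK, -⟩ := normalized_case 2 H hfinL h1 hOinv ⟨d, d.2, hd⟩
  refine ⟨K, hK, ?_, fun g hg a ha => ?_⟩
  · rw [hunip _ ⟨d, hd⟩]
    exact Nat.card_congr (Equiv.setCongr hK.symm)
  · rcases hOinv g hg ∞ (Or.inl rfl) with e | ⟨b, hb, e⟩
    · rw [ha] at e; exact absurd e (OnePoint.coe_ne_infty _)
    · rw [ha, OnePoint.coe_eq_coe] at e
      have : b ∈ (K : Set E) := hK ▸ hb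
      exact e ▸ this

end Proj

end Cfsg.Lib.Linear.Mitchell
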