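import Cfsg.Agent.Lib.Linear.TransvectionGL
import Cfsg.Agent.Lib.Linear.Mitchell.EvenPair
import Cfsg.Agent.Lib.Linear.DicksonTwo

/-!
Transvections of a subgroup of `GL₃` in characteristic two: root subgroups and opposite pairs.
-/

set_option autoImplicit false
set_option linter.unusedSectionVars false

open Matrix
open scoped MatrixGroups OnePoint

namespace Cfsg.Lib.Linear.Mitchell.Even

variable {F : Type*} [Field F]

/-- The group contains the transvection `v ↦ v + (a ⬝ᵥ v) • z`. -/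
def InT (P : Subgroup (GL (Fin 3) F)) (z a : Fin 3 → F) : Prop :=
  ∃ h : a ⬝ᵥ z = 0, tv z a h ∈ P

theorem tvMat_smul_mul (z a : Fin 3 → F) (h : a ⬝ᵥ z = 0) (x y : F) :
    tvMat z (x • a) * tvMat z (y • a) = tvMat z ((x + y) • a) := by
  rw [tvMat, tvMat, tvMat, add_mul, one_mul, mul_add, mul_one, vecMulVec_mul_vecMulVec, smul_dotProduct, h]
  ext i j
  simp [vecMulVec_apply]
  ring

theorem tvMat_same_axis (z z' a : Fin 3 → F) (h : a ⬝ᵥ z' = 0) :
    tvMat z a * tvMat z' a = tvMat (z + z') a := by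
  rw [tvMat, tvMat, tvMat, add_mul, one_mul, mul_add, mul_one, vecMulVec_mul_vecMulVec, h]
  ext i j
  simp [vecMulVec_apply]
  ring

theorem tvMat_same_centre (z a a' : Fin 3 → F) (h : a ⬝ᵥ z = 0) :
    tvMat z a * tvMat z a' = tvMat z (a + a') := by
  rw [tvMat, tvMat, tvMat, add_mul, one_mul, mul_add, mul_one, vecMulVec_mul_vecMulVec, h]
  ext i j
  simp [vecMulVec_apply]
  ring

variable {P : Subgroup (GL (Fin 3) F)}

theorem InT.dot {z a : Fin 3 → F} (h : InT P z a) : a ⬝ᵥ z = 0 := h.1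

theorem InT.mem {z a : Fin 3 → F} (h : InT P z a) : tv z a h.dot ∈ P := h.2

theorem InT.congr {z a z' a' : Fin 3 → F} (h : InT P z a) (h' : a' ⬝ᵥ z' = 0) (e : tvMat z a = tvMat z' a') :
    InT P z' a' := ⟨h', by rw [← tv_congr h.dot h' e]; exact h.mem⟩

theorem InT.smul_left {z a : Fin 3 → F} {c : F} (h : InT P (c • z) a) (h' : a ⬝ᵥ z = 0) : InT P z (c • a) :=
  h.congr (by rw [smul_dotProduct, h', smul_zero]) (tvMat_smul c z a)

theorem InT.smul_right {z a : Fin 3 → F} {c : F} (h : InT P z (c • a)) (h' : a ⬝ᵥ z = 0) : InT P (c • z) a :=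
  h.congr (by rw [dotProduct_smul, h', smul_zero]) (tvMat_smul c z a).symm

theorem InT.rescale {z a : Fin 3 → F} (h : InT P z a) {c : F} (hc : c ≠ 0) : InT P (c • z) (c⁻¹ • a) :=
  h.congr (by rw [smul_dotProduct, dotProduct_smul, h.dot, smul_zero, smul_zero])
    (by rw [tvMat_smul, smul_smul, mul_inv_cancel₀ hc, one_smul])

theorem InT.add_left {z z' a : Fin 3 → F} (h : InT P z a) (h' : InT P z' a) : InT P (z + z') a := by
  refine ⟨by rw [dotProduct_add, h.dot, h'.dot, add_zero], ?_⟩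
  convert mul_mem h.mem h'.mem
  exact Units.ext (tvMat_same_axis z z' a h'.dot).symm

theorem InT.add_right {z a a' : Fin 3 → F} (h : InT P z a) (h' : InT P z a') : InT P z (a + a') := by
  refine ⟨by rw [add_dotProduct, h.dot, h'.dot, add_zero], ?_⟩
  convert mul_mem h.mem h'.mem
  exact Units.ext (tvMat_same_centre z a a' h.dot).symm

theorem InT.conj {z a : Fin 3 → F} (h : InT P z a) {g : GL (Fin 3) F} (hg : g ∈ P) :
    InT P ((g : Matrix (Fin 3) (Fin 3) F) *ᵥ z) (a ᵥ* ((g⁻¹ : GL (Fin 3) F) : Matrix (Fin 3) (Fin 3) F)) := by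
  set a' := a ᵥ* ((g⁻¹ : GL (Fin 3) F) : Matrix (Fin 3) (Fin 3) F) with ha'
  have e : a' ᵥ* (g : Matrix (Fin 3) (Fin 3) F) = a := by
    rw [ha', vecMul_vecMul, ← Units.val_mul, inv_mul_cancel, Units.val_one, vecMul_one]
  have h0 : a' ⬝ᵥ ((g : Matrix (Fin 3) (Fin 3) F) *ᵥ z) = 0 := by rw [dotProduct_mulVec, e, h.dot]
  refine ⟨h0, ?_⟩
  rw [tv_conj g z a' h0, tv_congr _ h.dot (by rw [e])]
  exact mul_mem (mul_mem hg h.mem) (inv_mem hg)

/-- Transvections of a conjugate subgroup. -/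
theorem inT_map {g : GL (Fin 3) F} {z a : Fin 3 → F} :
    InT (P.map (MulAut.conj g⁻¹).toMonoidHom) z a ↔
      InT P ((g : Matrix (Fin 3) (Fin 3) F) *ᵥ z) (a ᵥ* ((g⁻¹ : GL (Fin 3) F) : Matrix (Fin 3) (Fin 3) F)) := by
  set a' := a ᵥ* ((g⁻¹ : GL (Fin 3) F) : Matrix (Fin 3) (Fin 3) F) with ha'
  have e : a' ᵥ* (g : Matrix (Fin 3) (Fin 3) F) = a := by
    rw [ha', vecMul_vecMul, ← Units.val_mul, inv_mul_cancel, Units.val_one, vecMul_one]
  have hd : a' ⬝ᵥ ((g : Matrix (Fin 3) (Fin 3) F) *ᵥ z) = a ⬝ᵥ z := by rw [dotProduct_mulVec, e]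
  constructor
  · rintro ⟨h, x, hx, hxe⟩
    refine ⟨hd.trans h, ?_⟩
    rw [tv_conj g z a' (hd.trans h), tv_congr _ h (by rw [e]), ← hxe]
    simpa [MulAut.conj_apply, mul_assoc] using hx
  · rintro ⟨h, hm⟩
    refine ⟨hd.symm.trans h, _, hm, ?_⟩
    rw [tv_conj g z a' h, tv_congr _ (hd.symm.trans h) (by rw [e])]
    simp [MulAut.conj_apply, mul_assoc]

/-- The parameters of a root subgroup. -/
def lam (P : Subgroup (GL (Fin 3) F)) (z a : Fin 3 → F) (h : a ⬝ᵥ z = 0) : AddSubgroup F where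
  carrier := {x | InT P z (x • a)}
  zero_mem' := ⟨by simp, by
    convert one_mem P
    exact Units.ext (by rw [coe_tv, zero_smul, tvMat, vecMulVec_zero, add_zero]; rfl)⟩
  add_mem' {x y} hx hy := by
    have := InT.add_right hx hy
    rwa [← add_smul] at this
  neg_mem' {x} hx := by
    refine ⟨by rw [smul_dotProduct, h, smul_zero], ?_⟩
    convert inv_mem hx.mem
    refine eq_inv_of_mul_eq_one_left (Units.ext ?_)
    rw [Units.val_mul, coe_tv, coe_tv, tvMat_smul_mul z a h, neg_add_cancel, zero_smul, tvMat, vecMulVec_zero,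
      add_zero]
    rfl

theorem mem_lam {z a : Fin 3 → F} {h : a ⬝ᵥ z = 0} {x : F} : x ∈ lam P z a h ↔ InT P z (x • a) := Iff.rfl

/-- The block embedding of `SL₂` on the first two coordinates. -/
def blk : SL(2, F) →* GL (Fin 3) F := MonoidHom.toHomUnits
  { toFun := fun x => !![x.1 0 0, x.1 0 1, 0; x.1 1 0, x.1 1 1, 0; 0, 0, 1]
    map_one' := by ext i j; fin_cases i <;> fin_cases j <;> simp
    map_mul' := fun x y => by
      ext i j
      fin_cases i <;> fin_cases j <;> simp [Matrix.mul_apply, Fin.sum_univ_three, Fin.sum_univ_two] }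

theorem blk_tU (x : F) : ∀ h, blk (Dickson.tU x) = tv (![1, 0, 0] : Fin 3 → F) ![0, x, 0] h := fun h => by
  refine Units.ext ?_
  show (!![(Dickson.tU x).1 0 0, (Dickson.tU x).1 0 1, 0; (Dickson.tU x).1 1 0, (Dickson.tU x).1 1 1, 0; 0, 0, 1] :
    Matrix (Fin 3) (Fin 3) F) = tvMat _ _
  ext i j
  fin_cases i <;> fin_cases j <;> simp [Dickson.tU_coe, tvMat, vecMulVec_apply]

theorem blk_tL (x : F) : ∀ h, blk (Dickson.tL x) = tv (![0, 1, 0] : Fin 3 → F) ![x, 0, 0] h := fun h => by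
  refine Units.ext ?_
  show (!![(Dickson.tL x).1 0 0, (Dickson.tL x).1 0 1, 0; (Dickson.tL x).1 1 0, (Dickson.tL x).1 1 1, 0; 0, 0, 1] :
    Matrix (Fin 3) (Fin 3) F) = tvMat _ _
  ext i j
  fin_cases i <;> fin_cases j <;> simp [Dickson.tL_coe, tvMat, vecMulVec_apply]

variable [Fintype F] [CharP F 2]

/-- Two opposite root subgroups in normal position. -/
theorem pair_std (P : Subgroup (GL (Fin 3) F)) {κ : F} (hκ : κ ≠ 0)
    (h1 : InT P ![1, 0, 0] ![0, 1, 0]) (hκP : InT P ![0, 1, 0] ![κ, 0, 0])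
    (hA : (![0, 1, 0] : Fin 3 → F) ⬝ᵥ ![1, 0, 0] = 0) (hB : (![1, 0, 0] : Fin 3 → F) ⬝ᵥ ![0, 1, 0] = 0)
    (h4 : 4 ≤ Nat.card (lam P ![1, 0, 0] ![0, 1, 0] hA)) :
    ∃ K : Subfield F, (K : Set F) = (lam P ![1, 0, 0] ![0, 1, 0] hA : Set F) ∧
      (K : Set F) = (lam P ![0, 1, 0] ![1, 0, 0] hB : Set F) ∧ κ ∈ K := by
  classical
  let E := AlgebraicClosure F
  let ι := algebraMap F E
  haveI : CharP E 2 := charP_of_injective_algebraMap ι.injective 2
  let Φ : SL(2, F) →* Matrix.ProjGenLinGroup (Fin 2) E :=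
    ProjGenLinGroup.mk.comp ((GeneralLinearGroup.map ι).comp SpecialLinearGroup.toGL)
  let G : Subgroup SL(2, F) := P.comap blk
  let H := G.map Φ
  haveI : Finite G := inferInstance
  haveI : Finite H := Finite.of_surjective _ (Φ.subgroupMap_surjective G)
  have hv : ∀ (x y : F) (v : Fin 3 → F), (![0, x, 0] : Fin 3 → F) = x • ![0, 1, 0] ∧
      (![y, 0, 0] : Fin 3 → F) = y • ![1, 0, 0] := fun x y _ => ⟨by ext i; fin_cases i <;> simp,
        by ext i; fin_cases i <;> simp⟩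
  have hGU : ∀ x : F, Dickson.tU x ∈ G ↔ x ∈ lam P ![1, 0, 0] ![0, 1, 0] hA := fun x => by
    have e : (![0, x, 0] : Fin 3 → F) ⬝ᵥ ![1, 0, 0] = 0 := by simp [dotProduct, Fin.sum_univ_three]
    rw [mem_lam, ← (hv x x 0).1, Subgroup.mem_comap, blk_tU x e]
    exact ⟨fun h => ⟨e, h⟩, fun h => h.2⟩
  have hGL : ∀ x : F, Dickson.tL x ∈ G ↔ x ∈ lam P ![0, 1, 0] ![1, 0, 0] hB := fun x => by
    have e : (![x, 0, 0] : Fin 3 → F) ⬝ᵥ ![0, 1, 0] = 0 := by simp [dotProduct, Fin.sum_univ_three]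
    rw [mem_lam, ← (hv x x 0).2, Subgroup.mem_comap, blk_tL x e]
    exact ⟨fun h => ⟨e, h⟩, fun h => h.2⟩
  have hΦU : ∀ x : F, Φ (Dickson.tU x) = Cfsg.Lib.Dickson.aff 1 (ι x) := fun x => by
    refine congrArg ProjGenLinGroup.mk (Units.ext ?_)
    rw [Cfsg.Lib.Dickson.affGL_coe]
    show (Dickson.tU x : Matrix (Fin 2) (Fin 2) F).map ι = _
    rw [Dickson.tU_coe]
    ext i j
    fin_cases i <;> fin_cases j <;> simp
  have hinj : ∀ g₁ g₂ : SL(2, F), Φ g₁ = Φ g₂ → g₁ = g₂ := by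
    intro g₁ g₂ e
    obtain ⟨u, hu⟩ := ProjGenLinGroup.mk_eq_mk_iff.1 e
    have hval := fun i j => congrArg (fun g : GL (Fin 2) E => (g : Matrix (Fin 2) (Fin 2) E) i j) hu
    have hd : (u : E) * u = 1 := by
      have h1 := congrArg (fun g : GL (Fin 2) E => ((g : Matrix (Fin 2) (Fin 2) E)).det) hu
      simp [GeneralLinearGroup.scalar] at h1
      have e1 : ∀ g : SL(2, F), ((g : Matrix (Fin 2) (Fin 2) F).map ι).det = 1 := fun g => by
        rw [← RingHom.mapMatrix_apply, ← RingHom.map_det, g.2, map_one]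
      rw [e1, e1] at h1
      linear_combination h1
    have hu1 : u = 1 := by
      have e : ((u : E) - 1) * ((u : E) - 1) = 0 := by
        linear_combination hd + (1 - (u : E)) * CharTwo.two_eq_zero (R := E)
      exact Units.ext (sub_eq_zero.1 (mul_self_eq_zero.1 e))
    subst hu1
    refine Subtype.ext (Matrix.ext fun i j => ι.injective ?_)
    simpa [GeneralLinearGroup.scalar] using hval i j
  have hset : (Cfsg.Lib.Dickson.transSet H : Set E) = ι '' (lam P ![1, 0, 0] ![0, 1, 0] hA : Set F) := by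
    ext b
    constructor
    · rintro ⟨g, hg, e⟩
      obtain ⟨u, hu⟩ := ProjGenLinGroup.mk_eq_mk_iff.1 (show ProjGenLinGroup.mk (GeneralLinearGroup.map ι
        (SpecialLinearGroup.toGL g)) = ProjGenLinGroup.mk (Cfsg.Lib.Dickson.affGL 1 b) from e)
      have hval := fun i j => congrArg (fun g : GL (Fin 2) E => (g : Matrix (Fin 2) (Fin 2) E) i j) hu
      have h00 := hval 0 0
      have h01 := hval 0 1
      have h10 := hval 1 0
      have h11 := hval 1 1
      simp [GeneralLinearGroup.scalar, Cfsg.Lib.Dickson.affGL_coe] at h00 h01 h10 h11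
      have hg10 : g 1 0 = 0 := h10
      have hdet := Dickson.det_eq g
      rw [hg10, mul_zero, sub_zero] at hdet
      have he : g 0 0 = g 1 1 := ι.injective (by
        exact mul_right_cancel₀ (Units.ne_zero u) (h00.trans h11.symm))
      have h00' : g 0 0 = 1 := by
        rw [← he] at hdet
        have e : (g 0 0 - 1) * (g 0 0 - 1) = 0 := by
          linear_combination hdet + (1 - g 0 0) * CharTwo.two_eq_zero (R := F)
        exact sub_eq_zero.1 (mul_self_eq_zero.1 e)
      have hu1 : (u : E) = 1 := by rw [h00', map_one, one_mul] at h00; exact h00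
      have hgU : g = Dickson.tU (g 0 1) := Dickson.ext_two (by simp [Dickson.tU_coe, h00'])
        (by simp [Dickson.tU_coe]) (by simp [Dickson.tU_coe, hg10]) (by simp [Dickson.tU_coe, ← he, h00'])
      rw [hgU] at hg
      refine ⟨g 0 1, (hGU _).1 hg, ?_⟩
      rw [hu1, mul_one] at h01
      exact h01
    · rintro ⟨x, hx, rfl⟩
      exact ⟨Dickson.tU x, (hGU x).2 hx, hΦU x⟩
  have hcard : Nat.card (Cfsg.Lib.Dickson.transSet H) = Nat.card (lam P ![1, 0, 0] ![0, 1, 0] hA) := by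
    rw [← SetLike.coe_sort_coe, hset, Nat.card_image_of_injective ι.injective]
    rfl
  have hone : (1 : E) ∈ Cfsg.Lib.Dickson.transSet H := by
    have : (1 : F) ∈ (lam P ![1, 0, 0] ![0, 1, 0] hA : Set F) := by
      show InT P _ ((1 : F) • ![0, 1, 0])
      rwa [one_smul]
    show (1 : E) ∈ (Cfsg.Lib.Dickson.transSet H : Set E)
    rw [hset]
    exact ⟨1, this, map_one ι⟩
  have hκG : Dickson.tL κ ∈ G := (hGL κ).2 (by
    show InT P _ (κ • ![1, 0, 0])
    rw [← (hv κ κ 0).2]; exact hκP)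
  have hΦL0 : ∀ x : F, Φ (Dickson.tL x) • ((0 : E) : OnePoint E) = ((0 : E) : OnePoint E) := fun x => by
    show GeneralLinearGroup.map ι (SpecialLinearGroup.toGL (Dickson.tL x)) • ((0 : E) : OnePoint E) = _
    rw [OnePoint.smul_some_eq_ite]
    simp [Dickson.tL_coe]
  have hΦLi : ∀ x : F, x ≠ 0 → Φ (Dickson.tL x) • (∞ : OnePoint E) = (((ι x)⁻¹ : E) : OnePoint E) := fun x hx => by
    show GeneralLinearGroup.map ι (SpecialLinearGroup.toGL (Dickson.tL x)) • (∞ : OnePoint E) = _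
    rw [OnePoint.smul_infty_eq_ite]
    simp [Dickson.tL_coe, hx]
  have hfix0 : ∀ x : F, x ≠ 0 →
      MulAction.fixedBy (OnePoint E) (Φ (Dickson.tL x)) = {((0 : E) : OnePoint E)} := fun x hx => by
    refine Set.eq_singleton_iff_unique_mem.2 ⟨hΦL0 x, fun y hy => ?_⟩
    obtain ⟨p, hp⟩ := involution_fix (E := E) (g := Φ (Dickson.tL x))
      (by rw [← map_mul, Dickson.tL_mul, CharTwo.add_self_eq_zero, Dickson.tL_zero, map_one])
      (fun e => hx (by
        have := hΦLi x hx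
        rw [e, one_smul] at this
        exact absurd this (OnePoint.infty_ne_coe _)))
    rw [hp] at hy
    have h0 : ((0 : E) : OnePoint E) ∈ MulAction.fixedBy (OnePoint E) (Φ (Dickson.tL x)) := hΦL0 x
    rw [hp] at h0
    exact hy.trans h0.symm
  obtain ⟨K, hK, hK0, hKinf⟩ := pair_field H (hcard ▸ h4) hone
    (show Φ (Dickson.tL κ) ∈ H from ⟨_, hκG, rfl⟩)
    (by rw [← map_mul, Dickson.tL_mul, CharTwo.add_self_eq_zero, Dickson.tL_zero, map_one]) (hfix0 κ hκ)
  let K' : Subfield F := K.comap ι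
  have hK' : (K' : Set F) = (lam P ![1, 0, 0] ![0, 1, 0] hA : Set F) := by
    ext x
    show ι x ∈ (K : Set E) ↔ _
    rw [hK, hset, ι.injective.mem_set_image]
  have hLK : ∀ x ∈ lam P ![0, 1, 0] ![1, 0, 0] hB, x ∈ K' := by
    intro x hx
    by_cases hx0 : x = 0
    · rw [hx0]; exact K'.zero_mem
    have := hKinf _ (show Φ (Dickson.tL x) ∈ H from ⟨_, (hGL x).2 hx, rfl⟩) _ (hΦLi x hx0)
    show ι x ∈ K
    exact inv_inv (ι x) ▸ K.inv_mem this
  have hcardL : Nat.card K' ≤ Nat.card (lam P ![0, 1, 0] ![1, 0, 0] hB) := by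
    have hKc : Nat.card K' ≤ Nat.card ((Cfsg.Lib.Dickson.unip ((0 : E) : OnePoint E)).comap H.subtype) := by
      rw [hK0]
      haveI : Finite K := Nat.finite_of_card_ne_zero (by
        rw [show Nat.card K = Nat.card (Cfsg.Lib.Dickson.transSet H) from Nat.card_congr (Equiv.setCongr hK)]
        omega)
      exact Nat.card_le_card_of_injective (fun x : K' => (⟨ι x.1, x.2⟩ : K)) fun a b e =>
        Subtype.ext (ι.injective (congrArg Subtype.val e))
    refine hKc.trans (Nat.card_le_card_of_surjective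
      (fun x : lam P ![0, 1, 0] ![1, 0, 0] hB => (⟨⟨Φ (Dickson.tL x.1), ⟨_, (hGL _).2 x.2, rfl⟩⟩, ?_⟩ :
        (Cfsg.Lib.Dickson.unip ((0 : E) : OnePoint E)).comap H.subtype)) ?_)
    · show Φ (Dickson.tL x.1) ∈ Cfsg.Lib.Dickson.unip _
      rw [Cfsg.Lib.Dickson.mem_unip_iff]
      by_cases hx0 : (x : F) = 0
      · left; rw [hx0, Dickson.tL_zero, map_one]
      · exact Or.inr (hfix0 _ hx0)
    · rintro ⟨⟨y, g, hg, rfl⟩, hy⟩
      have hy' : Φ g ∈ Cfsg.Lib.Dickson.unip ((0 : E) : OnePoint E) := hy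
      have hsq : g * g = 1 := hinj _ _ (by
        rw [map_mul, map_one, ← pow_two]
        exact Cfsg.Lib.Dickson.pow_char_of_mem_unip 2 hy')
      rw [Cfsg.Lib.Dickson.mem_unip_iff] at hy'
      have hfix : g 0 1 = 0 := by
        rcases hy' with e | e
        · rw [hinj g 1 (e.trans (map_one Φ).symm)]; simp
        · have h0 : Φ g • ((0 : E) : OnePoint E) = ((0 : E) : OnePoint E) := e.ge (Set.mem_singleton _)
          change GeneralLinearGroup.map ι (SpecialLinearGroup.toGL g) • ((0 : E) : OnePoint E) = _ at h0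
          rw [OnePoint.smul_some_eq_ite] at h0
          split_ifs at h0 with hc
          · exact absurd h0 (OnePoint.infty_ne_coe _)
          · rw [OnePoint.coe_eq_coe, div_eq_zero_iff] at h0
            have h0' := h0.resolve_right (by simpa using hc)
            simpa using h0'
      have hdet := Dickson.det_eq g
      rw [hfix, zero_mul, sub_zero] at hdet
      have h00 : g 0 0 = g 1 1 := by
        have e := congrFun (congrFun (congrArg Subtype.val hsq) 1) 0
        have e2 := congrFun (congrFun (congrArg Subtype.val hsq) 0) 0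
        simp [Matrix.mul_apply, Fin.sum_univ_two, hfix] at e e2
        have : g 0 0 = 1 := by
          have e3 : (g 0 0 - 1) * (g 0 0 - 1) = 0 := by
            linear_combination e2 + (1 - g 0 0) * CharTwo.two_eq_zero (R := F)
          exact sub_eq_zero.1 (mul_self_eq_zero.1 e3)
        rw [this, one_mul] at hdet
        rw [this, hdet]
      have h00' : g 0 0 = 1 := by
        rw [← h00] at hdet
        have e : (g 0 0 - 1) * (g 0 0 - 1) = 0 := by
          linear_combination hdet + (1 - g 0 0) * CharTwo.two_eq_zero (R := F)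
        exact sub_eq_zero.1 (mul_self_eq_zero.1 e)
      have hgL : g = Dickson.tL (g 1 0) := Dickson.ext_two (by simp [Dickson.tL_coe, h00'])
        (by simp [Dickson.tL_coe, hfix]) (by simp [Dickson.tL_coe]) (by simp [Dickson.tL_coe, ← h00, h00'])
      refine ⟨⟨g 1 0, (hGL _).1 (hgL ▸ hg)⟩, Subtype.ext (Subtype.ext ?_)⟩
      exact congrArg Φ hgL.symm
  refine ⟨K', hK', ?_, hLK κ ((hGL κ).1 hκG)⟩
  refine (Set.eq_of_subset_of_ncard_le (fun x hx => hLK x hx) ?_ (Set.toFinite _)).symm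
  rwa [← Nat.card_coe_set_eq, ← Nat.card_coe_set_eq]

end Cfsg.Lib.Linear.Mitchell.Even
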