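import Cfsg.Agent.Lib.Linear.Mitchell.EvenUnital

/-!
A subgroup of `GL₃` generated by transvections, with large root subgroups, over no smaller field:
all transvections, or a unitary form.
-/

set_option autoImplicit false
set_option linter.unusedSectionVars false

open Matrix Cfsg.Geo

namespace Cfsg.Lib.Linear.Mitchell.Even

variable {F : Type*} [Field F]

/-- The group is generated by its transvections. -/
def Gen (P : Subgroup (GL (Fin 3) F)) : Prop :=
  P ≤ Subgroup.closure {g | ∃ z a, ∃ h : a ⬝ᵥ z = 0, IsT P z a ∧ g = tv z a h}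

/-- The transvections with isotropic centre that preserve the form lie in the group. -/
def IsotropicRoots (P : Subgroup (GL (Fin 3) F)) (σ : F ≃+* F) (f : (Fin 3 → F) → (Fin 3 → F) → F) : Prop :=
  ∀ (x a : Fin 3 → F) (h : a ⬝ᵥ x = 0) (k : F), f x x = 0 → σ k = k → (∀ v, a ⬝ᵥ v = k * f v x) → tv x a h ∈ P

/-- The group is realised over no proper subfield. -/
def NoSub (P : Subgroup (GL (Fin 3) F)) : Prop :=
  ∀ K : Subfield F, RealisableOver K (matrixSet P) → K = ⊤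

variable [CharP F 2] {P : Subgroup (GL (Fin 3) F)}

/-- Generated by transvections rational in a basis: rational over that field. -/
theorem realisable_of_rational (hgen : Gen P) (K : Subfield F) (B : GL (Fin 3) F)
    (h : ∀ z a, IsT P z a → ∀ i j,
      ((B : Matrix (Fin 3) (Fin 3) F) * tvMat z a * ((B⁻¹ : GL (Fin 3) F) : Matrix (Fin 3) (Fin 3) F)) i j ∈ K) :
    RealisableOver K (matrixSet P) := by
  refine ⟨B, ?_⟩
  rintro _ ⟨g, hg, rfl⟩
  let φ : GL (Fin 3) F → Matrix (Fin 3) (Fin 3) F := fun x => (B * x * B⁻¹ : GL (Fin 3) F)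
  suffices ∀ g ∈ Subgroup.closure {g | ∃ z a, ∃ h : a ⬝ᵥ z = 0, IsT P z a ∧ g = tv z a h},
      ∀ i j, φ g i j ∈ K ∧ φ g⁻¹ i j ∈ K by
    intro i j
    simpa [φ] using (this g (hgen hg) i j).1
  intro g hg
  induction hg using Subgroup.closure_induction with
  | mem x hx =>
    obtain ⟨z, a, h0, ht, rfl⟩ := hx
    intro i j
    rw [tv_inv]
    have := h z a ht i j
    simp only [φ, Units.val_mul, coe_tv]
    exact ⟨this, this⟩
  | one =>
    intro i j
    simp only [φ, inv_one, mul_one, mul_inv_cancel, Units.val_one, Matrix.one_apply]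
    split_ifs <;> simp
  | mul x y _ _ hx hy =>
    intro i j
    have e : ∀ u v : GL (Fin 3) F, φ (u * v) = φ u * φ v := fun u v => by
      simp only [φ, ← Units.val_mul]
      congr 1
      group
    rw [_root_.mul_inv_rev, e, e, Matrix.mul_apply, Matrix.mul_apply]
    exact ⟨K.sum_mem fun k _ => K.mul_mem (hx i k).1 (hy k j).1,
      K.sum_mem fun k _ => K.mul_mem (hy i k).2 (hx k j).2⟩
  | inv x _ hx =>
    intro i j
    rw [inv_inv]
    exact ⟨(hx i j).2, (hx i j).1⟩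

theorem dualHom_dualHom (x : GL (Fin 3) F) : dualHom (dualHom x) = x := Units.ext (by
  show (((dualHom x)⁻¹ : GL (Fin 3) F) : Matrix (Fin 3) (Fin 3) F)ᵀ = _
  show ((x : Matrix (Fin 3) (Fin 3) F)ᵀ)ᵀ = _
  rw [transpose_transpose])

theorem Gen.dual (hgen : Gen P) : Gen (dual P) := by
  refine (Subgroup.map_mono hgen).trans ?_
  rw [MonoidHom.map_closure]
  refine Subgroup.closure_mono ?_
  rintro _ ⟨_, ⟨z, a, h, ht, rfl⟩, rfl⟩
  exact ⟨a, z, by rwa [dotProduct_comm], dual_isT.2 ht, dualHom_tv z a h⟩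

theorem NoSub.dual (hreal : NoSub P) : NoSub (dual P) := by
  rintro K ⟨B, hB⟩
  refine hreal K ⟨dualHom B, ?_⟩
  rintro _ ⟨g, hg, rfl⟩ i j
  have h := hB _ ⟨dualHom g⁻¹, Subgroup.mem_map_of_mem _ (inv_mem hg), rfl⟩ j i
  have e : ((dualHom B : GL (Fin 3) F) : Matrix (Fin 3) (Fin 3) F) * (g : Matrix (Fin 3) (Fin 3) F) *
      (((dualHom B)⁻¹ : GL (Fin 3) F) : Matrix (Fin 3) (Fin 3) F) =
      (((B : GL (Fin 3) F) : Matrix (Fin 3) (Fin 3) F) * ((dualHom g⁻¹ : GL (Fin 3) F) : Matrix (Fin 3) (Fin 3) F) *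
        ((B⁻¹ : GL (Fin 3) F) : Matrix (Fin 3) (Fin 3) F))ᵀ := by
    show ((B⁻¹ : GL (Fin 3) F) : Matrix (Fin 3) (Fin 3) F)ᵀ * _ * ((B : GL (Fin 3) F) : Matrix (Fin 3) (Fin 3) F)ᵀ = _
    rw [transpose_mul, transpose_mul, ← mul_assoc]
    congr 2
  rw [e, transpose_apply]
  exact h

/-- Some centre avoids any given plane. -/
theorem exists_centre_off (hirr : ActsIrreducibly (matrixSet P)) {z a : Fin 3 → F} (h : IsT P z a)
    {n : Fin 3 → F} (hn : n ≠ 0) : ∃ w f, IsT P w f ∧ n ⬝ᵥ w ≠ 0 := by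
  by_contra hno
  push Not at hno
  let W : Submodule F (Fin 3 → F) := Submodule.span F {x | ∃ b, IsT P x b}
  have hinv : ∀ s ∈ matrixSet P, W.map (Matrix.toLin' s) ≤ W := by
    rintro _ ⟨g, hg, rfl⟩
    rw [Submodule.map_span_le]
    rintro x ⟨b, hb, hx, hb0⟩
    refine Submodule.subset_span ⟨_, hb.conj hg, ?_, ?_⟩
    · intro e
      refine hx ?_
      have := congrArg (((g⁻¹ : GL (Fin 3) F) : Matrix (Fin 3) (Fin 3) F) *ᵥ ·) e
      simpa [mulVec_mulVec, ← Units.val_mul] using this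
    · intro e
      refine hb0 ?_
      have := congrArg (· ᵥ* (g : Matrix (Fin 3) (Fin 3) F)) e
      simpa [vecMul_vecMul, ← Units.val_mul] using this
  rcases hirr W hinv with e | e
  · have : z ∈ W := Submodule.subset_span ⟨a, h⟩
    rw [e, Submodule.mem_bot] at this
    exact h.2.1 this
  · refine hn (dotProduct_eq_zero _ fun x => ?_)
    have hx : x ∈ W := e ▸ Submodule.mem_top
    induction hx using Submodule.span_induction with
    | mem x hx =>
      obtain ⟨b, hb⟩ := hx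
      exact hno x b hb
    | zero => exact dotProduct_zero _
    | add x y _ _ hx hy => rw [dotProduct_add, hx, hy, add_zero]
    | smul k x _ hx => rw [dotProduct_smul, hx, smul_zero]

/-- A basis adapted to an opposite pair and a third point on both axes. -/
theorem exists_frame {c a d b o : Fin 3 → F} (hac : a ⬝ᵥ c = 0) (hbd : b ⬝ᵥ d = 0) (had : a ⬝ᵥ d = 1)
    (hbc : b ⬝ᵥ c ≠ 0) (hao : a ⬝ᵥ o = 0) (hbo : b ⬝ᵥ o = 0) (ho : o ≠ 0) :
    ∃ g : GL (Fin 3) F, (∀ x : Fin 3 → F, (g : Matrix (Fin 3) (Fin 3) F) *ᵥ x = x 0 • c + x 1 • o + x 2 • d) ∧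
      a ᵥ* (g : Matrix (Fin 3) (Fin 3) F) = E 2 ∧ b ᵥ* (g : Matrix (Fin 3) (Fin 3) F) = (b ⬝ᵥ c) • E 0 := by
  classical
  let M : Matrix (Fin 3) (Fin 3) F := Matrix.of fun i j => (![c, o, d] j) i
  have hM : ∀ x : Fin 3 → F, M *ᵥ x = x 0 • c + x 1 • o + x 2 • d := fun x => by
    ext i; simp [M, mulVec, dotProduct, Fin.sum_univ_three]; ring
  have hdet : M.det ≠ 0 := by
    intro h0
    obtain ⟨x, hx0, hx⟩ := Matrix.exists_mulVec_eq_zero_iff.2 h0
    rw [hM] at hx
    have h1 := congrArg (a ⬝ᵥ ·) hx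
    have h2 := congrArg (b ⬝ᵥ ·) hx
    simp [dotProduct_add, dotProduct_smul, hac, hbd, had, hao, hbo, hbc] at h1 h2
    rw [h1, h2, zero_smul, zero_smul, zero_add, add_zero, smul_eq_zero] at hx
    refine hx0 (funext fun i => ?_)
    fin_cases i
    · exact h2
    · exact hx.resolve_right ho
    · exact h1
  refine ⟨Matrix.GeneralLinearGroup.mkOfDetNeZero M hdet, hM, ?_, ?_⟩
  · ext j
    show a ⬝ᵥ (fun i => M i j) = _
    fin_cases j <;> simp [M, E, hac, hao, had]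
  · ext j
    show b ⬝ᵥ (fun i => M i j) = _
    fin_cases j <;> simp [M, E, hbd, hbo]

section conj

variable {g : GL (Fin 3) F}

theorem isT_map {z a : Fin 3 → F} :
    IsT (P.map (MulAut.conj g⁻¹).toMonoidHom) z a ↔
      IsT P ((g : Matrix (Fin 3) (Fin 3) F) *ᵥ z) (a ᵥ* ((g⁻¹ : GL (Fin 3) F) : Matrix (Fin 3) (Fin 3) F)) := by
  refine and_congr inT_map (and_congr ⟨fun h e => h ?_, fun h e => h ?_⟩ ⟨fun h e => h ?_, fun h e => h ?_⟩)
  · have := congrArg (((g⁻¹ : GL (Fin 3) F) : Matrix (Fin 3) (Fin 3) F) *ᵥ ·) e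
    simpa [mulVec_mulVec, ← Units.val_mul] using this
  · rw [e, mulVec_zero]
  · have := congrArg (· ᵥ* (g : Matrix (Fin 3) (Fin 3) F)) e
    simpa [vecMul_vecMul, ← Units.val_mul] using this
  · rw [e, zero_vecMul]

/-- Coordinates of a transvection of the group in the new basis. -/
theorem isT_unmap {z a : Fin 3 → F} (h : IsT P z a) :
    IsT (P.map (MulAut.conj g⁻¹).toMonoidHom) (((g⁻¹ : GL (Fin 3) F) : Matrix (Fin 3) (Fin 3) F) *ᵥ z)
      (a ᵥ* (g : Matrix (Fin 3) (Fin 3) F)) := by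
  rw [isT_map, mulVec_mulVec, vecMul_vecMul, ← Units.val_mul, mul_inv_cancel, Units.val_one,
    one_mulVec, vecMul_one]
  exact h

theorem conj_tvMat (g : GL (Fin 3) F) (z a : Fin 3 → F) :
    ((g⁻¹ : GL (Fin 3) F) : Matrix (Fin 3) (Fin 3) F) * tvMat z a * (g : Matrix (Fin 3) (Fin 3) F) =
      tvMat (((g⁻¹ : GL (Fin 3) F) : Matrix (Fin 3) (Fin 3) F) *ᵥ z) (a ᵥ* (g : Matrix (Fin 3) (Fin 3) F)) := by
  rw [tvMat, tvMat, mul_add, add_mul, mul_one, ← Units.val_mul, inv_mul_cancel, Units.val_one, mul_vecMulVec,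
    vecMulVec_mul]

theorem HasOpp.map (hP : HasOpp P) : HasOpp (P.map (MulAut.conj g⁻¹).toMonoidHom) := by
  intro z a h
  obtain ⟨d, b, hdb, hd, hb⟩ := hP _ _ (isT_map.1 h)
  refine ⟨((g⁻¹ : GL (Fin 3) F) : Matrix (Fin 3) (Fin 3) F) *ᵥ d, b ᵥ* (g : Matrix (Fin 3) (Fin 3) F), ?_, ?_, ?_⟩
  · rw [inT_map, mulVec_mulVec, vecMul_vecMul, ← Units.val_mul, mul_inv_cancel, Units.val_one,
      one_mulVec, vecMul_one]
    exact hdb
  · rwa [← dotProduct_mulVec] at hd
  · rwa [dotProduct_mulVec] at hb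

theorem Unital.map (hU : Unital P) : Unital (P.map (MulAut.conj g⁻¹).toMonoidHom) := by
  refine ⟨fun z a a' h h' => ?_, fun z z' a h h' => ?_⟩
  · obtain ⟨k, hk⟩ := hU.1 _ _ _ (isT_map.1 h) (isT_map.1 h')
    refine ⟨k, ?_⟩
    have := congrArg (· ᵥ* (g : Matrix (Fin 3) (Fin 3) F)) hk
    simpa [vecMul_vecMul, smul_vecMul, ← Units.val_mul] using this
  · obtain ⟨k, hk⟩ := hU.2 _ _ _ (isT_map.1 h) (isT_map.1 h')
    refine ⟨k, ?_⟩
    have := congrArg (((g⁻¹ : GL (Fin 3) F) : Matrix (Fin 3) (Fin 3) F) *ᵥ ·) hk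
    simpa [mulVec_mulVec, mulVec_smul, ← Units.val_mul] using this

end conj

variable [Fintype F]

theorem InT.zero_left (a : Fin 3 → F) : InT P 0 a := by
  refine ⟨dotProduct_zero a, ?_⟩
  convert one_mem P
  exact Units.ext (by rw [coe_tv, tvMat, zero_vecMulVec, add_zero]; rfl)


/-- All elementary transvections give all transvections. -/
theorem all_of_allRoots (h : AllRoots P ⊤) {z a : Fin 3 → F} (hza : a ⬝ᵥ z = 0) : InT P z a := by
  classical
  have hel : ∀ p q : Fin 3, p ≠ q → ∀ x : F, InT P (E p) (x • E q) := fun p q hpq x =>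
    (h p q hpq x).2 (Subfield.mem_top x)
  have hzero : ∀ q : Fin 3, InT P 0 (E q) := fun q => by
    obtain ⟨p, hp⟩ := exists_ne q
    have := hel p q hp 1
    rw [one_smul] at this
    simpa [add_self'] using this.add_left this
  have hcentre : ∀ (q : Fin 3) (z : Fin 3 → F), z q = 0 → InT P z (E q) := by
    intro q z hq
    have hz : z = ∑ p, z p • E p := by ext i; simp [E, Pi.single_apply]
    rw [hz]
    refine Finset.sum_induction _ (fun v => InT P v (E q)) (fun u v hu hv => hu.add_left hv) (hzero q) fun p _ => ?_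
    by_cases hp : p = q
    · rw [hp, hq, zero_smul]; exact hzero q
    · rw [InT.scale_iff (by rw [E_dot, E_apply_ne (Ne.symm hp)])]
      exact hel p q hp (z p)
  have haxis : ∀ (p : Fin 3) (a : Fin 3 → F), a p = 0 → InT P (E p) a := by
    intro p a hp
    have h0 : InT P (E p) 0 := by
      obtain ⟨q, hq⟩ := exists_ne p
      have := hel p q hq.symm 0
      rwa [zero_smul] at this
    have ha : a = ∑ q, a q • E q := by ext i; simp [E, Pi.single_apply]
    rw [ha]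
    refine Finset.sum_induction _ (fun v => InT P (E p) v) (fun u v hu hv => hu.add_right hv) h0 fun q _ => ?_
    by_cases hq : q = p
    · rw [hq, hp, zero_smul]; exact h0
    · exact hel p q (Ne.symm hq) (a q)
  by_cases hz : z = 0
  · subst hz
    obtain ⟨p, -⟩ := exists_ne (0 : Fin 3)
    refine (show InT P ((0 : F) • E p) a from ?_) |> fun e => by rwa [zero_smul] at e
    refine ⟨by simp, ?_⟩
    convert one_mem P
    exact Units.ext (by rw [coe_tv, zero_smul, tvMat, zero_vecMulVec, add_zero]; rfl)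
  obtain ⟨i, hi⟩ := Function.ne_iff.1 hz
  rw [Pi.zero_apply] at hi
  obtain ⟨w, hw⟩ : ∃ w, w = (z i)⁻¹ • (z + z i • E i) := ⟨_, rfl⟩
  have hwi : w i = 0 := by simp [hw, E, CharTwo.add_self_eq_zero]
  have hmove : InT P w (E i) := hcentre i w hwi
  -- the root element before moving
  obtain ⟨a', ha'⟩ : ∃ a', a' = a + (a ⬝ᵥ w) • E i := ⟨_, rfl⟩
  have hea : a' i = 0 := by
    have h1 : a ⬝ᵥ z + z i * a i = z i * (a ⬝ᵥ w) := by
      rw [hw, dotProduct_smul, dotProduct_add, dotProduct_smul, dot_E, smul_eq_mul, smul_eq_mul, ← mul_assoc,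
        mul_inv_cancel₀ hi, one_mul]
    rw [hza, zero_add] at h1
    rw [ha', Pi.add_apply, Pi.smul_apply, E_apply_self, smul_eq_mul, mul_one, mul_left_cancel₀ hi h1,
      CharTwo.add_self_eq_zero]
  have h1 : InT P (z i • E i) a' := by
    rw [InT.scale_iff (show a' ⬝ᵥ E i = 0 by rw [dot_E, hea])]
    exact haxis i _ (by rw [Pi.smul_apply, hea, smul_zero])
  have h2 := h1.conj_tv hmove
  have e1 : z i • (E i : Fin 3 → F) + ((E i : Fin 3 → F) ⬝ᵥ (z i • E i)) • w = z := by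
    rw [dotProduct_smul, dot_E, E_apply_self, smul_eq_mul, mul_one, hw, smul_smul, mul_inv_cancel₀ hi, one_smul,
      add_comm z, ← add_assoc, add_self', zero_add]
  have e2 : a' + (a' ⬝ᵥ w) • E i = a := by
    rw [ha', add_dotProduct, smul_dotProduct, E_dot, hwi, smul_zero, add_zero, add_assoc, add_self', add_zero]
  rwa [e1, e2] at h2

/-- Two centres on one axis and a large root subgroup give all transvections. -/
theorem axis_case (hP : HasOpp P) (hgen : Gen P) (hreal : NoSub P) {c a z : Fin 3 → F} (hc : IsT P c a)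
    (hz : InT P z a) (hne : ∀ k : F, z ≠ k • c) (hb : Big P c a) :
    ∀ z a, a ⬝ᵥ z = 0 → InT P z a := by
  obtain ⟨d, b, hd, had, hbc⟩ := hP c a hc
  obtain ⟨K, h4, hκ, hKc, hKd⟩ := pair hc.1 hd had hbc (Or.inl hb)
  obtain ⟨o, y, hy, hao, hbo, hzo, hμ⟩ := axis_root h4 had hbc hκ hKc hKd hz
  have ho : o ≠ 0 := fun e => hne y (by rw [hzo, e, zero_add])
  obtain ⟨g, hg, hga, hgb⟩ := exists_frame hc.1.dot hd.dot had hbc hao hbo ho
  let P' := P.map (MulAut.conj g⁻¹).toMonoidHom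
  have hback : ∀ {w v : Fin 3 → F}, w ᵥ* (g : Matrix (Fin 3) (Fin 3) F) = v →
      v ᵥ* ((g⁻¹ : GL (Fin 3) F) : Matrix (Fin 3) (Fin 3) F) = w := fun {w v} e => by
    rw [← e, vecMul_vecMul, ← Units.val_mul, mul_inv_cancel, Units.val_one, vecMul_one]
  have h02 : ∀ x, InT P' (E 0) (x • E 2) ↔ x ∈ K := fun x => by
    rw [inT_map, hg, smul_vecMul, hback hga]
    simpa [E] using hKc x
  have h20 : ∀ x, InT P' (E 2) (x • E 0) ↔ x ∈ K := fun x => by
    rw [inT_map, hg, show x • (E 0 : Fin 3 → F) = (x / (b ⬝ᵥ c)) • ((b ⬝ᵥ c) • E 0) by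
      rw [smul_smul, div_mul_cancel₀ x hbc], smul_vecMul, hback hgb]
    simp [E, hKd]
    refine ⟨fun h => ?_, fun h => K.div_mem h hκ⟩
    have := K.mul_mem h hκ
    rwa [div_mul_cancel₀ x hbc] at this
  have h12 : ∀ x ∈ K, InT P' (E 1) (x • E 2) := fun x hx => by
    rw [inT_map, hg, smul_vecMul, hback hga]
    simpa [E] using hμ x hx
  have hall := allRoots_of_axis (hP.map (g := g)) h4 h02 h20 h12
  have htop : K = ⊤ := by
    refine hreal K (realisable_of_rational hgen K g⁻¹ fun z a ht i j => ?_)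
    rw [inv_inv, conj_tvMat, tvMat, Matrix.add_apply, vecMulVec_apply, Matrix.one_apply]
    refine K.add_mem ?_ (rational_of_allRoots h4 hall (isT_unmap ht).1 i j)
    split_ifs <;> simp
  subst htop
  intro z a h
  have := all_of_allRoots (P := P') hall (z := ((g⁻¹ : GL (Fin 3) F) : Matrix (Fin 3) (Fin 3) F) *ᵥ z)
    (a := a ᵥ* (g : Matrix (Fin 3) (Fin 3) F))
    (by rw [← dotProduct_mulVec, mulVec_mulVec, ← Units.val_mul, mul_inv_cancel, Units.val_one, one_mulVec, h])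
  rwa [inT_map, mulVec_mulVec, vecMul_vecMul, ← Units.val_mul, mul_inv_cancel, Units.val_one,
    one_mulVec, vecMul_one] at this

/-- All isotropic transvections lie in the group once the standard root element and one more are present. -/
theorem unital_full {K : Subfield F} {σ : F →+* F} (hσ : ∀ x : F, σ x = x ↔ x ∈ K) (hinv : ∀ x, σ (σ x) = x)
    (h4 : 4 ≤ Nat.card K) (h02 : ∀ x, InT P (E 0) (x • E 2) ↔ x ∈ K) (h20 : ∀ x, InT P (E 2) (x • E 0) ↔ x ∈ K)
    {h : F} (hh : σ h = h) {r₀ k₀ : F} (hk₀ : σ k₀ = k₀) (hk00 : k₀ ≠ 0) (hr₀ : σ r₀ ≠ r₀)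
    (hv : InT P ![1, 1, r₀] (k₀ • polarVec σ h ![1, 1, r₀])) (hiso : polarVec σ h ![1, 1, r₀] ⬝ᵥ ![1, 1, r₀] = 0) :
    ∀ x, polarVec σ h x ⬝ᵥ x = 0 → ∀ k, σ k = k → InT P x (k • polarVec σ h x) := by
  classical
  let S : (Fin 3 → F) → Prop := fun w => ∀ k, σ k = k → InT P w (k • polarVec σ h w)
  have hsmul : ∀ (c : F) (w : Fin 3 → F), polarVec σ h (c • w) = σ c • polarVec σ h w := fun c w => by
    ext i; fin_cases i <;> simp [polarVec] ; ring
  have hscale : ∀ (c : F) (w : Fin 3 → F), c ≠ 0 → polarVec σ h w ⬝ᵥ w = 0 → S w → S (c • w) := by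
    intro c w hc hw hS k hk
    rw [hsmul, InT.scale_iff (by rw [smul_dotProduct, smul_dotProduct, hw, smul_zero, smul_zero]), smul_smul,
      smul_smul]
    exact hS _ (by rw [map_mul, map_mul, hinv, hk]; ring)
  -- translations by the two standard root subgroups
  have hlow : ∀ (w : Fin 3 → F) (ν : F), σ ν = ν → S w → S (w + (ν * w 0) • E 2) := by
    intro w ν hν hS k hk
    have := (hS k hk).conj_tv ((h20 ν).2 ((hσ ν).1 hν))
    rw [smul_dotProduct, E_dot, smul_eq_mul, smul_dotProduct, dot_E, smul_smul] at this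
    convert this using 1
    ext i
    fin_cases i <;> simp [polarVec, E, hν] <;> ring
  have hup : ∀ (w : Fin 3 → F) (μ : F), σ μ = μ → S w → S (w + (μ * w 2) • E 0) := by
    intro w μ hμ hS k hk
    have := (hS k hk).conj_tv ((h02 μ).2 ((hσ μ).1 hμ))
    rw [smul_dotProduct, E_dot, smul_eq_mul, smul_dotProduct, dot_E, smul_smul] at this
    convert this using 1
    ext i
    fin_cases i <;> simp [polarVec, E, hμ] <;> ring
  have hv0 : S ![1, 1, r₀] := by
    intro k hk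
    obtain ⟨K', -, -, h1, h2⟩ := pair ((h20 1).2 K.one_mem) hv (by simp [E])
      (by simp [polarVec, E, hk00]) (Or.inl (card_field_le K (fun x hx => by
        rw [one_smul]; exact (h20 x).2 hx) h4))
    have e : (k / k₀) • k₀ • polarVec σ h ![1, 1, r₀] = k • polarVec σ h ![1, 1, r₀] := by
      rw [smul_smul, div_mul_cancel₀ _ hk00]
    rw [← e, h2, ← h1, one_smul, h20, ← hσ, map_div₀, hk, hk₀]
  -- one step
  let Y : F → Prop := fun y => ∃ r, S ![1, y, r] ∧ polarVec σ h ![1, y, r] ⬝ᵥ ![1, y, r] = 0 ∧ σ r ≠ r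
  have hmove : ∀ {y r : F}, S ![1, y, r] → polarVec σ h ![1, y, r] ⬝ᵥ ![1, y, r] = 0 → σ r ≠ r →
      ∀ c μ : F, σ c = c → σ μ = μ → μ ≠ 0 →
        ∃ r', S ![1, y / (c + μ * r), r'] ∧
          polarVec σ h ![1, y / (c + μ * r), r'] ⬝ᵥ ![1, y / (c + μ * r), r'] = 0 := by
    intro y r hS hw hr c μ hc hμ hμ0
    obtain ⟨ν, hν⟩ : ∃ ν, ν = (c + 1) / μ := ⟨_, rfl⟩
    have hνσ : σ ν = ν := by rw [hν, map_div₀, map_add, map_one, hc, hμ]
    have hd : c + μ * r ≠ 0 := by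
      intro e
      have e' : μ * r = c := (CharTwo.add_eq_zero.1 e).symm
      have := congrArg σ e'
      rw [map_mul, hμ, hc, ← e'] at this
      exact hr (mul_left_cancel₀ hμ0 this)
    have h1 := hup _ μ hμ (hlow _ ν hνσ hS)
    have hw2 : (![1, y, r] : Fin 3 → F) + (ν * (![1, y, r] : Fin 3 → F) 0) • E 2 = ![1, y, r + ν] := by
      ext i; fin_cases i <;> simp [E]
    rw [hw2] at h1
    have hw3 : (![1, y, r + ν] : Fin 3 → F) + (μ * (![1, y, r + ν] : Fin 3 → F) 2) • E 0 = ![c + μ * r, y, r + ν] := by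
      ext i; fin_cases i <;> simp [E]
      rw [hν]
      field_simp
      linear_combination CharTwo.two_eq_zero (R := F)
    rw [hw3] at h1
    have hi : polarVec σ h ![c + μ * r, y, r + ν] ⬝ᵥ ![c + μ * r, y, r + ν] = 0 := by
      have := (h1 1 (map_one σ)).dot
      rwa [one_smul] at this
    have e : (c + μ * r)⁻¹ • ![c + μ * r, y, r + ν] = ![1, y / (c + μ * r), (r + ν) / (c + μ * r)] := by
      ext i; fin_cases i <;> simp [inv_mul_cancel₀ hd, div_eq_inv_mul]
    refine ⟨_, e ▸ hscale _ _ (inv_ne_zero hd) hi h1, ?_⟩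
    rw [← e, hsmul, smul_dotProduct, dotProduct_smul, hi, smul_zero, smul_zero]
  have hcover : ∀ {r : F}, σ r ≠ r → ∀ t : F, ∃ c μ : F, σ c = c ∧ σ μ = μ ∧ t = c + μ * r := by
    intro r hr t
    have hne : r + σ r ≠ 0 := fun e => hr (CharTwo.add_eq_zero.1 e).symm
    refine ⟨t + (t + σ t) / (r + σ r) * r, (t + σ t) / (r + σ r), ?_, ?_, ?_⟩
    · simp only [map_add, map_mul, map_div₀, hinv]
      rw [add_comm (σ t) t, add_comm (σ r) r]
      field_simp
      linear_combination (σ t * σ r - t * r) * CharTwo.two_eq_zero (R := F)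
    · simp only [map_add, map_div₀, hinv]
      rw [add_comm (σ t) t, add_comm (σ r) r]
    · rw [add_assoc, CharTwo.add_self_eq_zero, add_zero]
  have hY : ∀ y : F, y ≠ 0 → Y y := by
    have hnot : ∀ {y r : F}, y ≠ 0 → h ≠ 0 → polarVec σ h ![1, y, r] ⬝ᵥ ![1, y, r] = 0 → σ r ≠ r := by
      intro y r hy hh0 e e'
      simp [polarVec, dotProduct, Fin.sum_univ_three, e'] at e
      have : h * (σ y * y) = 0 := by linear_combination e - r * CharTwo.two_eq_zero (R := F)
      rcases mul_eq_zero.1 this with e | e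
      · exact hh0 e
      · rcases mul_eq_zero.1 e with e | e
        · exact hy (by rw [← hinv y, e, map_zero])
        · exact hy e
    have hh0 : h ≠ 0 := by
      intro e
      simp [polarVec, dotProduct, Fin.sum_univ_three, e] at hiso
      exact hr₀ (CharTwo.add_eq_zero.1 hiso)
    have key : ∀ {y r : F}, y ≠ 0 → S ![1, y, r] → polarVec σ h ![1, y, r] ⬝ᵥ ![1, y, r] = 0 →
        ∀ t : F, (∃ c μ : F, σ c = c ∧ σ μ = μ ∧ μ ≠ 0 ∧ t = c + μ * r) → y / t ≠ 0 → Y (y / t) := by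
      rintro y r hy hS hw t ⟨c, μ, hc, hμ, hμ0, rfl⟩ hne
      obtain ⟨r', h1, h2⟩ := hmove hS hw (hnot hy hh0 hw) c μ hc hμ hμ0
      exact ⟨r', h1, h2, hnot hne hh0 h2⟩
    intro y hy
    obtain ⟨c, μ, hc, hμ, e⟩ := hcover hr₀ y⁻¹
    by_cases hμ0 : μ = 0
    · -- two steps
      obtain ⟨r₁, h1, hw1, hr₁⟩ := key one_ne_zero hv0 hiso r₀
        ⟨0, 1, map_zero σ, map_one σ, one_ne_zero, by simp⟩ (by
          refine one_div_ne_zero fun e => hr₀ (by rw [e, map_zero]))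
      have hr00 : r₀ ≠ 0 := fun e => hr₀ (by rw [e, map_zero])
      have hne1 : 1 / r₀ ≠ 0 := one_div_ne_zero hr00
      obtain ⟨c', μ', hc', hμ', e'⟩ := hcover hr₁ (1 / r₀ / y)
      rw [show y = 1 / r₀ / (1 / r₀ / y) by rw [div_div_cancel₀ hne1]]
      refine key hne1 h1 hw1 _ ⟨c', μ', hc', hμ', ?_, e'⟩ (by rw [div_div_cancel₀ hne1]; exact hy)
      intro e0
      rw [e0, zero_mul, add_zero] at e'
      rw [hμ0, zero_mul, add_zero] at e
      refine hr₀ ?_
      have : r₀ = c / c' := by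
        rw [← e, ← e']
        field_simp
      rw [this, map_div₀, hc, hc']
    · have := key one_ne_zero hv0 hiso y⁻¹ ⟨c, μ, hc, hμ, hμ0, e⟩ (by rwa [one_div, inv_inv])
      rwa [one_div, inv_inv] at this
  intro x hx
  suffices S x from this
  have hE2 : S (E 2) := fun k hk => by
    rw [show polarVec σ h (E 2) = E 0 by ext i; fin_cases i <;> simp [polarVec, E]]
    exact (h20 k).2 ((hσ k).1 hk)
  have hE0 : S (E 0) := fun k hk => by
    rw [show polarVec σ h (E 0) = E 2 by ext i; fin_cases i <;> simp [polarVec, E]]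
    exact (h02 k).2 ((hσ k).1 hk)
  have hiE : ∀ i : Fin 3, i ≠ 1 → polarVec σ h (E i) ⬝ᵥ E i = 0 := fun i hi => by
    fin_cases i <;> simp [polarVec, E] at hi ⊢
  have hx' : σ (x 2) * x 0 + h * σ (x 1) * x 1 + σ (x 0) * x 2 = 0 := by
    simpa [polarVec, dotProduct, Fin.sum_univ_three] using hx
  by_cases h0 : x 0 = 0
  · have h1 : h * (σ (x 1) * x 1) = 0 := by
      rw [h0, map_zero] at hx'
      linear_combination hx'
    have hx1 : x 1 = 0 := by
      rcases mul_eq_zero.1 h1 with e | e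
      · exfalso
        simp [polarVec, dotProduct, Fin.sum_univ_three, e] at hiso
        exact hr₀ (CharTwo.add_eq_zero.1 hiso)
      · rcases mul_eq_zero.1 e with e | e
        · rw [← hinv (x 1), e, map_zero]
        · exact e
    have e : x = x 2 • E 2 := by ext i; fin_cases i <;> simp [E, h0, hx1]
    by_cases h2 : x 2 = 0
    · intro k _
      rw [e, h2, zero_smul]
      exact InT.zero_left _
    · rw [e]
      exact hscale _ _ h2 (hiE 2 (by decide)) hE2
  obtain ⟨y, hy⟩ : ∃ y, y = x 1 / x 0 := ⟨_, rfl⟩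
  obtain ⟨r, hr⟩ : ∃ r, r = x 2 / x 0 := ⟨_, rfl⟩
  have hxe : x = x 0 • ![1, y, r] := by
    ext i; fin_cases i <;> simp [hy, hr, mul_div_cancel₀ _ h0]
  have hw : polarVec σ h ![1, y, r] ⬝ᵥ ![1, y, r] = 0 := by
    rw [hxe, hsmul, smul_dotProduct, dotProduct_smul, smul_eq_zero, smul_eq_zero] at hx
    rcases hx with e | e | e
    · exact absurd ((map_eq_zero σ).1 e) h0
    · exact absurd e h0
    · exact e
  rw [hxe]
  refine hscale _ _ h0 hw ?_
  obtain ⟨r', hS', hw'⟩ : ∃ r', S ![1, y, r'] ∧ polarVec σ h ![1, y, r'] ⬝ᵥ ![1, y, r'] = 0 := by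
    by_cases hy0 : y = 0
    · refine ⟨0, ?_, by simp [polarVec, dotProduct, Fin.sum_univ_three, hy0]⟩
      rw [hy0, show (![1, 0, 0] : Fin 3 → F) = E 0 by ext i; fin_cases i <;> simp [E]]
      exact hE0
    · obtain ⟨r', h1, h2, -⟩ := hY y hy0
      exact ⟨r', h1, h2⟩
  have hν : σ (r' + r) = r' + r := by
    simp [polarVec, dotProduct, Fin.sum_univ_three] at hw hw'
    rw [map_add]
    linear_combination hw' + hw - (r' + r + h * σ y * y) * CharTwo.two_eq_zero (R := F)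
  have := hlow _ _ hν hS'
  rwa [show (![1, y, r'] : Fin 3 → F) + ((r' + r) * (![1, y, r'] : Fin 3 → F) 0) • E 2 = ![1, y, r] by
    ext i; fin_cases i <;> simp [E]
    linear_combination r' * CharTwo.two_eq_zero (R := F)] at this

/-- The hermitian pairing with antidiagonal `1, h, 1`. -/
def herm (σ : F →+* F) (h : F) (x y : Fin 3 → F) : F := polarVec σ h y ⬝ᵥ x

theorem herm_eq (σ : F →+* F) (h : F) (x y : Fin 3 → F) :
    herm σ h x y = σ (y 2) * x 0 + h * σ (y 1) * x 1 + σ (y 0) * x 2 := by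
  simp [herm, polarVec, dotProduct, Fin.sum_univ_three]

theorem unital_case (hU : Unital P) (hP : HasOpp P) (hgen : Gen P) (hreal : NoSub P)
    (hirr : ActsIrreducibly (matrixSet P)) {c a : Fin 3 → F} (hc : IsT P c a) (hb : Big P c a) :
    ∃ (σ : F ≃+* F) (f : (Fin 3 → F) → (Fin 3 → F) → F), IsUnitaryForm σ f ∧ FixesForm (matrixSet P) f ∧
      IsotropicRoots P σ f := by
  obtain ⟨d, b, hd, had, hbc⟩ := hP c a hc
  obtain ⟨K, h4, hκ, hKc, hKd⟩ := pair hc.1 hd had hbc (Or.inl hb)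
  have hd' : IsT P d b := ⟨hd, fun e => by simp [e] at had, fun e => hbc (by rw [e, zero_dotProduct])⟩
  have hn : crossProduct c d ≠ 0 := by
    intro h0
    have h3 := cross_cross_eq_smul_sub_smul' a c d
    rw [h0, map_zero, had, dotProduct_comm c a, hc.1.dot, one_smul, zero_smul, sub_zero] at h3
    exact hc.2.1 h3.symm
  obtain ⟨z₀, f₀, hz₀, hoff⟩ := exists_centre_off hirr hc hn
  have hbz : b ⬝ᵥ z₀ ≠ 0 := by
    intro h0
    obtain ⟨⟨k, hk⟩, -⟩ := hU.same hd' hz₀ (hU.no_half hz₀ hd' h0)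
    rw [hk, dotProduct_smul, dotProduct_comm (crossProduct c d) d, dot_cross_self, smul_zero] at hoff
    exact hoff rfl
  obtain ⟨t, ht⟩ : ∃ t, t = (b ⬝ᵥ c) / (b ⬝ᵥ z₀) := ⟨_, rfl⟩
  have ht0 : t ≠ 0 := ht ▸ div_ne_zero hbc hbz
  have hz₁ : IsT P (t • z₀) (t⁻¹ • f₀) :=
    ⟨hz₀.1.rescale ht0, smul_ne_zero ht0 hz₀.2.1, smul_ne_zero (inv_ne_zero ht0) hz₀.2.2⟩
  have hbz1 : b ⬝ᵥ (t • z₀) = b ⬝ᵥ c := by rw [dotProduct_smul, smul_eq_mul, ht, div_mul_cancel₀ _ hbz]
  obtain ⟨o, ho⟩ : ∃ o, o = t • z₀ + c + (a ⬝ᵥ (t • z₀)) • d := ⟨_, rfl⟩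
  have hao : a ⬝ᵥ o = 0 := by
    rw [ho, dotProduct_add, dotProduct_add, dotProduct_smul _ _ d, hc.1.dot, had, smul_eq_mul, mul_one, add_zero,
      CharTwo.add_self_eq_zero]
  have hbo : b ⬝ᵥ o = 0 := by
    rw [ho, dotProduct_add, dotProduct_add, dotProduct_smul _ _ d, hd.dot, smul_zero, add_zero, hbz1,
      CharTwo.add_self_eq_zero]
  have hone : o ≠ 0 := by
    intro e
    have := congrArg (crossProduct c d ⬝ᵥ ·) (ho.symm.trans e)
    simp only [dotProduct_add, dotProduct_smul, dotProduct_comm (crossProduct c d) c, dot_self_cross,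
      dotProduct_comm (crossProduct c d) d, dot_cross_self, smul_zero, add_zero, dotProduct_zero, smul_eq_mul, mul_zero,
      mul_eq_zero] at this
    exact this.elim ht0 hoff
  obtain ⟨g, hg, hga, hgb⟩ := exists_frame hc.1.dot hd.dot had hbc hao hbo hone
  let P' := P.map (MulAut.conj g⁻¹).toMonoidHom
  have hback : ∀ {w v : Fin 3 → F}, w ᵥ* (g : Matrix (Fin 3) (Fin 3) F) = v →
      v ᵥ* ((g⁻¹ : GL (Fin 3) F) : Matrix (Fin 3) (Fin 3) F) = w := fun {w v} e => by
    rw [← e, vecMul_vecMul, ← Units.val_mul, mul_inv_cancel, Units.val_one, vecMul_one]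
  have h02 : ∀ x, InT P' (E 0) (x • E 2) ↔ x ∈ K := fun x => by
    rw [inT_map, hg, smul_vecMul, hback hga]
    simpa [E] using hKc x
  have h20 : ∀ x, InT P' (E 2) (x • E 0) ↔ x ∈ K := fun x => by
    rw [inT_map, hg, show x • (E 0 : Fin 3 → F) = (x / (b ⬝ᵥ c)) • ((b ⬝ᵥ c) • E 0) by
      rw [smul_smul, div_mul_cancel₀ x hbc], smul_vecMul, hback hgb]
    simp [E, hKd]
    refine ⟨fun h => ?_, fun h => K.div_mem h hκ⟩
    have := K.mul_mem h hκ
    rwa [div_mul_cancel₀ x hbc] at this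
  have hv₀ : IsT P' ![1, 1, a ⬝ᵥ (t • z₀)] ((t⁻¹ • f₀) ᵥ* (g : Matrix (Fin 3) (Fin 3) F)) := by
    have := isT_unmap (g := g) hz₁
    have e : (g : Matrix (Fin 3) (Fin 3) F) *ᵥ ![1, 1, a ⬝ᵥ (t • z₀)] = t • z₀ := by
      rw [hg]
      simp only [cons_val_zero, cons_val_one, cons_val_two, Matrix.tail_cons, Matrix.head_cons, one_smul, ho]
      abel_nf
      simp [CharTwo.two_eq_zero, two_smul, add_self']
    rwa [← e, mulVec_mulVec, ← Units.val_mul, inv_mul_cancel, Units.val_one, one_mulVec] at this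
  obtain ⟨σ, hσ⟩ := exists_frob K
  obtain ⟨h, h0, hhσ, hσσr, hσr, hall⟩ := unital_std (hU.map (g := g)) h4 hσ h02 h20 hv₀
  -- the transvections in the new basis
  have hT : ∀ z a, IsT P z a → ∃ z' k, (∀ i, σ (σ (z' i)) = z' i) ∧ σ k = k ∧ polarVec σ h z' ⬝ᵥ z' = 0 ∧
      ((g⁻¹ : GL (Fin 3) F) : Matrix (Fin 3) (Fin 3) F) * tvMat z a * (g : Matrix (Fin 3) (Fin 3) F) =
        tvMat z' (k • polarVec σ h z') := fun z a ht => by
    rw [conj_tvMat]
    exact hall _ _ (isT_unmap ht)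
  have hinv : ∀ x, σ (σ x) = x := by
    have htop : RingHom.eqLocusField (σ.comp σ) (RingHom.id F) = ⊤ := by
      refine hreal _ (realisable_of_rational hgen _ g⁻¹ fun z a ht i j => ?_)
      rw [inv_inv]
      obtain ⟨z', k, hz', hk, -, e⟩ := hT z a ht
      rw [e]
      show σ (σ _) = _
      simp only [tvMat, Matrix.add_apply, vecMulVec_apply, Matrix.one_apply, Pi.smul_apply, smul_eq_mul, RingHom.id_apply,
        map_add, map_mul, hk, hz']
      fin_cases i <;> fin_cases j <;> simp [polarVec, hhσ, hk, hz', map_mul]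
    intro x
    have hx : x ∈ RingHom.eqLocusField (σ.comp σ) (RingHom.id F) := htop ▸ Subfield.mem_top x
    exact hx
  let σe : F ≃+* F := RingEquiv.ofRingHom σ σ (RingHom.ext hinv) (RingHom.ext hinv)
  let gi := ((g⁻¹ : GL (Fin 3) F) : Matrix (Fin 3) (Fin 3) F)
  refine ⟨σe, fun u v => herm σ h (gi *ᵥ u) (gi *ᵥ v), ⟨?_, hinv, ?_, ?_, ?_, ?_⟩, ?_, ?_⟩
  · intro e
    exact hσr (RingEquiv.congr_fun e _)
  · intro x y v
    simp only [herm, mulVec_add, dotProduct_add]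
  · intro k x v
    simp only [herm, mulVec_smul, dotProduct_smul, smul_eq_mul]
  · intro v w
    show _ = σ _
    simp only [herm_eq, map_add, map_mul, hinv, hhσ]
    ring
  · intro v hv
    obtain ⟨w, hw⟩ : ∃ w, w = gi *ᵥ v := ⟨_, rfl⟩
    have hw0 : w ≠ 0 := fun e => hv (by
      have := congrArg ((g : Matrix (Fin 3) (Fin 3) F) *ᵥ ·) (hw.symm.trans e)
      simpa [gi, mulVec_mulVec, ← Units.val_mul] using this)
    have key : ∃ x, herm σ h x w ≠ 0 := by
      by_contra hno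
      push Not at hno
      have hi := fun i => hno (E i)
      have h1 := hi 0; have h2 := hi 1; have h3 := hi 2
      simp [herm_eq, E, h0] at h1 h2 h3
      exact hw0 (funext fun i => by fin_cases i <;> assumption)
    obtain ⟨x, hx⟩ := key
    have hgx : gi *ᵥ ((g : Matrix (Fin 3) (Fin 3) F) *ᵥ x) = x := by
      simp [gi, mulVec_mulVec, ← Units.val_mul]
    refine ⟨⟨(g : Matrix (Fin 3) (Fin 3) F) *ᵥ x, ?_⟩, ⟨(g : Matrix (Fin 3) (Fin 3) F) *ᵥ x, ?_⟩⟩
    · simpa [hgx, ← hw] using hx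
    · show herm σ h (gi *ᵥ v) (gi *ᵥ ((g : Matrix (Fin 3) (Fin 3) F) *ᵥ x)) ≠ 0
      rw [hgx, ← hw]
      intro e
      refine hx ?_
      have := congrArg σ e
      rw [herm_eq, map_zero] at this
      rw [herm_eq, ← this]
      simp only [map_add, map_mul, hinv, hhσ]
      ring
  · rintro _ ⟨s, hs, rfl⟩
    suffices ∀ s ∈ Subgroup.closure {g | ∃ z a, ∃ h : a ⬝ᵥ z = 0, IsT P z a ∧ g = tv z a h}, ∀ u v,
        herm σ h (gi *ᵥ ((s : Matrix (Fin 3) (Fin 3) F) *ᵥ u)) (gi *ᵥ ((s : Matrix (Fin 3) (Fin 3) F) *ᵥ v)) =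
          herm σ h (gi *ᵥ u) (gi *ᵥ v) from this s (hgen hs)
    intro s hs
    induction hs using Subgroup.closure_induction with
    | mem x hx =>
      obtain ⟨z, a, h1, ht, rfl⟩ := hx
      intro u v
      obtain ⟨z', k, -, hk, hz', e⟩ := hT z a ht
      have hmv : ∀ u, gi *ᵥ ((tv z a h1 : Matrix (Fin 3) (Fin 3) F) *ᵥ u) =
          gi *ᵥ u + (k * herm σ h (gi *ᵥ u) z') • z' := fun u => by
        have hu : (g : Matrix (Fin 3) (Fin 3) F) *ᵥ (gi *ᵥ u) = u := by
          simp [gi, mulVec_mulVec, ← Units.val_mul]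
        have := congrArg (· *ᵥ (gi *ᵥ u)) e
        rw [← mulVec_mulVec, hu, ← mulVec_mulVec, tvMat_mulVec z', smul_dotProduct, smul_eq_mul] at this
        rw [coe_tv]
        exact this
      rw [hmv, hmv]
      rw [← herm, herm_eq] at hz'
      simp only [herm_eq, Pi.add_apply, Pi.smul_apply, smul_eq_mul, map_add, map_mul, hk, hinv, hhσ]
      generalize gi *ᵥ u = p
      generalize gi *ᵥ v = q
      linear_combination
        (k * (σ (z' 2) * p 0 + h * σ (z' 1) * p 1 + σ (z' 0) * p 2)) *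
          (k * (z' 2 * σ (q 0) + h * z' 1 * σ (q 1) + z' 0 * σ (q 2))) * hz' +
        (k * (σ (z' 2) * p 0 + h * σ (z' 1) * p 1 + σ (z' 0) * p 2) *
          (z' 2 * σ (q 0) + h * z' 1 * σ (q 1) + z' 0 * σ (q 2))) * CharTwo.two_eq_zero (R := F)
    | one => intro u v; simp
    | mul x y _ _ hx hy =>
      intro u v
      rw [Units.val_mul, ← mulVec_mulVec, ← mulVec_mulVec, hx, hy]
    | inv x _ hx =>
      intro u v
      have e : ∀ u, (x : Matrix (Fin 3) (Fin 3) F) *ᵥ (((x⁻¹ : GL (Fin 3) F) : Matrix (Fin 3) (Fin 3) F) *ᵥ u) = u :=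
        fun u => by simp [mulVec_mulVec, ← Units.val_mul]
      have := hx (((x⁻¹ : GL (Fin 3) F) : Matrix (Fin 3) (Fin 3) F) *ᵥ u)
        (((x⁻¹ : GL (Fin 3) F) : Matrix (Fin 3) (Fin 3) F) *ᵥ v)
      rw [e, e] at this
      exact this.symm
  · intro x a' hax k hxx hk ha
    obtain ⟨v, hvdef⟩ : ∃ v : Fin 3 → F, v = ![1, 1, a ⬝ᵥ (t • z₀)] := ⟨_, rfl⟩
    rw [← hvdef] at hv₀
    obtain ⟨z₁, k₁, -, hk₁, hz₁', e⟩ := hall _ _ hv₀
    obtain ⟨j, hj⟩ := Function.ne_iff.1 hv₀.2.2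
    obtain ⟨c₁, hc₁⟩ : ∃ c₁, v = c₁ • z₁ := by
      refine ⟨(k₁ • polarVec σ h z₁) j / ((t⁻¹ • f₀) ᵥ* (g : Matrix (Fin 3) (Fin 3) F)) j, funext fun i => ?_⟩
      have e' := congrFun (congrFun e i) j
      simp only [tvMat, Matrix.add_apply, vecMulVec_apply, add_right_inj] at e'
      show _ = _ * z₁ i
      rw [div_mul_eq_mul_div, eq_div_iff hj, e', mul_comm]
    have hc0 : c₁ ≠ 0 := fun e0 => hv₀.2.1 (by rw [hc₁, e0, zero_smul])
    have hpol : polarVec σ h v = σ c₁ • polarVec σ h z₁ := by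
      rw [hc₁]; ext i; fin_cases i <;> simp [polarVec]; ring
    have hiso : polarVec σ h v ⬝ᵥ v = 0 := by
      rw [hpol, hc₁, smul_dotProduct, dotProduct_smul, hz₁', smul_zero, smul_zero]
    have hk0 : k₁ ≠ 0 := fun e0 => by
      rw [e0, zero_smul] at e
      obtain ⟨i, hi⟩ := Function.ne_iff.1 hv₀.2.1
      have e' := congrFun (congrFun e i) j
      simp only [tvMat, Matrix.add_apply, vecMulVec_apply, Pi.zero_apply, mul_zero, add_zero, add_eq_left] at e'
      exact mul_ne_zero hi hj e'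
    have hv1 : InT P' v ((k₁ / (c₁ * σ c₁)) • polarVec σ h v) := by
      refine hv₀.1.congr (by rw [smul_dotProduct, hiso, smul_zero]) ?_
      rw [e, hpol]
      conv_rhs => arg 1; rw [hc₁]
      rw [tvMat_smul, smul_smul, smul_smul]
      congr 2
      field_simp [hc0, (map_ne_zero σ).2 hc0]
    have hka : σ (k₁ / (c₁ * σ c₁)) = k₁ / (c₁ * σ c₁) := by
      rw [map_div₀, map_mul, hinv, hk₁, mul_comm (σ c₁) c₁]
    have hka0 : k₁ / (c₁ * σ c₁) ≠ 0 := div_ne_zero hk0 (mul_ne_zero hc0 ((map_ne_zero σ).2 hc0))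
    subst hvdef
    have hfull := unital_full hσ hinv h4 h02 h20 hhσ hka hka0 hσr hv1 hiso (gi *ᵥ x) hxx k hk
    rw [inT_map] at hfull
    have hgx : (g : Matrix (Fin 3) (Fin 3) F) *ᵥ (gi *ᵥ x) = x := by simp [gi, mulVec_mulVec, ← Units.val_mul]
    have hva : (k • polarVec σ h (gi *ᵥ x)) ᵥ* ((g⁻¹ : GL (Fin 3) F) : Matrix (Fin 3) (Fin 3) F) = a' := by
      refine (sub_eq_zero.1 (dotProduct_eq_zero _ fun v => ?_)).symm
      rw [sub_dotProduct, ha, ← dotProduct_mulVec, smul_dotProduct, smul_eq_mul]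
      exact sub_self _
    rw [hgx, hva] at hfull
    exact hfull.mem

/-- Large root subgroups. -/
theorem big_core (hgen : Gen P) (hreal : NoSub P) (hirr : ActsIrreducibly (matrixSet P)) {c a : Fin 3 → F}
    (hc : IsT P c a) (hb : Big P c a) :
    (∀ z a, a ⬝ᵥ z = 0 → InT P z a) ∨
      ∃ (σ : F ≃+* F) (f : (Fin 3 → F) → (Fin 3 → F) → F), IsUnitaryForm σ f ∧ FixesForm (matrixSet P) f ∧
        IsotropicRoots P σ f := by
  have hP := hasOpp_of_irred hirr
  by_cases hU : Unital P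
  · exact Or.inr (unital_case hU hP hgen hreal hirr hc hb)
  left
  rw [Unital, not_and_or] at hU
  rcases hU with hU | hU
  · push Not at hU
    obtain ⟨z, a₁, a₂, h1, h2, hne⟩ := hU
    intro w f h
    exact dual_inT.1 (axis_case hP.dual hgen.dual hreal.dual (dual_isT.2 h1) (dual_inT.2 h2.1) hne
      ((big_dual h1.1.dot).2 (big_all hP hc hb h1)) f w (by rwa [dotProduct_comm]))
  · push Not at hU
    obtain ⟨z₁, z₂, a₁, h1, h2, hne⟩ := hU
    exact axis_case hP hgen hreal h1 h2.1 hne (big_all hP hc hb h1)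

end Cfsg.Lib.Linear.Mitchell.Even
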