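import Cfsg.Agent.Lib.Linear.Mitchell.EvenSmallGroup

/-!
Irreducible subgroups of `SL₃(q)`, `q` even, perfect with simple central quotient, over no smaller field:
the whole group, inside a unitary group, or `3.A₆` over four elements.
-/

set_option autoImplicit false
set_option linter.unusedSectionVars false

open Matrix Cfsg.Geo

namespace Cfsg.Lib.Linear.Mitchell

open Even

/-- The subgroups of `SL₃` over a finite field of characteristic two with simple central quotient. -/
theorem even_core {F : Type*} [Field F] [Fintype F] [CharP F 2] (P : Subgroup (GL (Fin 3) F))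
    (hSL : P ≤ specialLinear (Fin 3) F) (hperf : ⁅P, P⁆ = P)
    (hsimple : IsSimpleGroup (P ⧸ (scalars (Fin 3) F).subgroupOf P))
    (hna : ¬ IsMulCommutative (P ⧸ (scalars (Fin 3) F).subgroupOf P))
    (hirr : ActsIrreducibly (matrixSet P))
    (hreal : ∀ K : Subfield F, RealisableOver K (matrixSet P) → K = ⊤) :
    P = specialLinear (Fin 3) F ∨
      (∃ (σ : F ≃+* F) (f : (Fin 3 → F) → (Fin 3 → F) → F), IsUnitaryForm σ f ∧ FixesForm (matrixSet P) f ∧
        IsotropicRoots P σ f) ∨
      (Fintype.card F = 4 ∧ Nonempty (P ⧸ (scalars (Fin 3) F).subgroupOf P ≃* alternatingGroup (Fin 6))) := by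
  classical
  have hne : P ≠ ⊥ := by
    rintro rfl
    exact hna ⟨⟨fun x y => by
      obtain ⟨a, rfl⟩ := QuotientGroup.mk_surjective x
      obtain ⟨b, rfl⟩ := QuotientGroup.mk_surjective y
      rw [Subsingleton.elim a b]⟩⟩
  have hgen : Gen P := gen_of_perfect hperf hsimple
  by_cases hbig : ∃ z a, IsT P z a ∧ Big P z a
  · obtain ⟨z, a, h, hb⟩ := hbig
    rcases big_core hgen hreal hirr h hb with hall | hf
    · exact Or.inl (le_antisymm hSL (SL_le_of_tv_mem P fun z a h => (hall z a h).mem))
    · exact Or.inr (Or.inl hf)
  · have hS : Even.Small P := by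
      intro z a h x hx
      by_contra hno
      push Not at hno
      refine hbig ⟨z, a, h, ?_⟩
      have hadd : ∀ {u v : F}, InT P z (u • a) → InT P z (v • a) → InT P z ((u + v) • a) := fun hu hv => by
        rw [add_smul]; exact hu.add_right hv
      have h0 : InT P z ((0 : F) • a) := by
        have := hadd hx hx
        rwa [CharTwo.add_self_eq_zero] at this
      have h1 : InT P z ((1 : F) • a) := by rw [one_smul]; exact h.1
      let v : Fin 4 → {y : F // InT P z (y • a)} := ![⟨0, h0⟩, ⟨1, h1⟩, ⟨x, hx⟩, ⟨1 + x, hadd h1 hx⟩]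
      have hv : Function.Injective v := by
        intro i j e
        have e' := congrArg Subtype.val e
        have n1 : x ≠ 0 := hno.1
        have n2 : x ≠ 1 := hno.2
        have n3 : 1 + x ≠ 0 := fun e => n2 (CharTwo.add_eq_zero.1 e).symm
        fin_cases i <;> fin_cases j <;> simp [v] at e' ⊢ <;>
          first
            | exact n1 e' | exact n1 e'.symm | exact n2 e' | exact n2 e'.symm | exact n3 e' | exact n3 e'.symm
      simpa [Big] using Nat.card_le_card_of_injective v hv
    rcases small_core hSL hperf hsimple hna hirr hgen hreal hne hS with h | h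
    · exact Or.inl h
    · exact Or.inr (Or.inr h)

end Cfsg.Lib.Linear.Mitchell
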