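import Cfsg.Agent.Lib.Linear.Mitchell.EvenBig

/-!
Root subgroups of order two: an axis with two centres gives a half incident pair.
Otherwise the centres on every such axis form an arc `t ^ 2 • C + t • O` over a field,
with every other axis through `O`, and only two points qualify.
-/

set_option autoImplicit false
set_option linter.unusedSectionVars false

open Matrix Cfsg.Geo

namespace Cfsg.Lib.Linear.Mitchell.Even

variable {F : Type*} [Field F]

/-- All root subgroups have order two. -/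
def Small (P : Subgroup (GL (Fin 3) F)) : Prop :=
  ∀ z a, IsT P z a → ∀ x : F, InT P z (x • a) → x = 0 ∨ x = 1

/-- A half incident pair of transvections. -/
def Flag (P : Subgroup (GL (Fin 3) F)) : Prop :=
  ∃ z a w f, IsT P z a ∧ IsT P w f ∧ f ⬝ᵥ z = 0 ∧ a ⬝ᵥ w ≠ 0

/-- An axis with two centres. -/
def Multi (P : Subgroup (GL (Fin 3) F)) (a : Fin 3 → F) : Prop :=
  a ≠ 0 ∧ ∃ z z', IsT P z a ∧ IsT P z' a ∧ crossProduct z z' ≠ 0

theorem indep_two {C O : Fin 3 → F} (h : crossProduct C O ≠ 0) {x y : F} (e : x • C + y • O = 0) :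
    x = 0 ∧ y = 0 := by
  have h1 := congrArg (crossProduct · O) e
  have h2 := congrArg (crossProduct C ·) e
  simp [cross_self] at h1 h2
  exact ⟨h1.resolve_right h, h2.resolve_right h⟩

/-- The centres of an axis are an arc over a field. -/
def Dec (P : Subgroup (GL (Fin 3) F)) (a C O : Fin 3 → F) (L : Subfield F) : Prop :=
  crossProduct C O ≠ 0 ∧ 4 ≤ Nat.card L ∧ ∀ w, InT P w a ↔ ∃ t ∈ L, w = t ^ 2 • C + t • O

variable [CharP F 2] {P : Subgroup (GL (Fin 3) F)}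

theorem add_eq_zero' {x y : Fin 3 → F} : x + y = 0 ↔ x = y := by
  constructor
  · intro h; exact funext fun i => CharTwo.add_eq_zero.1 (congrFun h i)
  · rintro rfl; exact add_self' x

variable [Fintype F]

open Classical

theorem sq_inj {x y : F} (h : x ^ 2 = y ^ 2) : x = y := by
  haveI : Fact (Nat.Prime 2) := ⟨Nat.prime_two⟩
  exact frobenius_inj F 2 h

theorem exists_mem_ne (L : Subfield F) (h : 3 ≤ Nat.card L) : ∃ r ∈ L, r ≠ 0 ∧ r ≠ 1 := by
  by_contra hno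
  push Not at hno
  have hsub : (L : Set F) ⊆ {0, 1} := fun r hr => by
    by_cases h0 : r = 0
    · exact Or.inl h0
    · exact Or.inr (hno r hr h0)
  have := Set.ncard_le_ncard hsub (Set.toFinite _)
  rw [Set.ncard_pair zero_ne_one] at this
  exact absurd (h.trans this) (by omega)

theorem exists_sq (x : F) : ∃ t : F, t ^ 2 = x := by
  haveI : Fact (Nat.Prime 2) := ⟨Nat.prime_two⟩
  obtain ⟨t, ht⟩ := (Finite.injective_iff_surjective.1 (frobenius_inj F 2)) x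
  exact ⟨t, ht⟩

/-- Two arcs on one axis have their special points in common. -/
theorem Dec.unique {a C O C' O' : Fin 3 → F} {L L' : Subfield F} (h : Dec P a C O L) (h' : Dec P a C' O' L') :
    (∃ k : F, O' = k • O) ∨ ∃ k : F, O' = k • C := by
  classical
  obtain ⟨hi, h4, hw⟩ := h
  obtain ⟨hi', h4', hw'⟩ := h'
  obtain ⟨r, hr, hr0, hr1⟩ := exists_mem_ne L' (by omega)
  have hrr : r ^ 2 + r ≠ 0 := fun e => by
    have : r * (r + 1) = 0 := by linear_combination e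
    rcases mul_eq_zero.1 this with e | e
    · exact hr0 e
    · exact hr1 (CharTwo.add_eq_zero.1 e)
  -- both vectors lie in the span of the other arc
  have hmem : ∀ t ∈ L', ∃ s ∈ L, t ^ 2 • C' + t • O' = s ^ 2 • C + s • O := fun t ht =>
    (hw _).1 ((hw' _).2 ⟨t, ht, rfl⟩)
  obtain ⟨s₁, -, e1⟩ := hmem 1 L'.one_mem
  obtain ⟨sᵣ, -, er⟩ := hmem r hr
  rw [one_pow, one_smul, one_smul] at e1
  obtain ⟨α, γ, hC⟩ : ∃ α γ : F, C' = α • C + γ • O := by
    refine ⟨(sᵣ ^ 2 + r * s₁ ^ 2) / (r ^ 2 + r), (sᵣ + r * s₁) / (r ^ 2 + r), ?_⟩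
    refine funext fun i => ?_
    have a1 := congrFun e1 i
    have a2 := congrFun er i
    simp only [Pi.add_apply, Pi.smul_apply, smul_eq_mul] at a1 a2 ⊢
    rw [div_mul_eq_mul_div, div_mul_eq_mul_div, ← add_div, eq_div_iff hrr]
    linear_combination a2 + r * a1 - r * O' i * CharTwo.two_eq_zero (R := F)
  obtain ⟨β, δ, hO⟩ : ∃ β δ : F, O' = β • C + δ • O := by
    refine ⟨s₁ ^ 2 + α, s₁ + γ, funext fun i => ?_⟩
    have a1 := congrFun e1 i
    have a2 := congrFun hC i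
    simp only [Pi.add_apply, Pi.smul_apply, smul_eq_mul] at a1 a2 ⊢
    linear_combination a1 + a2 - C' i * CharTwo.two_eq_zero (R := F)
  -- the parameter of the other arc
  have hpar : ∀ t ∈ L', γ * t ^ 2 + δ * t ∈ L ∧ (γ * t ^ 2 + δ * t) ^ 2 = α * t ^ 2 + β * t := by
    intro t ht
    obtain ⟨s, hs, e⟩ := hmem t ht
    have e' : (α * t ^ 2 + β * t + s ^ 2) • C + (γ * t ^ 2 + δ * t + s) • O = 0 := by
      refine funext fun i => ?_
      have a1 := congrFun e i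
      have a2 := congrFun hC i
      have a3 := congrFun hO i
      simp only [Pi.add_apply, Pi.smul_apply, smul_eq_mul, Pi.zero_apply] at a1 a2 a3 ⊢
      linear_combination a1 - t ^ 2 * a2 - t * a3 + (s ^ 2 * C i + s * O i) * CharTwo.two_eq_zero (R := F)
    obtain ⟨u1, u2⟩ := indep_two hi e'
    have hs' : γ * t ^ 2 + δ * t = s := CharTwo.add_eq_zero.1 u2
    exact ⟨hs' ▸ hs, hs' ▸ (CharTwo.add_eq_zero.1 u1).symm⟩
  have hquartic : ∀ t ∈ L', γ ^ 2 * t ^ 4 + (δ ^ 2 + α) * t ^ 2 + β * t = 0 := fun t ht => by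
    linear_combination (hpar t ht).2 + (α * t ^ 2 + β * t - γ * δ * t ^ 3) * CharTwo.two_eq_zero (R := F)
  by_cases hbig : ∃ u ∈ L', u ^ 4 + u ≠ 0
  · obtain ⟨u, hu, hu4⟩ := hbig
    have hu2 : u ^ 4 + u ^ 2 ≠ 0 := fun e => by
      have h1 : u ^ 2 = u := sq_inj (by linear_combination e - u ^ 2 * CharTwo.two_eq_zero (R := F))
      exact hu4 (by linear_combination e - h1)
    have h1 : ∀ t ∈ L', γ ^ 2 * (u ^ 4 + u) * t ^ 4 + (δ ^ 2 + α) * (u ^ 2 + u) * t ^ 2 = 0 := fun t ht => by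
      linear_combination hquartic (u * t) (L'.mul_mem hu ht) + u * hquartic t ht -
        u * β * t * CharTwo.two_eq_zero (R := F)
    have hγ : γ = 0 := by
      have e := h1 u hu
      have e1 := h1 1 L'.one_mem
      have : γ ^ 2 * ((u ^ 4 + u) * (u ^ 4 + u ^ 2)) = 0 := by
        linear_combination e + u ^ 2 * e1 - (δ ^ 2 + α) * (u ^ 2 + u) * u ^ 2 * CharTwo.two_eq_zero (R := F)
      rcases mul_eq_zero.1 this with e2 | e2
      · exact pow_eq_zero_iff two_ne_zero |>.1 e2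
      · exact absurd e2 (mul_ne_zero hu4 hu2)
    refine Or.inl ⟨δ, ?_⟩
    have hu21 : u ^ 2 + u ≠ 0 := fun e => by
      have h1 : u ^ 2 = u := CharTwo.add_eq_zero.1 e
      exact hu2 (by linear_combination (u ^ 2 + u) * h1 + u ^ 2 * CharTwo.two_eq_zero (R := F))
    have hB : δ ^ 2 + α = 0 := by
      have := h1 1 L'.one_mem
      rw [hγ] at this
      have e : (δ ^ 2 + α) * (u ^ 2 + u) = 0 := by linear_combination this
      exact (mul_eq_zero.1 e).resolve_right hu21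
    have hβ : β = 0 := by
      have := hquartic 1 L'.one_mem
      rw [hγ, hB] at this
      linear_combination this
    rw [hO, hβ, zero_smul, zero_add]
  push Not at hbig
  have hfour : ∀ t ∈ L', t ^ 4 = t := fun t ht => CharTwo.add_eq_zero.1 (hbig t ht)
  have hr3 : r ^ 2 + r + 1 = 0 := by
    have e : (r - 1) * (r ^ 2 + r + 1) * r = 0 := by linear_combination hfour r hr
    rcases mul_eq_zero.1 e with e | e
    · exact (mul_eq_zero.1 e).resolve_left (sub_ne_zero.2 hr1)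
    · exact absurd e hr0
  -- the first field has four elements as well
  have hL : ∀ t ∈ L, t ^ 4 = t := by
    have hcard : Nat.card L = 4 := by
      have hL' : Nat.card L' ≤ 4 := by
        have hsub : (L' : Set F) ⊆ ({0, 1, r, r + 1} : Set F) := by
          intro t ht
          have e : t * (t - 1) * (t - r) * (t - (r + 1)) = 0 := by
            linear_combination hfour t ht + t ^ 2 * hr3 -
              (t ^ 3 + t * r ^ 2 + r * t ^ 3 - r * t ^ 2 + t * r) * CharTwo.two_eq_zero (R := F) + t * hr3 -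
              (0 : F) * hr3
          simp only [mul_eq_zero, sub_eq_zero] at e
          simp only [Set.mem_insert_iff, Set.mem_singleton_iff]
          tauto
        rw [show Nat.card L' = (L' : Set F).ncard from rfl]
        refine (Set.ncard_le_ncard hsub (Set.toFinite _)).trans ?_
        calc _ ≤ ({1, r, r + 1} : Set F).ncard + 1 := Set.ncard_insert_le _ _
          _ ≤ (({r, r + 1} : Set F).ncard + 1) + 1 := by gcongr; exact Set.ncard_insert_le _ _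
          _ ≤ _ := by have := Set.ncard_insert_le r ({r + 1} : Set F); rw [Set.ncard_singleton] at this; omega
      have hle : Nat.card L ≤ Nat.card L' := by
        choose f hf hfe using fun t : L => (hw' _).1 ((hw _).2 ⟨t.1, t.2, rfl⟩)
        refine Nat.card_le_card_of_injective (fun t => (⟨f t, hf t⟩ : L')) fun t t' e => Subtype.ext ?_
        have e' : f t = f t' := congrArg Subtype.val e
        have e2 := (hfe t).trans (e' ▸ (hfe t').symm)
        refine (indep_two hi (x := t.1 ^ 2 + t'.1 ^ 2) (y := t.1 + t'.1) ?_).2 |> CharTwo.add_eq_zero.1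
        rw [add_smul, add_smul, add_add_add_comm, e2, add_self']
      omega
    intro t ht
    haveI := Fintype.ofFinite L
    have := congrArg Subtype.val (FiniteField.pow_card (⟨t, ht⟩ : L))
    rw [← Nat.card_eq_fintype_card, hcard] at this
    exact this
  have hzero : γ ^ 2 + β = 0 ∧ δ ^ 2 + α = 0 := by
    have e1 := hquartic 1 L'.one_mem
    have e2 := hquartic r hr
    rw [hfour r hr] at e2
    have : (δ ^ 2 + α) * (r ^ 2 + r) = 0 := by
      linear_combination e2 + r * e1 - (γ ^ 2 + β) * r * CharTwo.two_eq_zero (R := F)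
    have hB := (mul_eq_zero.1 this).resolve_right hrr
    exact ⟨by linear_combination e1 - hB, hB⟩
  have hβ : β = γ ^ 2 := (CharTwo.add_eq_zero.1 hzero.1).symm
  by_cases hγ : γ = 0
  · exact Or.inl ⟨δ, by rw [hO, hβ, hγ, zero_pow two_ne_zero, zero_smul, zero_add]⟩
  by_cases hδ : δ = 0
  · exact Or.inr ⟨β, by rw [hO, hδ, zero_smul, add_zero]⟩
  exfalso
  -- otherwise the parameter map has a kernel
  have hs : ∀ t ∈ L', (γ ^ 4 - γ) * t ^ 2 + (δ ^ 4 - δ) * t = 0 := fun t ht => by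
    have e := hL _ (hpar t ht).1
    have e4 : (γ * t ^ 2 + δ * t) ^ 4 = γ ^ 4 * t ^ 2 + δ ^ 4 * t := by
      linear_combination γ ^ 4 * (t ^ 4 + t) * hfour t ht + δ ^ 4 * hfour t ht +
        (2 * γ ^ 3 * δ * t ^ 7 + 3 * γ ^ 2 * δ ^ 2 * t ^ 6 + 2 * γ * δ ^ 3 * t ^ 5) * CharTwo.two_eq_zero (R := F)
    linear_combination e - e4
  have h11 := hs 1 L'.one_mem
  have h12 : (γ ^ 4 - γ) * (r ^ 2 - r) = 0 := by linear_combination hs r hr - r * h11
  have hrr' : r ^ 2 - r ≠ 0 := by rwa [sub_eq_add_neg, CharTwo.neg_eq]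
  have hγ4 : γ ^ 4 = γ := sub_eq_zero.1 ((mul_eq_zero.1 h12).resolve_right hrr')
  have hδ4 : δ ^ 4 = δ := sub_eq_zero.1 (by linear_combination h11 - hγ4)
  obtain ⟨t, ht⟩ : ∃ t, t = δ / γ := ⟨_, rfl⟩
  have ht0 : t ≠ 0 := ht ▸ div_ne_zero hδ hγ
  have ht4 : t ^ 4 = t := by rw [ht, div_pow, hγ4, hδ4]
  have htL : t ∈ L' := by
    have e : t * (t - 1) * (t - r) * (t - (r + 1)) = 0 := by
      linear_combination ht4 + t ^ 2 * hr3 -
        (t ^ 3 + t * r ^ 2 + r * t ^ 3 - r * t ^ 2 + t * r) * CharTwo.two_eq_zero (R := F) + t * hr3 -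
        (0 : F) * hr3
    simp only [mul_eq_zero, sub_eq_zero] at e
    rcases e with ((e | e) | e) | e <;> rw [e]
    · exact L'.zero_mem
    · exact L'.one_mem
    · exact hr
    · exact L'.add_mem hr L'.one_mem
  obtain ⟨-, e⟩ := hpar t htL
  have hz : γ * t ^ 2 + δ * t = 0 := by
    rw [ht]; field_simp
    linear_combination δ ^ 2 * CharTwo.two_eq_zero (R := F)
  have : t ^ 2 • C' + t • O' = 0 := by
    rw [hC, hO, smul_add, smul_add, smul_smul, smul_smul, smul_smul, smul_smul, add_add_add_comm, ← add_smul,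
      ← add_smul, mul_comm (t ^ 2) γ, mul_comm t δ, hz, zero_smul, add_zero,
      show t ^ 2 * α + t * β = 0 by rw [hz, zero_pow two_ne_zero] at e; linear_combination -e, zero_smul]
  exact ht0 (pow_eq_zero_iff two_ne_zero |>.1 (indep_two hi' this).1)

section noflag

variable (hnf : ∀ z a w f, IsT P z a → IsT P w f → f ⬝ᵥ z = 0 → a ⬝ᵥ w = 0)

include hnf

theorem multi_share {a z w f : Fin 3 → F} (ha : Multi P a) (hz : IsT P z a) (hf : IsT P w f)
    (hfz : f ⬝ᵥ z = 0) : ∃ k : F, f = k • a := by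
  have haw := hnf z a w f hz hf hfz
  obtain ⟨-, z₁, z₂, h1, h2, h12⟩ := ha
  exact exists_smul_of_two h12 hz.2.2 h1.1.dot h2.1.dot (hnf w f z₁ a hf h1 haw) (hnf w f z₂ a hf h2 haw)

theorem multi_centre {a z w f : Fin 3 → F} (ha : Multi P a) (hz : IsT P z a) (hf : IsT P w f)
    (haw : a ⬝ᵥ w = 0) : ∃ k : F, f = k • a :=
  multi_share hnf ha hz hf (hnf w f z a hf hz haw)

end noflag

theorem Multi.image {a d b : Fin 3 → F} (ha : Multi P a) (hd : InT P d b) : Multi P (a + (a ⬝ᵥ d) • b) := by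
  have hback : ∀ v : Fin 3 → F, v + (b ⬝ᵥ v) • d + (b ⬝ᵥ (v + (b ⬝ᵥ v) • d)) • d = v := fun v => by
    rw [dotProduct_add, dotProduct_smul, hd.dot, smul_zero, add_zero, add_assoc, add_self', add_zero]
  obtain ⟨ha0, z₁, z₂, h1, h2, h12⟩ := ha
  have ha0' : a + (a ⬝ᵥ d) • b ≠ 0 := fun e => by
    have := congrArg (· ⬝ᵥ d) e
    simp [hd.dot] at this
    rw [this, zero_smul, add_zero] at e
    exact ha0 e
  have hne : ∀ {z}, z ≠ 0 → z + (b ⬝ᵥ z) • d ≠ 0 := fun {z} hz e => hz (by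
    have := hback z
    rw [e, dotProduct_zero, zero_smul, add_zero] at this
    exact this.symm)
  refine ⟨ha0', _, _, ⟨h1.1.conj_tv hd, hne h1.2.1, ha0'⟩, ⟨h2.1.conj_tv hd, hne h2.2.1, ha0'⟩, fun e => h12 ?_⟩
  obtain ⟨k, hk⟩ := exists_smul_of_cross (hne h2.2.1) e
  have := congrArg (fun v => v + (b ⬝ᵥ v) • d) hk
  simp only [hback, dotProduct_smul, smul_eq_mul, ← smul_smul, ← smul_add] at this
  rw [this, LinearMap.map_smul, LinearMap.smul_apply, cross_self, smul_zero]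

/-- The centres of an axis. -/
noncomputable def centres (P : Subgroup (GL (Fin 3) F)) (a : Fin 3 → F) : Finset (Fin 3 → F) :=
  (Finset.univ : Finset (Fin 3 → F)).filter fun w => InT P w a ∧ w ≠ 0

set_option maxHeartbeats 2000000 in
theorem arc (hnf : ∀ z a w f, IsT P z a → IsT P w f → f ⬝ᵥ z = 0 → a ⬝ᵥ w = 0) {a : Fin 3 → F} (ha : Multi P a)
    (hmin : ∀ c, Multi P c → (centres P a).card ≤ (centres P c).card) :
    (∀ f, Multi P f → (centres P f).card ≤ (centres P a).card) ∧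
      ∀ f, Multi P f → (∀ k : F, f ≠ k • a) → ∃ C O L, Dec P a C O L ∧ a ⬝ᵥ O = 0 ∧ f ⬝ᵥ O = 0 := by
  obtain ⟨W, hW⟩ : ∃ W, W = centres P := ⟨_, rfl⟩
  have memW : ∀ {a w}, w ∈ W a ↔ InT P w a ∧ w ≠ 0 := fun {a w} => by simp [hW, centres]
  rw [← hW] at hmin ⊢
  obtain ⟨line, hlineDef⟩ : ∃ line : (Fin 3 → F) → Submodule F (Fin 3 → F), ∀ f, line f = Submodule.span F {f} :=
    ⟨_, fun _ => rfl⟩
  have hline : ∀ {f g : Fin 3 → F}, line f = line g → ∃ k : F, f = k • g := fun {f g} e => by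
    rw [hlineDef, hlineDef] at e
    obtain ⟨k, hk⟩ := Submodule.mem_span_singleton.1 (e ▸ Submodule.mem_span_singleton_self f)
    exact ⟨k, hk.symm⟩
  obtain ⟨U, memU'⟩ : ∃ U : Finset ((Fin 3 → F) × (Fin 3 → F)),
      ∀ p, p ∈ U ↔ IsT P p.1 p.2 ∧ Multi P p.2 ∧ a ⬝ᵥ p.1 = 1 :=
    ⟨Finset.univ.filter fun p => IsT P p.1 p.2 ∧ Multi P p.2 ∧ a ⬝ᵥ p.1 = 1, fun p => by simp⟩
  have memU : ∀ {p}, p ∈ U ↔ IsT P p.1 p.2 ∧ Multi P p.2 ∧ a ⬝ᵥ p.1 = 1 := fun {p} => memU' p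
  let T : Finset (Submodule F (Fin 3 → F)) :=
    ({f | Multi P f ∧ ∀ k : F, f ≠ k • a} : Finset (Fin 3 → F)).image line
  obtain ⟨z₁, z₂, hz₁, hz₂, h12⟩ := ha.2
  have hda : ∀ {d b}, IsT P d b → a ⬝ᵥ d = 1 → ∀ k : F, b ≠ k • a := fun {d b} h e k he => by
    have := h.1.dot
    rw [he, smul_dotProduct, e, smul_eq_mul, mul_one] at this
    exact h.2.2 (by rw [he, this, zero_smul])
  have hbw : ∀ {d b w}, IsT P d b → a ⬝ᵥ d = 1 → InT P w a → w ≠ 0 → b ⬝ᵥ w ≠ 0 := fun {d b w} h e hw h0 hb => by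
    obtain ⟨k, hk⟩ := multi_share hnf ha ⟨hw, h0, ha.1⟩ h hb
    exact hda h e k hk
  -- sum over the axes
  have hmap1 : ∀ p ∈ U, line p.2 ∈ T := fun p hp => by
    obtain ⟨h, hm, e⟩ := memU.1 hp
    exact Finset.mem_image.2 ⟨p.2, by simpa using ⟨hm, hda h e⟩, rfl⟩
  have hmap2 : ∀ p ∈ U, line (a + p.2) ∈ T := fun p hp => by
    obtain ⟨h, hm, e⟩ := memU.1 hp
    have := ha.image h.1
    rw [e, one_smul] at this
    refine Finset.mem_image.2 ⟨a + p.2, Finset.mem_filter.2 ⟨Finset.mem_univ _, this, fun k hk => ?_⟩, rfl⟩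
    refine hda h e (k + 1) ?_
    rw [add_smul, one_smul, ← hk, add_comm, ← add_assoc, add_self', zero_add]
  have hlow : ∀ f, Multi P f → (∀ k : F, f ≠ k • a) →
      (W f).card ≤ (U.filter fun p => line p.2 = line f).card := by
    intro f hf hfa
    obtain ⟨z₀, -, hz₀, -, -⟩ := hf.2
    have hne : ∀ {w}, w ∈ W f → a ⬝ᵥ w ≠ 0 := fun {w} hw e => by
      obtain ⟨k, hk⟩ := multi_centre hnf ha hz₁ ⟨(memW.1 hw).1, (memW.1 hw).2, hf.1⟩ e
      exact hfa k hk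
    refine Finset.card_le_card_of_injOn (fun w => ((a ⬝ᵥ w)⁻¹ • w, (a ⬝ᵥ w) • f)) (fun w hw => ?_) ?_
    · obtain ⟨hw1, hw2⟩ := memW.1 hw
      have h1 := hne hw
      refine Finset.mem_filter.2 ⟨memU.2 ⟨⟨?_, smul_ne_zero (inv_ne_zero h1) hw2, smul_ne_zero h1 hf.1⟩, ?_, ?_⟩, ?_⟩
      · have := hw1.rescale (inv_ne_zero h1)
        rwa [inv_inv] at this
      · obtain ⟨hf0, x, y, hx, hy, hxy⟩ := hf
        refine ⟨smul_ne_zero h1 hf0, (a ⬝ᵥ w)⁻¹ • x, (a ⬝ᵥ w)⁻¹ • y, ?_, ?_, ?_⟩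
        · have := hx.1.rescale (inv_ne_zero h1)
          rw [inv_inv] at this
          exact ⟨this, smul_ne_zero (inv_ne_zero h1) hx.2.1, smul_ne_zero h1 hf0⟩
        · have := hy.1.rescale (inv_ne_zero h1)
          rw [inv_inv] at this
          exact ⟨this, smul_ne_zero (inv_ne_zero h1) hy.2.1, smul_ne_zero h1 hf0⟩
        · rw [map_smul, map_smul, LinearMap.smul_apply, smul_smul]
          exact smul_ne_zero (mul_ne_zero (inv_ne_zero h1) (inv_ne_zero h1)) hxy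
      · show a ⬝ᵥ _ = 1
        rw [dotProduct_smul, smul_eq_mul, inv_mul_cancel₀ h1]
      · rw [hlineDef, hlineDef]; exact Submodule.span_singleton_smul_eq (Ne.isUnit h1) f
    · intro w hw w' hw' e
      simp only [Prod.mk.injEq] at e
      have e2 : a ⬝ᵥ w = a ⬝ᵥ w' := smul_left_injective F hf.1 e.2
      rw [e2] at e
      exact smul_right_injective _ (inv_ne_zero (hne (Finset.mem_coe.1 hw'))) e.1
  -- the fibres over the images of the axis
  have hfib : ∀ p ∈ U, ∀ p' ∈ U, line (a + p'.2) = line (a + p.2) →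
      ∃ k : F, k ≠ 0 ∧ a + p.2 = k • (a + p'.2) ∧
        ∀ w, InT P w a → InT P (k⁻¹ • w + (k⁻¹ ^ 2 * (p.2 ⬝ᵥ w)) • (p.1 + p'.1)) a ∧
          p.2 ⬝ᵥ (k⁻¹ • w + (k⁻¹ ^ 2 * (p.2 ⬝ᵥ w)) • (p.1 + p'.1)) = k⁻¹ ^ 2 * (p.2 ⬝ᵥ w) := by
    intro p hp p' hp' e
    obtain ⟨hd, hm, had⟩ := memU.1 hp
    obtain ⟨hd', hm', had'⟩ := memU.1 hp'
    obtain ⟨k, hk⟩ := hline e.symm
    have hk0 : k ≠ 0 := fun e0 => hda hd had 1 (by
      rw [e0, zero_smul] at hk
      rw [one_smul]; exact (add_eq_zero'.1 hk).symm)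
    refine ⟨k, hk0, hk, fun w hw => ?_⟩
    have hab' : a + p'.2 = k⁻¹ • (a + p.2) := by rw [hk, smul_smul, inv_mul_cancel₀ hk0, one_smul]
    have hk1 : (a + p'.2) ⬝ᵥ p.1 = k⁻¹ := by
      rw [hab', smul_dotProduct, add_dotProduct, had, hd.1.dot, add_zero, smul_eq_mul, mul_one]
    have hβ' : p'.2 ⬝ᵥ w = k⁻¹ * (p.2 ⬝ᵥ w) := by
      have := congrArg (· ⬝ᵥ w) hab'
      simpa [hw.dot] using this
    have hbd' : p.2 ⬝ᵥ p'.1 = 1 + k := by
      have h0 := congrArg (· ⬝ᵥ p'.1) hk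
      simp [had', hd'.1.dot] at h0
      linear_combination h0 - (1 : F) * CharTwo.two_eq_zero (R := F)
    have h2 := (hw.conj_tv hd'.1).conj_tv hd.1
    rw [had', one_smul, hk1, dotProduct_add, dotProduct_smul, hβ', smul_eq_mul, hbd', hab', ← smul_add,
      add_assoc a, add_self', add_zero] at h2
    have e3 : w + (k⁻¹ * (p.2 ⬝ᵥ w)) • p'.1 + (p.2 ⬝ᵥ w + k⁻¹ * (p.2 ⬝ᵥ w) * (1 + k)) • p.1 =
        w + (k⁻¹ * (p.2 ⬝ᵥ w)) • (p.1 + p'.1) := by
      rw [show p.2 ⬝ᵥ w + k⁻¹ * (p.2 ⬝ᵥ w) * (1 + k) = k⁻¹ * (p.2 ⬝ᵥ w) by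
        field_simp; linear_combination (p.2 ⬝ᵥ w) * k * CharTwo.two_eq_zero (R := F), smul_add, add_assoc,
        add_comm ((k⁻¹ * (p.2 ⬝ᵥ w)) • p'.1)]
    rw [e3] at h2
    constructor
    · have h0 := h2.dot
      rw [smul_dotProduct, smul_eq_mul, mul_eq_zero] at h0
      have h3 := (InT.scale_iff (h0.resolve_left (inv_ne_zero hk0)) (k := k⁻¹)).2 h2
      rwa [smul_add, smul_smul, ← mul_assoc, ← sq] at h3
    · rw [dotProduct_add, dotProduct_smul, dotProduct_smul, dotProduct_add, hd.1.dot, hbd']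
      simp only [smul_eq_mul]
      field_simp
      linear_combination (p.2 ⬝ᵥ w) * k * CharTwo.two_eq_zero (R := F)
  have hk_inj : ∀ p ∈ U, ∀ p' ∈ U, ∀ p'' ∈ U, ∀ k : F, a + p.2 = k • (a + p'.2) → a + p.2 = k • (a + p''.2) →
      k ≠ 0 → p' = p'' := by
    intro p _ p' hp' p'' hp'' k e e' hk
    have hb : p'.2 = p''.2 := add_left_cancel (smul_right_injective _ hk (e.symm.trans e'))
    obtain ⟨hd', hm', had'⟩ := memU.1 hp'
    obtain ⟨hd'', -, had''⟩ := memU.1 hp''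
    refine Prod.ext (add_eq_zero'.1 ?_) hb
    by_contra h0
    have h2 : IsT P (p'.1 + p''.1) p'.2 := ⟨hd'.1.add_left (hb ▸ hd''.1), h0, hd'.2.2⟩
    obtain ⟨l, hl⟩ := multi_centre hnf ha hz₁ h2 (by rw [dotProduct_add, had', had'', CharTwo.add_self_eq_zero])
    exact hda hd' had' l hl
  have hproj : ∀ p ∈ U, ∀ w w', InT P w a → InT P w' a → p.2 ⬝ᵥ w = p.2 ⬝ᵥ w' → w = w' := by
    intro p hp w w' h h' e
    obtain ⟨hd, -, had⟩ := memU.1 hp
    by_contra hne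
    refine hbw hd had (h.add_left h') (fun e0 => hne (add_eq_zero'.1 e0)) ?_
    rw [dotProduct_add, e, CharTwo.add_self_eq_zero]
  -- the fibre over the line of one image, sent to the centres
  have hPsi : ∀ p ∈ U, ∀ w₀, InT P w₀ a → w₀ ≠ 0 →
      ∃ ψ : {q // q ∈ U.filter (fun q => line (a + q.2) = line (a + p.2))} → {w // w ∈ W a},
        Function.Injective ψ ∧ ∀ q, ∃ t e, t ≠ 0 ∧ p.2 ⬝ᵥ (ψ q).1 = t ^ 2 * (p.2 ⬝ᵥ w₀) ∧
          ∀ v, InT P v a → InT P (t • v + (t ^ 2 * (p.2 ⬝ᵥ v)) • e) a ∧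
            p.2 ⬝ᵥ (t • v + (t ^ 2 * (p.2 ⬝ᵥ v)) • e) = t ^ 2 * (p.2 ⬝ᵥ v) := by
    intro p hp w₀ hw hw0
    have hb0 := hbw (memU.1 hp).1 (memU.1 hp).2.2 hw hw0
    choose k hk0 hk hk' using fun q : {q // q ∈ U.filter (fun q => line (a + q.2) = line (a + p.2))} =>
      hfib p hp q.1 (Finset.mem_filter.1 q.2).1 (Finset.mem_filter.1 q.2).2
    refine ⟨fun q => ⟨(k q)⁻¹ • w₀ + ((k q)⁻¹ ^ 2 * (p.2 ⬝ᵥ w₀)) • (p.1 + q.1.1),
      memW.2 ⟨(hk' q _ hw).1, fun e => ?_⟩⟩, fun q q' e => ?_, fun q => ⟨(k q)⁻¹, p.1 + q.1.1,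
        inv_ne_zero (hk0 q), (hk' q _ hw).2, fun v hv => hk' q v hv⟩⟩
    · have := (hk' q _ hw).2
      rw [e, dotProduct_zero, eq_comm] at this
      exact mul_ne_zero (pow_ne_zero _ (inv_ne_zero (hk0 _))) hb0 this
    · have := congrArg (fun x : {w // w ∈ W a} => p.2 ⬝ᵥ x.1) e
      simp only [(hk' q _ hw).2, (hk' q' _ hw).2] at this
      have hkk := inv_injective (sq_inj (mul_right_cancel₀ hb0 this))
      exact Subtype.ext (hk_inj p hp q.1 (Finset.mem_filter.1 q.2).1 q'.1 (Finset.mem_filter.1 q'.2).1 _ (hk q)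
        (hkk ▸ hk q') (hk0 q))
  -- every fibre is full and all axes carry equally many centres
  have hcnt : ∀ t ∈ T, (U.filter fun p => line (a + p.2) = t).card ≤ (W a).card := by
    intro t ht
    by_cases h0 : (U.filter fun p => line (a + p.2) = t).Nonempty
    · obtain ⟨p, hp⟩ := h0
      obtain ⟨hpU, rfl⟩ := Finset.mem_filter.1 hp
      obtain ⟨ψ, hinj, -⟩ := hPsi p hpU z₁ hz₁.1 hz₁.2.1
      rw [← Fintype.card_coe, ← Fintype.card_coe (W a)]
      exact Fintype.card_le_of_injective ψ hinj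
    · rw [Finset.not_nonempty_iff_eq_empty.1 h0, Finset.card_empty]
      exact Nat.zero_le _
  have hlowT : ∀ t ∈ T, (W a).card ≤ (U.filter fun p => line p.2 = t).card := by
    intro t ht
    obtain ⟨f, hf, rfl⟩ := Finset.mem_image.1 ht
    simp only [Finset.mem_filter, Finset.mem_univ, true_and] at hf
    exact (hmin f hf.1).trans (hlow f hf.1 hf.2)
  have htot : ∑ t ∈ T, (U.filter fun p => line p.2 = t).card = ∑ t ∈ T, (U.filter fun p => line (a + p.2) = t).card :=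
    (Finset.card_eq_sum_card_fiberwise hmap1).symm.trans (Finset.card_eq_sum_card_fiberwise hmap2)
  have hfull : ∀ t ∈ T, (U.filter fun p => line (a + p.2) = t).card = (W a).card :=
    (Finset.sum_eq_sum_iff_of_le hcnt).1 (le_antisymm (Finset.sum_le_sum hcnt)
      ((Finset.sum_le_sum hlowT).trans htot.le))
  have heq : ∀ t ∈ T, (W a).card = (U.filter fun p => line p.2 = t).card :=
    (Finset.sum_eq_sum_iff_of_le hlowT).1 (le_antisymm (Finset.sum_le_sum hlowT)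
      (htot.le.trans (Finset.sum_le_sum hcnt)))
  refine ⟨fun f hf => ?_, fun f hf hfa => ?_⟩
  · by_cases hfa : ∃ k : F, f = k • a
    · obtain ⟨k, rfl⟩ := hfa
      have hk : k ≠ 0 := fun e => hf.1 (by rw [e, zero_smul])
      refine Finset.card_le_card_of_injOn (fun w => k • w) (fun w hw => ?_)
        (fun w _ w' _ e => smul_right_injective _ hk e)
      obtain ⟨hw1, hw2⟩ := memW.1 hw
      refine memW.2 ⟨(InT.scale_iff ?_).2 hw1, smul_ne_zero hk hw2⟩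
      have := hw1.dot
      rwa [smul_dotProduct, smul_eq_mul, mul_eq_zero, or_iff_right hk] at this
    · push Not at hfa
      rw [heq (line f) (Finset.mem_image.2 ⟨f, by simpa using ⟨hf, hfa⟩, rfl⟩)]
      exact hlow f hf hfa
  -- the arc
  obtain ⟨p, hp⟩ : (U.filter fun p => line (a + p.2) = line f).Nonempty := by
    rw [← Finset.card_pos, hfull _ (Finset.mem_image.2 ⟨f, by simpa using ⟨hf, hfa⟩, rfl⟩), Finset.card_pos]
    exact ⟨z₁, memW.2 ⟨hz₁.1, hz₁.2.1⟩⟩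
  obtain ⟨hp, hpf⟩ := Finset.mem_filter.1 hp
  obtain ⟨hd, hm, had⟩ := memU.1 hp
  have hT : line f ∈ T := Finset.mem_image.2 ⟨f, by simpa using ⟨hf, hfa⟩, rfl⟩
  have hmult : ∀ w₀, InT P w₀ a → w₀ ≠ 0 → ∀ w, InT P w a → w ≠ 0 → ∃ t e, t ≠ 0 ∧
      p.2 ⬝ᵥ w = t ^ 2 * (p.2 ⬝ᵥ w₀) ∧
      ∀ v, InT P v a → InT P (t • v + (t ^ 2 * (p.2 ⬝ᵥ v)) • e) a ∧
        p.2 ⬝ᵥ (t • v + (t ^ 2 * (p.2 ⬝ᵥ v)) • e) = t ^ 2 * (p.2 ⬝ᵥ v) := by
    intro w₀ hw₀ hw00 w hw hw0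
    obtain ⟨ψ, hinj, hψ⟩ := hPsi p hp w₀ hw₀ hw00
    obtain ⟨q, hq⟩ := ((Fintype.bijective_iff_injective_and_card ψ).2 ⟨hinj, by
      rw [Fintype.card_coe, Fintype.card_coe, hpf]
      exact hfull _ hT⟩).2 ⟨w, memW.2 ⟨hw, hw0⟩⟩
    have := hψ q
    rwa [hq] at this
  obtain ⟨β, hβ⟩ : ∃ β, β = p.2 ⬝ᵥ z₁ := ⟨_, rfl⟩
  have hβ0 : β ≠ 0 := hβ ▸ hbw hd had hz₁.1 hz₁.2.1
  have hmult' : ∀ t : F, (∃ w, InT P w a ∧ p.2 ⬝ᵥ w = t ^ 2 * β) → t ≠ 0 →
      ∃ e, ∀ v, InT P v a → InT P (t • v + (t ^ 2 * (p.2 ⬝ᵥ v)) • e) a ∧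
        p.2 ⬝ᵥ (t • v + (t ^ 2 * (p.2 ⬝ᵥ v)) • e) = t ^ 2 * (p.2 ⬝ᵥ v) := by
    rintro t ⟨w, hw, hwt⟩ ht
    have hw0 : w ≠ 0 := fun e => by
      rw [e, dotProduct_zero, eq_comm] at hwt
      exact mul_ne_zero (pow_ne_zero _ ht) hβ0 hwt
    obtain ⟨t', e, -, ht', hall⟩ := hmult z₁ hz₁.1 hz₁.2.1 w hw hw0
    rw [hwt, ← hβ] at ht'
    exact ⟨e, sq_inj (mul_right_cancel₀ hβ0 ht') ▸ hall⟩
  let S : Subring F :=
    { carrier := {t | ∃ w, InT P w a ∧ p.2 ⬝ᵥ w = t ^ 2 * β}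
      zero_mem' := ⟨0, InT.zero_left a, by simp⟩
      one_mem' := ⟨z₁, hz₁.1, by rw [one_pow, one_mul, hβ]⟩
      neg_mem' := fun {t} h => by rwa [Set.mem_setOf_eq, neg_sq]
      add_mem' := fun {s t} ⟨v, hv, hs⟩ ⟨w, hw, ht⟩ => ⟨v + w, hv.add_left hw, by
        rw [dotProduct_add, hs, ht]
        linear_combination -(s * t * β) * CharTwo.two_eq_zero (R := F)⟩
      mul_mem' := fun {s t} hs ht => by
        obtain ⟨w, hw, ht'⟩ := ht
        by_cases hs0 : s = 0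
        · exact ⟨0, InT.zero_left a, by simp [hs0]⟩
        obtain ⟨e, he⟩ := hmult' s hs hs0
        refine ⟨_, (he w hw).1, ?_⟩
        rw [(he w hw).2, ht']
        ring }
  let L : Subfield F := { S with
    inv_mem' := fun x hx => by
      by_cases h0 : x = 0
      · rw [h0, _root_.inv_zero]; exact S.zero_mem
      rw [show x⁻¹ = x ^ (Fintype.card F - 2) by
        refine inv_eq_of_mul_eq_one_right ?_
        have h1 := Fintype.one_lt_card (α := F)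
        rw [← pow_succ', show Fintype.card F - 2 + 1 = Fintype.card F - 1 by omega,
          FiniteField.pow_card_sub_one_eq_one x h0]]
      exact S.pow_mem hx _ }
  have hL : ∀ t : F, t ∈ L ↔ ∃ w, InT P w a ∧ p.2 ⬝ᵥ w = t ^ 2 * β := fun t => Iff.rfl
  choose w hw hwt using fun t : L => (hL t.1).1 t.2
  have hrec : ∀ t : L, t.1 ≠ 0 → ∃ ν, ∀ s : L, w (t * s) = t.1 • w s + s.1 ^ 2 • ν := by
    intro t ht
    obtain ⟨e, he⟩ := hmult' t.1 t.2 ht
    refine ⟨(t.1 ^ 2 * β) • e, fun s => hproj p hp _ _ (hw _) ?_ ?_⟩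
    · have := (he _ (hw s)).1
      rwa [hwt, show t.1 ^ 2 * (s.1 ^ 2 * β) = s.1 ^ 2 * (t.1 ^ 2 * β) by ring, ← smul_smul] at this
    · have := (he _ (hw s)).2
      rw [hwt, show t.1 ^ 2 * (s.1 ^ 2 * β) = s.1 ^ 2 * (t.1 ^ 2 * β) by ring, ← smul_smul] at this
      rw [hwt, this, Subfield.coe_mul]
      ring
  have hw0 : w 0 = 0 := hproj p hp _ _ (hw 0) (InT.zero_left a) (by simp [hwt])
  have hz : ∀ v, InT P v a → ∃ t : L, v = w t := fun v hv => by
    obtain ⟨t, ht⟩ := exists_sq ((p.2 ⬝ᵥ v) / β)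
    have e : p.2 ⬝ᵥ v = t ^ 2 * β := by rw [ht, div_mul_cancel₀ _ hβ0]
    exact ⟨⟨t, (hL t).2 ⟨v, hv, e⟩⟩, hproj p hp _ _ hv (hw _) (e.trans (hwt ⟨t, (hL t).2 ⟨v, hv, e⟩⟩).symm)⟩
  obtain ⟨u₁, hu₁⟩ := hz z₁ hz₁.1
  obtain ⟨u₂, hu₂⟩ := hz z₂ hz₂.1
  have hne12 : z₁ ≠ z₂ := fun e => h12 (by rw [e, cross_self])
  have h4 : 4 ≤ Nat.card L := by
    have hadd : InT P (z₁ + z₂) a := hz₁.1.add_left hz₂.1
    obtain ⟨u₃, hu₃⟩ := hz _ hadd
    have hinj : Function.Injective ![(0 : L), u₁, u₂, u₃] := by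
      intro i j e
      have e' := congrArg w e
      have n1 := hz₁.2.1; have n2 := hz₂.2.1
      fin_cases i <;> fin_cases j <;> simp [hw0, ← hu₁, ← hu₂, ← hu₃] at e' ⊢ <;>
        first
          | exact n1 e' | exact n1 e'.symm | exact n2 e' | exact n2 e'.symm | exact hne12 e' | exact hne12 e'.symm
          | exact hne12 (add_eq_zero'.1 e') | exact hne12 (add_eq_zero'.1 e'.symm)
    simpa using Nat.card_le_card_of_injective _ hinj
  obtain ⟨r₀, hr₀L, hr₀0, hr₀1⟩ := exists_mem_ne L (by omega)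
  obtain ⟨r, rfl⟩ : ∃ r : L, r.1 = r₀ := ⟨⟨r₀, hr₀L⟩, rfl⟩
  obtain ⟨νr, hνr⟩ := hrec r hr₀0
  have hrr : r.1 ^ 2 + r.1 ≠ 0 := fun e => by
    have : r.1 * (r.1 + 1) = 0 := by linear_combination e
    rcases mul_eq_zero.1 this with e | e
    · exact hr₀0 e
    · exact hr₀1 (CharTwo.add_eq_zero.1 e)
  obtain ⟨C, hC⟩ : ∃ C, C = (r.1 ^ 2 + r.1)⁻¹ • (w r + r.1 • w 1) := ⟨_, rfl⟩
  obtain ⟨O, hO⟩ : ∃ O, O = (r.1 ^ 2 + r.1)⁻¹ • (w r + r.1 ^ 2 • w 1) := ⟨_, rfl⟩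
  have hform : ∀ s : L, w s = s.1 ^ 2 • C + s.1 • O := by
    intro s
    by_cases hs : s.1 = 0
    · rw [show s = 0 from Subtype.ext hs, hw0, Subfield.coe_zero]
      simp
    obtain ⟨νs, hνs⟩ := hrec s hs
    have a1 := hνr s
    have a2 := hνr 1
    have a3 := hνs r
    have a4 := hνs 1
    rw [mul_one] at a2 a4
    rw [mul_comm s r] at a3
    refine funext fun i => ?_
    have b1 := congrFun a1 i; have b2 := congrFun a2 i; have b3 := congrFun a3 i; have b4 := congrFun a4 i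
    simp only [hC, hO, Pi.add_apply, Pi.smul_apply, smul_eq_mul, Subfield.coe_one, one_pow, one_mul] at b1 b2 b3 b4 ⊢
    apply mul_left_cancel₀ hrr
    have hcl : ∀ x : F, (r.1 ^ 2 + r.1) * ((r.1 ^ 2 + r.1)⁻¹ * x) = x := fun x => mul_inv_cancel_left₀ hrr x
    rw [mul_add (r.1 ^ 2 + r.1) _ _, mul_left_comm _ (s.1 ^ 2), mul_left_comm _ s.1, hcl, hcl]
    linear_combination b3 - b1 - r.1 ^ 2 * b4 + s.1 ^ 2 * b2 +
      (r.1 ^ 2 * w s i - s.1 ^ 2 * w r i - r.1 ^ 2 * s.1 * w 1 i) * CharTwo.two_eq_zero (R := F)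
  have haC : a ⬝ᵥ C = 0 ∧ a ⬝ᵥ O = 0 := by
    simp [hC, hO, dotProduct_smul, dotProduct_add, (hw _).dot]
  have hbO : p.2 ⬝ᵥ O = 0 := by
    rw [hO, dotProduct_smul, dotProduct_add, dotProduct_smul, hwt, hwt, Subfield.coe_one, one_pow, one_mul,
      smul_eq_mul, smul_eq_mul, CharTwo.add_self_eq_zero, mul_zero]
  refine ⟨C, O, L, ⟨fun e => h12 ?_, h4, fun v => ⟨fun hv => ?_, ?_⟩⟩, haC.2, ?_⟩
  · rw [hu₁, hu₂, hform, hform]
    have e' : crossProduct O C = 0 := by rw [← cross_anticomm, e, neg_zero]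
    simp [cross_self, e, e']
  · obtain ⟨t, rfl⟩ := hz v hv
    exact ⟨t.1, t.2, hform t⟩
  · rintro ⟨t, ht, rfl⟩
    exact (hform ⟨t, ht⟩) ▸ hw _
  · obtain ⟨k, hk⟩ := hline hpf.symm
    rw [hk, smul_dotProduct, add_dotProduct, haC.2, hbO, add_zero, smul_zero]

/-- A half incident pair from an axis with two centres. -/
theorem flag_of_axis (hirr : ActsIrreducibly (matrixSet P)) {a₀ : Fin 3 → F}
    (ha₀ : Multi P a₀) : Flag P := by
  classical
  by_contra hflag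
  have hnf : ∀ z a w f, IsT P z a → IsT P w f → f ⬝ᵥ z = 0 → a ⬝ᵥ w = 0 := fun z a w f h1 h2 h3 =>
    by_contra fun h4 => hflag ⟨z, a, w, f, h1, h2, h3, h4⟩
  let W : (Fin 3 → F) → Finset (Fin 3 → F) := centres P
  have memW : ∀ {a w}, w ∈ W a ↔ InT P w a ∧ w ≠ 0 := fun {a w} => by simp [W, centres]
  obtain ⟨a, ha, hmin⟩ := Finset.exists_min_image ({a | Multi P a} : Finset (Fin 3 → F)) (fun a => (W a).card)
    ⟨a₀, by simpa using ha₀⟩
  simp only [Finset.mem_filter, Finset.mem_univ, true_and] at ha hmin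
  have key : ∀ a, Multi P a → (∀ c, Multi P c → (W a).card ≤ (W c).card) →
      (∀ f, Multi P f → (W f).card ≤ (W a).card) ∧
      ∀ f, Multi P f → (∀ k : F, f ≠ k • a) → ∃ C O L, Dec P a C O L ∧ a ⬝ᵥ O = 0 ∧ f ⬝ᵥ O = 0 :=
    fun a ha hmin => arc hnf ha hmin
  obtain ⟨hequal, hdec⟩ := key a ha hmin
  -- irreducibility: the axes have no common point
  have hoff : ∀ x : Fin 3 → F, x ≠ 0 → ∃ f, Multi P f ∧ f ⬝ᵥ x ≠ 0 := by
    intro x hx
    by_contra hno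
    push Not at hno
    let V : Submodule F (Fin 3 → F) :=
      { carrier := {x | ∀ f, Multi P f → f ⬝ᵥ x = 0}
        zero_mem' := fun f _ => dotProduct_zero f
        add_mem' := fun {x y} hx hy f hf => by rw [dotProduct_add, hx f hf, hy f hf, add_zero]
        smul_mem' := fun k x hx f hf => by rw [dotProduct_smul, hx f hf, smul_zero] }
    have hV : ∀ s ∈ matrixSet P, V.map (Matrix.toLin' s) ≤ V := by
      rintro _ ⟨g, hg, rfl⟩ _ ⟨x, hx, rfl⟩ f hf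
      rw [Matrix.toLin'_apply, dotProduct_mulVec]
      refine hx _ ?_
      obtain ⟨hf0, y, y', hy, hy', hyy⟩ := hf
      have t1 := hy.1.conj (inv_mem hg)
      have t2 := hy'.1.conj (inv_mem hg)
      rw [inv_inv] at t1 t2
      have hf' : f ᵥ* (g : Matrix (Fin 3) (Fin 3) F) ≠ 0 := fun e => hf0 (by
        have := congrArg (· ᵥ* ((g⁻¹ : GL (Fin 3) F) : Matrix (Fin 3) (Fin 3) F)) e
        simpa [vecMul_vecMul, ← Units.val_mul] using this)
      have hg' : ∀ {y : Fin 3 → F}, y ≠ 0 → ((g⁻¹ : GL (Fin 3) F) : Matrix (Fin 3) (Fin 3) F) *ᵥ y ≠ 0 :=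
        fun {y} hy e => hy (by
          have := congrArg ((g : Matrix (Fin 3) (Fin 3) F) *ᵥ ·) e
          simpa [mulVec_mulVec, ← Units.val_mul] using this)
      refine ⟨hf', _, _, ⟨t1, hg' hy.2.1, hf'⟩, ⟨t2, hg' hy'.2.1, hf'⟩, fun e => hyy ?_⟩
      obtain ⟨k, hk⟩ := exists_smul_of_cross (hg' hy'.2.1) e
      have := congrArg ((g : Matrix (Fin 3) (Fin 3) F) *ᵥ ·) hk
      simp [mulVec_mulVec, mulVec_smul, ← Units.val_mul] at this
      rw [this, LinearMap.map_smul, LinearMap.smul_apply, cross_self, smul_zero]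
    rcases hirr V hV with e | e
    · exact hx (by rw [← Submodule.mem_bot F, ← e]; exact hno)
    · exact ha.1 (dotProduct_eq_zero _ fun y => (show y ∈ V from e ▸ Submodule.mem_top) a ha)
  -- a second axis and a third one through the same point
  obtain ⟨g, hg, hga⟩ : ∃ g, Multi P g ∧ ∀ k : F, g ≠ k • a := by
    obtain ⟨i, hi⟩ := Function.ne_iff.1 ha.1
    rw [Pi.zero_apply] at hi
    obtain ⟨x, hx0, hax⟩ : ∃ x : Fin 3 → F, x ≠ 0 ∧ a ⬝ᵥ x = 0 := by
      obtain ⟨-, y, -, hy, -, -⟩ := ha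
      exact ⟨y, hy.2.1, hy.1.dot⟩
    obtain ⟨g, hg, hgx⟩ := hoff x hx0
    exact ⟨g, hg, fun k e => hgx (by rw [e, smul_dotProduct, hax, smul_zero])⟩
  obtain ⟨C, O, L, ⟨hCO, -, -⟩, haO, hgO⟩ := hdec g hg hga
  have hO : O ≠ 0 := fun e => hCO (by rw [e, map_zero])
  obtain ⟨z, -, hz, -, -⟩ := hg.2
  have haz : a ⬝ᵥ z ≠ 0 := fun e => by
    obtain ⟨za, -, hza, -, -⟩ := ha.2
    obtain ⟨k, hk⟩ := multi_centre hnf ha hza hz e
    exact hga k hk
  obtain ⟨a', ha'⟩ : ∃ a', a' = a + (a ⬝ᵥ z) • g := ⟨_, rfl⟩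
  have hma' : Multi P a' := ha' ▸ ha.image hz.1
  obtain ⟨h, hh, hhO⟩ := hoff O hO
  have hmin' : ∀ c, Multi P c → (W h).card ≤ (W c).card := fun c hc => (hequal h hh).trans (hmin c hc)
  obtain ⟨-, hdec'⟩ := key h hh hmin'
  have haO' : a' ⬝ᵥ O = 0 := by rw [ha', add_dotProduct, smul_dotProduct, haO, hgO, smul_zero, add_zero]
  have hne : ∀ {c : Fin 3 → F}, c ⬝ᵥ O = 0 → c ≠ 0 → ∀ k : F, c ≠ k • h := fun {c} hc hc0 k e => by
    rw [e, smul_dotProduct, smul_eq_mul, mul_eq_zero] at hc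
    exact hc.elim (fun k0 => hc0 (by rw [e, k0, zero_smul])) hhO
  obtain ⟨C₁, O₁, L₁, hd₁, hh1, ha1⟩ := hdec' a ha (hne haO ha.1)
  obtain ⟨C₂, O₂, L₂, hd₂, hh2, ha2⟩ := hdec' g hg (hne hgO hg.1)
  obtain ⟨C₃, O₃, L₃, hd₃, hh3, ha3⟩ := hdec' a' hma' (hne haO' hma'.1)
  have hne0 : ∀ {C O : Fin 3 → F} {L}, Dec P h C O L → O ≠ 0 := fun {C O L} hd e => hd.1 (by rw [e, map_zero])
  -- two of the three meet the fourth in one point
  have hfin : ∀ (c c' x : Fin 3 → F), (∀ k : F, c' ≠ k • c) → c ≠ 0 → c ⬝ᵥ O = 0 → c' ⬝ᵥ O = 0 → x ≠ 0 →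
      c ⬝ᵥ x = 0 → c' ⬝ᵥ x = 0 → h ⬝ᵥ x = 0 → False := by
    intro c c' x hcc hc0 h1 h2 hx h3 h4 h5
    by_cases hxO : crossProduct x O = 0
    · obtain ⟨k, hk⟩ := exists_smul_of_cross hO hxO
      rw [hk, dotProduct_smul, smul_eq_mul, mul_eq_zero] at h5
      exact h5.elim (fun k0 => hx (by rw [hk, k0, zero_smul])) hhO
    · obtain ⟨k, hk⟩ := exists_smul_of_two hxO hc0 h3 h1 h4 h2
      exact hcc k hk
  have hag : ∀ k : F, a' ≠ k • a := fun k e => by
    refine hga ((k + 1) / (a ⬝ᵥ z)) ?_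
    have : (a ⬝ᵥ z) • g = (k + 1) • a := by
      rw [add_smul, one_smul, ← e, ha', add_comm a, add_assoc, add_self', add_zero]
    rw [div_eq_inv_mul, ← smul_smul, ← this, smul_smul, inv_mul_cancel₀ haz, one_smul]
  have hgg : ∀ k : F, a' ≠ k • g := fun k e => by
    have : a = (k + a ⬝ᵥ z) • g := by
      rw [add_smul, ← e, ha', add_assoc, add_self', add_zero]
    generalize hc : k + a ⬝ᵥ z = c at this
    by_cases h0 : c = 0
    · exact ha.1 (by rw [this, h0, zero_smul])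
    · exact hga c⁻¹ (by rw [this, smul_smul, inv_mul_cancel₀ h0, one_smul])
  rcases Dec.unique hd₁ hd₂ with ⟨k, hk⟩ | ⟨k, hk⟩
  · exact hfin a g O₂ hga ha.1 haO hgO (hne0 hd₂) (by rw [hk, dotProduct_smul, ha1, smul_zero]) ha2 hh2
  rcases Dec.unique hd₁ hd₃ with ⟨l, hl⟩ | ⟨l, hl⟩
  · exact hfin a a' O₃ hag ha.1 haO haO' (hne0 hd₃) (by rw [hl, dotProduct_smul, ha1, smul_zero]) ha3 hh3
  · have hk0 : k ≠ 0 := fun e => hne0 hd₂ (by rw [hk, e, zero_smul])
    have hgC : g ⬝ᵥ C₁ = 0 := by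
      rw [hk, dotProduct_smul, smul_eq_mul, mul_eq_zero] at ha2
      exact ha2.resolve_left hk0
    exact hfin g a' O₃ hgg hg.1 hgO haO' (hne0 hd₃) (by rw [hl, dotProduct_smul, hgC, smul_zero]) ha3 hh3

end Cfsg.Lib.Linear.Mitchell.Even
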