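import Cfsg.Agent.S0205
import Cfsg.Agent.Lib.Linear.Mitchell.EvenNoFlag

/-!
In characteristic two every involution of `GL₃` is a transvection; a perfect subgroup with simple
central quotient is generated by them.
-/

set_option autoImplicit false
set_option linter.unusedSectionVars false

open Matrix Cfsg.Geo

namespace Cfsg.Lib.Linear.Mitchell.Even

variable {F : Type*} [Field F] [CharP F 2] {P : Subgroup (GL (Fin 3) F)}

theorem exists_tv_of_involution {g : GL (Fin 3) F} (h2 : g * g = 1) (h1 : g ≠ 1) :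
    ∃ z a, ∃ h : a ⬝ᵥ z = 0, z ≠ 0 ∧ a ≠ 0 ∧ g = tv z a h := by
  classical
  obtain ⟨N, hN⟩ : ∃ N, N = (g : Matrix (Fin 3) (Fin 3) F) + 1 := ⟨_, rfl⟩
  have hg : (g : Matrix (Fin 3) (Fin 3) F) = 1 + N := by
    rw [hN, ← add_assoc, add_comm 1 (g : Matrix (Fin 3) (Fin 3) F), add_assoc]
    ext i j
    simp [CharTwo.add_self_eq_zero]
  have hsq : N * N = 0 := by
    have h := congrArg Units.val h2
    rw [Units.val_mul, Units.val_one] at h
    rw [hN, add_mul, mul_add, h, one_mul, mul_one]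
    ext i j
    simp only [Matrix.add_apply, Matrix.zero_apply]
    linear_combination ((g : Matrix (Fin 3) (Fin 3) F) i j + (1 : Matrix (Fin 3) (Fin 3) F) i j) *
      CharTwo.two_eq_zero (R := F)
  have hN0 : N ≠ 0 := fun e => h1 (Units.ext (by rw [hg, e, add_zero, Units.val_one]))
  obtain ⟨j₀, hj₀⟩ : ∃ j, N *ᵥ E j ≠ 0 := by
    by_contra hno
    push Not at hno
    refine hN0 (Matrix.ext fun i j => ?_)
    simpa [E, mulVec_single] using congrFun (hno j) i
  obtain ⟨z, hz⟩ : ∃ z, z = N *ᵥ E j₀ := ⟨_, rfl⟩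
  have hz0 : z ≠ 0 := hz ▸ hj₀
  let f := Matrix.toLin' N
  have hle : LinearMap.range f ≤ LinearMap.ker f := by
    rintro _ ⟨x, rfl⟩
    show Matrix.toLin' N (Matrix.toLin' N x) = 0
    rw [Matrix.toLin'_apply, Matrix.toLin'_apply, mulVec_mulVec, hsq, zero_mulVec]
  have hr : LinearMap.range f = Submodule.span F {z} := by
    refine (Submodule.eq_of_le_of_finrank_le ?_ ?_).symm
    · rw [Submodule.span_singleton_le_iff_mem]
      exact ⟨E j₀, by rw [Matrix.toLin'_apply, hz]⟩
    · have h3 := LinearMap.finrank_range_add_finrank_ker f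
      rw [Module.finrank_fintype_fun_eq_card, Fintype.card_fin] at h3
      have h4 := Submodule.finrank_mono hle
      rw [finrank_span_singleton hz0]
      omega
  choose a ha using fun j => Submodule.mem_span_singleton.1 (hr ▸ LinearMap.mem_range_self f (E j))
  have hNe : N = vecMulVec z a := by
    ext i j
    have := congrFun (ha j) i
    simp [f, E, mulVec_single] at this
    rw [vecMulVec_apply, ← this, mul_comm]
  have haz : a ⬝ᵥ z = 0 := by
    have e : N *ᵥ z = 0 := by rw [hz, mulVec_mulVec, hsq, zero_mulVec]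
    rw [hNe, vecMulVec_mulVec, op_smul_eq_smul] at e
    exact (smul_eq_zero.1 e).resolve_right hz0
  refine ⟨z, a, haz, hz0, fun e => hN0 (by rw [hNe, e, vecMulVec_zero]), Units.ext ?_⟩
  rw [coe_tv, tvMat, hg, hNe]

theorem IsT.not_scalar {z a : Fin 3 → F} (h : IsT P z a) : tv z a h.1.dot ∉ scalars (Fin 3) F := by
  intro hm
  obtain ⟨c, hc⟩ := (mem_scalars_iff _).1 hm
  rw [coe_tv] at hc
  have e := congrArg (· *ᵥ z) hc
  simp only [tvMat_mulVec, h.1.dot, zero_smul, add_zero, smul_mulVec, one_mulVec] at e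
  obtain ⟨i, hi⟩ := Function.ne_iff.1 h.2.1
  have hc1 : (c : F) = 1 := by
    have e' := congrFun e i
    rw [Pi.smul_apply, smul_eq_mul] at e'
    exact mul_right_cancel₀ hi (by rw [one_mul]; exact e'.symm)
  rw [hc1, one_smul, tvMat, add_eq_left] at hc
  obtain ⟨j, hj⟩ := Function.ne_iff.1 h.2.2
  have := congrFun (congrFun hc i) j
  rw [vecMulVec_apply, Matrix.zero_apply] at this
  exact mul_ne_zero hi hj this

variable [Fintype F]

theorem exists_isT (hperf : ⁅P, P⁆ = P) (hne : P ≠ ⊥) : ∃ z a, IsT P z a := by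
  classical
  haveI : Finite (GL (Fin 3) F) := inferInstance
  have heven : 2 ∣ Nat.card P := by
    by_contra h2
    haveI := Cfsg.Agent.S0205.result (G := P) (Nat.odd_iff.2 (Nat.two_dvd_ne_zero.1 h2))
    haveI : Nontrivial P := (Subgroup.nontrivial_iff_ne_bot P).2 hne
    have h := Group.IsSolvable.commutator_lt_top_of_nontrivial (G := P)
    refine h.ne (Subgroup.map_injective P.subtype_injective ?_)
    rw [Subgroup.map_subtype_commutator, hperf, ← MonoidHom.range_eq_map, Subgroup.range_subtype]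
  haveI : Fact (Nat.Prime 2) := ⟨Nat.prime_two⟩
  obtain ⟨x, hx⟩ := exists_prime_orderOf_dvd_card' 2 heven
  have hx1 : x ≠ 1 := fun e => by simp [e] at hx
  obtain ⟨z, a, h, hz, ha, e⟩ := exists_tv_of_involution (g := (x : GL (Fin 3) F))
    (by rw [← Subgroup.coe_mul, ← sq, ← hx, pow_orderOf_eq_one, Subgroup.coe_one]) (fun e => hx1 (Subtype.ext e))
  exact ⟨z, a, ⟨h, e ▸ x.2⟩, hz, ha⟩

/-- The transvections generate. -/
theorem gen_of_perfect (hperf : ⁅P, P⁆ = P) (hsimple : IsSimpleGroup (P ⧸ (scalars (Fin 3) F).subgroupOf P)) :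
    Gen P := by
  classical
  let S : Set P := {x | ∃ z a, ∃ h : a ⬝ᵥ z = 0, IsT P z a ∧ (x : GL (Fin 3) F) = tv z a h}
  let T : Subgroup P := Subgroup.closure S
  have hT : T.Normal := by
    refine ⟨fun n hn g => ?_⟩
    have hmap : T.map (MulAut.conj g).toMonoidHom ≤ T := by
      rw [MonoidHom.map_closure, Subgroup.closure_le]
      rintro _ ⟨x, ⟨z, a, h, ht, hx⟩, rfl⟩
      have hc := ht.1.conj g.2
      refine Subgroup.subset_closure ⟨_, _, hc.dot, ⟨hc, fun e => ht.2.1 ?_, fun e => ht.2.2 ?_⟩, ?_⟩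
      · have := congrArg ((((g : GL (Fin 3) F)⁻¹ : GL (Fin 3) F) : Matrix (Fin 3) (Fin 3) F) *ᵥ ·) e
        simpa [mulVec_mulVec, ← Units.val_mul] using this
      · have := congrArg (· ᵥ* ((g : GL (Fin 3) F) : Matrix (Fin 3) (Fin 3) F)) e
        simpa [vecMul_vecMul, ← Units.val_mul] using this
      · rw [tv_conj]
        · show (g : GL (Fin 3) F) * x * (g : GL (Fin 3) F)⁻¹ = _
          rw [hx]
          congr 2
          exact tv_congr _ _ (by rw [vecMul_vecMul, ← Units.val_mul, inv_mul_cancel, Units.val_one, vecMul_one])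
    exact hmap ⟨n, hn, rfl⟩
  have hne : P ≠ ⊥ := by
    rintro rfl
    obtain ⟨x, hx⟩ := exists_ne (1 : (⊥ : Subgroup (GL (Fin 3) F)) ⧸ (scalars (Fin 3) F).subgroupOf ⊥)
    obtain ⟨y, rfl⟩ := QuotientGroup.mk_surjective x
    exact hx (by rw [Subsingleton.elim y 1, QuotientGroup.mk_one])
  obtain ⟨z, a, ht⟩ := exists_isT hperf hne
  have hmapN : (T.map (QuotientGroup.mk' ((scalars (Fin 3) F).subgroupOf P))).Normal :=
    hT.map _ (QuotientGroup.mk'_surjective _)
  have htop : T = ⊤ := by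
    rcases hsimple.eq_bot_or_eq_top_of_normal _ hmapN with e | e
    · exfalso
      have hmem : (⟨tv z a ht.1.dot, ht.1.mem⟩ : P) ∈ T := Subgroup.subset_closure ⟨z, a, ht.1.dot, ht, rfl⟩
      have := Subgroup.mem_map_of_mem (QuotientGroup.mk' ((scalars (Fin 3) F).subgroupOf P)) hmem
      rw [e, Subgroup.mem_bot, QuotientGroup.mk'_apply, QuotientGroup.eq_one_iff, Subgroup.mem_subgroupOf] at this
      exact ht.not_scalar this
    · rw [← top_le_iff]
      have hc : commutator P = ⊤ := Subgroup.map_injective P.subtype_injective (by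
        rw [Subgroup.map_subtype_commutator, hperf, ← MonoidHom.range_eq_map, Subgroup.range_subtype])
      rw [← hc, _root_.commutator_def, Subgroup.commutator_le]
      intro x _ y _
      have hsplit : ∀ w : P, ∃ t ∈ T, ∃ c : P, (∀ v : P, c * v = v * c) ∧ w = t * c := fun w => by
        obtain ⟨t, htT, htw⟩ : (QuotientGroup.mk' ((scalars (Fin 3) F).subgroupOf P)) w ∈
          T.map (QuotientGroup.mk' ((scalars (Fin 3) F).subgroupOf P)) := e ▸ Subgroup.mem_top _
        rw [QuotientGroup.mk'_apply, QuotientGroup.mk'_apply, QuotientGroup.eq, Subgroup.mem_subgroupOf] at htw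
        obtain ⟨c, hc⟩ := (mem_scalars_iff _).1 htw
        refine ⟨t, htT, t⁻¹ * w, ?_, (mul_inv_cancel_left t w).symm⟩
        generalize t⁻¹ * w = d at hc ⊢
        refine fun v => Subtype.ext (Units.ext ?_)
        rw [Subgroup.coe_mul, Subgroup.coe_mul, Units.val_mul, Units.val_mul, hc, smul_mul, one_mul, Matrix.mul_smul,
          mul_one]
      obtain ⟨t, htT, c, hc', rfl⟩ := hsplit x
      obtain ⟨s, hsT, d, hd', rfl⟩ := hsplit y
      haveI := hT
      rw [← QuotientGroup.eq_one_iff, commutatorElement_def]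
      simp only [QuotientGroup.mk_mul, QuotientGroup.mk_inv, (QuotientGroup.eq_one_iff t).2 htT,
        (QuotientGroup.eq_one_iff s).2 hsT, one_mul]
      rw [← QuotientGroup.mk_mul, ← QuotientGroup.mk_inv, ← QuotientGroup.mk_mul, ← QuotientGroup.mk_inv,
        ← QuotientGroup.mk_mul, hc' d, mul_inv_cancel_right, mul_inv_cancel, QuotientGroup.mk_one]
  intro g hg
  have := Subgroup.mem_map_of_mem P.subtype (show (⟨g, hg⟩ : P) ∈ T from htop ▸ Subgroup.mem_top _)
  rw [MonoidHom.map_closure] at this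
  refine Subgroup.closure_mono ?_ this
  rintro _ ⟨x, ⟨z, a, h, ht, hx⟩, rfl⟩
  exact ⟨z, a, h, ht, hx⟩

/-- The dual group is irreducible. -/
theorem dual_irreducible (hirr : ActsIrreducibly (matrixSet P)) : ActsIrreducibly (matrixSet (dual P)) := by
  intro W hW
  by_cases hWtop : W = ⊤
  · exact Or.inr hWtop
  left
  let A : Submodule F (Fin 3 → F) :=
    { carrier := {x | ∀ w ∈ W, w ⬝ᵥ x = 0}
      zero_mem' := fun w _ => dotProduct_zero w
      add_mem' := fun {x y} hx hy w hw => by rw [dotProduct_add, hx w hw, hy w hw, add_zero]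
      smul_mem' := fun k x hx w hw => by rw [dotProduct_smul, hx w hw, smul_zero] }
  have hA : ∀ s ∈ matrixSet P, A.map (Matrix.toLin' s) ≤ A := by
    rintro _ ⟨g, hg, rfl⟩ _ ⟨x, hx, rfl⟩ w hw
    rw [Matrix.toLin'_apply, dotProduct_mulVec]
    refine hx _ ?_
    have hd : ((dualHom g⁻¹ : GL (Fin 3) F) : Matrix (Fin 3) (Fin 3) F) = (g : Matrix (Fin 3) (Fin 3) F)ᵀ := by
      show (((g⁻¹)⁻¹ : GL (Fin 3) F) : Matrix (Fin 3) (Fin 3) F)ᵀ = _
      rw [inv_inv]
    have := hW _ ⟨dualHom g⁻¹, Subgroup.mem_map_of_mem _ (inv_mem hg), rfl⟩ ⟨w, hw, rfl⟩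
    dsimp only at this ⊢
    rwa [Matrix.toLin'_apply, hd, mulVec_transpose] at this
  rcases hirr A hA with e | e
  · exfalso
    obtain ⟨φ, hφ, hle⟩ := Submodule.exists_le_ker_of_lt_top W (lt_top_iff_ne_top.2 hWtop)
    obtain ⟨x, rfl⟩ := (dotProductEquiv F (Fin 3)).surjective φ
    have hx : x ∈ A := fun w hw => by
      have := hle hw
      rw [LinearMap.mem_ker, dotProductEquiv_apply_apply, dotProduct_comm] at this
      exact this
    rw [e, Submodule.mem_bot] at hx
    exact hφ (by rw [hx, map_zero])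
  · rw [Submodule.eq_bot_iff]
    intro w hw
    exact dotProduct_eq_zero _ fun x => (show x ∈ A from e ▸ Submodule.mem_top) w hw

end Cfsg.Lib.Linear.Mitchell.Even
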