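import Cfsg.Agent.Lib.Linear.Mitchell.EvenBasic
import Cfsg.Prelude.Def_GeometricClasses

/-!
Opposite pairs in any position, and propagation of the size of root subgroups along shared centres and axes.
-/

set_option autoImplicit false
set_option linter.unusedSectionVars false

open Matrix

namespace Cfsg.Lib.Linear.Mitchell.Even

variable {F : Type*} [Field F] {P : Subgroup (GL (Fin 3) F)}

/-- A nontrivial transvection of the group. -/
def IsT (P : Subgroup (GL (Fin 3) F)) (z a : Fin 3 → F) : Prop := InT P z a ∧ z ≠ 0 ∧ a ≠ 0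

/-- Every transvection has an opposite one. -/
def HasOpp (P : Subgroup (GL (Fin 3) F)) : Prop :=
  ∀ z a, IsT P z a → ∃ d b, InT P d b ∧ a ⬝ᵥ d = 1 ∧ b ⬝ᵥ z ≠ 0

/-- Inverse transpose. -/
def dualHom : GL (Fin 3) F →* GL (Fin 3) F where
  toFun g := ⟨((g⁻¹ : GL (Fin 3) F) : Matrix (Fin 3) (Fin 3) F)ᵀ, (g : Matrix (Fin 3) (Fin 3) F)ᵀ,
    by rw [← transpose_mul, ← Units.val_mul, mul_inv_cancel, Units.val_one, transpose_one],
    by rw [← transpose_mul, ← Units.val_mul, inv_mul_cancel, Units.val_one, transpose_one]⟩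
  map_one' := Units.ext (by simp)
  map_mul' g h := Units.ext (by simp [transpose_mul])

/-- The subgroup acting on functionals. -/
def dual (P : Subgroup (GL (Fin 3) F)) : Subgroup (GL (Fin 3) F) := P.map dualHom

variable [CharP F 2]

theorem tv_inv (z a : Fin 3 → F) (h : a ⬝ᵥ z = 0) : (tv z a h)⁻¹ = tv z a h := by
  refine inv_eq_of_mul_eq_one_right (Units.ext ?_)
  rw [Units.val_mul, coe_tv, ← one_smul F a, tvMat_smul_mul z a h, CharTwo.add_self_eq_zero, zero_smul, tvMat,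
    vecMulVec_zero, add_zero]
  rfl

theorem dualHom_tv (z a : Fin 3 → F) (h : a ⬝ᵥ z = 0) :
    dualHom (tv z a h) = tv a z (by rwa [dotProduct_comm]) := by
  refine Units.ext ?_
  show (((tv z a h)⁻¹ : GL (Fin 3) F) : Matrix (Fin 3) (Fin 3) F)ᵀ = _
  rw [tv_inv, coe_tv, coe_tv]
  ext i j
  simp [tvMat, vecMulVec_apply, Matrix.one_apply, eq_comm, mul_comm]

theorem dual_inT {z a : Fin 3 → F} : InT (dual P) a z ↔ InT P z a := by
  constructor
  · rintro ⟨h, g, hg, e⟩
    refine ⟨by rwa [dotProduct_comm], ?_⟩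
    have e' := congrArg dualHom e
    have hinv : ∀ x : GL (Fin 3) F, dualHom (dualHom x) = x := fun x => Units.ext (by
      show (((dualHom x)⁻¹ : GL (Fin 3) F) : Matrix (Fin 3) (Fin 3) F)ᵀ = _
      show ((x : Matrix (Fin 3) (Fin 3) F)ᵀ)ᵀ = _
      rw [transpose_transpose])
    rw [hinv, dualHom_tv] at e'
    exact e' ▸ hg
  · rintro ⟨h, hm⟩
    exact ⟨by rwa [dotProduct_comm], _, hm, dualHom_tv z a h⟩

theorem dual_isT {z a : Fin 3 → F} : IsT (dual P) a z ↔ IsT P z a :=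
  ⟨fun h => ⟨dual_inT.1 h.1, h.2.2, h.2.1⟩, fun h => ⟨dual_inT.2 h.1, h.2.2, h.2.1⟩⟩

theorem HasOpp.dual (hP : HasOpp P) : HasOpp (dual P) := by
  intro a z h
  obtain ⟨d, b, hdb, hd, hb⟩ := hP z a (dual_isT.1 h)
  refine ⟨(b ⬝ᵥ z)⁻¹ • b, (b ⬝ᵥ z) • d, ?_, ?_, ?_⟩
  · exact dual_inT.2 (by
      have := hdb.rescale hb
      exact this)
  · rw [dotProduct_smul, dotProduct_comm z b, smul_eq_mul, inv_mul_cancel₀ hb]
  · rw [smul_dotProduct, dotProduct_comm d a, hd, smul_eq_mul, mul_one]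
    exact hb

/-- The axis of a conjugate by a transvection. -/
theorem InT.conj_tv {z a d b : Fin 3 → F} (h : InT P z a) (h' : InT P d b) :
    InT P (z + (b ⬝ᵥ z) • d) (a + (a ⬝ᵥ d) • b) := by
  have := h.conj h'.mem
  rw [coe_tv, tvMat_mulVec, tv_inv, coe_tv, tvMat, vecMul_add, vecMul_one, vecMul_vecMulVec] at this
  exact this

theorem exists_smul_of_cross {x X : Fin 3 → F} (hX : X ≠ 0) (h : crossProduct x X = 0) :
    ∃ k : F, x = k • X := by
  have h0 := congrFun h 0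
  have h1 := congrFun h 1
  have h2 := congrFun h 2
  simp [cross_apply] at h0 h1 h2
  obtain ⟨i, hi⟩ := Function.ne_iff.1 hX
  refine ⟨x i / X i, funext fun j => ?_⟩
  rw [Pi.zero_apply] at hi
  rw [Pi.smul_apply, smul_eq_mul, div_mul_eq_mul_div, eq_div_iff hi]
  fin_cases i <;> fin_cases j <;> simp only [Fin.zero_eta, Fin.mk_one, Fin.reduceFinMk, Fin.isValue] <;>
    first | rfl | linear_combination h0 | linear_combination -h0 | linear_combination h1 | linear_combination -h1 |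
      linear_combination h2 | linear_combination -h2

/-- An irreducible group with a transvection has opposite ones. -/
theorem hasOpp_of_irred (hirr : Cfsg.Geo.ActsIrreducibly (Cfsg.Geo.matrixSet P)) : HasOpp P := by
  intro z a hza
  obtain ⟨hza', hz, ha⟩ := hza
  -- a centre off the axis
  obtain ⟨d, b, hdb, hd, hb0⟩ : ∃ d b, InT P d b ∧ a ⬝ᵥ d ≠ 0 ∧ b ≠ 0 := by
    by_contra hno
    push Not at hno
    let W : Submodule F (Fin 3 → F) := Submodule.span F {x | ∃ b, IsT P x b}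
    have hinv : ∀ s ∈ Cfsg.Geo.matrixSet P, W.map (Matrix.toLin' s) ≤ W := by
      rintro _ ⟨g, hg, rfl⟩
      rw [Submodule.map_span_le]
      rintro x ⟨b, hb, hx, hb0⟩
      refine Submodule.subset_span ⟨_, hb.conj hg, ?_, ?_⟩
      · intro e
        refine hx ?_
        have := congrArg (((g⁻¹ : GL (Fin 3) F) : Matrix (Fin 3) (Fin 3) F) *ᵥ ·) e
        simpa [mulVec_mulVec, ← Units.val_mul] using this
      · intro e
        refine hb0 ?_
        have := congrArg (· ᵥ* (g : Matrix (Fin 3) (Fin 3) F)) e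
        simpa [vecMul_vecMul, ← Units.val_mul] using this
    rcases hirr W hinv with e | e
    · have : z ∈ W := Submodule.subset_span ⟨a, hza', hz, ha⟩
      rw [e, Submodule.mem_bot] at this
      exact hz this
    · refine ha (dotProduct_eq_zero _ fun x => ?_)
      have hx : x ∈ W := e ▸ Submodule.mem_top
      induction hx using Submodule.span_induction with
      | mem x hx =>
        obtain ⟨b, hb, -, hb0⟩ := hx
        by_contra h0
        exact hb0 (hno x b hb h0)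
      | zero => exact dotProduct_zero _
      | add x y _ _ hx hy => rw [dotProduct_add, hx, hy, add_zero]
      | smul k x _ hx => rw [dotProduct_smul, hx, smul_zero]
  -- an axis off the centre
  obtain ⟨e, f, hef, hf, he0⟩ : ∃ e f, InT P e f ∧ f ⬝ᵥ z ≠ 0 ∧ e ≠ 0 := by
    by_contra hno
    push Not at hno
    let W : Submodule F (Fin 3 → F) :=
      { carrier := {x | ∀ e f, InT P e f → e ≠ 0 → f ⬝ᵥ x = 0}
        zero_mem' := fun _ f _ _ => dotProduct_zero f
        add_mem' := fun {x y} hx hy e f h he => by rw [dotProduct_add, hx e f h he, hy e f h he, add_zero]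
        smul_mem' := fun k x hx e f h he => by rw [dotProduct_smul, hx e f h he, smul_zero] }
    have hinv : ∀ s ∈ Cfsg.Geo.matrixSet P, W.map (Matrix.toLin' s) ≤ W := by
      rintro _ ⟨g, hg, rfl⟩
      rintro _ ⟨x, hx, rfl⟩ e f hef he
      rw [Matrix.toLin'_apply, dotProduct_mulVec]
      have := hef.conj (inv_mem hg)
      rw [inv_inv] at this
      refine hx _ _ this fun e0 => he ?_
      have := congrArg ((g : Matrix (Fin 3) (Fin 3) F) *ᵥ ·) e0
      simpa [mulVec_mulVec, ← Units.val_mul] using this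
    rcases hirr W hinv with e | e
    · have : z ∈ W := fun e f h he => by
        by_contra h0
        exact he (hno e f h h0)
      rw [e, Submodule.mem_bot] at this
      exact hz this
    · refine ha (dotProduct_eq_zero _ fun x => ?_)
      exact (show x ∈ W from e ▸ Submodule.mem_top) z a hza' hz
  suffices ∃ d b, InT P d b ∧ a ⬝ᵥ d ≠ 0 ∧ b ⬝ᵥ z ≠ 0 by
    obtain ⟨d, b, h, h1, h2⟩ := this
    refine ⟨(a ⬝ᵥ d)⁻¹ • d, (a ⬝ᵥ d) • b, ?_, ?_, ?_⟩
    · have := h.rescale (inv_ne_zero h1)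
      rwa [inv_inv] at this
    · rw [dotProduct_smul, smul_eq_mul, inv_mul_cancel₀ h1]
    · rw [smul_dotProduct, smul_eq_mul]
      exact mul_ne_zero h1 h2
  by_cases hb : b ⬝ᵥ z = 0
  swap
  · exact ⟨d, b, hdb, hd, hb⟩
  by_cases he : a ⬝ᵥ e = 0
  swap
  · exact ⟨e, f, hef, he, hf⟩
  by_cases hbe : b ⬝ᵥ e = 0
  · exfalso
    refine hf ?_
    -- both points lie on two distinct lines
    have hne : crossProduct a b ≠ 0 := by
      intro h0
      have h3 := cross_cross_eq_smul_sub_smul' d a b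
      rw [h0, map_zero, dotProduct_comm d b, hdb.dot, zero_smul, zero_sub, eq_comm, neg_eq_zero,
        smul_eq_zero] at h3
      exact h3.elim hd hb0
    have key : ∀ x : Fin 3 → F, a ⬝ᵥ x = 0 → b ⬝ᵥ x = 0 → ∃ k : F, x = k • crossProduct a b := by
      intro x h1 h2
      have h3 := cross_cross_eq_smul_sub_smul' x a b
      rw [dotProduct_comm x b, h2, h1, zero_smul, zero_smul, sub_zero] at h3
      exact exists_smul_of_cross hne h3
    obtain ⟨k, hk⟩ := key z hza'.dot hb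
    obtain ⟨l, hl⟩ := key e he hbe
    have hl0 : l ≠ 0 := fun e0 => he0 (by rw [hl, e0, zero_smul])
    rw [hk, show crossProduct a b = l⁻¹ • e by rw [hl, smul_smul, inv_mul_cancel₀ hl0, one_smul],
      dotProduct_smul, dotProduct_smul, hef.dot, smul_zero, smul_zero]
  · refine ⟨_, _, hef.conj_tv hdb, ?_, ?_⟩
    · rw [dotProduct_add, he, zero_add, dotProduct_smul, smul_eq_mul]
      exact mul_ne_zero hbe hd
    · rwa [add_dotProduct, smul_dotProduct, hb, smul_zero, add_zero]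

variable [Fintype F]

theorem InT.rescale_iff {z a : Fin 3 → F} {c : F} (hc : c ≠ 0) : InT P (c • z) (c⁻¹ • a) ↔ InT P z a := by
  refine ⟨fun h => ?_, fun h => h.rescale hc⟩
  have := h.rescale (inv_ne_zero hc)
  rwa [inv_inv, smul_smul, smul_smul, inv_mul_cancel₀ hc, mul_inv_cancel₀ hc, one_smul, one_smul] at this

theorem pair_aux {c a d b : Fin 3 → F} (hca : InT P c a) (hdb : InT P d b) (had : a ⬝ᵥ d = 1) (hbc : b ⬝ᵥ c ≠ 0)
    (h4 : 4 ≤ Nat.card (lam P c a hca.dot)) :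
    ∃ K : Subfield F, 4 ≤ Nat.card K ∧ b ⬝ᵥ c ∈ K ∧ (∀ x, InT P c (x • a) ↔ x ∈ K) ∧
      (∀ x, InT P d (x • b) ↔ x ∈ K) := by
  classical
  let O := crossProduct a b
  let M : Matrix (Fin 3) (Fin 3) F := Matrix.of fun i j => (![c, d, O] j) i
  have hdet : M.det = -(b ⬝ᵥ c) := by
    have h1 := hca.dot
    have h2 := hdb.dot
    simp [dotProduct, Fin.sum_univ_three] at h1 h2 had
    simp [M, O, Matrix.det_fin_three, cross_apply, dotProduct, Fin.sum_univ_three]
    linear_combination (b 0 * d 0 + b 1 * d 1 + b 2 * d 2) * h1 - (b 0 * c 0 + b 1 * c 1 + b 2 * c 2) * had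
  let g : GL (Fin 3) F := Matrix.GeneralLinearGroup.mkOfDetNeZero M (by rw [hdet]; exact neg_ne_zero.2 hbc)
  let P' := P.map (MulAut.conj g⁻¹).toMonoidHom
  have hg0 : (g : Matrix (Fin 3) (Fin 3) F) *ᵥ ![1, 0, 0] = c := by
    ext i; simp [g, M, mulVec, dotProduct, Fin.sum_univ_three]
  have hg1 : (g : Matrix (Fin 3) (Fin 3) F) *ᵥ ![0, 1, 0] = d := by
    ext i; simp [g, M, mulVec, dotProduct, Fin.sum_univ_three]
  have hga : a ᵥ* (g : Matrix (Fin 3) (Fin 3) F) = ![0, 1, 0] := by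
    have h1 := hca.dot
    have h3 : a ⬝ᵥ O = 0 := dot_self_cross a b
    simp [dotProduct, Fin.sum_univ_three] at h1 h3 had
    ext j
    fin_cases j <;> simp [g, M, vecMul, dotProduct, Fin.sum_univ_three] <;> assumption
  have hgb : b ᵥ* (g : Matrix (Fin 3) (Fin 3) F) = ![b ⬝ᵥ c, 0, 0] := by
    have h2 := hdb.dot
    have h3 : b ⬝ᵥ O = 0 := dot_cross_self a b
    simp [dotProduct, Fin.sum_univ_three] at h2 h3
    ext j
    fin_cases j <;> simp [g, M, vecMul, dotProduct, Fin.sum_univ_three] <;> assumption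
  have hback : ∀ {w v : Fin 3 → F}, w ᵥ* (g : Matrix (Fin 3) (Fin 3) F) = v →
      v ᵥ* ((g⁻¹ : GL (Fin 3) F) : Matrix (Fin 3) (Fin 3) F) = w := fun {w v} e => by
    rw [← e, vecMul_vecMul, ← Units.val_mul, mul_inv_cancel, Units.val_one, vecMul_one]
  have hA : (![0, 1, 0] : Fin 3 → F) ⬝ᵥ ![1, 0, 0] = 0 := by simp [dotProduct, Fin.sum_univ_three]
  have hB : (![1, 0, 0] : Fin 3 → F) ⬝ᵥ ![0, 1, 0] = 0 := by simp [dotProduct, Fin.sum_univ_three]
  have hU : ∀ x : F, InT P' ![1, 0, 0] (x • ![0, 1, 0]) ↔ InT P c (x • a) := fun x => by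
    rw [inT_map, hg0, smul_vecMul, hback hga]
  have hL : ∀ x : F, InT P' ![0, 1, 0] (x • ![1, 0, 0]) ↔ InT P d ((x / (b ⬝ᵥ c)) • b) := fun x => by
    rw [inT_map, hg1, show x • (![1, 0, 0] : Fin 3 → F) = (x / (b ⬝ᵥ c)) • ![b ⬝ᵥ c, 0, 0] by
      ext i; fin_cases i <;> simp [div_mul_cancel₀ x hbc], smul_vecMul, hback hgb]
  have h1 : InT P' ![1, 0, 0] ![0, 1, 0] := by
    have := (hU 1).2 (by rwa [one_smul])
    rwa [one_smul] at this
  have hk : InT P' ![0, 1, 0] ![b ⬝ᵥ c, 0, 0] := by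
    have := (hL (b ⬝ᵥ c)).2 (by rwa [div_self hbc, one_smul])
    rwa [show (b ⬝ᵥ c) • (![1, 0, 0] : Fin 3 → F) = ![b ⬝ᵥ c, 0, 0] by ext i; fin_cases i <;> simp] at this
  have hlam : lam P' ![1, 0, 0] ![0, 1, 0] hA = lam P c a hca.dot := AddSubgroup.ext fun x => hU x
  obtain ⟨K, hK, hK', hκ⟩ := pair_std P' hbc h1 hk hA hB (by rw [hlam]; exact h4)
  refine ⟨K, ?_, hκ, fun x => ?_, fun x => ?_⟩
  · rw [show Nat.card K = Nat.card (lam P c a hca.dot) from Nat.card_congr (Equiv.setCongr (hlam ▸ hK))]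
    exact h4
  · rw [← hU, ← SetLike.mem_coe (A := Subfield F), hK]
    rfl
  · have e : InT P d (x • b) ↔ x * (b ⬝ᵥ c) ∈ (K : Set F) := by
      rw [hK', show x * (b ⬝ᵥ c) ∈ (lam P' ![0, 1, 0] ![1, 0, 0] hB : Set F) ↔
        InT P' ![0, 1, 0] ((x * (b ⬝ᵥ c)) • ![1, 0, 0]) from Iff.rfl, hL, mul_div_cancel_right₀ x hbc]
    rw [e]
    refine ⟨fun h => ?_, fun h => K.mul_mem h hκ⟩
    have := K.mul_mem h (K.inv_mem hκ)
    rwa [mul_inv_cancel_right₀ hbc] at this

/-- An opposite pair determines a field. -/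
theorem pair {c a d b : Fin 3 → F} (hca : InT P c a) (hdb : InT P d b) (had : a ⬝ᵥ d = 1) (hbc : b ⬝ᵥ c ≠ 0)
    (h4 : 4 ≤ Nat.card (lam P c a hca.dot) ∨ 4 ≤ Nat.card (lam P d b hdb.dot)) :
    ∃ K : Subfield F, 4 ≤ Nat.card K ∧ b ⬝ᵥ c ∈ K ∧ (∀ x, InT P c (x • a) ↔ x ∈ K) ∧
      (∀ x, InT P d (x • b) ↔ x ∈ K) := by
  rcases h4 with h4 | h4
  · exact pair_aux hca hdb had hbc h4
  · have hc' : InT P ((b ⬝ᵥ c)⁻¹ • c) ((b ⬝ᵥ c) • a) := by
      have := hca.rescale (inv_ne_zero hbc)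
      rwa [inv_inv] at this
    obtain ⟨K, hK, hk, h1, h2⟩ := pair_aux hdb hc'
      (by rw [dotProduct_smul, smul_eq_mul, inv_mul_cancel₀ hbc])
      (by rw [smul_dotProduct, had, smul_eq_mul, mul_one]; exact hbc) h4
    rw [smul_dotProduct, had, smul_eq_mul, mul_one] at hk
    refine ⟨K, hK, hk, fun x => ?_, h1⟩
    rw [← h2 x, ← InT.rescale_iff (z := c) (inv_ne_zero hbc), inv_inv, smul_smul, smul_smul, mul_comm]

end Cfsg.Lib.Linear.Mitchell.Even
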