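import Cfsg.Agent.Lib.Linear.Mitchell.EvenGeom

/-!
If one root subgroup has at least four elements then all have.
-/

set_option autoImplicit false
set_option linter.unusedSectionVars false

open Matrix

namespace Cfsg.Lib.Linear.Mitchell.Even

variable {F : Type*} [Field F] [Fintype F] [CharP F 2] {P : Subgroup (GL (Fin 3) F)}

/-- The root subgroup has at least four elements. -/
def Big (P : Subgroup (GL (Fin 3) F)) (z a : Fin 3 → F) : Prop :=
  4 ≤ Nat.card {x : F // InT P z (x • a)}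

theorem Big.smul_iff {z a : Fin 3 → F} {k : F} (hk : k ≠ 0) : Big P z (k • a) ↔ Big P z a := by
  have e : {x : F // InT P z (x • k • a)} ≃ {x : F // InT P z (x • a)} :=
    { toFun := fun x => ⟨x.1 * k, by rw [← smul_smul]; exact x.2⟩
      invFun := fun x => ⟨x.1 * k⁻¹, by rw [smul_smul, inv_mul_cancel_right₀ hk]; exact x.2⟩
      left_inv := fun x => Subtype.ext (mul_inv_cancel_right₀ hk _)
      right_inv := fun x => Subtype.ext (inv_mul_cancel_right₀ hk _) }
  rw [Big, Big, Nat.card_congr e]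

theorem InT.scale_iff {z a : Fin 3 → F} (h : a ⬝ᵥ z = 0) {k : F} : InT P (k • z) a ↔ InT P z (k • a) :=
  ⟨fun h' => h'.smul_left h, fun h' => h'.smul_right h⟩

theorem Big.scale_iff {z a : Fin 3 → F} (h : a ⬝ᵥ z = 0) {k : F} (hk : k ≠ 0) : Big P (k • z) a ↔ Big P z a := by
  have e : {x : F // InT P (k • z) (x • a)} ≃ {x : F // InT P z (x • k • a)} :=
    Equiv.subtypeEquivRight fun x => by
      rw [InT.scale_iff (by rw [smul_dotProduct, h, smul_zero]), smul_comm]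
  rw [Big, Nat.card_congr e]
  exact Big.smul_iff hk

theorem card_field_le (K : Subfield F) {z a : Fin 3 → F} (h : ∀ x ∈ K, InT P z (x • a)) (h4 : 4 ≤ Nat.card K) :
    Big P z a :=
  h4.trans (Nat.card_le_card_of_injective (fun x : K => ⟨(x : F), h x x.2⟩) fun _ _ e =>
    Subtype.ext (congrArg Subtype.val e :))

/-- A root with the same axis as one of field size. -/
theorem axis_root {c a d b : Fin 3 → F} {K : Subfield F} (h4 : 4 ≤ Nat.card K) (had : a ⬝ᵥ d = 1)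
    (hbc : b ⬝ᵥ c ≠ 0) (hκ : b ⬝ᵥ c ∈ K) (hKc : ∀ x, InT P c (x • a) ↔ x ∈ K) (hKd : ∀ x, InT P d (x • b) ↔ x ∈ K)
    {z : Fin 3 → F} (hz : InT P z a) :
    ∃ o y, y ∈ K ∧ a ⬝ᵥ o = 0 ∧ b ⬝ᵥ o = 0 ∧ z = o + y • c ∧ ∀ μ ∈ K, InT P o (μ • a) := by
  have hd : InT P d b := by
    have := (hKd 1).2 K.one_mem
    rwa [one_smul] at this
  have hcT : InT P c a := by
    have := (hKc 1).2 K.one_mem
    rwa [one_smul] at this
  have hbd : Big P d b := card_field_le K (fun x hx => (hKd x).2 hx) h4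
  have hsame : ∀ {w : Fin 3 → F}, InT P w a → b ⬝ᵥ w ≠ 0 → b ⬝ᵥ w ∈ K ∧ ∀ x ∈ K, InT P w (x • a) := by
    intro w hw hne
    obtain ⟨K', -, hk, h1, h2⟩ := pair hw hd had hne (Or.inr hbd)
    have e : ∀ x, x ∈ K' ↔ x ∈ K := fun x => by rw [← h2, hKd]
    exact ⟨(e _).1 hk, fun x hx => (h1 x).2 ((e x).2 hx)⟩
  obtain ⟨y, hy⟩ : ∃ y, y = b ⬝ᵥ z / (b ⬝ᵥ c) := ⟨_, rfl⟩
  have hyK : y ∈ K := by
    by_cases h0 : b ⬝ᵥ z = 0
    · rw [hy, h0, zero_div]; exact K.zero_mem
    · exact hy ▸ K.div_mem (hsame hz h0).1 hκ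
  have hyc : ∀ μ ∈ K, InT P (y • c) (μ • a) := fun μ hμ => by
    rw [InT.scale_iff (by rw [smul_dotProduct, hcT.dot, smul_zero]), smul_smul]
    exact (hKc _).2 (K.mul_mem hyK hμ)
  obtain ⟨o, ho⟩ : ∃ o, o = z + y • c := ⟨_, rfl⟩
  have hoT : InT P o a := by
    have := hz.add_left (by have := hyc 1 K.one_mem; rwa [one_smul] at this)
    rwa [← ho] at this
  have hbo : b ⬝ᵥ o = 0 := by
    rw [ho, dotProduct_add, dotProduct_smul, smul_eq_mul, hy, div_mul_cancel₀ _ hbc, CharTwo.add_self_eq_zero]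
  refine ⟨o, y, hyK, hoT.dot, hbo, ?_, fun μ hμ => ?_⟩
  · rw [ho, add_assoc, ← add_smul, CharTwo.add_self_eq_zero, zero_smul, add_zero]
  · have hne : b ⬝ᵥ (o + c) ≠ 0 := by rwa [dotProduct_add, hbo, zero_add]
    have h1 := (hsame (hoT.add_left hcT) hne).2 μ hμ
    have h2 := h1.add_left ((hKc μ).2 hμ)
    rwa [add_assoc, show c + c = (0 : Fin 3 → F) from funext fun i => CharTwo.add_self_eq_zero (c i), add_zero] at h2

theorem big_axis (hP : HasOpp P) {c a z : Fin 3 → F} (h : IsT P c a) (hb : Big P c a) (hz : InT P z a) :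
    Big P z a := by
  obtain ⟨d, b, hd, had, hbc⟩ := hP c a h
  obtain ⟨K, h4, hκ, hKc, hKd⟩ := pair h.1 hd had hbc (Or.inl hb)
  obtain ⟨o, y, hy, ho, -, rfl, hμ⟩ := axis_root h4 had hbc hκ hKc hKd hz
  refine card_field_le K (fun μ hm => (hμ μ hm).add_left ?_) h4
  rw [InT.scale_iff (by rw [smul_dotProduct, h.1.dot, smul_zero]), smul_smul]
  exact (hKc _).2 (K.mul_mem hy hm)

theorem big_dual {z a : Fin 3 → F} (h : a ⬝ᵥ z = 0) : Big (dual P) a z ↔ Big P z a := by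
  have e : {x : F // InT (dual P) a (x • z)} ≃ {x : F // InT P z (x • a)} :=
    Equiv.subtypeEquivRight fun x => by rw [dual_inT, InT.scale_iff h]
  rw [Big, Big, Nat.card_congr e]

theorem big_centre (hP : HasOpp P) {c a f : Fin 3 → F} (h : IsT P c a) (hb : Big P c a) (hf : InT P c f) :
    Big P c f :=
  (big_dual hf.dot).1 (big_axis hP.dual (dual_isT.2 h) ((big_dual h.1.dot).2 hb) (dual_inT.2 hf))

theorem exists_smul_of_two {z w a f : Fin 3 → F} (hzw : crossProduct z w ≠ 0) (ha : a ≠ 0)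
    (a1 : a ⬝ᵥ z = 0) (a2 : a ⬝ᵥ w = 0) (f1 : f ⬝ᵥ z = 0) (f2 : f ⬝ᵥ w = 0) : ∃ k : F, f = k • a := by
  have key : ∀ g : Fin 3 → F, g ⬝ᵥ z = 0 → g ⬝ᵥ w = 0 → ∃ k : F, g = k • crossProduct z w := by
    intro g g1 g2
    have h3 := cross_cross_eq_smul_sub_smul' g z w
    rw [g2, dotProduct_comm z g, g1, zero_smul, zero_smul, sub_zero] at h3
    exact exists_smul_of_cross hzw h3
  obtain ⟨k, hk⟩ := key a a1 a2
  obtain ⟨l, hl⟩ := key f f1 f2
  have hk0 : k ≠ 0 := fun e => ha (by rw [hk, e, zero_smul])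
  exact ⟨l / k, by rw [hl, hk, smul_smul, div_mul_cancel₀ l hk0]⟩

/-- The size propagates to every root subgroup. -/
theorem big_all (hP : HasOpp P) {z a w f : Fin 3 → F} (hs : IsT P z a) (hb : Big P z a) (ht : IsT P w f) :
    Big P w f := by
  by_cases h1 : a ⬝ᵥ w = 0
  · by_cases h2 : f ⬝ᵥ z = 0
    · by_cases hzw : crossProduct z w = 0
      · obtain ⟨k, hk⟩ := exists_smul_of_cross hs.2.1 (x := w) (by rw [← cross_anticomm, hzw, neg_zero])
        have hk0 : k ≠ 0 := fun e => ht.2.1 (by rw [hk, e, zero_smul])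
        rw [hk, Big.scale_iff h2 hk0]
        refine (Big.smul_iff hk0).1 (big_centre hP hs hb ?_)
        exact (InT.scale_iff h2).1 (hk ▸ ht.1)
      · obtain ⟨k, hk⟩ := exists_smul_of_two hzw hs.2.2 hs.1.dot h1 h2 ht.1.dot
        have hk0 : k ≠ 0 := fun e => ht.2.2 (by rw [hk, e, zero_smul])
        rw [hk, Big.smul_iff hk0, ← Big.scale_iff h1 hk0]
        exact big_axis hP hs hb ((InT.scale_iff h1).2 (hk ▸ ht.1))
    · have hm := hs.1.conj_tv ht.1
      rw [h1, zero_smul, add_zero] at hm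
      replace hm := hm.add_left hs.1
      rw [show z + (f ⬝ᵥ z) • w + z = (f ⬝ᵥ z) • w by
        rw [add_right_comm, show z + z = (0 : Fin 3 → F) from funext fun i => CharTwo.add_self_eq_zero (z i),
          zero_add]] at hm
      have hb1 : Big P w a := (Big.scale_iff h1 h2).1 (big_axis hP hs hb hm)
      have hm' : InT P w ((f ⬝ᵥ z) • a) := (InT.scale_iff h1).1 hm
      exact big_centre hP ⟨hm', ht.2.1, smul_ne_zero h2 hs.2.2⟩ ((Big.smul_iff h2).2 hb1) ht.1
  · by_cases h2 : f ⬝ᵥ z = 0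
    · have hm := ht.1.conj_tv hs.1
      rw [h2, zero_smul, add_zero] at hm
      replace hm := hm.add_left ht.1
      rw [show w + (a ⬝ᵥ w) • z + w = (a ⬝ᵥ w) • z by
        rw [add_right_comm, show w + w = (0 : Fin 3 → F) from funext fun i => CharTwo.add_self_eq_zero (w i),
          zero_add]] at hm
      have hm' : InT P z ((a ⬝ᵥ w) • f) := (InT.scale_iff h2).1 hm
      have hb1 : Big P z f := (Big.smul_iff h1).1 (big_centre hP hs hb hm')
      exact big_axis hP ⟨hm, smul_ne_zero h1 hs.2.1, ht.2.2⟩ ((Big.scale_iff h2 h1).2 hb1) ht.1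
    · have ht' : InT P ((a ⬝ᵥ w)⁻¹ • w) ((a ⬝ᵥ w) • f) := by
        have := ht.1.rescale (inv_ne_zero h1)
        rwa [inv_inv] at this
      obtain ⟨K, h4, -, -, hKd⟩ := pair hs.1 ht' (by rw [dotProduct_smul, smul_eq_mul, inv_mul_cancel₀ h1])
        (by rw [smul_dotProduct, smul_eq_mul]; exact mul_ne_zero h1 h2) (Or.inl hb)
      have hbig := card_field_le K (fun x hx => (hKd x).2 hx) h4
      rw [Big.smul_iff h1, Big.scale_iff ht.1.dot (inv_ne_zero h1)] at hbig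
      exact hbig

end Cfsg.Lib.Linear.Mitchell.Even
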