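import Cfsg.Agent.Lib.Linear.Mitchell.EvenGen

/-!
Root subgroups of order two with a half incident pair: normal position, the centraliser of the middle
root, and rationality over a field containing all products of pairs.
-/

set_option autoImplicit false
set_option linter.unusedSectionVars false

open Matrix Cfsg.Geo

namespace Cfsg.Lib.Linear.Mitchell.Even

variable {F : Type*} [Field F] [CharP F 2] {P : Subgroup (GL (Fin 3) F)}

theorem cube_scalar (hSL : P ≤ specialLinear (Fin 3) F) {x : GL (Fin 3) F} (hx : x ∈ P) {c : F}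
    (h : (x : Matrix (Fin 3) (Fin 3) F) = c • 1) : c ^ 3 = 1 := by
  have hdet : ((x : Matrix (Fin 3) (Fin 3) F)).det = 1 := congrArg Units.val (MonoidHom.mem_ker.1 (hSL hx))
  rwa [h, det_smul, det_one, mul_one, Fintype.card_fin] at hdet

/-- An element commuting with a transvection up to scalars commutes with it. -/
theorem commute_of_mod (hSL : P ≤ specialLinear (Fin 3) F) {t x : GL (Fin 3) F} (ht : t ∈ P) (hx : x ∈ P)
    (ht2 : t * t = 1) (h : x * t * x⁻¹ * t ∈ scalars (Fin 3) F) : x * t = t * x := by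
  obtain ⟨c, hc⟩ := (mem_scalars_iff _).1 h
  have h3 := cube_scalar hSL (mul_mem (mul_mem (mul_mem hx ht) (inv_mem hx)) ht) hc
  have e : ((x * t * x⁻¹ : GL (Fin 3) F) : Matrix (Fin 3) (Fin 3) F) = (c : F) • (t : Matrix (Fin 3) (Fin 3) F) := by
    rw [show x * t * x⁻¹ = x * t * x⁻¹ * t * t by rw [mul_assoc _ t t, ht2, mul_one], Units.val_mul, hc, smul_mul,
      one_mul]
  have e2 : ((1 : GL (Fin 3) F) : Matrix (Fin 3) (Fin 3) F) = (c : F) ^ 2 • (1 : Matrix (Fin 3) (Fin 3) F) := by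
    rw [show (1 : GL (Fin 3) F) = (x * t * x⁻¹) * (x * t * x⁻¹) by rw [conj_mul, ht2]; group, Units.val_mul, e,
      smul_mul, Matrix.mul_smul, ← Units.val_mul, ht2, Units.val_one, smul_smul, sq]
  have hc2 : (c : F) ^ 2 = 1 := by
    have := congrFun (congrFun e2 0) 0
    simpa using this.symm
  have hc1 : (c : F) = 1 := by rw [← h3, pow_succ, hc2, one_mul]
  rw [hc1, one_smul] at e
  exact mul_inv_eq_iff_eq_mul.1 (Units.ext e)

theorem isT_sq {z a : Fin 3 → F} (h : IsT P z a) : tv z a h.1.dot * tv z a h.1.dot = 1 := by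
  conv_lhs => arg 1; rw [← tv_inv z a h.1.dot]
  exact inv_mul_cancel _

/-- Commuting transvections are incident. -/
theorem incident_of_commute {z a w f : Fin 3 → F} (h1 : IsT P z a) (h2 : IsT P w f)
    (h : tvMat z a * tvMat w f = tvMat w f * tvMat z a) : a ⬝ᵥ w = 0 ∨ f ⬝ᵥ z = 0 := by
  by_contra hno
  push Not at hno
  obtain ⟨hα, hβ⟩ := hno
  have e := congrArg (· *ᵥ w) h
  simp only [← mulVec_mulVec, tvMat_mulVec, h2.1.dot, zero_smul, add_zero, dotProduct_add, dotProduct_smul,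
    smul_eq_mul, zero_add, add_assoc] at e
  rw [add_right_inj, left_eq_add] at e
  obtain ⟨i, hi⟩ := Function.ne_iff.1 h2.2.1
  have := congrFun e i
  rw [Pi.smul_apply, Pi.zero_apply, smul_eq_mul] at this
  exact mul_ne_zero (mul_ne_zero hα hβ) hi this

/-- Without half incidence commuting transvections coincide. -/
theorem eq_of_commute (hU : Unital P) (hS : Small P) [Fintype F] {z a w f : Fin 3 → F} (h1 : IsT P z a)
    (h2 : IsT P w f) (h : tvMat z a * tvMat w f = tvMat w f * tvMat z a) : tvMat w f = tvMat z a := by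
  have hfz : f ⬝ᵥ z = 0 := by
    rcases incident_of_commute h1 h2 h with e | e
    · exact hU.no_half h2 h1 e
    · exact e
  obtain ⟨⟨k, hk⟩, l, hl⟩ := hU.same h1 h2 hfz
  have h3 : InT P z ((k * l) • a) := by
    rw [← smul_smul, ← hl]
    exact (InT.scale_iff hfz).1 (hk ▸ h2.1)
  rcases hS z a h1 _ h3 with e | e
  · rcases mul_eq_zero.1 e with e | e
    · exact absurd (by rw [hk, e, zero_smul]) h2.2.1
    · exact absurd (by rw [hl, e, zero_smul]) h2.2.2
  · rw [hk, tvMat_smul, hl, smul_smul, e, one_smul]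

/-- The three roots in normal position. -/
def Roots (P : Subgroup (GL (Fin 3) F)) : Prop :=
  InT P (E 0) (E 1) ∧ InT P (E 1) (E 2) ∧ InT P (E 0) (E 2)

/-- Zero or one. -/
def Bit (x : F) : Prop := x = 0 ∨ x = 1

theorem Bit.add {x y : F} (hx : Bit x) (hy : Bit y) : Bit (x + y) := by
  rcases hx with rfl | rfl <;> rcases hy with rfl | rfl <;> simp [Bit, CharTwo.add_self_eq_zero]

theorem Bit.mem {x : F} (hx : Bit x) (K : Subfield F) : x ∈ K := by
  rcases hx with rfl | rfl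
  · exact K.zero_mem
  · exact K.one_mem

variable [Fintype F]

/-- A basis adapted to a half incident pair and one transvection opposite to the middle root. -/
theorem flag_frame (hfl : Flag P) (hP : HasOpp P) :
    ∃ g : GL (Fin 3) F, Roots (P.map (MulAut.conj g⁻¹).toMonoidHom) ∧
      ∃ z₁ f, IsT (P.map (MulAut.conj g⁻¹).toMonoidHom) ![0, z₁, 1] f ∧ f 0 ≠ 0 := by
  classical
  obtain ⟨z, a, w, f, hza, hwf, hfz, haw⟩ := hfl
  obtain ⟨w₁, hw₁⟩ : ∃ w₁, w₁ = (a ⬝ᵥ w)⁻¹ • w := ⟨_, rfl⟩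
  obtain ⟨f₁, hf₁⟩ : ∃ f₁, f₁ = (a ⬝ᵥ w) • f := ⟨_, rfl⟩
  have h12 : InT P w₁ f₁ := by
    have := hwf.1.rescale (inv_ne_zero haw)
    rwa [inv_inv, ← hw₁, ← hf₁] at this
  have haw₁ : a ⬝ᵥ w₁ = 1 := by rw [hw₁, dotProduct_smul, smul_eq_mul, inv_mul_cancel₀ haw]
  have hfz₁ : f₁ ⬝ᵥ z = 0 := by rw [hf₁, smul_dotProduct, hfz, smul_zero]
  have h02 : InT P z f₁ := by
    have := hza.1.trans hwf.1 hfz
    rwa [← hf₁] at this
  have hf₁0 : f₁ ≠ 0 := hf₁ ▸ smul_ne_zero haw hwf.2.2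
  obtain ⟨d, b, hdb, hd, hbz⟩ := hP z f₁ ⟨h02, hza.2.1, hf₁0⟩
  obtain ⟨e, he⟩ : ∃ e, e = d + (a ⬝ᵥ d) • w₁ := ⟨_, rfl⟩
  have hae : a ⬝ᵥ e = 0 := by
    rw [he, dotProduct_add, dotProduct_smul, haw₁, smul_eq_mul, mul_one, CharTwo.add_self_eq_zero]
  have hfe : f₁ ⬝ᵥ e = 1 := by rw [he, dotProduct_add, dotProduct_smul, h12.dot, smul_zero, add_zero, hd]
  -- move the third vector along the first
  obtain ⟨e', he'⟩ : ∃ e', e' = e + ((b ⬝ᵥ e + (a ⬝ᵥ d) * (b ⬝ᵥ w₁)) / (b ⬝ᵥ z)) • z := ⟨_, rfl⟩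
  have hae' : a ⬝ᵥ e' = 0 := by rw [he', dotProduct_add, dotProduct_smul, hza.1.dot, smul_zero, add_zero, hae]
  have hfe' : f₁ ⬝ᵥ e' = 1 := by rw [he', dotProduct_add, dotProduct_smul, hfz₁, smul_zero, add_zero, hfe]
  have hde : d = (a ⬝ᵥ d) • w₁ + e' := by
    have hb : b ⬝ᵥ e + (a ⬝ᵥ d) * (b ⬝ᵥ w₁) = 0 := by
      rw [he, dotProduct_add, dotProduct_smul, hdb.dot, zero_add, smul_eq_mul, CharTwo.add_self_eq_zero]
    rw [he', hb, zero_div, zero_smul, add_zero, he, add_comm d, ← add_assoc, add_self', zero_add]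
  let M : Matrix (Fin 3) (Fin 3) F := Matrix.of fun i j => (![z, w₁, e'] j) i
  have hM : ∀ x : Fin 3 → F, M *ᵥ x = x 0 • z + x 1 • w₁ + x 2 • e' := fun x => by
    ext i; simp [M, mulVec, dotProduct, Fin.sum_univ_three]; ring
  have hdet : M.det ≠ 0 := by
    intro h0
    obtain ⟨x, hx0, hx⟩ := Matrix.exists_mulVec_eq_zero_iff.2 h0
    rw [hM] at hx
    have h1 := congrArg (a ⬝ᵥ ·) hx
    have h2 := congrArg (f₁ ⬝ᵥ ·) hx
    simp [dotProduct_add, dotProduct_smul, hza.1.dot, haw₁, hae', hfz₁, h12.dot, hfe'] at h1 h2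
    rw [h1, h2, zero_smul, zero_smul, add_zero, add_zero, smul_eq_zero] at hx
    refine hx0 (funext fun i => ?_)
    fin_cases i
    · exact hx.resolve_right hza.2.1
    · exact h1
    · exact h2
  obtain ⟨g, hg⟩ : ∃ g : GL (Fin 3) F, g = Matrix.GeneralLinearGroup.mkOfDetNeZero M hdet := ⟨_, rfl⟩
  have hgv : ∀ x : Fin 3 → F, (g : Matrix (Fin 3) (Fin 3) F) *ᵥ x = x 0 • z + x 1 • w₁ + x 2 • e' := fun x => by
    rw [hg]; exact hM x
  have hga : a ᵥ* (g : Matrix (Fin 3) (Fin 3) F) = E 1 := by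
    ext j
    rw [hg]
    show a ⬝ᵥ (fun i => M i j) = _
    fin_cases j <;> simp [M, E, hza.1.dot, haw₁, hae']
  have hgf : f₁ ᵥ* (g : Matrix (Fin 3) (Fin 3) F) = E 2 := by
    ext j
    rw [hg]
    show f₁ ⬝ᵥ (fun i => M i j) = _
    fin_cases j <;> simp [M, E, hfz₁, h12.dot, hfe']
  have hback : ∀ {w v : Fin 3 → F}, w ᵥ* (g : Matrix (Fin 3) (Fin 3) F) = v →
      v ᵥ* ((g⁻¹ : GL (Fin 3) F) : Matrix (Fin 3) (Fin 3) F) = w := fun {w v} e => by
    rw [← e, vecMul_vecMul, ← Units.val_mul, mul_inv_cancel, Units.val_one, vecMul_one]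
  refine ⟨g, ⟨?_, ?_, ?_⟩, a ⬝ᵥ d, b ᵥ* (g : Matrix (Fin 3) (Fin 3) F), ?_, ?_⟩
  · rw [inT_map, hgv, hback hga]; simpa [E] using hza.1
  · rw [inT_map, hgv, hback hgf]; simpa [E] using h12
  · rw [inT_map, hgv, hback hgf]; simpa [E] using h02
  · have hv : IsT P d b := ⟨hdb, fun e => by simp [e] at hd, fun e => hbz (by rw [e, zero_dotProduct])⟩
    have := isT_unmap (g := g) hv
    rwa [show ((g⁻¹ : GL (Fin 3) F) : Matrix (Fin 3) (Fin 3) F) *ᵥ d = ![0, a ⬝ᵥ d, 1] by
      conv_lhs => arg 2; rw [show d = (g : Matrix (Fin 3) (Fin 3) F) *ᵥ ![0, a ⬝ᵥ d, 1] by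
        rw [hgv]; simpa using hde]
      rw [mulVec_mulVec, ← Units.val_mul, inv_mul_cancel, Units.val_one, one_mulVec]] at this
  · rw [hg]
    show b ⬝ᵥ (fun i => M i 0) ≠ 0
    simpa [M] using hbz

/-- Centres on the axis of the middle root. -/
theorem Roots.centre (hR : Roots P) (hS : Small P) {y : Fin 3 → F} (hy : InT P y (E 2)) :
    Bit (y 0) ∧ Bit (y 1) ∧ y 2 = 0 := by
  have h02 : IsT P (E 0) (E 2) := ⟨hR.2.2, E_ne 0, E_ne 2⟩
  have hy2 : y 2 = 0 := by simpa [E_dot] using hy.dot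
  have h1 : Bit (y 1) := hS _ _ h02 _ (by
    have := hR.1.trans hy (by rw [E_dot, E_apply_ne (by decide)])
    rwa [E_dot] at this)
  refine ⟨?_, h1, hy2⟩
  have key : ∀ y : Fin 3 → F, InT P y (E 2) → y 1 = 0 → y 2 = 0 → Bit (y 0) := fun y hy h1 h2 => by
    refine hS _ _ h02 _ ?_
    rw [← InT.scale_iff h02.1.dot]
    rwa [show y 0 • E 0 = y by ext i; fin_cases i <;> simp [E, h1, h2]]
  rcases h1 with h1 | h1
  · exact key y hy h1 hy2
  · simpa [E] using key (y + E 1) (hy.add_left hR.2.1) (by simp [E, h1, CharTwo.add_self_eq_zero]) (by simp [E, hy2])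

/-- Axes at the centre of the middle root. -/
theorem Roots.axis (hR : Roots P) (hS : Small P) {a : Fin 3 → F} (ha : InT P (E 0) a) :
    a 0 = 0 ∧ Bit (a 1) ∧ Bit (a 2) := by
  have h02 : IsT P (E 0) (E 2) := ⟨hR.2.2, E_ne 0, E_ne 2⟩
  have ha0 : a 0 = 0 := by simpa [dot_E] using ha.dot
  have h1 : Bit (a 1) := hS _ _ h02 _ (by
    have := ha.trans hR.2.1 (by rw [E_dot, E_apply_ne (by decide)])
    rwa [dot_E] at this)
  refine ⟨ha0, h1, ?_⟩
  have key : ∀ a : Fin 3 → F, InT P (E 0) a → a 0 = 0 → a 1 = 0 → Bit (a 2) := fun a ha h0 h1 => by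
    refine hS _ _ h02 _ ?_
    rwa [show a 2 • E 2 = a by ext i; fin_cases i <;> simp [E, h0, h1]]
  rcases h1 with h1 | h1
  · exact key a ha ha0 h1
  · simpa [E] using key (a + E 1) (ha.add_right hR.1) (by simp [E, ha0]) (by simp [E, h1, CharTwo.add_self_eq_zero])

/-- The unitriangular matrix. -/
def uni (a c q : F) : Matrix (Fin 3) (Fin 3) F := !![1, a, q; 0, 1, c; 0, 0, 1]

theorem uni_mul (a c q a' c' q' : F) : uni a c q * uni a' c' q' = uni (a + a') (c + c') (q' + a * c' + q) := by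
  rw [uni, uni, uni]
  ext i j
  fin_cases i <;> fin_cases j <;> simp [Matrix.mul_apply, Fin.sum_univ_three, add_comm]

theorem tvMat_01 : tvMat (E 0) (E 1) = uni (1 : F) 0 0 := by
  ext i j; fin_cases i <;> fin_cases j <;> simp [tvMat, uni, E, vecMulVec_apply]

theorem tvMat_12 : tvMat (E 1) (E 2) = uni (0 : F) 1 0 := by
  ext i j; fin_cases i <;> fin_cases j <;> simp [tvMat, uni, E, vecMulVec_apply]

theorem tvMat_02 (x : F) : tvMat (E 0) (x • E 2) = uni 0 0 x := by
  ext i j; fin_cases i <;> fin_cases j <;> simp [tvMat, uni, E, vecMulVec_apply]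

theorem exists_uni (hR : Roots P) {a c q : F} (ha : Bit a) (hc : Bit c) (hq : Bit q) :
    ∃ x ∈ P, (x : Matrix (Fin 3) (Fin 3) F) = uni a c q := by
  have h0 : ∃ x ∈ P, (x : Matrix (Fin 3) (Fin 3) F) = uni 0 0 0 :=
    ⟨1, one_mem P, by ext i j; fin_cases i <;> fin_cases j <;> simp [uni]⟩
  have step : ∀ {a c q a' c' q' : F}, (∃ x ∈ P, (x : Matrix (Fin 3) (Fin 3) F) = uni a c q) →
      (∃ x ∈ P, (x : Matrix (Fin 3) (Fin 3) F) = uni a' c' q') →
      ∃ x ∈ P, (x : Matrix (Fin 3) (Fin 3) F) = uni (a + a') (c + c') (q' + a * c' + q) := by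
    rintro a c q a' c' q' ⟨x, hx, ex⟩ ⟨y, hy, ey⟩
    exact ⟨x * y, mul_mem hx hy, by rw [Units.val_mul, ex, ey, uni_mul]⟩
  have hA : ∃ x ∈ P, (x : Matrix (Fin 3) (Fin 3) F) = uni a 0 0 := by
    rcases ha with rfl | rfl
    · exact h0
    · exact ⟨_, hR.1.mem, by rw [coe_tv, tvMat_01]⟩
  have hC : ∃ x ∈ P, (x : Matrix (Fin 3) (Fin 3) F) = uni 0 c 0 := by
    rcases hc with rfl | rfl
    · exact h0
    · exact ⟨_, hR.2.1.mem, by rw [coe_tv, tvMat_12]⟩
  have hQ : ∃ x ∈ P, (x : Matrix (Fin 3) (Fin 3) F) = uni 0 0 q := by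
    rcases hq with rfl | rfl
    · exact h0
    · exact ⟨_, hR.2.2.mem, by rw [coe_tv, ← one_smul F (E 2), tvMat_02]⟩
  simpa using step hQ (step hC hA)

/-- The centraliser of the middle root. -/
theorem centraliser_shape (hSL : P ≤ specialLinear (Fin 3) F) (hR : Roots P) (hS : Small P) {x : GL (Fin 3) F}
    (hx : x ∈ P) (hc : (x : Matrix (Fin 3) (Fin 3) F) * tvMat (E 0) (E 2) =
      tvMat (E 0) (E 2) * (x : Matrix (Fin 3) (Fin 3) F)) :
    ∃ l a c q : F, l ^ 3 = 1 ∧ Bit a ∧ Bit c ∧ Bit q ∧ (x : Matrix (Fin 3) (Fin 3) F) = l • uni a c q := by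
  classical
  obtain ⟨A, hA⟩ : ∃ A, A = (x : Matrix (Fin 3) (Fin 3) F) := ⟨_, rfl⟩
  rw [← hA] at hc ⊢
  have e := fun i j => congrFun (congrFun hc i) j
  have h22 : A 2 2 = A 0 0 := by
    have := e 0 2
    simp [tvMat, Matrix.mul_apply, Fin.sum_univ_three, E, vecMulVec_apply] at this
    linear_combination -this
  have h10 : A 1 0 = 0 := by
    have := e 1 2
    simp [tvMat, Matrix.mul_apply, Fin.sum_univ_three, E, vecMulVec_apply] at this
    linear_combination this
  have h20 : A 2 0 = 0 := by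
    have := e 0 0
    simp [tvMat, Matrix.mul_apply, Fin.sum_univ_three, E, vecMulVec_apply] at this
    linear_combination this
  have h21 : A 2 1 = 0 := by
    have := e 0 1
    simp [tvMat, Matrix.mul_apply, Fin.sum_univ_three, E, vecMulVec_apply] at this
    linear_combination this
  obtain ⟨l, hl⟩ : ∃ l, l = A 0 0 := ⟨_, rfl⟩
  have hdet : l * l * A 1 1 = 1 := by
    have hd : A.det = 1 := hA ▸ congrArg Units.val (MonoidHom.mem_ker.1 (hSL hx))
    simp [Matrix.det_fin_three, h10, h20, h21, h22, ← hl] at hd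
    linear_combination hd
  have hl0 : l ≠ 0 := fun e0 => by simp [e0] at hdet
  have hm0 : A 1 1 ≠ 0 := fun e0 => by simp [e0] at hdet
  -- the conjugate of the root `(1, 2)`
  have h12 := hR.2.1.conj hx
  have ea : (E 2 : Fin 3 → F) ᵥ* ((x⁻¹ : GL (Fin 3) F) : Matrix (Fin 3) (Fin 3) F) = l⁻¹ • E 2 := by
    have h : (l⁻¹ • E 2 : Fin 3 → F) ᵥ* (x : Matrix (Fin 3) (Fin 3) F) = E 2 := by
      rw [← hA, smul_vecMul]
      ext j
      fin_cases j <;> simp [E, h20, h21, h22, ← hl, inv_mul_cancel₀ hl0]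
    have := congrArg (· ᵥ* ((x⁻¹ : GL (Fin 3) F) : Matrix (Fin 3) (Fin 3) F)) h
    simpa [vecMul_vecMul, ← Units.val_mul] using this.symm
  rw [ea, ← hA] at h12
  obtain ⟨b0, b1, -⟩ := hR.centre hS (y := l⁻¹ • (A *ᵥ E 1)) ((InT.scale_iff (by
    have := h12.dot
    rwa [smul_dotProduct, smul_eq_mul, mul_eq_zero, or_iff_right (inv_ne_zero hl0)] at this)).2 h12)
  simp [E] at b0 b1
  have hm : A 1 1 = l := by
    rcases b1 with b1 | b1
    · exact absurd b1 (mul_ne_zero (inv_ne_zero hl0) hm0)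
    · exact ((inv_mul_eq_one₀ hl0).1 b1).symm
  have hl3 : l ^ 3 = 1 := by rw [← hdet, hm]; ring
  -- the conjugate of the root `(0, 1)`
  have h01 := hR.1.conj hx
  rw [← hA] at h01
  obtain ⟨a', ha'⟩ : ∃ a', a' = l • ((E 1 : Fin 3 → F) ᵥ* ((x⁻¹ : GL (Fin 3) F) : Matrix (Fin 3) (Fin 3) F)) :=
    ⟨_, rfl⟩
  have hcol : A *ᵥ E 0 = l • E 0 := by
    ext i; fin_cases i <;> simp [E, h10, h20, ← hl]
  rw [hcol] at h01
  have h01' : InT P (E 0) a' := by
    rw [ha']
    refine h01.smul_left ?_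
    have := h01.dot
    rwa [dotProduct_smul, smul_eq_mul, mul_eq_zero, or_iff_right hl0] at this
  obtain ⟨c0, c1, c2⟩ := hR.axis hS h01'
  have hax : a' ᵥ* A = l • E 1 := by
    rw [ha', hA, smul_vecMul, vecMul_vecMul, ← Units.val_mul, inv_mul_cancel, Units.val_one, vecMul_one]
  have x1 := congrFun hax 1
  have x2 := congrFun hax 2
  simp [vecMul, dotProduct, Fin.sum_univ_three, E, c0, h21, h22, ← hl, hm] at x1 x2
  have hc1 : a' 1 = 1 := by
    refine mul_right_cancel₀ hl0 ?_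
    rw [one_mul]
    exact x1
  rw [hc1, one_mul] at x2
  have hB : A 1 2 = a' 2 * l := CharTwo.add_eq_zero.1 x2
  obtain ⟨q, hq⟩ : ∃ q, q = A 0 2 / l := ⟨_, rfl⟩
  obtain ⟨a, ha⟩ : ∃ a, a = l⁻¹ * A 0 1 := ⟨_, rfl⟩
  rw [← ha] at b0
  have hform : A = l • uni a (a' 2) q := by
    ext i j
    fin_cases i <;> fin_cases j <;>
      simp [uni, h10, h20, h21, h22, ← hl, hm, hB, ha, hq, mul_inv_cancel_left₀ hl0, mul_div_cancel₀ _ hl0, mul_comm]
  refine ⟨l, a, a' 2, q, hl3, b0, c2, ?_, hform⟩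
  obtain ⟨y, hy, ey⟩ := exists_uni hR b0 c2 (Or.inl rfl : Bit (0 : F))
  have hz : ((x * y⁻¹ : GL (Fin 3) F) : Matrix (Fin 3) (Fin 3) F) = l • uni 0 0 q := by
    have e1 : uni 0 0 q * uni a (a' 2) 0 = uni a (a' 2) q := by rw [uni_mul]; simp
    rw [Units.val_mul, ← hA, hform, ← e1, ← ey, smul_mul, mul_assoc, ← Units.val_mul, mul_inv_cancel, Units.val_one,
      mul_one]
  have h3 : ((x * y⁻¹) ^ 3 : GL (Fin 3) F).1 = tvMat (E 0) (q • E 2) := by
    rw [Units.val_pow_eq_pow_val, hz, smul_pow, hl3, one_smul, pow_succ, sq, uni_mul, uni_mul, tvMat_02]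
    congr 1 <;> simp
    linear_combination q * CharTwo.two_eq_zero (R := F)
  refine hS _ _ ⟨hR.2.2, E_ne 0, E_ne 2⟩ _ ⟨by simp [E], ?_⟩
  convert pow_mem (mul_mem hx (inv_mem hy)) 3
  exact Units.ext (by rw [coe_tv, h3])

/-- All transvections are rational over a field containing the products of pairs. -/
theorem rational_of_kappa (hSL : P ≤ specialLinear (Fin 3) F) (hR : Roots P) (hS : Small P) {z₁ : F}
    {f : Fin 3 → F} (hv : IsT P ![0, z₁, 1] f) (hf0 : f 0 ≠ 0) (K : Subfield F)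
    (hK : ∀ z a w f, IsT P z a → IsT P w f → (a ⬝ᵥ w) * (f ⬝ᵥ z) ∈ K) :
    ∀ y g, IsT P y g → ∀ i j, y i * g j ∈ K := by
  classical
  have t01 : IsT P (E 0) (E 1) := ⟨hR.1, E_ne 0, E_ne 1⟩
  have t12 : IsT P (E 1) (E 2) := ⟨hR.2.1, E_ne 1, E_ne 2⟩
  have t02 : IsT P (E 0) (E 2) := ⟨hR.2.2, E_ne 0, E_ne 2⟩
  have k01 : ∀ {y g}, IsT P y g → y 1 * g 0 ∈ K := fun {y g} h => by
    simpa [E_dot, dot_E] using hK _ _ _ _ t01 h
  have k12 : ∀ {y g}, IsT P y g → y 2 * g 1 ∈ K := fun {y g} h => by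
    simpa [E_dot, dot_E] using hK _ _ _ _ t12 h
  have k02 : ∀ {y g}, IsT P y g → y 2 * g 0 ∈ K := fun {y g} h => by
    simpa [E_dot, dot_E] using hK _ _ _ _ t02 h
  have hf0K : f 0 ∈ K := by simpa using k02 hv
  have hz1 : z₁ ∈ K := by
    have := K.div_mem (k01 hv) hf0K
    simpa [mul_div_cancel_right₀ _ hf0] using this
  have hf1 : f 1 ∈ K := by simpa using k12 hv
  have hf2 : f 2 = f 1 * z₁ := by
    have := hv.1.dot
    simp [dotProduct, Fin.sum_univ_three] at this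
    exact (CharTwo.add_eq_zero.1 this).symm
  -- two conjugates of the fixed transvection
  have e01 : (E 1 : Fin 3 → F) ⬝ᵥ ![0, z₁, 1] = z₁ := by simp [E]
  have e10 : f ⬝ᵥ E 0 = f 0 := by simp [E]
  have v1 : IsT P (![0, z₁, 1] + z₁ • E 0) (f + f 0 • E 1) := by
    have := hv.1.conj_tv hR.1
    rw [e01, e10] at this
    exact ⟨this, fun e => by simpa [E] using congrFun e 2, fun e => hf0 (by simpa [E] using congrFun e 0)⟩
  have v2 : IsT P (![0, z₁, 1] + E 1) (f + f 1 • E 2) := by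
    have := hv.1.conj_tv hR.2.1
    rw [show (E 2 : Fin 3 → F) ⬝ᵥ ![0, z₁, 1] = 1 by simp [E], one_smul, dot_E] at this
    exact ⟨this, fun e => by simpa [E] using congrFun e 2, fun e => hf0 (by simpa [E] using congrFun e 0)⟩
  -- the pairings with them
  have p0 : ∀ {y g}, IsT P y g → (f 0 * y 0 + f 1 * y 1 + f 2 * y 2) * (g 1 * z₁ + g 2) ∈ K := fun {y g} h => by
    simpa [dotProduct, Fin.sum_univ_three] using hK _ _ _ _ hv h
  have p1 : ∀ {y g}, IsT P y g → (f 0 * y 0 + f 1 * y 1 + f 2 * y 2 + f 0 * y 1) *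
      (g 1 * z₁ + g 2 + g 0 * z₁) ∈ K := fun {y g} h => by
    have := hK _ _ _ _ v1 h
    simp [dotProduct, Fin.sum_univ_three, E] at this
    convert this using 1
    ring
  have p2 : ∀ {y g}, IsT P y g → (f 0 * y 0 + f 1 * y 1 + f 2 * y 2 + f 1 * y 2) *
      (g 1 * z₁ + g 2 + g 1) ∈ K := fun {y g} h => by
    have := hK _ _ _ _ v2 h
    simp [dotProduct, Fin.sum_univ_three, E] at this
    convert this using 1
    ring
  have hdot : ∀ {y g}, IsT P y g → g 0 * y 0 + g 1 * y 1 + g 2 * y 2 = 0 := fun {y g} h => by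
    simpa [dotProduct, Fin.sum_univ_three] using h.1.dot
  intro y g hyg
  by_cases h2 : y 2 = 0
  · by_cases h0 : g 0 = 0
    · -- in the centraliser of the middle root
      have hcm : tvMat y g * tvMat (E 0) (E 2) = tvMat (E 0) (E 2) * tvMat y g := by
        simp only [tvMat, mul_add, add_mul, one_mul, mul_one, vecMulVec_mul_vecMulVec, E_dot, dot_E, h2, h0,
          zero_smul, vecMulVec_zero]
        abel
      obtain ⟨l, a, c, q, -, ha, hc, hq, e⟩ := centraliser_shape hSL hR hS hyg.1.mem (by rwa [coe_tv])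
      rw [coe_tv] at e
      have e' := fun i j => congrFun (congrFun e i) j
      have h00 := e' 0 0
      simp [tvMat, uni, vecMulVec_apply, h0] at h00
      intro i j
      have hij := e' i j
      rw [← h00, one_smul, tvMat, Matrix.add_apply, vecMulVec_apply] at hij
      have hu : uni a c q i j ∈ K := by
        fin_cases i <;> fin_cases j <;> simp [uni, ha.mem K, hc.mem K, hq.mem K]
      have h1 : (1 : Matrix (Fin 3) (Fin 3) F) i j ∈ K := by
        rw [Matrix.one_apply]; split_ifs <;> simp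
      rw [eq_sub_of_add_eq' hij]
      exact K.sub_mem hu h1
    · -- the middle root gives a centre on its axis
      have hm := hyg.1.trans hR.2.2 (by rw [E_dot, h2])
      rw [dot_E, ← InT.scale_iff (show (E 2 : Fin 3 → F) ⬝ᵥ y = 0 by rw [E_dot, h2])] at hm
      obtain ⟨b0, b1, -⟩ := hR.centre hS hm
      rw [Pi.smul_apply, smul_eq_mul] at b0 b1
      have hr : IsT P (g 0 • y) ((g 0)⁻¹ • g) :=
        ⟨hyg.1.rescale h0, smul_ne_zero h0 hyg.2.1, smul_ne_zero (inv_ne_zero h0) hyg.2.2⟩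
      have hd := hdot hr
      simp [h0, h2] at hd
      have hb1 : g 0 * y 1 = 1 := by
        refine b1.resolve_left fun e => ?_
        have hy1 : y 1 = 0 := (mul_eq_zero.1 e).resolve_left h0
        simp [hy1] at hd
        exact hyg.2.1 (funext fun i => by fin_cases i <;> simp_all)
      have hb0 := b0.mem K
      have hg1 : (g 0)⁻¹ * g 1 = g 0 * y 0 := by
        rw [hb1, mul_one] at hd
        exact (CharTwo.add_eq_zero.1 hd).symm
      have hg2 : (g 0)⁻¹ * g 2 ∈ K := by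
        have q0 := p0 hr
        have q1 := p1 hr
        simp [h0, h2, hb1, hg1] at q0 q1
        by_cases hL : f 0 * (g 0 * y 0) + f 1 = 0
        · rw [hL, zero_add] at q1
          have := K.sub_mem (K.sub_mem (K.div_mem q1 hf0K) hz1) (K.mul_mem hb0 hz1)
          rw [mul_div_cancel_left₀ _ hf0] at this
          convert this using 1
          ring
        · have hLK : f 0 * (g 0 * y 0) + f 1 ∈ K := K.add_mem (K.mul_mem hf0K hb0) hf1
          have := K.sub_mem (K.div_mem q0 hLK) (K.mul_mem hb0 hz1)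
          rw [mul_div_cancel_left₀ _ hL, add_sub_cancel_left] at this
          exact this
      have hy : ∀ i, g 0 * y i ∈ K := fun i => by
        fin_cases i
        · exact hb0
        · simp [hb1]
        · simp [h2]
      have hg : ∀ j, (g 0)⁻¹ * g j ∈ K := fun j => by
        fin_cases j
        · simp [h0]
        · simp [hg1, hb0]
        · exact hg2
      intro i j
      have := K.mul_mem (hy i) (hg j)
      rwa [mul_mul_mul_comm, mul_inv_cancel₀ h0, one_mul] at this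
  · by_cases h0 : g 0 = 0
    · -- dually
      have hm := hR.2.2.trans hyg.1 (by rw [dot_E, h0])
      rw [E_dot] at hm
      obtain ⟨-, b1, b2⟩ := hR.axis hS hm
      rw [Pi.smul_apply, smul_eq_mul] at b1 b2
      have hr : IsT P ((y 2)⁻¹ • y) ((y 2) • g) :=
        ⟨by have := hyg.1.rescale (inv_ne_zero h2); rwa [inv_inv] at this,
          smul_ne_zero (inv_ne_zero h2) hyg.2.1, smul_ne_zero h2 hyg.2.2⟩
      have hd := hdot hr
      simp [h0, h2] at hd
      have hb1 : y 2 * g 1 = 1 := by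
        refine b1.resolve_left fun e => ?_
        have hg1 : g 1 = 0 := (mul_eq_zero.1 e).resolve_left h2
        simp [hg1, h2] at hd
        exact hyg.2.2 (funext fun i => by fin_cases i <;> simp_all)
      have hb2 := b2.mem K
      have hy1 : (y 2)⁻¹ * y 1 = y 2 * g 2 := by
        rw [hb1, one_mul] at hd
        exact CharTwo.add_eq_zero.1 hd
      have hy0 : (y 2)⁻¹ * y 0 ∈ K := by
        have q0 := p0 hr
        have q2 := p2 hr
        simp [h0, h2, hb1, hy1] at q0 q2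
        have hc : f 1 * (y 2 * g 2) + f 2 ∈ K := K.add_mem (K.mul_mem hf1 hb2) (hf2 ▸ K.mul_mem hf1 hz1)
        by_cases hM : z₁ + y 2 * g 2 = 0
        · rw [hM, zero_add, mul_one] at q2
          have := K.div_mem (K.sub_mem (K.sub_mem q2 hf1) hc) hf0K
          convert this using 1
          field_simp
          ring
        · have := K.div_mem (K.sub_mem (K.div_mem q0 (K.add_mem hz1 hb2)) hc) hf0K
          rw [mul_div_cancel_right₀ _ hM] at this
          convert this using 1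
          field_simp
          ring
      have hy : ∀ i, (y 2)⁻¹ * y i ∈ K := fun i => by
        fin_cases i
        · exact hy0
        · simp [hy1, hb2]
        · simp [h2]
      have hg : ∀ j, y 2 * g j ∈ K := fun j => by
        fin_cases j
        · simp [h0]
        · simp [hb1]
        · exact hb2
      intro i j
      have := K.mul_mem (hy i) (hg j)
      rwa [mul_mul_mul_comm, inv_mul_cancel₀ h2, one_mul] at this
    · -- general position: normalise the axis
      have hr : IsT P (g 0 • y) ((g 0)⁻¹ • g) :=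
        ⟨hyg.1.rescale h0, smul_ne_zero h0 hyg.2.1, smul_ne_zero (inv_ne_zero h0) hyg.2.2⟩
      suffices ∀ Y G : Fin 3 → F, IsT P Y G → G 0 = 1 → Y 2 ≠ 0 → (∀ i, Y i ∈ K) ∧ ∀ j, G j ∈ K by
        obtain ⟨hy, hg⟩ := this _ _ hr (by simp [h0]) (by simp [h0, h2])
        intro i j
        have := K.mul_mem (hy i) (hg j)
        rwa [Pi.smul_apply, Pi.smul_apply, smul_eq_mul, smul_eq_mul, mul_mul_mul_comm, mul_inv_cancel₀ h0,
          one_mul] at this
      intro Y G h hG0 hY2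
      have hy1 : Y 1 ∈ K := by have := k01 h; rwa [hG0, mul_one] at this
      have hy2 : Y 2 ∈ K := by have := k02 h; rwa [hG0, mul_one] at this
      have hg1 : G 1 ∈ K := by
        have := K.div_mem (k12 h) hy2
        rwa [mul_div_cancel_left₀ _ hY2] at this
      have hd := hdot h
      rw [hG0, one_mul] at hd
      have hG2 : G 2 = (Y 0 + G 1 * Y 1) / Y 2 := by
        rw [eq_div_iff hY2]; exact (CharTwo.add_eq_zero.1 hd).symm
      have hY0 : Y 0 ∈ K := by
        have q0 := p0 h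
        have q1 := p1 h
        have q2 := p2 h
        rw [hG0, one_mul] at q1
        rw [hG2] at q0 q1 q2
        obtain ⟨c₁, hc₁⟩ : ∃ c, c = f 0 * (Y 1 / Y 2 + z₁) := ⟨_, rfl⟩
        obtain ⟨c₂, hc₂⟩ : ∃ c, c = f 1 + f 0 * G 1 := ⟨_, rfl⟩
        have m1 : Y 0 * c₁ ∈ K := by
          have := K.sub_mem (K.sub_mem q1 q0) (K.add_mem (K.add_mem
            (K.mul_mem (K.mul_mem hf0K hy1) (K.add_mem (K.mul_mem hg1 hz1) (K.div_mem (K.mul_mem hg1 hy1) hy2)))
            (K.mul_mem hz1 (K.add_mem (K.mul_mem hf1 hy1) (K.mul_mem (hf2 ▸ K.mul_mem hf1 hz1) hy2))))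
            (K.mul_mem (K.mul_mem hf0K hy1) hz1))
          convert this using 1
          rw [hc₁]
          field_simp
          ring
        have m2 : Y 0 * c₂ ∈ K := by
          have := K.sub_mem (K.sub_mem q2 q0) (K.add_mem (K.add_mem
            (K.mul_mem (K.mul_mem hf1 hy2) (K.add_mem (K.mul_mem hg1 hz1) (K.div_mem (K.mul_mem hg1 hy1) hy2)))
            (K.mul_mem hg1 (K.add_mem (K.mul_mem hf1 hy1) (K.mul_mem (hf2 ▸ K.mul_mem hf1 hz1) hy2))))
            (K.mul_mem (K.mul_mem hf1 hy2) hg1))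
          convert this using 1
          rw [hc₂]
          field_simp
          ring
        by_cases e1 : c₁ = 0
        swap
        · have := K.div_mem m1 (hc₁ ▸ K.mul_mem hf0K (K.add_mem (K.div_mem hy1 hy2) hz1))
          rwa [mul_div_cancel_right₀ _ e1] at this
        by_cases e2 : c₂ = 0
        swap
        · have := K.div_mem m2 (hc₂ ▸ K.add_mem hf1 (K.mul_mem hf0K hg1))
          rwa [mul_div_cancel_right₀ _ e2] at this
        have hY1 : Y 1 = z₁ * Y 2 := by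
          have e := CharTwo.add_eq_zero.1 ((mul_eq_zero.1 (hc₁ ▸ e1)).resolve_left hf0)
          rw [← e, div_mul_cancel₀ _ hY2]
        have hf1' : f 1 = f 0 * G 1 := CharTwo.add_eq_zero.1 (hc₂ ▸ e2)
        refine sqrt_mem ?_
        have := K.div_mem (K.mul_mem q0 hy2) hf0K
        convert this using 1
        rw [hY1, hf2, hf1', eq_div_iff hf0]
        field_simp
        linear_combination -(z₁ * G 1 * Y 2 * Y 0 + z₁ ^ 2 * G 1 ^ 2 * Y 2 ^ 2) *
          CharTwo.two_eq_zero (R := F) * 2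
      refine ⟨fun i => ?_, fun j => ?_⟩
      · fin_cases i <;> assumption
      · fin_cases j
        · exact hG0 ▸ K.one_mem
        · exact hg1
        · exact hG2 ▸ K.div_mem (K.add_mem hY0 (K.mul_mem hg1 hy1)) hy2

/-- The powers of a product of two transvections on the plane of the centres. -/
theorem pair_pow {z a w f : Fin 3 → F} (ha : a ⬝ᵥ z = 0) (hf : f ⬝ᵥ w = 0) (n : ℕ) :
    ∀ A B : F, (tvMat z a * tvMat w f) ^ n *ᵥ z = A • z + B • w →
      (tvMat z a * tvMat w f) ^ (n + 1) *ᵥ z =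
        ((1 + (a ⬝ᵥ w) * (f ⬝ᵥ z)) * A + (a ⬝ᵥ w) * B) • z + ((f ⬝ᵥ z) * A + B) • w := by
  intro A B h
  rw [pow_succ', ← mulVec_mulVec, h, mulVec_add, mulVec_smul, mulVec_smul, ← mulVec_mulVec, ← mulVec_mulVec,
    tvMat_mulVec w f z, tvMat_mulVec w f w, hf, zero_smul, add_zero, mulVec_add, mulVec_smul, tvMat_mulVec,
    tvMat_mulVec, ha, zero_smul, add_zero]
  module

/-- The product of a pair from the order of the product of the transvections. -/
theorem kappa_of_pow (hSL : P ≤ specialLinear (Fin 3) F) {z a w f : Fin 3 → F} (h1 : IsT P z a) (h2 : IsT P w f)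
    {n : ℕ} (hn : (tv z a h1.1.dot * tv w f h2.1.dot) ^ n ∈ scalars (Fin 3) F)
    (hκ : (a ⬝ᵥ w) * (f ⬝ᵥ z) ≠ 0) (κ : F) (hκ' : κ = (a ⬝ᵥ w) * (f ⬝ᵥ z)) :
    (n = 3 → κ = 1) ∧ (n = 4 → False) ∧ (n = 5 → κ ^ 4 = κ) := by
  have hα : a ⬝ᵥ w ≠ 0 := left_ne_zero_of_mul hκ
  have hβ : f ⬝ᵥ z ≠ 0 := right_ne_zero_of_mul hκ
  obtain ⟨c, hc⟩ := (mem_scalars_iff _).1 hn
  rw [Units.val_pow_eq_pow_val, Units.val_mul, coe_tv, coe_tv] at hc
  -- the common fixed vector
  have ho : crossProduct a f ≠ 0 := by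
    intro e
    obtain ⟨k, hk⟩ := exists_smul_of_cross h2.2.2 e
    rw [hk, smul_dotProduct, h2.1.dot, smul_zero] at hα
    exact hα rfl
  have hfix : ∀ m, (tvMat z a * tvMat w f) ^ m *ᵥ crossProduct a f = crossProduct a f := by
    intro m
    induction m with
    | zero => rw [pow_zero, one_mulVec]
    | succ m ih =>
      rw [pow_succ', ← mulVec_mulVec, ih, ← mulVec_mulVec]
      simp only [tvMat_mulVec, dot_cross_self, dot_self_cross, zero_smul, add_zero]
  have hc1 : (c : F) = 1 := by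
    have := hfix n
    rw [hc, smul_mulVec, one_mulVec] at this
    obtain ⟨i, hi⟩ := Function.ne_iff.1 ho
    have e := congrFun this i
    rw [Pi.smul_apply, smul_eq_mul] at e
    exact mul_right_cancel₀ hi (e.trans (one_mul _).symm)
  have hz : (tvMat z a * tvMat w f) ^ n *ᵥ z = z := by rw [hc, hc1, one_smul, one_mulVec]
  have hzw : ∀ A B : F, A • z + B • w = z → B = 0 := fun A B e => by
    have := congrArg (a ⬝ᵥ ·) e
    simp only [dotProduct_add, dotProduct_smul, h1.1.dot, smul_eq_mul, mul_zero, zero_add] at this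
    exact (mul_eq_zero.1 this).resolve_right hα
  have s0 : (tvMat z a * tvMat w f) ^ 0 *ᵥ z = (1 : F) • z + (0 : F) • w := by simp
  have s1 := pair_pow h1.1.dot h2.1.dot 0 _ _ s0
  have s2 := pair_pow h1.1.dot h2.1.dot 1 _ _ s1
  have s3 := pair_pow h1.1.dot h2.1.dot 2 _ _ s2
  have s4 := pair_pow h1.1.dot h2.1.dot 3 _ _ s3
  have s5 := pair_pow h1.1.dot h2.1.dot 4 _ _ s4
  subst hκ'
  refine ⟨?_, ?_, ?_⟩ <;> intro hn' <;> subst hn'
  · have e := hzw _ _ (s3.symm.trans hz)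
    generalize a ⬝ᵥ w = α at *
    generalize f ⬝ᵥ z = β at *
    have e' : β * ((α * β - 1) * (α * β - 1)) = 0 := by
      linear_combination e - (3 * α * β ^ 2 + β) * CharTwo.two_eq_zero (R := F)
    exact sub_eq_zero.1 (mul_self_eq_zero.1 ((mul_eq_zero.1 e').resolve_left hβ))
  · have e := hzw _ _ (s4.symm.trans hz)
    generalize a ⬝ᵥ w = α at *
    generalize f ⬝ᵥ z = β at *
    have e' : β * (α * β) ^ 3 = 0 := by
      linear_combination e - (2 * β + 5 * α * β ^ 2 + 3 * α ^ 2 * β ^ 3) * CharTwo.two_eq_zero (R := F)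
    exact mul_ne_zero hβ (pow_ne_zero _ hκ) e'
  · have e := hzw _ _ (s5.symm.trans hz)
    generalize a ⬝ᵥ w = α at *
    generalize f ⬝ᵥ z = β at *
    have e' : β * (((α * β) ^ 2 + α * β + 1) * ((α * β) ^ 2 + α * β + 1)) = 0 := by
      linear_combination e - (2 * β + 9 * α * β ^ 2 + 9 * α ^ 2 * β ^ 3 + 3 * α ^ 3 * β ^ 4) * CharTwo.two_eq_zero (R := F)
    have h0 := mul_self_eq_zero.1 ((mul_eq_zero.1 e').resolve_left hβ)
    linear_combination (α * β) * (α * β - 1) * h0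

end Cfsg.Lib.Linear.Mitchell.Even
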