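import Cfsg.Agent.Lib.Linear.Mitchell.EvenSmall
import Cfsg.Agent.Lib.Linear.AutPO.OutShape
import Cfsg.Agent.Lib.Recog.TwoSymFourSix
import Cfsg.Agent.Lib.Schur.AltSixSeven.Bound
import Cfsg.Agent.Lib.ZStar.Main
import Cfsg.Agent.S3035

/-!
The central quotient when all root subgroups have order two: it has an involution with dihedral
centraliser of order eight, so it is `L₃(2)` or `A₆`, and the field has two or four elements.
-/

set_option autoImplicit false
set_option linter.unusedSectionVars false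

open Matrix Cfsg.Geo

namespace Cfsg.Lib.Linear.Mitchell.Even

theorem a6_orders : ∀ g : Equiv.Perm (Fin 6), Equiv.Perm.sign g = 1 → g ^ 3 = 1 ∨ g ^ 4 = 1 ∨ g ^ 5 = 1 := by
  decide +kernel

theorem l32_orders : ∀ g : Matrix (Fin 3) (Fin 3) (ZMod 2), g.det = 1 → g ^ 3 = 1 ∨ g ^ 4 = 1 ∨ g ^ 7 = 1 := by
  decide +kernel

/-- No involution inverts an element of order seven in a simple group of order 168. -/
theorem no_inverted_seven {G : Type*} [Group G] [Finite G] [IsSimpleGroup G] (hG : Nat.card G = 168) {t x : G}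
    (ht : orderOf t = 2) (hx : orderOf x = 7) (hinv : t * x * t⁻¹ = x⁻¹) : False := by
  haveI : Fact (Nat.Prime 7) := ⟨by norm_num⟩
  let H := Subgroup.zpowers x
  have hH : Nat.card H = 7 := by rw [Nat.card_zpowers, hx]
  obtain ⟨S, hS⟩ := (IsPGroup.of_card (n := 1) (by rw [hH, pow_one]) : IsPGroup 7 H).exists_le_sylow
  have hSc : Nat.card (S : Subgroup G) = 7 := by
    rw [S.card_eq_multiplicity, hG, show (168 : ℕ) = 7 * 24 by norm_num,
      Nat.factorization_mul (by norm_num) (by norm_num), Finsupp.add_apply, Nat.Prime.factorization_self (by norm_num),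
      Nat.factorization_eq_zero_of_not_dvd (by norm_num), pow_one]
  have hSH : H = (S : Subgroup G) := Subgroup.eq_of_le_of_card_ge hS (by rw [hSc, hH])
  let N := Subgroup.normalizer ((S : Subgroup G) : Set G)
  have htN : t ∈ N := by
    show t ∈ Subgroup.normalizer ((S : Subgroup G) : Set G)
    rw [← hSH, Subgroup.mem_normalizer_iff_map_conj_eq, MonoidHom.map_zpowers]
    show Subgroup.zpowers (t * x * t⁻¹) = _
    rw [hinv, Subgroup.zpowers_inv]
  have h2 : 2 ∣ Nat.card N := ht ▸ by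
    rw [← Subgroup.orderOf_mk (a := t) (ha := htN)]
    exact orderOf_dvd_natCard _
  have h7 : 7 ∣ Nat.card N := hSc ▸ Subgroup.card_dvd_of_le Subgroup.le_normalizer
  have hmod := card_sylow_modEq_one 7 G
  rw [Sylow.card_eq_index_normalizer S] at hmod
  have hmul := N.card_mul_index
  obtain ⟨k, hk⟩ := Nat.Coprime.mul_dvd_of_dvd_of_dvd (by norm_num) h2 h7
  rw [hG, hk] at hmul
  have hdvd : N.index ∣ 12 := ⟨k, by nlinarith⟩
  have h1 : N.index = 1 := by
    have := Nat.le_of_dvd (by norm_num) hdvd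
    have hm : N.index % 7 = 1 := hmod
    interval_cases h : N.index <;> simp_all
  have hN : N = ⊤ := Subgroup.index_eq_one.1 h1
  have hnorm : (S : Subgroup G).Normal := Subgroup.normalizer_eq_top_iff.1 hN
  rcases hnorm.eq_bot_or_eq_top with e | e
  · rw [e, Subgroup.card_bot] at hSc
    norm_num at hSc
  · rw [e, Subgroup.card_top, hG] at hSc
    norm_num at hSc

variable {F : Type*} [Field F] [Fintype F] [CharP F 2] {P : Subgroup (GL (Fin 3) F)}

theorem Small.map (hS : Small P) {g : GL (Fin 3) F} : Small (P.map (MulAut.conj g⁻¹).toMonoidHom) := by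
  intro z a h x hx
  rw [inT_map, smul_vecMul] at hx
  exact hS _ _ (isT_map.1 h) x hx

theorem map_le_SL (hSL : P ≤ specialLinear (Fin 3) F) {g : GL (Fin 3) F} :
    P.map (MulAut.conj g⁻¹).toMonoidHom ≤ specialLinear (Fin 3) F := by
  rintro _ ⟨x, hx, rfl⟩
  exact (MonoidHom.normal_ker _).conj_mem x (hSL hx) g⁻¹

theorem pairing_map {g : GL (Fin 3) F} (a w : Fin 3 → F) :
    (a ᵥ* ((g⁻¹ : GL (Fin 3) F) : Matrix (Fin 3) (Fin 3) F)) ⬝ᵥ ((g : Matrix (Fin 3) (Fin 3) F) *ᵥ w) = a ⬝ᵥ w := by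
  rw [dotProduct_mulVec, vecMul_vecMul, ← Units.val_mul, inv_mul_cancel, Units.val_one, vecMul_one]

/-- Without half incidence the involutions would be isolated. -/
theorem not_unital (hSL : P ≤ specialLinear (Fin 3) F) (hperf : ⁅P, P⁆ = P)
    (hsimple : IsSimpleGroup (P ⧸ (scalars (Fin 3) F).subgroupOf P))
    (hna : ¬ IsMulCommutative (P ⧸ (scalars (Fin 3) F).subgroupOf P)) (hne : P ≠ ⊥) (hS : Small P) :
    ¬ Unital P := by
  intro hU
  haveI := hsimple
  obtain ⟨z, a, ht⟩ := exists_isT hperf hne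
  let t : P := ⟨tv z a ht.1.dot, ht.1.mem⟩
  have ht2 : t * t = 1 := Subtype.ext (isT_sq ht)
  let τ : P ⧸ (scalars (Fin 3) F).subgroupOf P := QuotientGroup.mk t
  have hτ1 : τ ≠ 1 := fun e => ht.not_scalar (Subgroup.mem_subgroupOf.1 ((QuotientGroup.eq_one_iff t).1 e))
  have hτ : orderOf τ = 2 := by
    haveI : Fact (Nat.Prime 2) := ⟨Nat.prime_two⟩
    exact orderOf_eq_prime (by rw [sq, ← QuotientGroup.mk_mul, ht2, QuotientGroup.mk_one]) hτ1
  have hiso : Cfsg.IsIsolatedInvolution τ := by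
    refine ⟨hτ, fun γ hγ => ?_⟩
    obtain ⟨y, rfl⟩ := QuotientGroup.mk_surjective γ
    rw [← QuotientGroup.mk_inv, ← QuotientGroup.mk_mul, ← QuotientGroup.mk_mul] at hγ ⊢
    have hu := ht.1.conj y.2
    obtain ⟨w, hw⟩ : ∃ w, w = ((y : GL (Fin 3) F) : Matrix (Fin 3) (Fin 3) F) *ᵥ z := ⟨_, rfl⟩
    obtain ⟨f, hf⟩ : ∃ f, f = a ᵥ* (((y : GL (Fin 3) F)⁻¹ : GL (Fin 3) F) : Matrix (Fin 3) (Fin 3) F) := ⟨_, rfl⟩
    rw [← hw, ← hf] at hu
    have hwf : IsT P w f := by
      refine ⟨hu, fun e => ht.2.1 ?_, fun e => ht.2.2 ?_⟩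
      · have := congrArg ((((y : GL (Fin 3) F)⁻¹ : GL (Fin 3) F) : Matrix (Fin 3) (Fin 3) F) *ᵥ ·) (hw.symm.trans e)
        simpa [mulVec_mulVec, ← Units.val_mul] using this
      · have := congrArg (· ᵥ* ((y : GL (Fin 3) F) : Matrix (Fin 3) (Fin 3) F)) (hf.symm.trans e)
        simpa [vecMul_vecMul, ← Units.val_mul] using this
    have hval : ((y * t * y⁻¹ : P) : GL (Fin 3) F) = tv w f hwf.1.dot := by
      have hd : f ⬝ᵥ (((y : GL (Fin 3) F) : Matrix (Fin 3) (Fin 3) F) *ᵥ z) = 0 := by rw [← hw]; exact hwf.1.dot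
      have := tv_conj (y : GL (Fin 3) F) z f hd
      rw [Subgroup.coe_mul, Subgroup.coe_mul, Subgroup.coe_inv]
      refine Eq.trans ?_ (this.symm.trans (tv_congr _ _ (by rw [hw])))
      congr 2
      exact tv_congr ht.1.dot _ (by rw [hf, vecMul_vecMul, ← Units.val_mul, inv_mul_cancel, Units.val_one, vecMul_one])
    obtain ⟨u, hu'⟩ : ∃ u : P, u = y * t * y⁻¹ := ⟨_, rfl⟩
    rw [← hu'] at hγ hval ⊢
    have hcomm := commute_of_mod (x := (u : GL (Fin 3) F)) hSL t.2 u.2 (congrArg Subtype.val ht2) (by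
      have : u * t * u⁻¹ * t ∈ (scalars (Fin 3) F).subgroupOf P := by
        rw [← QuotientGroup.eq_one_iff, QuotientGroup.mk_mul, QuotientGroup.mk_mul, QuotientGroup.mk_mul,
          ← hγ.eq, QuotientGroup.mk_inv, mul_inv_cancel_right, ← QuotientGroup.mk_mul, ht2, QuotientGroup.mk_one]
      simpa [Subgroup.mem_subgroupOf] using this)
    have e := eq_of_commute hU hS ht hwf (by
      have := congrArg Units.val hcomm
      rw [hval, Units.val_mul, Units.val_mul] at this
      exact this.symm)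
    exact congrArg QuotientGroup.mk (Subtype.ext (hval.trans (Units.ext e)) : u = t)
  have hO : Cfsg.oddCore (P ⧸ (scalars (Fin 3) F).subgroupOf P) = ⊥ := by
    refine (IsSimpleGroup.eq_bot_or_eq_top_of_normal _ inferInstance).resolve_right fun e => ?_
    have hodd := Cfsg.Lib.ZStar.odd_card_oddCore (G := P ⧸ (scalars (Fin 3) F).subgroupOf P)
    rw [e, Subgroup.card_top] at hodd
    exact Nat.not_even_iff_odd.2 hodd (even_iff_two_dvd.2 (hτ ▸ orderOf_dvd_natCard τ))
  have hc := Cfsg.Lib.ZStar.mem_center_of_isolated hO hiso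
  rcases IsSimpleGroup.eq_bot_or_eq_top_of_normal (Subgroup.center (P ⧸ (scalars (Fin 3) F).subgroupOf P))
    inferInstance with e | e
  · rw [e, Subgroup.mem_bot] at hc
    exact hτ1 hc
  · exact hna ⟨⟨fun u v => (Subgroup.mem_center_iff.1 (e ▸ Subgroup.mem_top v) u)⟩⟩

theorem flag_dual (h : Flag (dual P)) : Flag P := by
  obtain ⟨a, z, f, w, h1, h2, h3, h4⟩ := h
  exact ⟨w, f, z, a, dual_isT.1 h2, dual_isT.1 h1, by rwa [dotProduct_comm], by rwa [dotProduct_comm]⟩

theorem flag_of_not_unital (hirr : ActsIrreducibly (matrixSet P)) (hU : ¬ Unital P) : Flag P := by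
  rw [Unital, not_and_or] at hU
  rcases hU with hU | hU
  · push Not at hU
    obtain ⟨z, a₁, a₂, h1, h2, hne⟩ := hU
    refine flag_dual (flag_of_axis (dual_irreducible hirr) (a₀ := z)
      ⟨h1.2.1, a₁, a₂, dual_isT.2 h1, dual_isT.2 h2, fun e => ?_⟩)
    obtain ⟨k, hk⟩ := exists_smul_of_cross h1.2.2 (x := a₂) (by rw [← cross_anticomm, e, neg_zero])
    exact hne k hk
  · push Not at hU
    obtain ⟨z₁, z₂, a, h1, h2, hne⟩ := hU
    refine flag_of_axis hirr (a₀ := a) ⟨h1.2.2, z₁, z₂, h1, h2, fun e => ?_⟩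
    obtain ⟨k, hk⟩ := exists_smul_of_cross h1.2.1 (x := z₂) (by rw [← cross_anticomm, e, neg_zero])
    exact hne k hk

/-- The central quotient is `L₃(2)` or `A₆`. -/
theorem small_quotient (hSL : P ≤ specialLinear (Fin 3) F)
    (hsimple : IsSimpleGroup (P ⧸ (scalars (Fin 3) F).subgroupOf P))
    (hna : ¬ IsMulCommutative (P ⧸ (scalars (Fin 3) F).subgroupOf P)) (hS : Small P) {g : GL (Fin 3) F}
    (hR : Roots (P.map (MulAut.conj g⁻¹).toMonoidHom)) :
    Nonempty (P ⧸ (scalars (Fin 3) F).subgroupOf P ≃* Matrix.SpecialLinearGroup (Fin 3) (ZMod 2)) ∨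
      Nonempty (P ⧸ (scalars (Fin 3) F).subgroupOf P ≃* alternatingGroup (Fin 6)) := by
  classical
  haveI := hsimple
  have hlift : ∀ {y : GL (Fin 3) F}, y ∈ P.map (MulAut.conj g⁻¹).toMonoidHom → g * y * g⁻¹ ∈ P := by
    rintro _ ⟨x, hx, rfl⟩
    simpa [MulAut.conj_apply, mul_assoc] using hx
  obtain ⟨s₁, hs₁⟩ : ∃ s : P, (s : GL (Fin 3) F) = g * tv (E 0) (E 1) hR.1.dot * g⁻¹ := ⟨⟨_, hlift hR.1.mem⟩, rfl⟩
  obtain ⟨s₂, hs₂⟩ : ∃ s : P, (s : GL (Fin 3) F) = g * tv (E 1) (E 2) hR.2.1.dot * g⁻¹ :=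
    ⟨⟨_, hlift hR.2.1.mem⟩, rfl⟩
  obtain ⟨t, ht⟩ : ∃ s : P, (s : GL (Fin 3) F) = g * tv (E 0) (E 2) hR.2.2.dot * g⁻¹ :=
    ⟨⟨_, hlift hR.2.2.mem⟩, rfl⟩
  have hsq : ∀ {s : P} {z a : Fin 3 → F} (h : InT (P.map (MulAut.conj g⁻¹).toMonoidHom) z a),
      (z ≠ 0 ∧ a ≠ 0) → (s : GL (Fin 3) F) = g * tv z a h.dot * g⁻¹ → s * s = 1 := fun {s z a} h hne e => by
    refine Subtype.ext ?_
    rw [Subgroup.coe_mul, e, conj_mul, isT_sq ⟨h, hne.1, hne.2⟩, mul_one, mul_inv_cancel, Subgroup.coe_one]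
  have ht2 := hsq hR.2.2 ⟨E_ne 0, E_ne 2⟩ ht
  have hs2 := hsq hR.1 ⟨E_ne 0, E_ne 1⟩ hs₁
  let τ : P ⧸ (scalars (Fin 3) F).subgroupOf P := QuotientGroup.mk t
  have hτ1 : τ ≠ 1 := fun e => by
    have h := Subgroup.mem_subgroupOf.1 ((QuotientGroup.eq_one_iff t).1 e)
    rw [ht] at h
    have := scalars_normal.conj_mem _ h g⁻¹
    rw [inv_inv, ← mul_assoc, ← mul_assoc, inv_mul_cancel, one_mul, inv_mul_cancel_right] at this
    exact IsT.not_scalar ⟨hR.2.2, E_ne 0, E_ne 2⟩ this
  have hτ : orderOf τ = 2 := by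
    haveI : Fact (Nat.Prime 2) := ⟨Nat.prime_two⟩
    exact orderOf_eq_prime (by rw [sq, ← QuotientGroup.mk_mul, ht2, QuotientGroup.mk_one]) hτ1
  have hback : ∀ x : P, g⁻¹ * (x : GL (Fin 3) F) * g ∈ P.map (MulAut.conj g⁻¹).toMonoidHom := fun x =>
    ⟨x, x.2, by simp [MulAut.conj_apply]⟩
  -- the centraliser has eight elements
  choose u hu hue using fun p : Fin 2 × Fin 2 × Fin 2 => exists_uni hR
    (a := ((p.1 : ℕ) : F)) (c := ((p.2.1 : ℕ) : F)) (q := ((p.2.2 : ℕ) : F))
    (by generalize p.1 = i; fin_cases i <;> simp [Bit]) (by generalize p.2.1 = i; fin_cases i <;> simp [Bit])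
    (by generalize p.2.2 = i; fin_cases i <;> simp [Bit])
  have hmtx : ∀ p, ((u p : GL (Fin 3) F) : Matrix (Fin 3) (Fin 3) F) * tvMat (E 0) (E 2) =
      tvMat (E 0) (E 2) * (u p : Matrix (Fin 3) (Fin 3) F) := fun p => by
    rw [hue, show tvMat (E 0) (E 2) = uni (0 : F) 0 1 by rw [← tvMat_02, one_smul], uni_mul, uni_mul]
    congr 1 <;> ring
  let ψ : Fin 2 × Fin 2 × Fin 2 → Subgroup.centralizer ({τ} : Set (P ⧸ (scalars (Fin 3) F).subgroupOf P)) := fun p =>
    ⟨QuotientGroup.mk ⟨g * u p * g⁻¹, hlift (hu p)⟩, by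
      rw [Subgroup.mem_centralizer_singleton_iff, ← QuotientGroup.mk_mul, ← QuotientGroup.mk_mul]
      refine congrArg QuotientGroup.mk (Subtype.ext ?_)
      rw [Subgroup.coe_mul, Subgroup.coe_mul, ht, conj_mul, conj_mul]
      congr 2
      exact Units.ext (hmtx p)⟩
  have hψ : Function.Bijective ψ := by
    refine ⟨fun p q e => ?_, fun c => ?_⟩
    · have e' := congrArg Subtype.val e
      simp only [ψ, QuotientGroup.eq, Subgroup.mem_subgroupOf, Subgroup.coe_mul, Subgroup.coe_inv] at e'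
      have h := scalars_normal.conj_mem _ e' g⁻¹
      rw [inv_inv, show g⁻¹ * ((g * u p * g⁻¹)⁻¹ * (g * u q * g⁻¹)) * g = (u p)⁻¹ * u q by group] at h
      obtain ⟨c, hc⟩ := (mem_scalars_iff _).1 h
      have hq : (u q : Matrix (Fin 3) (Fin 3) F) = (c : F) • (u p : Matrix (Fin 3) (Fin 3) F) := by
        rw [← mul_one (u p : Matrix (Fin 3) (Fin 3) F), ← Matrix.mul_smul, ← hc, ← Units.val_mul, mul_inv_cancel_left]
      rw [hue, hue] at hq
      have c1 : (c : F) = 1 := by simpa [uni] using (congrFun (congrFun hq 0) 0).symm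
      rw [c1, one_smul] at hq
      have hb : ∀ i j : Fin 2, ((i : ℕ) : F) = ((j : ℕ) : F) → i = j := fun i j h => by
        fin_cases i <;> fin_cases j <;> simp at h ⊢
      have x1 := congrFun (congrFun hq 0) 1
      have x2 := congrFun (congrFun hq 1) 2
      have x3 := congrFun (congrFun hq 0) 2
      simp [uni] at x1 x2 x3
      exact Prod.ext (hb _ _ x1).symm (Prod.ext (hb _ _ x2).symm (hb _ _ x3).symm)
    · obtain ⟨x, hx⟩ := QuotientGroup.mk_surjective c.1
      have hc := Subgroup.mem_centralizer_singleton_iff.1 c.2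
      rw [← hx] at hc
      have hcomm := commute_of_mod (x := (x : GL (Fin 3) F)) hSL t.2 x.2 (congrArg Subtype.val ht2) (by
        have : x * t * x⁻¹ * t ∈ (scalars (Fin 3) F).subgroupOf P := by
          rw [← QuotientGroup.eq_one_iff, QuotientGroup.mk_mul, QuotientGroup.mk_mul, QuotientGroup.mk_mul,
            show ((x : P ⧸ (scalars (Fin 3) F).subgroupOf P) * t) = t * x from hc, QuotientGroup.mk_inv,
            mul_inv_cancel_right, ← QuotientGroup.mk_mul, ht2, QuotientGroup.mk_one]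
        simpa [Subgroup.mem_subgroupOf] using this)
      rw [ht] at hcomm
      have hcomm' : (g⁻¹ * (x : GL (Fin 3) F) * g) * tv (E 0) (E 2) hR.2.2.dot =
          tv (E 0) (E 2) hR.2.2.dot * (g⁻¹ * (x : GL (Fin 3) F) * g) := by
        have := congrArg (fun v => g⁻¹ * v * g) hcomm
        simpa [mul_assoc] using this
      obtain ⟨l, a, b, q, hl, ha, hb, hq, e⟩ :=
        centraliser_shape (map_le_SL hSL) hR hS.map (hback x) (by
          have := congrArg Units.val hcomm'
          rwa [Units.val_mul, Units.val_mul (tv _ _ _), coe_tv] at this)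
      have hbit : ∀ {a : F}, Bit a → ∃ i : Fin 2, ((i : ℕ) : F) = a := fun {a} h => by
        rcases h with rfl | rfl
        · exact ⟨0, by simp⟩
        · exact ⟨1, by simp⟩
      obtain ⟨i, rfl⟩ := hbit ha
      obtain ⟨j, rfl⟩ := hbit hb
      obtain ⟨k, rfl⟩ := hbit hq
      refine ⟨(i, j, k), Subtype.ext ?_⟩
      rw [← hx]
      show QuotientGroup.mk _ = QuotientGroup.mk x
      rw [QuotientGroup.eq, Subgroup.mem_subgroupOf, Subgroup.coe_mul, Subgroup.coe_inv]
      have hl0 : l ≠ 0 := fun e0 => by simp [e0] at hl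
      have h : ((u (i, j, k))⁻¹ * (g⁻¹ * (x : GL (Fin 3) F) * g) : GL (Fin 3) F) ∈ scalars (Fin 3) F := by
        refine (mem_scalars_iff _).2 ⟨Units.mk0 l hl0, ?_⟩
        rw [Units.val_mul, e, Matrix.mul_smul, Units.val_mk0]
        congr 1
        rw [← hue (i, j, k), ← Units.val_mul, inv_mul_cancel, Units.val_one]
      have := scalars_normal.conj_mem _ h g
      rwa [show g * ((u (i, j, k))⁻¹ * (g⁻¹ * (x : GL (Fin 3) F) * g)) * g⁻¹ =
        (g * u (i, j, k) * g⁻¹)⁻¹ * (x : GL (Fin 3) F) by group] at this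
  have hcard : Nat.card (Subgroup.centralizer ({τ} : Set (P ⧸ (scalars (Fin 3) F).subgroupOf P))) = 8 := by
    rw [← Nat.card_congr (Equiv.ofBijective ψ hψ)]
    simp
  have hcomm : ∀ s : P, (s : GL (Fin 3) F) * (t : GL (Fin 3) F) = t * s →
      (QuotientGroup.mk s : P ⧸ (scalars (Fin 3) F).subgroupOf P) ∈ Subgroup.centralizer {τ} := fun s h => by
    rw [Subgroup.mem_centralizer_singleton_iff, ← QuotientGroup.mk_mul, ← QuotientGroup.mk_mul]
    exact congrArg QuotientGroup.mk (Subtype.ext h)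
  have hm1 : (s₁ : GL (Fin 3) F) * (t : GL (Fin 3) F) = t * s₁ := by
    rw [hs₁, ht, conj_mul, conj_mul]
    congr 2
    refine Units.ext ?_
    rw [Units.val_mul, Units.val_mul, coe_tv, coe_tv, tvMat_01,
      show tvMat (E 0) (E 2) = uni (0 : F) 0 1 by rw [← tvMat_02, one_smul], uni_mul, uni_mul]
    congr 1 <;> ring
  have hm2 : (s₂ : GL (Fin 3) F) * (t : GL (Fin 3) F) = t * s₂ := by
    rw [hs₂, ht, conj_mul, conj_mul]
    congr 2
    refine Units.ext ?_
    rw [Units.val_mul, Units.val_mul, coe_tv, coe_tv, tvMat_12,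
      show tvMat (E 0) (E 2) = uni (0 : F) 0 1 by rw [← tvMat_02, one_smul], uni_mul, uni_mul]
    congr 1 <;> ring
  obtain ⟨e⟩ := Cfsg.Lib.Linear.AutPO.iso_dihedral hcard (s := ⟨_, hcomm s₁ hm1⟩) (d := ⟨_, hcomm s₂ hm2⟩)
    (Subtype.ext (by
      show (QuotientGroup.mk s₁ : P ⧸ (scalars (Fin 3) F).subgroupOf P) * QuotientGroup.mk s₁ = 1
      rw [← QuotientGroup.mk_mul, hs2, QuotientGroup.mk_one]))
    (fun h => by
      have h' : (QuotientGroup.mk s₁ : P ⧸ (scalars (Fin 3) F).subgroupOf P) * QuotientGroup.mk s₂ =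
        QuotientGroup.mk s₂ * QuotientGroup.mk s₁ := congrArg Subtype.val h
      have hc := commute_of_mod (x := (s₂ : GL (Fin 3) F)) hSL s₁.2 s₂.2 (congrArg Subtype.val hs2) (by
        have : s₂ * s₁ * s₂⁻¹ * s₁ ∈ (scalars (Fin 3) F).subgroupOf P := by
          rw [← QuotientGroup.eq_one_iff, QuotientGroup.mk_mul, QuotientGroup.mk_mul, QuotientGroup.mk_mul, ← h',
            QuotientGroup.mk_inv, mul_inv_cancel_right, ← QuotientGroup.mk_mul, hs2, QuotientGroup.mk_one]
        simpa [Subgroup.mem_subgroupOf] using this)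
      rw [hs₁, hs₂, conj_mul, conj_mul, mul_left_inj, mul_right_inj] at hc
      have hmx := congrArg Units.val hc
      rw [Units.val_mul, Units.val_mul, coe_tv, coe_tv, tvMat_01, tvMat_12, uni_mul, uni_mul] at hmx
      have := congrFun (congrFun hmx 0) 2
      simp [uni] at this)
  rcases Cfsg.Agent.S3035.result τ hτ ⟨e⟩ with h | h | h | h | h
  · exfalso
    have hO : Cfsg.oddCore (P ⧸ (scalars (Fin 3) F).subgroupOf P) = ⊥ := by
      refine (IsSimpleGroup.eq_bot_or_eq_top_of_normal _ inferInstance).resolve_right fun e => ?_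
      have hodd := Cfsg.Lib.ZStar.odd_card_oddCore (G := P ⧸ (scalars (Fin 3) F).subgroupOf P)
      rw [e, Subgroup.card_top] at hodd
      exact Nat.not_even_iff_odd.2 hodd (even_iff_two_dvd.2 (hτ ▸ orderOf_dvd_natCard τ))
    rw [hO, sup_bot_eq] at h
    have hc : τ ∈ Subgroup.center (P ⧸ (scalars (Fin 3) F).subgroupOf P) :=
      Subgroup.mem_center_iff.2 fun v => Subgroup.mem_centralizer_singleton_iff.1 (h ▸ Subgroup.mem_top v)
    rcases IsSimpleGroup.eq_bot_or_eq_top_of_normal (Subgroup.center (P ⧸ (scalars (Fin 3) F).subgroupOf P))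
      inferInstance with e | e
    · rw [e, Subgroup.mem_bot] at hc
      exact hτ1 hc
    · exact hna ⟨⟨fun u v => (Subgroup.mem_center_iff.1 (e ▸ Subgroup.mem_top v) u)⟩⟩
  · exfalso
    obtain ⟨φ⟩ := h
    haveI : IsSimpleGroup (Equiv.Perm (Fin 4)) :=
      IsSimpleGroup.isSimpleGroup_of_surjective φ.toMonoidHom φ.surjective
    rcases IsSimpleGroup.eq_bot_or_eq_top_of_normal (alternatingGroup (Fin 4)) inferInstance with e | e
    · have := two_mul_card_alternatingGroup (α := Fin 4)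
      rw [← Nat.card_eq_fintype_card, ← Nat.card_eq_fintype_card, e, Subgroup.card_bot, Nat.card_perm,
        Nat.card_fin] at this
      norm_num [Nat.factorial] at this
    · have := two_mul_card_alternatingGroup (α := Fin 4)
      rw [← Nat.card_eq_fintype_card, ← Nat.card_eq_fintype_card, e, Subgroup.card_top, Nat.card_perm,
        Nat.card_fin] at this
      norm_num [Nat.factorial] at this
  · exfalso
    obtain ⟨φ⟩ := h
    haveI : IsSimpleGroup (Equiv.Perm (Fin 5)) :=
      IsSimpleGroup.isSimpleGroup_of_surjective φ.toMonoidHom φ.surjective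
    rcases IsSimpleGroup.eq_bot_or_eq_top_of_normal (alternatingGroup (Fin 5)) inferInstance with e | e
    · have := two_mul_card_alternatingGroup (α := Fin 5)
      rw [← Nat.card_eq_fintype_card, ← Nat.card_eq_fintype_card, e, Subgroup.card_bot, Nat.card_perm,
        Nat.card_fin] at this
      norm_num [Nat.factorial] at this
    · have := two_mul_card_alternatingGroup (α := Fin 5)
      rw [← Nat.card_eq_fintype_card, ← Nat.card_eq_fintype_card, e, Subgroup.card_top, Nat.card_perm,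
        Nat.card_fin] at this
      norm_num [Nat.factorial] at this
  · exact Or.inl h
  · exact Or.inr h

/-- The field has two or four elements. -/
theorem small_core (hSL : P ≤ specialLinear (Fin 3) F) (hperf : ⁅P, P⁆ = P)
    (hsimple : IsSimpleGroup (P ⧸ (scalars (Fin 3) F).subgroupOf P))
    (hna : ¬ IsMulCommutative (P ⧸ (scalars (Fin 3) F).subgroupOf P)) (hirr : ActsIrreducibly (matrixSet P))
    (hgen : Gen P) (hreal : NoSub P) (hne : P ≠ ⊥) (hS : Small P) :
    P = specialLinear (Fin 3) F ∨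
      (Fintype.card F = 4 ∧ Nonempty (P ⧸ (scalars (Fin 3) F).subgroupOf P ≃* alternatingGroup (Fin 6))) := by
  classical
  haveI := hsimple
  have hfl := flag_of_not_unital hirr (not_unital hSL hperf hsimple hna hne hS)
  obtain ⟨g, hR, z₁, f, hv, hf0⟩ := flag_frame hfl (hasOpp_of_irred hirr)
  have hκ : ∀ {z a w f : Fin 3 → F} (h1 : IsT P z a) (h2 : IsT P w f) (n : ℕ),
      (QuotientGroup.mk (⟨tv z a h1.1.dot, h1.1.mem⟩ * ⟨tv w f h2.1.dot, h2.1.mem⟩ : P) :
        P ⧸ (scalars (Fin 3) F).subgroupOf P) ^ n = 1 → (a ⬝ᵥ w) * (f ⬝ᵥ z) ≠ 0 →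
      (n = 3 → (a ⬝ᵥ w) * (f ⬝ᵥ z) = 1) ∧ (n = 4 → False) ∧
        (n = 5 → ((a ⬝ᵥ w) * (f ⬝ᵥ z)) ^ 4 = (a ⬝ᵥ w) * (f ⬝ᵥ z)) := by
    intro z a w f h1 h2 n hn hκ
    refine kappa_of_pow hSL h1 h2 ?_ hκ _ rfl
    rw [← QuotientGroup.mk_pow, QuotientGroup.eq_one_iff, Subgroup.mem_subgroupOf] at hn
    simpa using hn
  have hfield : ∀ K : Subfield F, (∀ z a w f, IsT P z a → IsT P w f → (a ⬝ᵥ w) * (f ⬝ᵥ z) ∈ K) → K = ⊤ := by
    intro K hK
    have hrat := rational_of_kappa (map_le_SL hSL) hR hS.map hv hf0 K fun z a w f h1 h2 => by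
      have := hK _ _ _ _ (isT_map.1 h1) (isT_map.1 h2)
      rwa [pairing_map, pairing_map] at this
    refine hreal K (realisable_of_rational hgen K g⁻¹ fun z a ht i j => ?_)
    rw [inv_inv, conj_tvMat, tvMat, Matrix.add_apply, vecMulVec_apply, Matrix.one_apply]
    refine K.add_mem ?_ (hrat _ _ (isT_unmap ht) i j)
    split_ifs <;> simp
  haveI : Fact (Nat.Prime 2) := ⟨Nat.prime_two⟩
  have hbound : ∀ (i : ℕ), (∀ x : F, x ^ (i + 1) = x) → Fintype.card F - 1 ∣ i := fun i h => by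
    refine (FiniteField.forall_pow_eq_one_iff F i).1 fun x => Units.ext ?_
    have := h x
    rw [pow_succ] at this
    rw [Units.val_pow_eq_pow_val, Units.val_one]
    exact mul_right_cancel₀ x.ne_zero (by rw [one_mul]; exact this)
  have hGL : Fintype.card F = 2 → Nat.card (GL (Fin 3) F) = 168 := fun h => by
    rw [Matrix.card_GL_field, h]
    simp [Fin.prod_univ_three]
  have hle : Nat.card (P ⧸ (scalars (Fin 3) F).subgroupOf P) ≤ Nat.card P :=
    Nat.card_le_card_of_surjective _ QuotientGroup.mk_surjective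
  rcases small_quotient hSL hsimple hna hS hR with h | h
  · -- two elements
    obtain ⟨φ⟩ := h
    have hG : Nat.card (P ⧸ (scalars (Fin 3) F).subgroupOf P) = 168 := by
      rw [Nat.card_congr φ.toEquiv, Cfsg.Lib.Recog.TwoSymFour.card_sl_three_two]
    have hord : ∀ q : P ⧸ (scalars (Fin 3) F).subgroupOf P, q ^ 3 = 1 ∨ q ^ 4 = 1 ∨ q ^ 7 = 1 := fun q => by
      have h := l32_orders (φ q : Matrix (Fin 3) (Fin 3) (ZMod 2)) (φ q).2
      simp only [← map_pow, ← Matrix.SpecialLinearGroup.coe_pow] at h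
      rcases h with h | h | h
      · exact Or.inl (φ.injective (Subtype.ext (h.trans (by simp))))
      · exact Or.inr (Or.inl (φ.injective (Subtype.ext (h.trans (by simp)))))
      · exact Or.inr (Or.inr (φ.injective (Subtype.ext (h.trans (by simp)))))
    have htop := hfield (RingHom.eqLocusField (frobenius F 2) (RingHom.id F)) fun z a w f h1 h2 => by
      show frobenius F 2 _ = _
      rw [RingHom.id_apply, frobenius_def]
      by_cases h0 : (a ⬝ᵥ w) * (f ⬝ᵥ z) = 0
      · rw [h0, zero_pow two_ne_zero]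
      let t : P := ⟨tv z a h1.1.dot, h1.1.mem⟩
      let u : P := ⟨tv w f h2.1.dot, h2.1.mem⟩
      rcases hord (QuotientGroup.mk (t * u)) with h | h | h
      · rw [(hκ h1 h2 3 h h0).1 rfl, one_pow]
      · exact absurd rfl (hκ h1 h2 4 h h0).2.1
      · by_cases h3 : (QuotientGroup.mk (t * u) : P ⧸ (scalars (Fin 3) F).subgroupOf P) ^ 3 = 1
        · rw [(hκ h1 h2 3 h3 h0).1 rfl, one_pow]
        exfalso
        haveI : Fact (Nat.Prime 7) := ⟨by norm_num⟩
        have hx : orderOf (QuotientGroup.mk (t * u) : P ⧸ (scalars (Fin 3) F).subgroupOf P) = 7 :=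
          orderOf_eq_prime h fun e => h3 (by rw [e, one_pow])
        have ht2 : (QuotientGroup.mk t : P ⧸ (scalars (Fin 3) F).subgroupOf P) * QuotientGroup.mk t = 1 := by
          rw [← QuotientGroup.mk_mul, show t * t = 1 from Subtype.ext (isT_sq h1), QuotientGroup.mk_one]
        have hu2 : (QuotientGroup.mk u : P ⧸ (scalars (Fin 3) F).subgroupOf P) * QuotientGroup.mk u = 1 := by
          rw [← QuotientGroup.mk_mul, show u * u = 1 from Subtype.ext (isT_sq h2), QuotientGroup.mk_one]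
        refine no_inverted_seven hG (t := QuotientGroup.mk t) (orderOf_eq_prime (by rw [sq]; exact ht2) fun e => ?_)
          hx ?_
        · exact h1.not_scalar (Subgroup.mem_subgroupOf.1 ((QuotientGroup.eq_one_iff t).1 e))
        · rw [QuotientGroup.mk_mul, _root_.mul_inv_rev, inv_eq_of_mul_eq_one_right hu2,
            inv_eq_of_mul_eq_one_right ht2, ← mul_assoc, ht2, one_mul]
    have h2 : Fintype.card F = 2 := by
      have := hbound 1 fun x => by
        have hx : x ∈ RingHom.eqLocusField (frobenius F 2) (RingHom.id F) := htop ▸ Subfield.mem_top x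
        exact hx
      have h1 := Fintype.one_lt_card (α := F)
      rw [Nat.dvd_one] at this
      omega
    left
    have hP : P = ⊤ := Subgroup.eq_top_of_le_card P (by rw [hGL h2, ← hG]; exact hle)
    exact le_antisymm hSL (hP ▸ le_top)
  · -- four elements
    obtain ⟨φ⟩ := h
    have hord : ∀ q : P ⧸ (scalars (Fin 3) F).subgroupOf P, q ^ 3 = 1 ∨ q ^ 4 = 1 ∨ q ^ 5 = 1 := fun q => by
      have h := a6_orders (φ q : Equiv.Perm (Fin 6)) (Equiv.Perm.mem_alternatingGroup.1 (φ q).2)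
      simp only [← SubmonoidClass.coe_pow, OneMemClass.coe_eq_one, ← map_pow] at h
      rcases h with h | h | h
      · exact Or.inl (φ.injective (h.trans (map_one φ).symm))
      · exact Or.inr (Or.inl (φ.injective (h.trans (map_one φ).symm)))
      · exact Or.inr (Or.inr (φ.injective (h.trans (map_one φ).symm)))
    have htop := hfield (RingHom.eqLocusField ((frobenius F 2).comp (frobenius F 2)) (RingHom.id F))
      fun z a w f h1 h2 => by
        show frobenius F 2 (frobenius F 2 _) = _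
        rw [RingHom.id_apply, frobenius_def, frobenius_def, ← pow_mul]
        by_cases h0 : (a ⬝ᵥ w) * (f ⬝ᵥ z) = 0
        · rw [h0, zero_pow (by norm_num)]
        let x : P := ⟨tv z a h1.1.dot, h1.1.mem⟩ * ⟨tv w f h2.1.dot, h2.1.mem⟩
        rcases hord (QuotientGroup.mk x) with h | h | h
        · rw [(hκ h1 h2 3 h h0).1 rfl, one_pow]
        · exact absurd rfl (hκ h1 h2 4 h h0).2.1
        · exact (hκ h1 h2 5 h h0).2.2 rfl
    refine Or.inr ⟨?_, ⟨φ⟩⟩
    have hdvd := hbound 3 fun x => by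
      have hx : x ∈ RingHom.eqLocusField ((frobenius F 2).comp (frobenius F 2)) (RingHom.id F) :=
        htop ▸ Subfield.mem_top x
      have hx' : frobenius F 2 (frobenius F 2 x) = x := hx
      rwa [frobenius_def, frobenius_def, ← pow_mul] at hx'
    have h1 := Fintype.one_lt_card (α := F)
    rcases (Nat.dvd_prime Nat.prime_three).1 hdvd with e | e
    · exfalso
      have h2 : Fintype.card F = 2 := by omega
      have hG : Nat.card (P ⧸ (scalars (Fin 3) F).subgroupOf P) = 360 := by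
        rw [Nat.card_congr φ.toEquiv, Cfsg.Lib.Schur.AltSixSeven.card_alt_six]
      have := Subgroup.card_le_card_group P
      rw [hGL h2] at this
      omega
    · omega

end Cfsg.Lib.Linear.Mitchell.Even
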