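import Cfsg.Agent.Lib.Linear.Mitchell.EvenPropagate

/-!
Large root subgroups, two centres on a common axis: all transvections of the group are rational over a field
whose elementary transvections lie in the group.
-/

set_option autoImplicit false
set_option linter.unusedSectionVars false

open Matrix

namespace Cfsg.Lib.Linear.Mitchell.Even

variable {F : Type*} [Field F] [CharP F 2]

/-- The standard vectors. -/
def E (i : Fin 3) : Fin 3 → F := Pi.single i 1

theorem E_dot (i : Fin 3) (v : Fin 3 → F) : E i ⬝ᵥ v = v i := by simp [E]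

theorem dot_E (i : Fin 3) (v : Fin 3 → F) : v ⬝ᵥ E i = v i := by simp [E]

theorem E_ne (i : Fin 3) : (E i : Fin 3 → F) ≠ 0 := by simp [E]

theorem E_apply_self (i : Fin 3) : (E i : Fin 3 → F) i = 1 := by simp [E]

theorem E_apply_ne {i j : Fin 3} (h : j ≠ i) : (E i : Fin 3 → F) j = 0 := by simp [E, h]

variable {P : Subgroup (GL (Fin 3) F)}

/-- A half incident pair gives the middle root. -/
theorem InT.trans {z a w f : Fin 3 → F} (h1 : InT P z a) (h2 : InT P w f) (h : f ⬝ᵥ z = 0) :
    InT P z ((a ⬝ᵥ w) • f) := by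
  have h3 := h1.conj_tv h2
  rw [h, zero_smul, add_zero] at h3
  have h4 := h3.add_right h1
  rwa [add_right_comm, show a + a = (0 : Fin 3 → F) from funext fun i => CharTwo.add_self_eq_zero (a i),
    zero_add] at h4

theorem InT.trans_E {i j k : Fin 3} (hij : i ≠ j) (hjk : j ≠ k) (hik : i ≠ k) {x y : F}
    (h1 : InT P (E i) (x • E j)) (h2 : InT P (E j) (y • E k)) : InT P (E i) ((x * y) • E k) := by
  have := h1.trans h2 (by rw [smul_dotProduct, E_dot, E_apply_ne hik.symm, smul_zero])
  rwa [smul_dotProduct, E_dot, E_apply_self, smul_eq_mul, mul_one, smul_smul] at this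

/-- All elementary transvections with parameters in a field. -/
def AllRoots (P : Subgroup (GL (Fin 3) F)) (K : Subfield F) : Prop :=
  ∀ p q : Fin 3, p ≠ q → ∀ x, InT P (E p) (x • E q) ↔ x ∈ K

theorem add_self' (v : Fin 3 → F) : v + v = 0 := funext fun i => CharTwo.add_self_eq_zero (v i)

variable [Fintype F]

/-- Every root element is rational when all elementary ones are present. -/
theorem rational_of_allRoots {K : Subfield F} (h4 : 4 ≤ Nat.card K) (hK : AllRoots P K) {z f : Fin 3 → F}
    (hv : InT P z f) : ∀ i j, z i * f j ∈ K := by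
  classical
  have hoff : ∀ i j : Fin 3, i ≠ j → z i * f j ∈ K := by
    intro i j hij
    by_cases hi : z i = 0
    · rw [hi, zero_mul]; exact K.zero_mem
    by_cases hj : f j = 0
    · rw [hj, mul_zero]; exact K.zero_mem
    have hr : InT P (E j) (E i) := by
      have := (hK j i hij.symm 1).2 K.one_mem
      rwa [one_smul] at this
    have hd : InT P ((z i)⁻¹ • z) ((z i) • f) := by
      have := hv.rescale (inv_ne_zero hi)
      rwa [inv_inv] at this
    obtain ⟨K', -, hk, h1, -⟩ := pair hr hd (by rw [dotProduct_smul, E_dot, smul_eq_mul, inv_mul_cancel₀ hi])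
      (by rw [smul_dotProduct, dot_E, smul_eq_mul]; exact mul_ne_zero hi hj)
      (Or.inl (card_field_le K (fun x hx => (hK j i hij.symm x).2 hx) h4))
    rw [smul_dotProduct, dot_E, smul_eq_mul] at hk
    exact (hK j i hij.symm _).1 ((h1 _).2 hk)
  have hsum : ∀ p q : Fin 3, p ≠ q → z p * f p + z q * f q ∈ K := by
    intro p q hpq
    have hconj : ∀ x, InT P (E p + E q) (x • (E p + E q)) ↔ x ∈ K := by
      intro x
      have hu : InT P (E q) (E p) := by
        have := (hK q p hpq.symm 1).2 K.one_mem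
        rwa [one_smul] at this
      rw [← hK p q hpq x]
      constructor
      · intro h
        have := h.conj_tv hu
        rwa [dotProduct_add, E_dot, E_dot, E_apply_self, E_apply_ne hpq, add_zero, one_smul, add_assoc, add_self',
          add_zero, smul_dotProduct, add_dotProduct, E_dot, E_dot, E_apply_self, E_apply_ne hpq, zero_add,
          smul_eq_mul, mul_one, smul_add, add_assoc, add_comm (x • E q), ← add_assoc, add_self', zero_add] at this
      · intro h
        have := h.conj_tv hu
        rwa [E_dot, E_apply_self, one_smul, smul_dotProduct, E_dot, E_apply_self, smul_eq_mul, mul_one,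
          add_comm (x • E q), ← smul_add] at this
    have hr : InT P (E p + E q) (E p + E q) := by
      have := (hconj 1).2 K.one_mem
      rwa [one_smul] at this
    by_cases hzz : z p + z q = 0
    · have e : z q = z p := (CharTwo.add_eq_zero.1 hzz).symm
      by_cases hp : z p = 0
      · rw [e, hp, zero_mul, zero_mul, add_zero]; exact K.zero_mem
      · have h1 := K.add_mem (hoff p q hpq) (hoff q p hpq.symm)
        rw [e] at h1 ⊢
        rwa [add_comm] at h1
    by_cases hff : f p + f q = 0
    · have e : f q = f p := (CharTwo.add_eq_zero.1 hff).symm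
      have h1 := K.add_mem (hoff q p hpq.symm) (hoff p q hpq)
      rw [e] at h1 ⊢
      rwa [add_comm] at h1
    have hd : InT P ((z p + z q)⁻¹ • z) ((z p + z q) • f) := by
      have := hv.rescale (inv_ne_zero hzz)
      rwa [inv_inv] at this
    obtain ⟨K', -, hk, h1, -⟩ := pair hr hd
      (by rw [add_dotProduct, E_dot, E_dot, Pi.smul_apply, Pi.smul_apply, ← smul_add, smul_eq_mul,
        inv_mul_cancel₀ hzz])
      (by rw [smul_dotProduct, dotProduct_add, dot_E, dot_E, smul_eq_mul]; exact mul_ne_zero hzz hff)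
      (Or.inl (card_field_le K (fun x hx => (hconj x).2 hx) h4))
    rw [smul_dotProduct, dotProduct_add, dot_E, dot_E, smul_eq_mul] at hk
    have h2 := (hconj _).1 ((h1 _).2 hk)
    have h3 := K.add_mem h2 (K.add_mem (hoff p q hpq) (hoff q p hpq.symm))
    convert h3 using 1
    linear_combination -(z p * f q + z q * f p) * CharTwo.two_eq_zero (R := F)
  intro i j
  by_cases hij : i = j
  swap
  · exact hoff i j hij
  subst hij
  have h0 : z 0 * f 0 + z 1 * f 1 + z 2 * f 2 = 0 := by
    have := hv.dot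
    simp [dotProduct, Fin.sum_univ_three] at this
    linear_combination this
  fin_cases i
  · have := hsum 1 2 (by decide)
    rwa [show z 1 * f 1 + z 2 * f 2 = z 0 * f 0 from CharTwo.add_eq_zero.1 (by rw [← h0]; ring)] at this
  · have := hsum 0 2 (by decide)
    rwa [show z 0 * f 0 + z 2 * f 2 = z 1 * f 1 from CharTwo.add_eq_zero.1 (by rw [← h0]; ring)] at this
  · have := hsum 0 1 (by decide)
    rwa [show z 0 * f 0 + z 1 * f 1 = z 2 * f 2 from CharTwo.add_eq_zero.1 (by rw [← h0])] at this

/-- The elementary transvections from two centres on a common axis. -/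
theorem allRoots_of_axis (hP : HasOpp P) {K : Subfield F} (h4 : 4 ≤ Nat.card K)
    (h02 : ∀ x, InT P (E 0) (x • E 2) ↔ x ∈ K) (h20 : ∀ x, InT P (E 2) (x • E 0) ↔ x ∈ K)
    (h12 : ∀ x ∈ K, InT P (E 1) (x • E 2)) : AllRoots P K := by
  classical
  have h02' : InT P (E 0) (E 2) := by
    have := (h02 1).2 K.one_mem
    rwa [one_smul] at this
  have h20' : InT P (E 2) (E 0) := by
    have := (h20 1).2 K.one_mem
    rwa [one_smul] at this
  have h12' : InT P (E 1) (E 2) := by
    have := h12 1 K.one_mem
    rwa [one_smul] at this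
  have h10 : ∀ x, InT P (E 1) (x • E 2) → InT P (E 1) (x • E 0) := fun x hx => by
    have := hx.trans h20' (by rw [E_dot, E_apply_ne (by decide)])
    rwa [show (x • E 2 : Fin 3 → F) ⬝ᵥ E 2 = x by simp [E]] at this
  obtain ⟨z, f, hv, hz2, hφ⟩ := hP (E 1) (E 2) ⟨h12', E_ne 1, E_ne 2⟩
  rw [E_dot] at hz2
  rw [dot_E] at hφ
  -- the field at the second root
  obtain ⟨K1, h41, hφ1, h1, h1v⟩ := pair h12' hv (by rw [E_dot, hz2]) (by rw [dot_E]; exact hφ)
    (Or.inl (card_field_le K h12 h4))
  rw [dot_E] at hφ1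
  -- a root at the first point with axis off the second
  obtain ⟨g, hg, hg0, hg1⟩ : ∃ g, InT P (E 0) g ∧ g 0 = 0 ∧ g 1 = f 1 := by
    obtain ⟨w, g, hw, hw2, hg0, hg1⟩ : ∃ w g, InT P w g ∧ w 2 = 1 ∧ g 0 = 0 ∧ g 1 = f 1 := by
      by_cases hf0 : f 0 = 0
      · exact ⟨z, f, hv, hz2, hf0, rfl⟩
      obtain ⟨K', -, hk, -, h2⟩ := pair h02' hv (by rw [E_dot, hz2]) (by rw [dot_E]; exact hf0)
        (Or.inl (card_field_le K (fun x hx => (h02 x).2 hx) h4))
      rw [dot_E] at hk
      have hμ : f 0 / f 1 ∈ K1 := K1.div_mem ((h1v _).1 ((h2 _).2 hk)) hφ1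
      refine ⟨_, _, hv.conj_tv (h10 _ ((h1 _).2 hμ)), ?_, ?_, ?_⟩
      · rw [Pi.add_apply, hz2, Pi.smul_apply, E_apply_ne (by decide), smul_zero, add_zero]
      · rw [Pi.add_apply, dot_E, Pi.smul_apply, Pi.smul_apply, E_apply_self, smul_eq_mul, smul_eq_mul, mul_one,
          mul_div_cancel₀ _ hφ, CharTwo.add_self_eq_zero]
      · rw [Pi.add_apply, dot_E, Pi.smul_apply, Pi.smul_apply, E_apply_ne (by decide), smul_zero, smul_zero, add_zero]
    refine ⟨g, ?_, hg0, hg1⟩
    have := h02'.trans hw (by rw [dot_E, hg0])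
    rwa [E_dot, hw2, one_smul] at this
  have hgK : g 2 ∈ K := by
    by_cases h0 : g 2 = 0
    · rw [h0]; exact K.zero_mem
    have hd : InT P ((g 2)⁻¹ • E 2) ((g 2) • E 0) := by
      have := h20'.rescale (inv_ne_zero h0)
      rwa [inv_inv] at this
    have hd' : ∀ x, InT P ((g 2)⁻¹ • E 2) (x • (g 2) • E 0) ↔ x ∈ K := fun x => by
      rw [InT.scale_iff (by rw [smul_dotProduct, smul_dotProduct, E_dot, E_apply_ne (by decide), smul_zero, smul_zero]),
        smul_smul, smul_smul, inv_mul_eq_div, div_mul_eq_mul_div, mul_div_cancel_right₀ _ h0, h20]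
    obtain ⟨K', -, hk, -, h2⟩ := pair hg hd (by rw [dotProduct_smul, dot_E, smul_eq_mul, inv_mul_cancel₀ h0])
      (by rw [smul_dotProduct, E_dot, E_apply_self, smul_eq_mul, mul_one]; exact h0)
      (Or.inr (card_field_le K (fun x hx => (hd' x).2 hx) h4))
    rw [smul_dotProduct, E_dot, E_apply_self, smul_eq_mul, mul_one] at hk
    exact (hd' _).1 ((h2 _).2 hk)
  have hA : InT P (E 0) (f 1 • E 1) := by
    have := hg.add_right ((h02 (g 2)).2 hgK)
    rwa [show g + g 2 • E 2 = f 1 • E 1 by
      ext i
      fin_cases i <;> simp [E, hg0, hg1, CharTwo.add_self_eq_zero]] at this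
  have hC : InT P (E 2) (f 1 • E 1) := by
    have := h20'.trans hA (by rw [smul_dotProduct, E_dot, E_apply_ne (by decide), smul_zero])
    rwa [E_dot, E_apply_self, one_smul] at this
  have hφK : f 1 ∈ K := (h02 _).1 (by
    have := hA.trans_E (y := 1) (k := 2) (by decide) (by decide) (by decide) (h12 1 K.one_mem)
    rwa [mul_one] at this)
  have h12iff : ∀ x, InT P (E 1) (x • E 2) ↔ x ∈ K := fun x => by
    refine ⟨fun hx => ?_, h12 x⟩
    have h1 := (h02 _).1 (hA.trans_E (by decide) (by decide) (by decide) hx)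
    have h2 := K.div_mem h1 hφK
    rwa [mul_div_cancel_left₀ _ hφ] at h2
  have a01 : ∀ x ∈ K, InT P (E 0) (x • E 1) := fun x hx => by
    have := InT.trans_E (i := 0) (j := 2) (k := 1) (x := x / f 1) (by decide) (by decide) (by decide)
      ((h02 _).2 (K.div_mem hx hφK)) hC
    rwa [div_mul_cancel₀ x hφ] at this
  have a21 : ∀ x ∈ K, InT P (E 2) (x • E 1) := fun x hx => by
    have := InT.trans_E (i := 2) (j := 0) (k := 1) (x := x / f 1) (by decide) (by decide) (by decide)
      ((h20 _).2 (K.div_mem hx hφK)) hA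
    rwa [div_mul_cancel₀ x hφ] at this
  have o10 : InT P (E 1) ((1 : F) • E 0) := h10 1 (h12 1 K.one_mem)
  have o01 : InT P (E 0) ((1 : F) • E 1) := a01 1 K.one_mem
  have o21 : InT P (E 2) ((1 : F) • E 1) := a21 1 K.one_mem
  have o12 : InT P (E 1) ((1 : F) • E 2) := h12 1 K.one_mem
  intro p q hpq x
  fin_cases p <;> fin_cases q <;> simp only [Fin.zero_eta, Fin.mk_one, Fin.reduceFinMk] at hpq ⊢
  · exact absurd rfl hpq
  · refine ⟨fun h => ?_, a01 x⟩
    have := (h02 _).1 (h.trans_E (by decide) (by decide) (by decide) o12)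
    rwa [mul_one] at this
  · exact h02 x
  · refine ⟨fun h => ?_, fun h => h10 x (h12 x h)⟩
    have := (h20 _).1 (o21.trans_E (by decide) (by decide) (by decide) h)
    rwa [one_mul] at this
  · exact absurd rfl hpq
  · exact h12iff x
  · exact h20 x
  · refine ⟨fun h => ?_, a21 x⟩
    have := (h20 _).1 (h.trans_E (by decide) (by decide) (by decide) o10)
    rwa [mul_one] at this
  · exact absurd rfl hpq

end Cfsg.Lib.Linear.Mitchell.Even
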