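import Cfsg.Agent.Lib.Linear.Mitchell.EvenSplit

/-!
Large root subgroups with one axis for every centre: the transvections respect a hermitian form over a
quadratic extension of the field of the root subgroups.
-/

set_option autoImplicit false
set_option linter.unusedSectionVars false

open Matrix

namespace Cfsg.Lib.Linear.Mitchell.Even

variable {F : Type*} [Field F] [CharP F 2] {P : Subgroup (GL (Fin 3) F)}

/-- Every centre has one axis and every axis one centre. -/
def Unital (P : Subgroup (GL (Fin 3) F)) : Prop :=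
  (∀ z a a', IsT P z a → IsT P z a' → ∃ k : F, a' = k • a) ∧
    ∀ z z' a, IsT P z a → IsT P z' a → ∃ k : F, z' = k • z

theorem Unital.dual (hU : Unital P) : Unital (dual P) :=
  ⟨fun a z z' h h' => hU.2 z z' a (dual_isT.1 h) (dual_isT.1 h'),
    fun a a' z h h' => hU.1 z a a' (dual_isT.1 h) (dual_isT.1 h')⟩

/-- No incidence between two root elements unless they share the root. -/
theorem Unital.no_half (hU : Unital P) {z a w f : Fin 3 → F} (h1 : IsT P z a) (h2 : IsT P w f)
    (hfz : f ⬝ᵥ z = 0) : a ⬝ᵥ w = 0 := by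
  by_contra hne
  obtain ⟨k, hk⟩ := hU.1 z a _ h1 ⟨h1.1.trans h2.1 hfz, h1.2.1, smul_ne_zero hne h2.2.2⟩
  have hk0 : k ≠ 0 := fun e => smul_ne_zero hne h2.2.2 (by rw [hk, e, zero_smul])
  refine hne ?_
  have := congrArg (· ⬝ᵥ w) hk
  simp only [smul_dotProduct, h2.1.dot, smul_zero, smul_eq_mul, mul_zero] at this
  exact (mul_eq_zero.1 this.symm).resolve_left hk0

theorem Unital.no_half' (hU : Unital P) {z a w f : Fin 3 → F} (h1 : IsT P z a) (h2 : IsT P w f)
    (haw : a ⬝ᵥ w = 0) : f ⬝ᵥ z = 0 := hU.no_half h2 h1 haw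

variable [Fintype F]

/-- Two incident root elements share the root. -/
theorem Unital.same (hU : Unital P) {z a w f : Fin 3 → F} (h1 : IsT P z a) (h2 : IsT P w f)
    (hfz : f ⬝ᵥ z = 0) : (∃ k : F, w = k • z) ∧ ∃ k : F, f = k • a := by
  have haw := hU.no_half h1 h2 hfz
  by_cases hzw : crossProduct z w = 0
  · obtain ⟨k, hk⟩ := exists_smul_of_cross h1.2.1 (x := w) (by rw [← cross_anticomm, hzw, neg_zero])
    have hk0 : k ≠ 0 := fun e => h2.2.1 (by rw [hk, e, zero_smul])
    refine ⟨⟨k, hk⟩, ?_⟩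
    have h3 : InT P z (k • f) := (InT.scale_iff hfz).1 (hk ▸ h2.1)
    obtain ⟨l, hl⟩ := hU.1 z a _ h1 ⟨h3, h1.2.1, smul_ne_zero hk0 h2.2.2⟩
    exact ⟨k⁻¹ * l, by rw [← smul_smul, ← hl, smul_smul, inv_mul_cancel₀ hk0, one_smul]⟩
  · obtain ⟨k, hk⟩ := exists_smul_of_two hzw h1.2.2 h1.1.dot haw hfz h2.1.dot
    have hk0 : k ≠ 0 := fun e => h2.2.2 (by rw [hk, e, zero_smul])
    have h3 : InT P (k • w) a := (InT.scale_iff haw).2 (hk ▸ h2.1)
    obtain ⟨l, hl⟩ := hU.2 z _ a h1 ⟨h3, smul_ne_zero hk0 h2.2.1, h1.2.2⟩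
    exact ⟨⟨k⁻¹ * l, by rw [← smul_smul, ← hl, smul_smul, inv_mul_cancel₀ hk0, one_smul]⟩, k, hk⟩

/-- The polar functional of a centre for the form with antidiagonal `1, h, 1`. -/
def polarVec (σ : F →+* F) (h : F) (z : Fin 3 → F) : Fin 3 → F := ![σ (z 2), h * σ (z 1), σ (z 0)]

theorem exists_frob (K : Subfield F) : ∃ σ : F →+* F, ∀ x : F, σ x = x ↔ x ∈ K := by
  classical
  haveI : Fact (Nat.Prime 2) := ⟨Nat.prime_two⟩
  haveI : CharP K 2 := Subfield.charP K 2
  obtain ⟨n, -, hn⟩ := FiniteField.card K 2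
  refine ⟨iterateFrobenius F 2 n, fun x => ?_⟩
  rw [iterateFrobenius_def]
  have hK : ∀ y : K, y.1 ^ 2 ^ (n : ℕ) = y.1 := fun y => by
    rw [← hn]
    exact congrArg Subtype.val (FiniteField.pow_card y)
  refine ⟨fun hx => ?_, fun hx => hK ⟨x, hx⟩⟩
  by_contra hxK
  let q : ℕ := 2 ^ (n : ℕ)
  have h1q : 1 < q := Nat.one_lt_two_pow n.pos.ne'
  have hp : (Polynomial.X ^ q - Polynomial.X : Polynomial F) ≠ 0 := FiniteField.X_pow_card_sub_X_ne_zero F h1q
  let S : Finset F := insert x (Finset.univ.image fun y : K => (y : F))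
  have hS : S ⊆ (Polynomial.X ^ q - Polynomial.X : Polynomial F).roots.toFinset := by
    intro y hy
    rw [Multiset.mem_toFinset, Polynomial.mem_roots hp, Polynomial.IsRoot.def, Polynomial.eval_sub,
      Polynomial.eval_pow, Polynomial.eval_X, sub_eq_zero]
    rcases Finset.mem_insert.1 hy with rfl | hy
    · exact hx
    · obtain ⟨k, -, rfl⟩ := Finset.mem_image.1 hy
      exact hK k
  have h2 := (Finset.card_le_card hS).trans (((Multiset.toFinset_card_le _).trans (Polynomial.card_roots' _)).trans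
    (FiniteField.X_pow_card_sub_X_natDegree_eq F h1q).le)
  rw [Finset.card_insert_of_notMem (by simpa using hxK),
    Finset.card_image_of_injective _ Subtype.val_injective, Finset.card_univ, hn] at h2
  omega

theorem sqrt_mem {K : Subfield F} {x : F} (h : x * x ∈ K) : x ∈ K := by
  haveI : Fact (Nat.Prime 2) := ⟨Nat.prime_two⟩
  haveI : CharP K 2 := Subfield.charP K 2
  obtain ⟨y, hy⟩ := (Finite.injective_iff_surjective.1 (frobenius_inj K 2)) ⟨x * x, h⟩
  have e : (y : F) ^ 2 = x ^ 2 := by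
    have := congrArg Subtype.val hy
    rw [frobenius_def, SubmonoidClass.coe_pow] at this
    rw [this, pow_two]
  rw [← frobenius_inj F 2 (show frobenius F 2 (y : F) = frobenius F 2 x from e)]
  exact y.2

/-- The form from one root element off the line of the standard pair. -/
theorem unital_std (hU : Unital P) {K : Subfield F} (h4 : 4 ≤ Nat.card K) {σ : F →+* F}
    (hσ : ∀ x : F, σ x = x ↔ x ∈ K)
    (h02 : ∀ x, InT P (E 0) (x • E 2) ↔ x ∈ K) (h20 : ∀ x, InT P (E 2) (x • E 0) ↔ x ∈ K)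
    {r₀ : F} {f₀ : Fin 3 → F} (hv₀ : IsT P ![1, 1, r₀] f₀) :
    ∃ h : F, h ≠ 0 ∧ σ h = h ∧ σ (σ r₀) = r₀ ∧ σ r₀ ≠ r₀ ∧
      ∀ z a, IsT P z a → ∃ (z' : Fin 3 → F) (k : F), (∀ i, σ (σ (z' i)) = z' i) ∧ σ k = k ∧
        polarVec σ h z' ⬝ᵥ z' = 0 ∧ tvMat z a = tvMat z' (k • polarVec σ h z') := by
  classical
  have u02 : IsT P (E 0) (E 2) := ⟨by simpa using (h02 1).2 K.one_mem, E_ne 0, E_ne 2⟩
  have u20 : IsT P (E 2) (E 0) := ⟨by simpa using (h20 1).2 K.one_mem, E_ne 2, E_ne 0⟩
  -- normal form of a root element with first coordinate one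
  have hnorm : ∀ y r : F, ∀ f, IsT P ![1, y, r] f →
      ∃ k s B, k ∈ K ∧ k ≠ 0 ∧ f = k • ![s, B, 1] ∧ IsT P ![1, y, r] ![s, B, 1] ∧ s + B * y + r = 0 := by
    intro y r f hf
    have hne : f ⬝ᵥ E 2 ≠ 0 := by
      intro h0
      have := hU.no_half u20 hf h0
      rw [E_dot] at this
      simp at this
    obtain ⟨K', -, hk, h1, h2⟩ := pair u20.1 hf.1 (by rw [E_dot]; simp) hne
      (Or.inl (card_field_le K (fun x hx => (h20 x).2 hx) h4))
    have e : ∀ x, x ∈ K' ↔ x ∈ K := fun x => by rw [← h1, h20]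
    rw [dot_E] at hk hne
    have hfe : f = f 2 • ![f 0 / f 2, f 1 / f 2, 1] := by
      ext i; fin_cases i <;> simp [mul_div_cancel₀ _ hne]
    have hg : InT P ![1, y, r] ![f 0 / f 2, f 1 / f 2, 1] := by
      have := (h2 _).2 (K'.inv_mem hk)
      rw [hfe, smul_smul] at this
      simpa [inv_mul_cancel₀ hne] using this
    refine ⟨f 2, _, _, (e _).1 hk, hne, hfe, ⟨hg, hf.2.1, fun e0 => by simpa using congrFun e0 2⟩, ?_⟩
    have := hg.dot
    simp [dotProduct, Fin.sum_univ_three] at this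
    linear_combination this
  -- the points of the line of the standard pair
  have hline : ∀ μ ∈ K, IsT P ![1, 0, μ] ![μ, 0, 1] := by
    intro μ hμ
    have hd := ((h20 μ).2 hμ)
    have h := u02.1.conj_tv hd
    refine ⟨?_, fun e0 => by simpa using congrFun e0 0, fun e0 => by simpa using congrFun e0 2⟩
    have e1 : (μ • E 0 : Fin 3 → F) ⬝ᵥ E 0 = μ := by simp [E]
    have e2 : (E 2 : Fin 3 → F) ⬝ᵥ E 2 = 1 := by simp [E]
    rw [e1, e2, one_smul, show (E 0 : Fin 3 → F) + μ • E 2 = ![1, 0, μ] by ext i; fin_cases i <;> simp [E],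
      show (E 2 : Fin 3 → F) + μ • E 0 = ![μ, 0, 1] by ext i; fin_cases i <;> simp [E]] at h
    exact h
  -- pairs of normalised elements
  have hbig : ∀ y r s B : F, IsT P ![1, y, r] ![s, B, 1] →
      ∀ x, InT P ![1, y, r] (x • ![s, B, 1]) ↔ x ∈ K := by
    intro y r s B hv x
    obtain ⟨K', -, -, h1, h2⟩ := pair u20.1 hv.1 (by rw [E_dot]; simp) (by rw [dot_E]; simp)
      (Or.inl (card_field_le K (fun x hx => (h20 x).2 hx) h4))
    rw [h2, ← h1, h20]
  have hprod : ∀ y r s B y' r' s' B' : F, IsT P ![1, y, r] ![s, B, 1] → IsT P ![1, y', r'] ![s', B', 1] →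
      (s + B * y' + r') * (s' + B' * y + r) ∈ K := by
    intro y r s B y' r' s' B' hv hv'
    have e1 : (![s, B, 1] : Fin 3 → F) ⬝ᵥ ![1, y', r'] = s + B * y' + r' := by
      simp [dotProduct, Fin.sum_univ_three]
    have e2 : (![s', B', 1] : Fin 3 → F) ⬝ᵥ ![1, y, r] = s' + B' * y + r := by
      simp [dotProduct, Fin.sum_univ_three]
    by_cases hα : s + B * y' + r' = 0
    · rw [hα, zero_mul]; exact K.zero_mem
    have hd : InT P ((s + B * y' + r')⁻¹ • ![1, y', r']) ((s + B * y' + r') • ![s', B', 1]) := by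
      have := hv'.1.rescale (inv_ne_zero hα)
      rwa [inv_inv] at this
    have hβ : s' + B' * y + r ≠ 0 := fun e0 => hα (e1 ▸ hU.no_half hv hv' (e2.trans e0))
    obtain ⟨K', -, hk, h1, -⟩ := pair hv.1 hd (by rw [dotProduct_smul, e1, smul_eq_mul, inv_mul_cancel₀ hα])
      (by rw [smul_dotProduct, e2, smul_eq_mul]; exact mul_ne_zero hα hβ)
      (Or.inl (card_field_le K (fun x hx => (hbig y r s B hv x).2 hx) h4))
    rw [smul_dotProduct, e2, smul_eq_mul] at hk
    exact (hbig y r s B hv _).1 ((h1 _).2 hk)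
  -- the shape of a normalised element
  have hshape : ∀ y r s B : F, IsT P ![1, y, r] ![s, B, 1] → s + B * y + r = 0 →
      (y = 0 ∧ r ∈ K ∧ s = r ∧ B = 0) ∨ (y ≠ 0 ∧ r ∉ K ∧ s = σ r ∧ σ (σ r) = r) := by
    intro y r s B hv hd
    have h0 : s * r ∈ K := by simpa using hprod y r s B 0 0 0 0 hv (hline 0 K.zero_mem)
    have h1 : s + r ∈ K := by
      have := K.sub_mem (K.sub_mem (hprod y r s B 0 1 1 0 hv (hline 1 K.one_mem)) h0) K.one_mem
      convert this using 1
      ring
    by_cases hy : y = 0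
    · subst hy
      have hsr : s = r := CharTwo.add_eq_zero.1 (by linear_combination hd)
      subst hsr
      have hr := sqrt_mem h0
      refine Or.inl ⟨rfl, hr, rfl, ?_⟩
      obtain ⟨-, k, hk⟩ := hU.same (hline s hr) hv (by
        simp [dotProduct, Fin.sum_univ_three, CharTwo.add_self_eq_zero])
      simpa using congrFun hk 1
    · have hrK : r ∉ K := by
        intro hr
        have hs : (![r, 0, 1] : Fin 3 → F) ⬝ᵥ ![1, y, r] = 0 := by
          simp [dotProduct, Fin.sum_univ_three, CharTwo.add_self_eq_zero]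
        obtain ⟨⟨k, hk⟩, -⟩ := hU.same hv (hline r hr) hs
        have e0 := congrFun hk 0
        have e1 := congrFun hk 1
        simp at e0 e1
        rw [← e0] at e1
        simp [hy] at e1
      have hq : σ r * σ r + (s + r) * σ r + s * r = 0 := by
        rw [← (hσ _).2 h1, ← (hσ _).2 h0, ← map_mul, ← map_mul, ← map_add, ← map_add,
          show r * r + (s + r) * r + s * r = 0 by linear_combination (r * r + s * r) * CharTwo.two_eq_zero (R := F),
          map_zero]
      have hsr : s = σ r := by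
        have : (σ r - r) * (σ r - s) = 0 := by
          linear_combination hq - (σ r * (s + r)) * CharTwo.two_eq_zero (R := F)
        rcases mul_eq_zero.1 this with e | e
        · exact absurd ((hσ r).1 (sub_eq_zero.1 e)) hrK
        · exact (sub_eq_zero.1 e).symm
      refine Or.inr ⟨hy, hrK, hsr, ?_⟩
      have := (hσ _).2 h1
      rw [map_add, hsr] at this
      rwa [add_comm (σ r) r, add_left_inj] at this
  obtain ⟨k₀, s₀, h, -, -, -, hv, hd₀⟩ := hnorm 1 r₀ f₀ hv₀
  rcases hshape 1 r₀ s₀ h hv hd₀ with ⟨h10, -⟩ | ⟨-, hr0, hs0, hσσ0⟩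
  · exact absurd h10 one_ne_zero
  subst hs0
  have hne0 : σ r₀ + r₀ ≠ 0 := fun e => hr0 ((hσ _).1 (CharTwo.add_eq_zero.1 e))
  have hh : h = σ r₀ + r₀ := CharTwo.add_eq_zero.1 (by linear_combination hd₀)
  have hhσ : σ h = h := by rw [hh, map_add, hσσ0, add_comm]
  refine ⟨h, hh ▸ hne0, hhσ, hσσ0, fun e => hr0 ((hσ _).1 e), ?_⟩
  -- every normalised element
  have hmain : ∀ y r s B : F, IsT P ![1, y, r] ![s, B, 1] → s + B * y + r = 0 →
      σ (σ r) = r ∧ σ (σ y) = y ∧ s = σ r ∧ B = h * σ y := by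
    intro y r s B hv' hd
    rcases hshape y r s B hv' hd with ⟨rfl, hr, rfl, rfl⟩ | ⟨hy, hr, rfl, hσσ⟩
    · exact ⟨by rw [(hσ _).2 hr, (hσ _).2 hr], by simp, ((hσ _).2 hr).symm, by simp⟩
    have hAB : h * y * B ∈ K := by
      rw [← hσ, map_mul, map_mul, hhσ, ← sub_eq_zero]
      have hBy : B * y = σ r + r := CharTwo.add_eq_zero.1 (by linear_combination hd)
      have : σ (B * y) = B * y := by rw [hBy, map_add, hσσ, add_comm]
      rw [map_mul] at this
      linear_combination h * this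
    -- linear consequences for the four images of the first element
    have hlin : ∀ p : F, σ (σ p) = p → (p + B) * (σ p + h * y) ∈ K → p * (h * y) + σ p * B ∈ K := by
      intro p hp hm
      have hpp : p * σ p ∈ K := by rw [← hσ, map_mul, hp, mul_comm]
      convert K.sub_mem (K.sub_mem hm hpp) hAB using 1
      ring
    have c0 := hlin (σ r + r₀) (by rw [map_add, map_add, hσσ0, hσσ]) (by
      have := hprod y r (σ r) B 1 r₀ (σ r₀) h hv' hv
      convert this using 1
      rw [map_add, hσσ]; ring)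
    have vA : IsT P ![1, 1, r₀ + 1] ![σ r₀ + 1, h, 1] := by
      have := hv.1.conj_tv u20.1
      refine ⟨?_, fun e0 => by simpa using congrFun e0 0, fun e0 => by simpa using congrFun e0 2⟩
      convert this using 1
      · ext i; fin_cases i <;> simp [E, dotProduct, Fin.sum_univ_three]
      · ext i; fin_cases i <;> simp [E, dotProduct, Fin.sum_univ_three]
    have c1 := hlin (σ r + r₀ + 1) (by rw [map_add, map_add, map_add, map_add, hσσ0, hσσ, map_one, map_one]) (by
      have := hprod y r (σ r) B 1 (r₀ + 1) (σ r₀ + 1) h hv' vA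
      convert this using 1
      rw [map_add, map_add, hσσ, map_one]; ring)
    have hsum : h * y + B ∈ K := by
      convert K.sub_mem c1 c0 using 1
      rw [map_add _ (σ r + r₀), map_one]; ring
    -- the second translate
    have vB := hv.1.conj_tv u02.1
    rw [E_dot, dot_E] at vB
    have hb1 : (![1, 1, r₀] : Fin 3 → F) + (![1, 1, r₀] : Fin 3 → F) 2 • E 0 = ![1 + r₀, 1, r₀] := by
      ext i; fin_cases i <;> simp [E]
    have hb2 : (![σ r₀, h, 1] : Fin 3 → F) + (![σ r₀, h, 1] : Fin 3 → F) 0 • E 2 = ![σ r₀, h, 1 + σ r₀] := by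
      ext i; fin_cases i <;> simp [E]
    rw [hb1, hb2] at vB
    have hprodB : ∀ z' f' : Fin 3 → F, InT P z' f' → z' ≠ 0 → f' ≠ 0 → z' 1 = 1 → f' 1 = h →
        ∀ p, p = (![σ r, 0, 1] : Fin 3 → F) ⬝ᵥ z' → σ p = f' 0 + f' 2 * r → σ (σ p) = p →
        p * (h * y) + σ p * B ∈ K := by
      intro z' f' hz' hz0 hf0 e1 e2 p hp hσp hpp
      refine hlin p hpp ?_
      have eα : (![σ r, B, 1] : Fin 3 → F) ⬝ᵥ z' = p + B := by
        rw [hp]; simp [dotProduct, Fin.sum_univ_three, e1]; ring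
      have eβ : f' ⬝ᵥ ![1, y, r] = σ p + h * y := by
        rw [hσp]; simp [dotProduct, Fin.sum_univ_three, e2]; ring
      by_cases hα : p + B = 0
      · rw [hα, zero_mul]; exact K.zero_mem
      have hd' : InT P ((p + B)⁻¹ • z') ((p + B) • f') := by
        have := hz'.rescale (inv_ne_zero hα)
        rwa [inv_inv] at this
      have hβ : σ p + h * y ≠ 0 := fun e0 => hα (eα ▸ hU.no_half hv' ⟨hz', hz0, hf0⟩ (eβ.trans e0))
      obtain ⟨K', -, hk, h1, -⟩ := pair hv'.1 hd' (by rw [dotProduct_smul, eα, smul_eq_mul, inv_mul_cancel₀ hα])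
        (by rw [smul_dotProduct, eβ, smul_eq_mul]; exact mul_ne_zero hα hβ)
        (Or.inl (card_field_le K (fun x hx => (hbig _ _ _ _ hv' x).2 hx) h4))
      rw [smul_dotProduct, eβ, smul_eq_mul] at hk
      exact (hbig _ _ _ _ hv' _).1 ((h1 _).2 hk)
    have c2 := hprodB _ _ vB (fun e0 => by simpa using congrFun e0 1)
      (fun e0 => hne0 (by rw [← hh]; simpa using congrFun e0 1)) (by simp) (by simp)
      (σ r * (1 + r₀) + r₀) (by simp [dotProduct, Fin.sum_univ_three])
      (by simp only [map_add, map_mul, map_one, hσσ, cons_val_zero, cons_val_two, cons_val_one, Matrix.tail_cons,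
        Matrix.head_cons]; ring)
      (by simp only [map_add, map_mul, map_one, hσσ, hσσ0])
    have vC := vB.conj_tv u20.1
    rw [E_dot, dot_E] at vC
    have hc1 : (![1 + r₀, 1, r₀] : Fin 3 → F) + (![1 + r₀, 1, r₀] : Fin 3 → F) 0 • E 2 = ![1 + r₀, 1, 1] := by
      ext i; fin_cases i <;> simp [E]
      linear_combination r₀ * CharTwo.two_eq_zero (R := F)
    have hc2 : (![σ r₀, h, 1 + σ r₀] : Fin 3 → F) + (![σ r₀, h, 1 + σ r₀] : Fin 3 → F) 2 • E 0 =
        ![1, h, 1 + σ r₀] := by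
      ext i; fin_cases i <;> simp [E]
      linear_combination σ r₀ * CharTwo.two_eq_zero (R := F)
    rw [hc1, hc2] at vC
    have c3 := hprodB _ _ vC (fun e0 => by simpa using congrFun e0 1) (fun e0 => by simpa using congrFun e0 0)
      (by simp) (by simp) (σ r * (1 + r₀) + 1) (by simp [dotProduct, Fin.sum_univ_three])
      (by simp only [map_add, map_mul, map_one, hσσ, cons_val_zero, cons_val_two, cons_val_one, Matrix.tail_cons,
        Matrix.head_cons]; ring)
      (by simp only [map_add, map_mul, map_one, hσσ, hσσ0])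
    have hlast : r₀ * (h * y) + σ r₀ * B ∈ K := by
      convert K.sub_mem (K.add_mem hsum c2) c3 using 1
      simp only [map_add, map_mul, map_one, hσσ]
      ring
    -- solve
    have eS : σ (h * y) + σ B = h * y + B := by rw [← map_add]; exact (hσ _).2 hsum
    have eT : σ r₀ * σ (h * y) + r₀ * σ B = r₀ * (h * y) + σ r₀ * B := by
      have := (hσ _).2 hlast
      rwa [map_add, map_mul σ r₀, map_mul σ (σ r₀), hσσ0] at this
    have hA : σ (h * y) = B := by
      have e : (σ r₀ - r₀) * (σ (h * y) - B) = 0 := by linear_combination eT - r₀ * eS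
      rcases mul_eq_zero.1 e with e | e
      · exact absurd ((hσ _).1 (sub_eq_zero.1 e)) hr0
      · exact sub_eq_zero.1 e
    have hB' : σ B = h * y := by linear_combination eS - hA
    have hyy : σ (σ y) = y := by
      rw [← hA, map_mul, map_mul, hhσ, hhσ] at hB'
      exact mul_left_cancel₀ (hh ▸ hne0) hB'
    exact ⟨hσσ, hyy, rfl, by rw [← hA, map_mul, hhσ]⟩
  intro z a hza
  by_cases hz0 : z 0 = 0
  · have hs : (E 0 : Fin 3 → F) ⬝ᵥ z = 0 := by rw [E_dot, hz0]
    obtain ⟨⟨k, hk⟩, -⟩ := hU.same hza u20 hs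
    have hk0 : k ≠ 0 := fun e => E_ne (F := F) 2 (by rw [hk, e, zero_smul])
    have hz : z = k⁻¹ • E 2 := by rw [hk, smul_smul, inv_mul_cancel₀ hk0, one_smul]
    subst hz
    have hd' := hza.1.dot
    rw [dotProduct_smul, dot_E, smul_eq_mul, mul_eq_zero] at hd'
    have ha2 := hd'.resolve_left (inv_ne_zero hk0)
    have h3 : InT P (E 2) (k⁻¹ • a) := (InT.scale_iff (by rw [dot_E, ha2])).1 hza.1
    obtain ⟨l, hl⟩ := hU.1 _ _ _ u20 ⟨h3, E_ne 2, smul_ne_zero (inv_ne_zero hk0) hza.2.2⟩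
    refine ⟨E 2, l, fun i => by fin_cases i <;> simp [E], ?_, by simp [polarVec, E, dotProduct, Fin.sum_univ_three], ?_⟩
    · rw [hσ, ← h20 l, ← hl]; exact h3
    · rw [tvMat_smul, hl, show (E 0 : Fin 3 → F) = polarVec σ h (E 2) by
        ext i; fin_cases i <;> simp [polarVec, E]]
  · obtain ⟨z', hz'⟩ : ∃ z', z' = (z 0)⁻¹ • z := ⟨_, rfl⟩
    have hT : IsT P ![1, z' 1, z' 2] ((z 0) • a) := by
      have := hza.1.rescale (inv_ne_zero hz0)
      rw [inv_inv, ← hz', show z' = ![1, z' 1, z' 2] by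
        ext i; fin_cases i <;> simp [hz', inv_mul_cancel₀ hz0]] at this
      exact ⟨this, fun e0 => by simpa using congrFun e0 0, smul_ne_zero hz0 hza.2.2⟩
    obtain ⟨k, s, B, hkK, -, hf, hv', hd⟩ := hnorm _ _ _ hT
    obtain ⟨e1, e2, e3, e4⟩ := hmain _ _ _ _ hv' hd
    refine ⟨![1, z' 1, z' 2], k, fun i => ?_, (hσ k).2 hkK, ?_, ?_⟩
    · fin_cases i <;> simp [e1, e2]
    · simp [polarVec, dotProduct, Fin.sum_univ_three, ← e3, ← e4]
      linear_combination hd
    · have hp : polarVec σ h ![1, z' 1, z' 2] = ![s, B, 1] := by simp [polarVec, e3, e4]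
      rw [hp, ← hf, ← tvMat_smul]
      congr 1
      ext i
      fin_cases i <;> simp [hz', mul_comm (z 0), inv_mul_cancel₀ hz0, mul_right_comm]

end Cfsg.Lib.Linear.Mitchell.Even
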