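import Cfsg.Agent.Lib.Linear.Mitchell.FieldTrace

/-!
# Lifts of elements of `P/Z`

Elements of order prime to three lift with the same order and the same conjugacy relations.
-/

set_option autoImplicit false

namespace Cfsg.Lib.Linear.Mitchell

open Cfsg.Geo
open scoped Matrix MatrixGroups

variable {F : Type*} [Field F] {P : Subgroup (GL (Fin 3) F)}

/-- The projection to `P` modulo scalars. -/
abbrev qm (P : Subgroup (GL (Fin 3) F)) : P →* P ⧸ (scalars (Fin 3) F).subgroupOf P :=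
  QuotientGroup.mk' _

theorem mk_eq_one_iff {v : P} : qm P v = 1 ↔ (v : GL (Fin 3) F) ∈ scalars (Fin 3) F := by
  rw [qm, QuotientGroup.mk'_apply, QuotientGroup.eq_one_iff, Subgroup.mem_subgroupOf]

theorem cube_one_of_mk_one (hP : Core P) {v : P} (h : qm P v = 1) : v ^ 3 = 1 :=
  Subtype.ext (by rw [Subgroup.coe_pow, scalar_cube (mk_eq_one_iff.1 h) (hP.le_sl v.2), OneMemClass.coe_one])

/-- An element of order `n` prime to three modulo scalars is such an element times a scalar. -/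
theorem exists_prime_lift (hP : Core P) {n : ℕ} (hn : n % 3 ≠ 0) (x : P) (hx : qm P x ^ n = 1) :
    ∃ x' s : P, x = x' * s ∧ x' ^ n = 1 ∧ qm P s = 1 ∧ qm P x' = qm P x := by
  have h3n : x ^ (3 * n) = 1 := by
    rw [mul_comm, pow_mul]; exact cube_one_of_mk_one hP (by rw [map_pow, hx])
  obtain ⟨a, b, hab, h3⟩ : ∃ a b, a + b = 1 + 3 * n ∧ 3 ∣ a ∧ n ∣ b := by
    rcases (show n % 3 = 1 ∨ n % 3 = 2 by omega) with h | h
    · exact ⟨2 * n + 1, n, by omega, by omega, dvd_rfl⟩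
    · exact ⟨n + 1, 2 * n, by omega, by omega, Dvd.intro_left 2 rfl⟩
  obtain ⟨⟨a', rfl⟩, ⟨b', rfl⟩⟩ := h3
  have hs : qm P (x ^ (n * b')) = 1 := by rw [map_pow, pow_mul, hx, one_pow]
  refine ⟨x ^ (3 * a'), x ^ (n * b'), ?_, ?_, hs, ?_⟩
  · rw [← pow_add, hab, pow_add, pow_one, h3n, mul_one]
  · rw [← pow_mul, mul_right_comm, pow_mul, h3n, one_pow]
  · calc qm P (x ^ (3 * a')) = qm P (x ^ (3 * a')) * qm P (x ^ (n * b')) := by rw [hs, mul_one]
      _ = qm P x := by rw [← map_mul, ← pow_add, hab, pow_add, pow_one, h3n, mul_one]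

/-- Conjugacy relations between elements of order prime to three lift. -/
theorem conj_exact (hP : Core P) {n : ℕ} (hn : n % 3 ≠ 0) {x : P} (hx : x ^ n = 1) {j : ℕ} {y : P}
    (h : qm P y * qm P x = qm P x ^ j * qm P y) : y * x * y⁻¹ = x ^ j := by
  have hs : qm P ((x ^ j)⁻¹ * (y * x * y⁻¹)) = 1 := by
    rw [map_mul, map_inv, map_mul, map_mul, map_inv, h, map_pow, mul_inv_cancel_right, inv_mul_cancel]
  set s := (x ^ j)⁻¹ * (y * x * y⁻¹) with hsdef
  have hs3 := cube_one_of_mk_one hP hs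
  have hc : Commute s (x ^ j) := Subtype.ext (scalars_comm' (mk_eq_one_iff.1 hs) _).symm
  have e : y * x * y⁻¹ = x ^ j * s := by rw [hsdef, mul_inv_cancel_left]
  have en := congrArg (· ^ n) e
  simp only [conj_pow, hx, mul_one, mul_inv_cancel] at en
  rw [hc.symm.mul_pow, ← pow_mul, pow_mul', hx, one_pow, one_mul] at en
  have hd1 := orderOf_dvd_of_pow_eq_one en.symm
  have hd2 := orderOf_dvd_of_pow_eq_one hs3
  have hs1 : s = 1 := by
    rw [← orderOf_eq_one_iff]
    rcases (Nat.dvd_prime Nat.prime_three).1 hd2 with h | h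
    · exact h
    · rw [h] at hd1; omega
  rw [e, hs1, mul_one]

theorem trace_scalar_mul {x' s : P} (hs : qm P s = 1) :
    ∃ c : F, c ^ 3 = (s : GL (Fin 3) F).val.det ∧ c ≠ 0 ∧
      (↑(x' * s) : GL (Fin 3) F).val.trace = c * (x' : GL (Fin 3) F).val.trace ∧
      ((↑(x' * s) : GL (Fin 3) F)⁻¹).val.trace = c⁻¹ * ((x' : GL (Fin 3) F)⁻¹).val.trace := by
  obtain ⟨c, hc0, hc⟩ := exists_scalar (mk_eq_one_iff.1 hs)
  refine ⟨c, by rw [hc, Matrix.det_smul, Matrix.det_one, mul_one, Fintype.card_fin], hc0, ?_, ?_⟩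
  · rw [Subgroup.coe_mul, Units.val_mul, hc, Matrix.mul_smul, mul_one, Matrix.trace_smul, smul_eq_mul]
  · have hi : ((s : GL (Fin 3) F)⁻¹).val = c⁻¹ • 1 := by
      refine left_inv_eq_right_inv (Units.inv_mul (s : GL (Fin 3) F)) ?_
      rw [hc, Matrix.smul_mul, one_mul, smul_smul, mul_inv_cancel₀ hc0, one_smul]
    rw [Subgroup.coe_mul, mul_inv_rev, Units.val_mul, hi, Matrix.smul_mul, one_mul, Matrix.trace_smul, smul_eq_mul]

theorem trace_of_conj {x y : P} {z : GL (Fin 3) F} (h : ((y * x * y⁻¹ : P) : GL (Fin 3) F) = z) :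
    z.val.trace = (x : GL (Fin 3) F).val.trace := by
  rw [← h, Subgroup.coe_mul, Subgroup.coe_mul, Subgroup.coe_inv, Units.val_mul, Units.val_mul,
    Matrix.trace_units_conj]

/-- An element of order three modulo scalars, inverted modulo scalars, has order three. -/
theorem cube_eq_one_of_inverted (hP : Core P) {x y : P} (hx : qm P x ^ 3 = 1) (h : qm P y * qm P x = qm P x ^ 2 * qm P y) :
    x ^ 3 = 1 := by
  have hs : qm P ((x ^ 2)⁻¹ * (y * x * y⁻¹)) = 1 := by
    rw [map_mul, map_inv, map_mul, map_mul, map_inv, h, map_pow, mul_inv_cancel_right, inv_mul_cancel]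
  set s := (x ^ 2)⁻¹ * (y * x * y⁻¹) with hsdef
  have hs3 := cube_one_of_mk_one hP hs
  have hc : Commute s (x ^ 2) := Subtype.ext (scalars_comm' (mk_eq_one_iff.1 hs) _).symm
  have hz : qm P (x ^ 3) = 1 := by rw [map_pow, hx]
  have hz3 := cube_one_of_mk_one hP hz
  have hzc : Commute y (x ^ 3) := Subtype.ext (scalars_comm' (mk_eq_one_iff.1 hz) _)
  have e : y * x * y⁻¹ = x ^ 2 * s := by rw [hsdef, mul_inv_cancel_left]
  have e3 := congrArg (· ^ 3) e
  simp only [conj_pow] at e3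
  rw [hc.symm.mul_pow, hs3, mul_one, hzc.eq, mul_inv_cancel_right] at e3
  calc x ^ 3 = (x ^ 2) ^ 3 * (x ^ 3)⁻¹ := by group
    _ = 1 := by rw [← e3, mul_inv_cancel]

/-- Order three, inverted: scalar or both traces zero. -/
theorem trace_of_inverted [Finite F] (hP : Core P) {x y : P} (hx : qm P x ^ 3 = 1)
    (h : qm P y * qm P x = qm P x ^ 2 * qm P y) :
    qm P x = 1 ∨ ((x : GL (Fin 3) F).val.trace = 0 ∧ ((x : GL (Fin 3) F)⁻¹).val.trace = 0) := by
  have h3 : (x : GL (Fin 3) F) ^ 3 = 1 := by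
    rw [← Subgroup.coe_pow, cube_eq_one_of_inverted hP hx h, OneMemClass.coe_one]
  rcases trace_cube_zero (hP.le_sl x.2) h3 with h' | h'
  · exact Or.inl (mk_eq_one_iff.2 h')
  · exact Or.inr h'

end Cfsg.Lib.Linear.Mitchell
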