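import Mathlib

/-!
# Element facts in `L₃(2)`, `A₆` and `A₇`
-/

set_option autoImplicit false
set_option maxHeartbeats 4000000

namespace Cfsg.Lib.Linear.Mitchell.SmallFacts

open Equiv Equiv.Perm

local notation "M2" => Matrix.SpecialLinearGroup (Fin 3) (ZMod 2)

theorem sl32_cases : ∀ c : M2, c ^ 3 = 1 ∨ c ^ 4 = 1 ∨ c ^ 7 = 1 := by decide +kernel

theorem sl32_seven : ∀ c : M2, c ^ 7 = 1 → ∃ h, h * c = c ^ 2 * h := by decide +kernel

theorem sl32_real : ∀ c : M2, c ^ 4 = 1 → ∃ h, h * c = c⁻¹ * h := by decide +kernel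

/-- The same in `L₃(2)`. -/
theorem l32_facts (a : Matrix.ProjectiveSpecialLinearGroup (Fin 3) (ZMod 2)) :
    a ^ 3 = 1 ∨ (a ^ 4 = 1 ∧ ∃ h, h * a = a⁻¹ * h) ∨ (a ^ 7 = 1 ∧ ∃ h, h * a = a ^ 2 * h) := by
  obtain ⟨c, rfl⟩ := QuotientGroup.mk'_surjective _ a
  rcases sl32_cases c with h | h | h
  · exact Or.inl (by rw [← map_pow, h, map_one])
  · obtain ⟨g, hg⟩ := sl32_real c h
    exact Or.inr (Or.inl ⟨by rw [← map_pow, h, map_one], QuotientGroup.mk' _ g,
      by rw [← map_inv, ← map_mul, ← map_mul, hg]⟩)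
  · obtain ⟨g, hg⟩ := sl32_seven c h
    exact Or.inr (Or.inr ⟨by rw [← map_pow, h, map_one], QuotientGroup.mk' _ g,
      by rw [← map_pow, ← map_mul, ← map_mul, hg]⟩)

theorem alt6_cases : ∀ c : alternatingGroup (Fin 6), c ^ 3 = 1 ∨ c ^ 4 = 1 ∨ c ^ 5 = 1 := by
  decide +kernel

theorem alt6_real : ∀ c : alternatingGroup (Fin 6), ∃ h, h * c = c⁻¹ * h := by decide +kernel

theorem even_types (m : Multiset ℕ) (h2 : ∀ a ∈ m, 2 ≤ a) (hs : m.sum ≤ 7)
    (hev : (m.sum + Multiset.card m) % 2 = 0) :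
    m ∈ ({0, {3}, {3, 3}, {2, 2}, {4, 2}, {3, 2, 2}, {5}, {7}} : Finset (Multiset ℕ)) := by
  obtain ⟨l, rfl⟩ : ∃ l : List ℕ, (l : Multiset ℕ) = m := ⟨m.toList, m.coe_toList⟩
  match l with
  | [] => decide
  | [a] =>
    have := h2 a (by simp)
    simp at hs hev
    interval_cases a <;> first | omega | decide
  | [a, b] =>
    have := h2 a (by simp)
    have := h2 b (by simp)
    simp at hs hev
    have : a ≤ 5 := by omega
    have : b ≤ 5 := by omega
    interval_cases a <;> interval_cases b <;> first | omega | decide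
  | [a, b, c] =>
    have := h2 a (by simp)
    have := h2 b (by simp)
    have := h2 c (by simp)
    simp at hs hev
    have : a ≤ 3 := by omega
    have : b ≤ 3 := by omega
    have : c ≤ 3 := by omega
    interval_cases a <;> interval_cases b <;> interval_cases c <;> first | omega | decide
  | a :: b :: c :: d :: t =>
    have := h2 a (by simp)
    have := h2 b (by simp)
    have := h2 c (by simp)
    have := h2 d (by simp)
    simp at hs
    omega

/-- The cycle types in `A₇`. -/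
theorem alt7_types (c : alternatingGroup (Fin 7)) :
    (c : Perm (Fin 7)).cycleType ∈
      ({0, {3}, {3, 3}, {2, 2}, {4, 2}, {3, 2, 2}, {5}, {7}} : Finset (Multiset ℕ)) := by
  refine even_types _ (fun a ha => Equiv.Perm.two_le_of_mem_cycleType ha) ?_ ?_
  · rw [Equiv.Perm.sum_cycleType]
    exact (Finset.card_le_univ _).trans (by rw [Fintype.card_fin])
  have hs := Equiv.Perm.sign_of_cycleType (c : Perm (Fin 7))
  rw [Equiv.Perm.mem_alternatingGroup.1 c.2, eq_comm, neg_one_pow_eq_one_iff_even (by decide)] at hs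
  exact Nat.even_iff.1 hs

theorem conj_transfer {r : Perm (Fin 7)} {j : ℕ} (w : alternatingGroup (Fin 7))
    (hw : (w : Perm (Fin 7)) * r = r ^ j * w) {c : alternatingGroup (Fin 7)}
    (hc : r.cycleType = (c : Perm (Fin 7)).cycleType) : ∃ h, h * c = c ^ j * h := by
  obtain ⟨g, hg⟩ := isConj_iff.1 (Equiv.Perm.isConj_iff_cycleType_eq.2 hc)
  refine ⟨⟨g * w * g⁻¹, Equiv.Perm.mem_alternatingGroup.2 ?_⟩, Subtype.ext ?_⟩
  · rw [map_mul, map_mul, map_inv, Equiv.Perm.mem_alternatingGroup.1 w.2]; group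
  · show g * w * g⁻¹ * c = (c : Perm (Fin 7)) ^ j * (g * w * g⁻¹)
    rw [← hg, conj_pow]
    calc g * w * g⁻¹ * (g * r * g⁻¹) = g * (w * r) * g⁻¹ := by group
      _ = g * (r ^ j * w) * g⁻¹ := by rw [hw]
      _ = g * r ^ j * g⁻¹ * (g * w * g⁻¹) := by group

theorem pow_eq_one_of_type {c : alternatingGroup (Fin 7)} {m : Multiset ℕ} {n : ℕ}
    (h : (c : Perm (Fin 7)).cycleType = m) (hn : m.lcm ∣ n) : c ^ n = 1 := by
  refine Subtype.ext ?_
  rw [Subgroup.coe_pow]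
  exact orderOf_dvd_iff_pow_eq_one.1 (by rw [← Equiv.Perm.lcm_cycleType, h]; exact hn)

/-- The element classes of `A₇`. -/
theorem alt7_facts (c : alternatingGroup (Fin 7)) :
    c ^ 5 = 1 ∨ (c ^ 6 = 1 ∧ ∃ h, h * c ^ 2 = (c ^ 2) ^ 2 * h) ∨ (c ^ 4 = 1 ∧ ∃ h, h * c = c ^ 3 * h) ∨
      (c ^ 7 = 1 ∧ ∃ h, h * c = c ^ 2 * h) := by
  have hc2 : ∀ {m : Multiset ℕ}, (c : Perm (Fin 7)).cycleType = m → m.lcm ∣ 2 → c ^ 6 = 1 ∧
      ∃ h, h * c ^ 2 = (c ^ 2) ^ 2 * h := fun hm hd => by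
    have h2 := pow_eq_one_of_type hm hd
    exact ⟨by rw [show 6 = 2 * 3 by rfl, pow_mul, h2, one_pow], 1, by rw [h2, one_pow]⟩
  let i3 : alternatingGroup (Fin 7) := ⟨c[(1 : Fin 7), 2] * c[(3 : Fin 7), 4],
    Equiv.Perm.mem_alternatingGroup.2 (by decide +kernel)⟩
  let i33 : alternatingGroup (Fin 7) := ⟨c[(1 : Fin 7), 2] * c[(4 : Fin 7), 5],
    Equiv.Perm.mem_alternatingGroup.2 (by decide +kernel)⟩
  let i4 : alternatingGroup (Fin 7) := ⟨c[(1 : Fin 7), 3] * c[(4 : Fin 7), 5],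
    Equiv.Perm.mem_alternatingGroup.2 (by decide +kernel)⟩
  let i7 : alternatingGroup (Fin 7) := ⟨c[(1 : Fin 7), 2, 4] * c[(3 : Fin 7), 6, 5],
    Equiv.Perm.mem_alternatingGroup.2 (by decide +kernel)⟩
  have h := alt7_types c
  simp only [Finset.mem_insert, Finset.mem_singleton] at h
  rcases h with h | h | h | h | h | h | h | h
  · exact Or.inr (Or.inl (hc2 h (by decide)))
  · refine Or.inr (Or.inl ⟨pow_eq_one_of_type h (by decide), ?_⟩)
    obtain ⟨g, hg⟩ := conj_transfer (r := c[(0 : Fin 7), 1, 2]) (j := 2) i3 (by decide +kernel)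
      (c := c) (by rw [h]; decide +kernel)
    refine ⟨g, ?_⟩
    have := congrArg (fun z => g * z) (show c ^ 3 = 1 from pow_eq_one_of_type h (by decide))
    calc g * c ^ 2 = c ^ 2 * g * c := by rw [pow_two c, ← mul_assoc, hg, pow_two]
      _ = c ^ 2 * (c ^ 2 * g) := by rw [mul_assoc, hg]
      _ = (c ^ 2) ^ 2 * g := by rw [← mul_assoc, pow_two (c ^ 2)]
  · refine Or.inr (Or.inl ⟨pow_eq_one_of_type h (by decide), ?_⟩)
    obtain ⟨g, hg⟩ := conj_transfer (r := c[(0 : Fin 7), 1, 2] * c[(3 : Fin 7), 4, 5]) (j := 2) i33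
      (by decide +kernel) (c := c) (by rw [h]; decide +kernel)
    refine ⟨g, ?_⟩
    calc g * c ^ 2 = c ^ 2 * g * c := by rw [pow_two c, ← mul_assoc, hg, pow_two]
      _ = c ^ 2 * (c ^ 2 * g) := by rw [mul_assoc, hg]
      _ = (c ^ 2) ^ 2 * g := by rw [← mul_assoc, pow_two (c ^ 2)]
  · exact Or.inr (Or.inl (hc2 h (by decide)))
  · refine Or.inr (Or.inr (Or.inl ⟨pow_eq_one_of_type h (by decide), ?_⟩))
    exact conj_transfer (r := c[(0 : Fin 7), 1, 2, 3] * c[(4 : Fin 7), 5]) (j := 3) i4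
      (by decide +kernel) (c := c) (by rw [h]; decide +kernel)
  · -- type `(3,2,2)`: the square is a 3-cycle
    refine Or.inr (Or.inl ⟨pow_eq_one_of_type h (by decide), ?_⟩)
    obtain ⟨g, hg⟩ := conj_transfer (r := c[(0 : Fin 7), 1, 2] * (c[(3 : Fin 7), 4] * c[(5 : Fin 7), 6]))
      (j := 5) ⟨c[(1 : Fin 7), 2] * c[(3 : Fin 7), 4], Equiv.Perm.mem_alternatingGroup.2 (by decide +kernel)⟩
      (by decide +kernel) (c := c) (by rw [h]; decide +kernel)
    refine ⟨g, ?_⟩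
    have h6 : c ^ 6 = 1 := pow_eq_one_of_type h (by decide)
    calc g * c ^ 2 = c ^ 5 * g * c := by rw [pow_two c, ← mul_assoc, hg]
      _ = c ^ 5 * (c ^ 5 * g) := by rw [mul_assoc, hg]
      _ = (c ^ 2) ^ 2 * g := by
        rw [← mul_assoc, ← pow_add, ← pow_mul, show 5 + 5 = 6 + 2 * 2 by rfl, pow_add, h6, one_mul]
  · exact Or.inl (pow_eq_one_of_type h (by decide))
  · refine Or.inr (Or.inr (Or.inr ⟨pow_eq_one_of_type h (by decide), ?_⟩))
    exact conj_transfer (r := c[(0 : Fin 7), 1, 2, 3, 4, 5, 6]) (j := 2) i7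
      (by decide +kernel) (c := c) (by rw [h]; decide +kernel)

end Cfsg.Lib.Linear.Mitchell.SmallFacts
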