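import Cfsg.Agent.Lib.Linear.Mitchell.FieldLift
import Cfsg.Agent.Lib.Linear.Mitchell.SmallFacts
import Cfsg.Agent.Lib.Linear.Mitchell.CoreL2Real
import Cfsg.Agent.S0255

/-!
# The field conditions for `L₂(7)`, `A₆`, `A₇` in dimension three

`(tr x)ᵖ` is `tr x` or `tr x⁻¹`, according to `p` modulo 7, resp. 3 and 5.
-/

set_option autoImplicit false

namespace Cfsg.Lib.Linear.Mitchell

open Cfsg.Geo
open scoped Matrix MatrixGroups

variable {F : Type*} [Field F] [Finite F] {P : Subgroup (GL (Fin 3) F)}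

theorem exists_relation {G : Type*} [Group G] (e : P ⧸ (scalars (Fin 3) F).subgroupOf P ≃* G) {x : P} {j : ℕ}
    {h : G} (hh : h * e (qm P x) = e (qm P x) ^ j * h) : ∃ y : P, qm P y * qm P x = qm P x ^ j * qm P y := by
  obtain ⟨y, hy⟩ := QuotientGroup.mk'_surjective ((scalars (Fin 3) F).subgroupOf P) (e.symm h)
  refine ⟨y, e.injective ?_⟩
  rw [map_mul, map_mul, map_pow, show qm P y = e.symm h from hy, e.apply_symm_apply, hh]

theorem pow_of_map {G : Type*} [Group G] (e : P ⧸ (scalars (Fin 3) F).subgroupOf P ≃* G) {x : P} {n : ℕ}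
    (h : e (qm P x) ^ n = 1) : qm P x ^ n = 1 :=
  e.injective (by rw [map_pow, h, map_one])

variable {p : ℕ} [Fact p.Prime] [CharP F p]

/-- Traces of powers of a real element of order four. -/
theorem trace_four (hp2 : p ≠ 2) {x : GL (Fin 3) F} (hx : x ^ 4 = 1) (hreal : (x⁻¹).val.trace = x.val.trace) :
    x.val.trace ^ p = x.val.trace := by
  rw [← trace_gl_pow_char]
  have hodd : p % 2 = 1 := ((Fact.out : p.Prime).eq_two_or_odd).resolve_left hp2
  rw [← Nat.div_add_mod p 4, pow_add, pow_mul, hx, one_pow, one_mul]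
  rcases (show p % 4 = 1 ∨ p % 4 = 3 by omega) with h | h <;> rw [h]
  · rw [pow_one]
  · rw [show x ^ 3 = x⁻¹ from (inv_eq_of_mul_eq_one_right (by rw [← pow_succ', hx])).symm, hreal]

/-- `L₂(7)`. -/
theorem l27_frob (hP : Core P) (h2 : p ≠ 2) (h7 : p ≠ 7)
    (e : P ⧸ (scalars (Fin 3) F).subgroupOf P ≃* Matrix.ProjectiveSpecialLinearGroup (Fin 3) (ZMod 2))
    {x : GL (Fin 3) F} (hx : x ∈ P) :
    (p % 7 = 1 ∨ p % 7 = 2 ∨ p % 7 = 4 → x.val.trace ^ p = x.val.trace) ∧
    (p % 7 = 3 ∨ p % 7 = 5 ∨ p % 7 = 6 → (x⁻¹).val.trace = x.val.trace ^ p) := by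
  haveI : Fact (Nat.Prime 7) := ⟨by norm_num⟩
  obtain ⟨e'⟩ := Cfsg.Agent.S0255.result (F := ZMod 7) (K := ZMod 2) (ZMod.card 7) (ZMod.card 2)
  let ψ := (e.trans e'.symm).toMonoidHom.comp (qm P)
  have hψ : ψ.ker = (scalars (Fin 3) F).subgroupOf P := by
    ext v; simp [ψ, qm, MonoidHom.mem_ker, QuotientGroup.eq_one_iff]
  have hZ : ∀ v : P, qm P v = 1 → v = 1 := fun v hv => by
    refine scalars_trivial hP ψ ((e.trans e'.symm).surjective.comp (QuotientGroup.mk'_surjective _)) hψ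
      (by rw [ZMod.card]; norm_num) (by rw [ringChar.eq (ZMod 7) 7]; norm_num) (Or.inr (by rw [ZMod.card]; norm_num)) ?_
    show (e.trans e'.symm) (qm P v) = 1
    rw [hv, map_one]
  have hinj : Function.Injective (qm P) := (injective_iff_map_eq_one _).2 hZ
  set v : P := ⟨x, hx⟩ with hv
  have hvx : (v : GL (Fin 3) F) = x := rfl
  rcases SmallFacts.l32_facts (e (qm P v)) with h | ⟨h, k, hk⟩ | ⟨h, k, hk⟩
  · -- order three: scalar or trace zero
    have h3 : v ^ 3 = 1 := hinj (by rw [map_pow, pow_of_map e h, map_one])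
    have hx3 : x ^ 3 = 1 := congrArg Subtype.val h3
    rcases trace_cube_zero (hP.le_sl hx) hx3 with hs | ⟨t1, t2⟩
    · have hx1 : x = 1 := congrArg Subtype.val (hZ v (mk_eq_one_iff.2 hs))
      have h3p : ((3 : ℕ) : F) ^ p = ((3 : ℕ) : F) := by rw [← frobenius_def, map_natCast]
      subst hx1
      rw [inv_one, trace_one_three]
      constructor <;> intro _
      · exact_mod_cast h3p
      · exact_mod_cast h3p.symm
    · rw [t1, t2, zero_pow (Fact.out : p.Prime).ne_zero]
      exact ⟨fun _ => rfl, fun _ => rfl⟩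
  · -- order four
    have h4 : v ^ 4 = 1 := hinj (by rw [map_pow, pow_of_map e h, map_one])
    obtain ⟨y, hy⟩ := exists_relation e (x := v) (j := 3) (h := k) (by
      rw [hk, inv_eq_of_mul_eq_one_right (show e (qm P v) * e (qm P v) ^ 3 = 1 by rw [← pow_succ', h])])
    have hc := conj_exact hP (n := 4) (by norm_num) h4 hy
    have hr : (x⁻¹).val.trace = x.val.trace := by
      refine trace_of_conj (x := v) (y := y) ?_
      rw [hc, show v ^ 3 = v⁻¹ from (inv_eq_of_mul_eq_one_right (by rw [← pow_succ', h4])).symm]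
      rfl
    have ht := trace_four h2 (p := p) (congrArg Subtype.val h4 : x ^ 4 = 1) hr
    exact ⟨fun _ => ht, fun _ => by rw [hr, ht]⟩
  · -- order seven
    have h7' : v ^ 7 = 1 := hinj (by rw [map_pow, pow_of_map e h, map_one])
    obtain ⟨y, hy⟩ := exists_relation e (x := v) (j := 2) (h := k) hk
    have hc := conj_exact hP (n := 7) (by norm_num) h7' hy
    have hx7 : x ^ 7 = 1 := congrArg Subtype.val h7'
    have h1 : (x ^ 2).val.trace = x.val.trace := trace_of_conj (x := v) (y := y) (by rw [hc]; rfl)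
    have hc' : y * v ^ 2 * y⁻¹ = v ^ 4 := by rw [← conj_pow, hc, ← pow_mul]
    have h2' : (x ^ 4).val.trace = (x ^ 2).val.trace := trace_of_conj (x := v ^ 2) (y := y) (by rw [hc']; rfl)
    have hi : x⁻¹ = x ^ 6 := inv_eq_of_mul_eq_one_right (by rw [← pow_succ', hx7])
    have hc6 : ∀ k, (x ^ (2 * k)).val.trace = (x ^ k).val.trace := fun k => by
      refine trace_of_conj (x := v ^ k) (y := y) ?_
      rw [← conj_pow, hc, ← pow_mul]; rfl
    have h36 : (x ^ 3).val.trace = (x ^ 6).val.trace := (hc6 3).symm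
    have h56 : (x ^ 5).val.trace = (x ^ 6).val.trace := by
      have := hc6 6
      rw [show 2 * 6 = 7 + 5 by rfl, pow_add, hx7, one_mul] at this
      exact this
    have hpow : x ^ p = x ^ (p % 7) := by
      conv_lhs => rw [← Nat.div_add_mod p 7, pow_add, pow_mul, hx7, one_pow, one_mul]
    rw [← trace_gl_pow_char (p := p), hi, hpow]
    constructor
    · intro hm
      rcases hm with hm | hm | hm <;> rw [hm]
      · rw [pow_one]
      · exact h1
      · exact h2'.trans h1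
    · intro hm
      rcases hm with hm | hm | hm <;> rw [hm]
      · exact h36.symm
      · exact h56.symm

/-- `A₆`: traces are a cube root of unity times a real one. -/
theorem a6_trace (hP : Core P) (h2 : p ≠ 2) (e : P ⧸ (scalars (Fin 3) F).subgroupOf P ≃* alternatingGroup (Fin 6))
    {x : GL (Fin 3) F} (hx : x ∈ P) :
    ∃ c t : F, c ^ 3 = 1 ∧ x.val.trace = c * t ∧ (x⁻¹).val.trace = c⁻¹ * t ∧ t ^ (p ^ 2) = t ∧
      (p % 5 = 0 ∨ p % 5 = 1 ∨ p % 5 = 4 → t ^ p = t) := by
  set v : P := ⟨x, hx⟩ with hv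
  have hvx : (v : GL (Fin 3) F) = x := rfl
  have hp0 : p ≠ 0 := (Fact.out : p.Prime).ne_zero
  obtain ⟨k, hk⟩ := SmallFacts.alt6_real (e (qm P v))
  have hdet : ∀ s : P, (s : GL (Fin 3) F).val.det = 1 := fun s => det_val_eq_one (hP.le_sl s.2)
  have hscalar : ∀ {x' s : P}, v = x' * s → qm P s = 1 →
      ∃ c : F, c ^ 3 = 1 ∧ x.val.trace = c * (x' : GL (Fin 3) F).val.trace ∧
        (x⁻¹).val.trace = c⁻¹ * ((x' : GL (Fin 3) F)⁻¹).val.trace := by
    intro x' s hvs hs
    obtain ⟨c, hc3, -, t1, t2⟩ := trace_scalar_mul (x' := x') hs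
    rw [← hvs] at t1 t2
    exact ⟨c, hc3.trans (hdet s), t1, t2⟩
  rcases SmallFacts.alt6_cases (e (qm P v)) with h | h | h
  · -- order three
    obtain ⟨y, hy⟩ := exists_relation e (x := v) (j := 2) (h := k) (by
      rw [hk, inv_eq_of_mul_eq_one_right (show e (qm P v) * e (qm P v) ^ 2 = 1 by rw [← pow_succ', h])])
    rcases trace_of_inverted hP (pow_of_map e h) hy with h1 | ⟨t1, t2⟩
    · obtain ⟨c, hc, t1, t2⟩ := hscalar (x' := 1) (s := v) (one_mul v).symm h1
      have h3 : ∀ n : ℕ, ((3 : ℕ) : F) ^ (p ^ n) = ((3 : ℕ) : F) := fun n => by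
        rw [← iterateFrobenius_def, map_natCast]
      rw [OneMemClass.coe_one, inv_one, trace_one_three] at t2
      rw [OneMemClass.coe_one, trace_one_three] at t1
      exact ⟨c, 3, hc, t1, t2, by exact_mod_cast h3 2, fun _ => by simpa using h3 1⟩
    · refine ⟨1, 0, one_pow 3, by rw [mul_zero]; exact t1, by rw [mul_zero]; exact t2, zero_pow (pow_ne_zero _ hp0),
        fun _ => zero_pow hp0⟩
  · -- order four
    obtain ⟨x', s, hvs, h4, hs, hq⟩ := exists_prime_lift hP (n := 4) (by norm_num) v (pow_of_map e h)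
    obtain ⟨y, hy⟩ := exists_relation e (x := x') (j := 3) (h := k) (by
      rw [hq, hk, inv_eq_of_mul_eq_one_right (show e (qm P v) * e (qm P v) ^ 3 = 1 by rw [← pow_succ', h])])
    have hc := conj_exact hP (n := 4) (by norm_num) h4 hy
    have hr : ((x' : GL (Fin 3) F)⁻¹).val.trace = (x' : GL (Fin 3) F).val.trace := by
      refine trace_of_conj (x := x') (y := y) ?_
      rw [hc, show x' ^ 3 = x'⁻¹ from (inv_eq_of_mul_eq_one_right (by rw [← pow_succ', h4])).symm]
      rfl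
    obtain ⟨c, hc3, t1, t2⟩ := hscalar hvs hs
    rw [hr] at t2
    have ht := trace_four h2 (p := p) (x := (x' : GL (Fin 3) F))
      (by rw [← Subgroup.coe_pow, h4, OneMemClass.coe_one]) hr
    exact ⟨c, _, hc3, t1, t2, by rw [pow_two, pow_mul, ht, ht], fun _ => ht⟩
  · -- order five
    obtain ⟨x', s, hvs, h5, hs, hq⟩ := exists_prime_lift hP (n := 5) (by norm_num) v (pow_of_map e h)
    obtain ⟨y, hy⟩ := exists_relation e (x := x') (j := 4) (h := k) (by
      rw [hq, hk, inv_eq_of_mul_eq_one_right (show e (qm P v) * e (qm P v) ^ 4 = 1 by rw [← pow_succ', h])])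
    have hc := conj_exact hP (n := 5) (by norm_num) h5 hy
    set g : GL (Fin 3) F := (x' : GL (Fin 3) F) with hg
    have hg5 : g ^ 5 = 1 := by rw [hg, ← Subgroup.coe_pow, h5, OneMemClass.coe_one]
    have hr : (g⁻¹).val.trace = g.val.trace := by
      refine trace_of_conj (x := x') (y := y) ?_
      rw [hc, show x' ^ 4 = x'⁻¹ from (inv_eq_of_mul_eq_one_right (by rw [← pow_succ', h5])).symm]
      rfl
    have hi : g⁻¹ = g ^ 4 := inv_eq_of_mul_eq_one_right (by rw [← pow_succ', hg5])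
    have hmod : ∀ m r : ℕ, m % 5 = r → g ^ m = g ^ r := fun m r hm => by
      rw [← Nat.div_add_mod m 5, pow_add, pow_mul, hg5, one_pow, one_mul, hm]
    have h4 : (g ^ 4).val.trace = g.val.trace := by rw [← hi, hr]
    have htp : ∀ n : ℕ, g.val.trace ^ (p ^ n) = (g ^ (p ^ n)).val.trace := by
      intro n
      induction n with
      | zero => simp
      | succ n ih => rw [pow_succ p n, pow_mul, pow_mul g, ih, trace_gl_pow_char (p := p)]
    obtain ⟨c, hc3, t1, t2⟩ := hscalar hvs hs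
    rw [hr] at t2
    have h0 : p % 5 = 0 → g.val.trace = 3 := by
      intro h0
      have hp5 : p = 5 := ((Nat.prime_dvd_prime_iff_eq Nat.prime_five (Fact.out : p.Prime)).1
        (Nat.dvd_of_mod_eq_zero h0)).symm
      subst hp5
      refine frobenius_inj F 5 ?_
      rw [frobenius_def, frobenius_def, ← trace_gl_pow_char, hg5, trace_one_three]
      have := map_natCast (frobenius F 5) 3
      rw [frobenius_def] at this
      exact_mod_cast this.symm
    refine ⟨c, g.val.trace, hc3, t1, t2, ?_, ?_⟩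
    · by_cases hz : p % 5 = 0
      · rw [h0 hz, show (3 : F) = ((3 : ℕ) : F) by norm_num, ← iterateFrobenius_def, map_natCast]
      rw [htp]
      rcases (show p ^ 2 % 5 = 1 ∨ p ^ 2 % 5 = 4 by
        rw [Nat.pow_mod]
        rcases (show p % 5 = 1 ∨ p % 5 = 2 ∨ p % 5 = 3 ∨ p % 5 = 4 by omega) with h | h | h | h <;>
          rw [h] <;> norm_num) with hm | hm
      · rw [hmod _ _ hm, pow_one]
      · rw [hmod _ _ hm, h4]
    · rintro (hm | hm | hm)
      · rw [h0 hm, show (3 : F) = ((3 : ℕ) : F) by norm_num, ← frobenius_def, map_natCast]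
      · rw [← trace_gl_pow_char, hmod _ _ hm, pow_one]
      · rw [← trace_gl_pow_char, hmod _ _ hm, h4]

/-- `A₆`: a five-element witnessing `p ≡ ±1 (mod 5)`. -/
theorem a6_five (hP : Core P) (e : P ⧸ (scalars (Fin 3) F).subgroupOf P ≃* alternatingGroup (Fin 6))
    (hm : p % 5 = 2 ∨ p % 5 = 3) :
    ∃ x ∈ P, (x⁻¹).val.trace = x.val.trace ∧ x.val.trace ^ p ≠ x.val.trace := by
  let c5 : alternatingGroup (Fin 6) := ⟨c[(0 : Fin 6), 1, 2, 3, 4],
    Equiv.Perm.mem_alternatingGroup.2 (by decide +kernel)⟩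
  obtain ⟨v, hv⟩ := QuotientGroup.mk'_surjective ((scalars (Fin 3) F).subgroupOf P) (e.symm c5)
  have hev : e (qm P v) = c5 := by rw [show qm P v = e.symm c5 from hv, e.apply_symm_apply]
  have h5c : c5 ^ 5 = 1 := by decide +kernel
  obtain ⟨k, hk⟩ := SmallFacts.alt6_real c5
  obtain ⟨x', s, -, h5, -, hq⟩ := exists_prime_lift hP (n := 5) (by norm_num) v (pow_of_map e (by rw [hev, h5c]))
  obtain ⟨y, hy⟩ := exists_relation e (x := x') (j := 4) (h := k) (by
    rw [hq, hev, hk, inv_eq_of_mul_eq_one_right (show c5 * c5 ^ 4 = 1 by rw [← pow_succ', h5c])])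
  have hc := conj_exact hP (n := 5) (by norm_num) h5 hy
  have hg5 : (x' : GL (Fin 3) F) ^ 5 = 1 := by rw [← Subgroup.coe_pow, h5, OneMemClass.coe_one]
  have hr : ((x' : GL (Fin 3) F)⁻¹).val.trace = (x' : GL (Fin 3) F).val.trace := by
    refine trace_of_conj (x := x') (y := y) ?_
    rw [hc, show x' ^ 4 = x'⁻¹ from (inv_eq_of_mul_eq_one_right (by rw [← pow_succ', h5])).symm]
    rfl
  have hi : (x' : GL (Fin 3) F)⁻¹ = (x' : GL (Fin 3) F) ^ 4 :=
    inv_eq_of_mul_eq_one_right (by rw [← pow_succ', hg5])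
  have hne1 : (x' : GL (Fin 3) F) ≠ 1 := fun e1 => by
    have : x' = 1 := Subtype.ext e1
    rw [this, map_one] at hq
    rw [← hq, map_one] at hev
    exact absurd hev (by decide +kernel)
  have h5F : (5 : F) ≠ 0 := by
    intro h0
    have hd := (CharP.cast_eq_zero_iff F p 5).1 (by exact_mod_cast h0)
    rw [Nat.prime_dvd_prime_iff_eq (Fact.out : p.Prime) Nat.prime_five] at hd
    omega
  have hne := trace_five_ne h5F (hP.le_sl x'.2) hg5 hne1 hr
  refine ⟨_, x'.2, hr, ?_⟩
  rw [← trace_gl_pow_char, ← Nat.div_add_mod p 5, pow_add, pow_mul, hg5, one_pow, one_mul]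
  rcases hm with hm | hm <;> rw [hm]
  · exact hne
  · -- `x³` is the inverse of `x²`
    have hcj : ((x' : GL (Fin 3) F) ^ 2)⁻¹.val.trace = ((x' : GL (Fin 3) F) ^ 2).val.trace := by
      refine trace_of_conj (x := x' ^ 2) (y := y) ?_
      rw [← conj_pow, hc, ← pow_mul, Subgroup.coe_pow, ← inv_pow, hi, ← pow_mul]
    rw [show (x' : GL (Fin 3) F) ^ 3 = ((x' : GL (Fin 3) F) ^ 2)⁻¹ from
      (inv_eq_of_mul_eq_one_right (by rw [← pow_add, hg5])).symm, hcj]
    exact hne

/-- `A₇` in characteristic five. -/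
theorem a7_frob [CharP F 5] (hP : Core P) (e : P ⧸ (scalars (Fin 3) F).subgroupOf P ≃* alternatingGroup (Fin 7))
    {x : GL (Fin 3) F} (hx : x ∈ P) : (x⁻¹).val.trace = x.val.trace ^ 5 := by
  haveI : Fact (Nat.Prime 5) := ⟨by norm_num⟩
  set v : P := ⟨x, hx⟩ with hv
  have hvx : (v : GL (Fin 3) F) = x := rfl
  have hscalar : ∀ {x' s : P}, v = x' * s → qm P s = 1 →
      ∃ c : F, c ^ 3 = 1 ∧ c ≠ 0 ∧ x.val.trace = c * (x' : GL (Fin 3) F).val.trace ∧
        (x⁻¹).val.trace = c⁻¹ * ((x' : GL (Fin 3) F)⁻¹).val.trace := by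
    intro x' s hvs hs
    obtain ⟨c, hc3, hc0, t1, t2⟩ := trace_scalar_mul (x' := x') hs
    rw [← hvs] at t1 t2
    exact ⟨c, hc3.trans (det_val_eq_one (hP.le_sl s.2)), hc0, t1, t2⟩
  have hc5 : ∀ c : F, c ^ 3 = 1 → c ≠ 0 → c ^ 5 = c⁻¹ := fun c hc hc0 =>
    mul_left_cancel₀ hc0 (by rw [mul_inv_cancel₀ hc0, ← pow_succ', show 5 + 1 = 3 * 2 by rfl, pow_mul, hc, one_pow])
  rcases SmallFacts.alt7_facts (e (qm P v)) with h | ⟨h, k, hk⟩ | ⟨h, k, hk⟩ | ⟨h, k, hk⟩
  · -- order five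
    have hs : qm P (v ^ 5) = 1 := by rw [map_pow, pow_of_map e h]
    obtain ⟨c, hc, hc0, t1, -⟩ : ∃ c : F, c ^ 3 = 1 ∧ c ≠ 0 ∧ (x ^ 5).val.trace = c * 3 ∧
        ((x ^ 5)⁻¹).val.trace = c⁻¹ * 3 := by
      obtain ⟨c, hc3, hc0, t1, t2⟩ := trace_scalar_mul (x' := (1 : P)) hs
      rw [one_mul, OneMemClass.coe_one, inv_one, trace_one_three, Subgroup.coe_pow, hvx] at t2
      rw [one_mul, OneMemClass.coe_one, trace_one_three, Subgroup.coe_pow, hvx] at t1
      exact ⟨c, hc3.trans (det_val_eq_one (hP.le_sl (v ^ 5).2)), hc0, t1, t2⟩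
    have hi5 : ((x⁻¹) ^ 5).val.trace = c⁻¹ * 3 := by
      obtain ⟨c', hc', -, t1', t2'⟩ := trace_scalar_mul (x' := (1 : P)) hs
      rw [one_mul, OneMemClass.coe_one, trace_one_three, Subgroup.coe_pow, hvx, t1] at t1'
      rw [one_mul, OneMemClass.coe_one, inv_one, trace_one_three, Subgroup.coe_pow, hvx, ← inv_pow] at t2'
      have h3 : (3 : F) ≠ 0 := by
        intro h0
        have := (CharP.cast_eq_zero_iff F 5 3).1 (by exact_mod_cast h0)
        norm_num at this
      rw [t2', mul_right_cancel₀ h3 t1']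
    rw [trace_gl_pow_char] at hi5
    rw [← trace_gl_pow_char, t1]
    refine frobenius_inj F 5 ?_
    rw [frobenius_def, frobenius_def, hi5, mul_pow, hc5 c hc hc0]
    have := map_natCast (frobenius F 5) 3
    rw [frobenius_def] at this
    have h3 : (3 : F) ^ 5 = 3 := by exact_mod_cast this
    rw [h3]
  · -- order dividing six: order six
    have hq2 : qm P (v ^ 2) ^ 3 = 1 := by rw [map_pow, ← pow_mul, pow_of_map e h]
    obtain ⟨y, hy⟩ := exists_relation e (x := v ^ 2) (j := 2) (h := k) (by rw [map_pow, map_pow]; exact hk)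
    have h6 : v ^ 6 = 1 := by rw [show 6 = 2 * 3 by rfl, pow_mul, cube_eq_one_of_inverted hP hq2 hy]
    have hx6 : x ^ 6 = 1 := congrArg Subtype.val h6
    rw [← trace_gl_pow_char, show x ^ 5 = x⁻¹ from (inv_eq_of_mul_eq_one_right (by rw [← pow_succ', hx6])).symm]
  · -- order four
    obtain ⟨x', s, hvs, h4, hs, hq⟩ := exists_prime_lift hP (n := 4) (by norm_num) v (pow_of_map e h)
    obtain ⟨y, hy⟩ := exists_relation e (x := x') (j := 3) (h := k) (by rw [hq]; exact hk)
    have hc := conj_exact hP (n := 4) (by norm_num) h4 hy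
    have hr : ((x' : GL (Fin 3) F)⁻¹).val.trace = (x' : GL (Fin 3) F).val.trace := by
      refine trace_of_conj (x := x') (y := y) ?_
      rw [hc, show x' ^ 3 = x'⁻¹ from (inv_eq_of_mul_eq_one_right (by rw [← pow_succ', h4])).symm]
      rfl
    obtain ⟨c, hc3, hc0, t1, t2⟩ := hscalar hvs hs
    have ht := trace_four (by norm_num) (p := 5) (x := (x' : GL (Fin 3) F))
      (by rw [← Subgroup.coe_pow, h4, OneMemClass.coe_one]) hr
    rw [t2, hr, t1, mul_pow, ht, hc5 c hc3 hc0]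
  · -- order seven
    obtain ⟨x', s, hvs, h7, hs, hq⟩ := exists_prime_lift hP (n := 7) (by norm_num) v (pow_of_map e h)
    obtain ⟨y, hy⟩ := exists_relation e (x := x') (j := 2) (h := k) (by rw [hq]; exact hk)
    have hc := conj_exact hP (n := 7) (by norm_num) h7 hy
    set g : GL (Fin 3) F := (x' : GL (Fin 3) F) with hg
    have hg7 : g ^ 7 = 1 := by rw [hg, ← Subgroup.coe_pow, h7, OneMemClass.coe_one]
    have h56 : (g ^ 5).val.trace = (g⁻¹).val.trace := by
      refine trace_of_conj (x := x'⁻¹) (y := y) ?_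
      rw [← conj_inv, hc, Subgroup.coe_inv, Subgroup.coe_pow]
      exact inv_eq_of_mul_eq_one_right (by rw [← pow_add, hg7])
    obtain ⟨c, hc3, hc0, t1, t2⟩ := hscalar hvs hs
    rw [t2, t1, mul_pow, ← trace_gl_pow_char, h56, hc5 c hc3 hc0]

end Cfsg.Lib.Linear.Mitchell
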