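import Cfsg.Agent.Lib.Linear.Mitchell.CoreForms
import Cfsg.Agent.Lib.Linear.Mitchell.CoreWeights
import Cfsg.Agent.Lib.Linear.AschSp.Descent
import Cfsg.Agent.Lib.Linear.Tensor.PrimeElem

/-!
# Traces and fields of definition in dimension three

`tr (Mᵖ) = (tr M)ᵖ`, eigenvalues of elements of order prime to `p`, and the field bound from traces.
-/

set_option autoImplicit false

namespace Cfsg.Lib.Linear.Mitchell

open Cfsg.Geo
open scoped Matrix MatrixGroups Polynomial

variable {F : Type*} [Field F]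

theorem charpoly_pow_char {p : ℕ} [Fact p.Prime] [CharP F p] {n : Type*} [Fintype n] [DecidableEq n] [Nonempty n]
    (M : Matrix n n F) : (M ^ p).charpoly = M.charpoly.map (frobenius F p) := by
  refine Polynomial.expand_injective (Fact.out : p.Prime).pos ?_
  rw [← Polynomial.map_expand, Polynomial.map_frobenius_expand]
  unfold Matrix.charpoly
  rw [AlgHom.map_det, ← Matrix.coe_detMonoidHom, ← (Matrix.detMonoidHom : Matrix n n F[X] →* F[X]).map_pow]
  apply congr_arg Matrix.det
  refine matPolyEquiv.injective ?_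
  haveI : CharP (Matrix n n F) p := inferInstance
  rw [map_pow, Matrix.matPolyEquiv_charmatrix, sub_pow_char_of_commute (R := (Matrix n n F)[X]) p
    (Polynomial.commute_X _).symm.symm, ← Polynomial.C_pow]
  exact (id (matPolyEquiv_eq_X_pow_sub_C p M) :)

theorem trace_pow_char {p : ℕ} [Fact p.Prime] [CharP F p] (M : Matrix (Fin 3) (Fin 3) F) :
    (M ^ p).trace = M.trace ^ p := by
  rw [Matrix.trace_eq_neg_charpoly_coeff, Matrix.trace_eq_neg_charpoly_coeff, charpoly_pow_char,
    Polynomial.coeff_map, ← map_neg, frobenius_def]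

theorem trace_gl_pow_char {p : ℕ} [Fact p.Prime] [CharP F p] (x : GL (Fin 3) F) :
    (x ^ p).val.trace = x.val.trace ^ p := by
  rw [Units.val_pow_eq_pow_val, trace_pow_char]

theorem trace_one_three : ((1 : GL (Fin 3) F)).val.trace = 3 := by
  rw [Units.val_one, Matrix.trace_one, Fintype.card_fin]; norm_num

/-- Eigenvalues of an element with `xⁿ = 1`, `n` prime to `p`. -/
theorem exists_eigen_triple {x : GL (Fin 3) F} {n : ℕ} (hn : (n : F) ≠ 0) (hx : x ^ n = 1) :
    ∃ α : Fin 3 → AlgebraicClosure F, (∀ i, α i ^ n = 1) ∧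
      (∀ k : ℕ, algebraMap F (AlgebraicClosure F) (x ^ k).val.trace = ∑ i, α i ^ k) ∧
      (∀ k : ℕ, (∀ i, α i ^ k = 1) → x ^ k = 1) ∧
      ((∀ i, α i = α 0) → x ∈ scalars (Fin 3) F) ∧
      algebraMap F (AlgebraicClosure F) x.val.det = ∏ i, α i := by
  classical
  set f := algebraMap F (AlgebraicClosure F) with hf
  set T := x.val.map f with hT
  have hn' : (n : AlgebraicClosure F) ≠ 0 := by rw [← map_natCast f]; exact (map_ne_zero _).2 hn
  have hn0 : 0 < n := Nat.pos_of_ne_zero fun e => hn (by rw [e, Nat.cast_zero])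
  have hTk : ∀ k : ℕ, T ^ k = (x ^ k).val.map f := fun k => by
    rw [Units.val_pow_eq_pow_val, hT]
    exact (map_pow f.mapMatrix x.val k).symm
  obtain ⟨U, α, hU⟩ := Cfsg.Lib.Linear.TensorElem.exists_diag hn0 hn' T one_ne_zero (by
    rw [hTk, hx, one_smul, Units.val_one, Matrix.map_one _ (map_zero _) (map_one _)])
  have hconj : ∀ k : ℕ, (x ^ k).val.map f = U.val * Matrix.diagonal (α ^ k) * U⁻¹.val := by
    intro k
    rw [← hTk, ← Matrix.diagonal_pow]
    induction k with
    | zero => rw [pow_zero, pow_zero, mul_one, Units.mul_inv]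
    | succ k ih =>
      rw [pow_succ, ih, pow_succ (Matrix.diagonal α)]
      have e : T = U.val * Matrix.diagonal α * U⁻¹.val := by rw [← hU, mul_assoc, Units.mul_inv, mul_one]
      conv_lhs => rw [e]
      simp only [mul_assoc, Units.inv_mul_cancel_left]
  refine ⟨α, fun i => ?_, fun k => ?_, fun k hk => ?_, fun hall => ?_, ?_⟩
  · have h := hconj n
    rw [hx, Units.val_one, Matrix.map_one _ (map_zero _) (map_one _)] at h
    have h' : Matrix.diagonal (α ^ n) = 1 := by
      have := congrArg (fun M => U⁻¹.val * M * U.val) h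
      simpa [mul_assoc] using this.symm
    have := congrFun (congrFun h' i) i
    simpa using this
  · have e : f (x ^ k).val.trace = ((x ^ k).val.map f).trace := by
      simp [Matrix.trace, map_sum]
    rw [e, hconj, Matrix.trace_mul_cycle, Units.inv_mul, one_mul, Matrix.trace_diagonal]
    rfl
  · refine Units.ext (Matrix.map_injective f.injective ?_)
    show (x ^ k).val.map f = (1 : Matrix (Fin 3) (Fin 3) F).map f
    rw [hconj, show α ^ k = 1 from funext hk, Matrix.diagonal_one', mul_one, Units.mul_inv,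
      Matrix.map_one _ (map_zero _) (map_one _)]
  · have h := hconj 1
    rw [pow_one, pow_one, show α = fun _ => α 0 from funext hall, ← Matrix.smul_one_eq_diagonal,
      Matrix.mul_smul, mul_one, Matrix.smul_mul, Units.mul_inv] at h
    refine mem_scalars_of_val (c := x.val 0 0) (Matrix.map_injective f.injective ?_)
    show x.val.map f = (x.val 0 0 • (1 : Matrix (Fin 3) (Fin 3) F)).map f
    have h00 := congrFun (congrFun h 0) 0
    simp at h00
    rw [h]
    ext i j
    by_cases hij : i = j <;> simp [hij, h00, Matrix.one_apply]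
  · rw [f.map_det, RingHom.mapMatrix_apply]
    have h := hconj 1
    rw [pow_one, pow_one] at h
    rw [h, Matrix.det_units_conj, Matrix.det_diagonal]

/-- An element of order three is scalar or has trace zero. -/
theorem trace_cube_zero [Finite F] {x : GL (Fin 3) F} (hd : x ∈ specialLinear (Fin 3) F) (hx : x ^ 3 = 1) :
    x ∈ scalars (Fin 3) F ∨ (x.val.trace = 0 ∧ (x⁻¹).val.trace = 0) := by
  by_cases h3 : (3 : F) = 0
  · haveI : Fact (Nat.Prime 3) := ⟨by norm_num⟩
    haveI : CharP F 3 := (CharP.charP_iff_prime_eq_zero Nat.prime_three).2 (by exact_mod_cast h3)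
    have key : ∀ y : GL (Fin 3) F, y ^ 3 = 1 → y.val.trace = 0 := fun y hy => by
      have h := trace_gl_pow_char (p := 3) y
      rw [hy, trace_one_three, h3] at h
      exact eq_zero_of_pow_eq_zero h.symm
    exact Or.inr ⟨key x hx, key _ (by rw [inv_pow, hx, inv_one])⟩
  obtain ⟨α, hα, htr, hone, hsc, hdet⟩ := exists_eigen_triple (n := 3) (by exact_mod_cast h3) hx
  rw [det_val_eq_one hd, map_one, Fin.prod_univ_three] at hdet
  by_cases hall : α 0 = α 1 ∧ α 0 = α 2
  · refine Or.inl (hsc fun i => ?_)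
    fin_cases i
    exacts [rfl, hall.1.symm, hall.2.symm]
  · refine Or.inr ?_
    have key : ∀ a b c : AlgebraicClosure F, a ^ 3 = 1 → b ^ 3 = 1 → c ^ 3 = 1 → a * b * c = 1 → a ≠ b →
        a + b + c = 0 := by
      intro a b c ha hb hc habc hab
      have e : a ^ 2 + a * b + b ^ 2 = 0 :=
        (mul_eq_zero.1 (show (a - b) * (a ^ 2 + a * b + b ^ 2) = 0 by linear_combination ha - hb)).resolve_left
          (sub_ne_zero.2 hab)
      have ha0 : a ≠ 0 := fun e0 => by simp [e0] at ha
      have hb0 : b ≠ 0 := fun e0 => by simp [e0] at hb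
      refine mul_left_cancel₀ (mul_ne_zero ha0 hb0) ?_
      rw [mul_zero]
      linear_combination b * e + habc - hb
    have hsum : ∀ k : ℕ, k = 1 ∨ k = 2 → α 0 ^ k + α 1 ^ k + α 2 ^ k = 0 := by
      intro k hk
      have h3k : ∀ i, (α i ^ k) ^ 3 = 1 := fun i => by rw [← pow_mul, mul_comm, pow_mul, hα, one_pow]
      have hpr : α 0 ^ k * α 1 ^ k * α 2 ^ k = 1 := by rw [← mul_pow, ← mul_pow, ← hdet, one_pow]
      have hinj : ∀ i j, α i ^ k = α j ^ k → α i = α j := by
        intro i j e
        rcases hk with rfl | rfl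
        · simpa using e
        · have e2 : (α i ^ 2) ^ 2 = (α j ^ 2) ^ 2 := by rw [e]
          linear_combination e2 - α i * hα i + α j * hα j
      by_cases h01 : α 0 = α 1
      · have h02 : α 0 ≠ α 2 := fun e => hall ⟨h01, e⟩
        have := key _ _ _ (h3k 0) (h3k 2) (h3k 1) (by linear_combination hpr) fun e => h02 (hinj _ _ e)
        linear_combination this
      · exact key _ _ _ (h3k 0) (h3k 1) (h3k 2) hpr fun e => h01 (hinj _ _ e)
    have hinv : x⁻¹ = x ^ 2 := inv_eq_of_mul_eq_one_right (by rw [← pow_succ', hx])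
    constructor
    · refine (algebraMap F (AlgebraicClosure F)).injective ?_
      have h := htr 1
      rw [pow_one] at h
      rw [h, map_zero, Fin.sum_univ_three]
      exact hsum 1 (Or.inl rfl)
    · refine (algebraMap F (AlgebraicClosure F)).injective ?_
      rw [hinv, htr 2, map_zero, Fin.sum_univ_three]
      exact hsum 2 (Or.inr rfl)

/-- A real element of order five: its trace differs from that of its square. -/
theorem trace_five_ne [Finite F] (h5 : (5 : F) ≠ 0) {x : GL (Fin 3) F} (hd : x ∈ specialLinear (Fin 3) F)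
    (hx : x ^ 5 = 1) (hx1 : x ≠ 1) (hreal : (x⁻¹).val.trace = x.val.trace) :
    (x ^ 2).val.trace ≠ x.val.trace := by
  intro heq
  obtain ⟨α, hα, htr, hone, -, hdet⟩ := exists_eigen_triple (n := 5) (by exact_mod_cast h5) hx
  rw [det_val_eq_one hd, map_one, Fin.prod_univ_three] at hdet
  have h1 := htr 1
  have h2 := htr 2
  have h4 := htr 4
  rw [show x ^ 4 = x⁻¹ from (inv_eq_of_mul_eq_one_right (by rw [← pow_succ', hx])).symm, hreal] at h4
  rw [heq] at h2
  simp only [pow_one, Fin.sum_univ_three] at h1 h2 h4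
  rw [h1] at h2 h4
  have key : ∀ a b c : AlgebraicClosure F, a ^ 5 = 1 → b ^ 5 = 1 → c ^ 5 = 1 → a * b * c = 1 → a = 1 →
      a + b + c = a ^ 2 + b ^ 2 + c ^ 2 → b = 1 ∧ c = 1 := by
    intro a b c _ hb _ habc ha e
    subst ha
    rw [one_mul] at habc
    by_cases hb1 : b = 1
    · exact ⟨hb1, by rw [hb1, one_mul] at habc; exact habc⟩
    exfalso
    have hgeo : b ^ 4 + b ^ 3 + b ^ 2 + b + 1 = 0 :=
      (mul_eq_zero.1 (show (b - 1) * (b ^ 4 + b ^ 3 + b ^ 2 + b + 1) = 0 by linear_combination hb)).resolve_left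
        (sub_ne_zero.2 hb1)
    have hc : c = b ^ 4 := by linear_combination -c * hb + b ^ 4 * habc
    subst hc
    have hu : 2 * (b + b ^ 4) = -1 := by linear_combination e + hgeo + b ^ 3 * hb
    have h50 : (5 : AlgebraicClosure F) = 0 := by
      linear_combination (2 * b + 2 * b ^ 4 + 1) * hu - 4 * hgeo - 4 * (b ^ 3 + 2) * hb
    refine h5 ((algebraMap F (AlgebraicClosure F)).injective ?_)
    rw [map_ofNat, map_zero, h50]
  have hinv : ∀ i, α i * α i ^ 4 = 1 := fun i => by rw [← pow_succ', hα]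
  have hone1 : α 0 = 1 ∨ α 1 = 1 ∨ α 2 = 1 := by
    have : (α 0 - 1) * (α 1 - 1) * (α 2 - 1) = 0 := by
      linear_combination -hdet + h4 + α 1 * α 2 * hinv 0 + α 0 * α 2 * hinv 1 + α 0 * α 1 * hinv 2 +
        (α 0 ^ 4 + α 1 ^ 4 + α 2 ^ 4) * hdet
    rcases mul_eq_zero.1 this with h | h
    · rcases mul_eq_zero.1 h with h | h
      · exact Or.inl (sub_eq_zero.1 h)
      · exact Or.inr (Or.inl (sub_eq_zero.1 h))
    · exact Or.inr (Or.inr (sub_eq_zero.1 h))
  refine hx1 ?_
  have hall : ∀ i, α i ^ 1 = 1 := by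
    rcases hone1 with h | h | h
    · obtain ⟨e1, e2⟩ := key _ _ _ (hα 0) (hα 1) (hα 2) hdet.symm h h2
      intro i; fin_cases i <;> simp [h, e1, e2]
    · obtain ⟨e1, e2⟩ := key _ _ _ (hα 1) (hα 0) (hα 2) (by linear_combination -hdet) h (by linear_combination h2)
      intro i; fin_cases i <;> simp [h, e1, e2]
    · obtain ⟨e1, e2⟩ := key _ _ _ (hα 2) (hα 0) (hα 1) (by linear_combination -hdet) h (by linear_combination h2)
      intro i; fin_cases i <;> simp [h, e1, e2]
  simpa using hone 1 hall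

variable [Fintype F] {p : ℕ} [Fact p.Prime] [CharP F p] {P : Subgroup (GL (Fin 3) F)}

/-- Traces fixed by `a ↦ a^(p^j)` bound the field of an absolutely irreducible group over no subfield. -/
theorem card_le_of_traces (hirr : ActsAbsolutelyIrreducibly (matrixSet P))
    (hsub : ∀ F₀ : Subfield F, F₀ ≠ ⊤ → ¬ RealisableOver F₀ (matrixSet P)) {j : ℕ} (hj : 0 < j)
    (ht : ∀ x ∈ P, x.val.trace ^ p ^ j = x.val.trace) :
    ∃ i, 1 ≤ i ∧ i ≤ j ∧ Fintype.card F = p ^ i := by
  classical
  obtain ⟨N, -, hN⟩ := FiniteField.card F p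
  refine ⟨N, N.pos, ?_, hN⟩
  let K : Subfield F := ((iterateFrobenius F p j)).eqLocusField (RingHom.id F)
  have hK : K = ⊤ := by
    by_contra hne
    exact hsub K hne (Cfsg.Lib.Linear.AschSp.realisable_of_trace hirr K fun x hx => by
      show iterateFrobenius F p j x.val.trace = x.val.trace
      rw [iterateFrobenius_def, ht x hx])
  have hall : ∀ a : F, a ^ p ^ j = a := fun a => by
    have : a ∈ K := by rw [hK]; trivial
    have e : iterateFrobenius F p j a = a := this
    rwa [iterateFrobenius_def] at e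
  have hle : Fintype.card F ≤ p ^ j := by
    have h1 : (1 : ℕ) < p ^ j := Nat.one_lt_pow hj.ne' (Fact.out : p.Prime).one_lt
    have hne : (Polynomial.X ^ p ^ j - Polynomial.X : F[X]) ≠ 0 := FiniteField.X_pow_card_sub_X_ne_zero F h1
    have hsub' : (Finset.univ : Finset F) ⊆ (Polynomial.X ^ p ^ j - Polynomial.X : F[X]).roots.toFinset := fun a _ => by
      rw [Multiset.mem_toFinset, Polynomial.mem_roots hne]
      simp [hall a]
    have h := (Finset.card_le_card hsub').trans ((Multiset.toFinset_card_le _).trans (Polynomial.card_roots' _))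
    rwa [Finset.card_univ, FiniteField.X_pow_card_sub_X_natDegree_eq F h1] at h
  rw [hN] at hle
  exact (Nat.pow_le_pow_iff_right (Fact.out : p.Prime).one_lt).1 hle

/-- All traces in the prime field. -/
theorem card_eq_of_traces (hirr : ActsAbsolutelyIrreducibly (matrixSet P))
    (hsub : ∀ F₀ : Subfield F, F₀ ≠ ⊤ → ¬ RealisableOver F₀ (matrixSet P))
    (ht : ∀ x ∈ P, x.val.trace ^ p = x.val.trace) : Fintype.card F = p := by
  obtain ⟨i, h1, h2, h⟩ := card_le_of_traces (p := p) hirr hsub Nat.one_pos (fun x hx => by rw [pow_one]; exact ht x hx)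
  rw [h, show i = 1 by omega, pow_one]

/-- `tr x⁻¹ = (tr x)ᵖ` gives a quadratic form over `F_p`, a unitary form over `F_{p²}`. -/
theorem forms_of_frobenius (h2 : (2 : F) ≠ 0) (hirr : ActsAbsolutelyIrreducibly (matrixSet P))
    (hsub : ∀ F₀ : Subfield F, F₀ ≠ ⊤ → ¬ RealisableOver F₀ (matrixSet P))
    (ht : ∀ x ∈ P, (x⁻¹).val.trace = x.val.trace ^ p) :
    (Fintype.card F = p ∧ ∃ Q : (Fin 3 → F) → F, IsNondegenerateQuadraticForm Q ∧ FixesQuadForm (matrixSet P) Q) ∨
    (Fintype.card F = p ^ 2 ∧
      ∃ (σ : F ≃+* F) (f : (Fin 3 → F) → (Fin 3 → F) → F), IsUnitaryForm σ f ∧ FixesForm (matrixSet P) f) := by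
  obtain ⟨i, h1, h2', hc⟩ := card_le_of_traces (p := p) hirr hsub (j := 2) two_pos fun x hx => by
    have h := ht _ (inv_mem hx)
    rw [inv_inv, ht x hx, ← pow_mul, ← pow_two] at h
    exact h.symm
  obtain rfl | rfl : i = 1 ∨ i = 2 := by omega
  · rw [pow_one] at hc
    refine Or.inl ⟨hc, exists_quad_of_trace h2 hirr fun x hx => ?_⟩
    rw [ht x hx, ← hc, FiniteField.pow_card]
  · refine Or.inr ⟨hc, ?_⟩
    let σ : F ≃+* F := frobeniusEquiv F p
    have hσd : ∀ a, σ a = a ^ p := fun a => rfl
    have hne : σ ≠ RingEquiv.refl F := by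
      classical
      intro e
      have hall : ∀ a : F, a ^ p = a := fun a => by rw [← hσd, e]; rfl
      have h1 : 1 < p := (Fact.out : p.Prime).one_lt
      have hne : (Polynomial.X ^ p - Polynomial.X : F[X]) ≠ 0 := FiniteField.X_pow_card_sub_X_ne_zero F h1
      have hsub' : (Finset.univ : Finset F) ⊆ (Polynomial.X ^ p - Polynomial.X : F[X]).roots.toFinset := fun a _ => by
        rw [Multiset.mem_toFinset, Polynomial.mem_roots hne]
        simp [hall a]
      have h := (Finset.card_le_card hsub').trans ((Multiset.toFinset_card_le _).trans (Polynomial.card_roots' _))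
      rw [Finset.card_univ, FiniteField.X_pow_card_sub_X_natDegree_eq F h1, hc, pow_two] at h
      nlinarith
    refine ⟨σ, ?_⟩
    exact exists_unitary_of_trace hirr σ hne (fun a => by
      rw [hσd, hσd, ← pow_mul, ← pow_two, ← hc, FiniteField.pow_card]) fun x hx => by rw [hσd, ht x hx]

end Cfsg.Lib.Linear.Mitchell
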