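import Cfsg.Agent.Lib.Linear.Mitchell.TransBasic

/-!
# Homologies in dimension three

A homology with centre `v`, axis the kernel of `φ` (with `φ v = 1`) and eigenvalue `μ`.  In a group
without transvections a homology is determined by its centre, and by its axis; two of them whose
invariant `φ(w) ψ(v)` is one are equal.
-/

set_option autoImplicit false

namespace Cfsg.Lib.Linear.Mitchell

open Cfsg.Geo
open Cfsg.Lib.Linear.TVec
open scoped Matrix MatrixGroups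

variable {F : Type*} [Field F] {G : Subgroup (GL (Fin 3) F)}

/-- The matrix of a homology. -/
def hMat (μ : F) (v φ : Fin 3 → F) : Matrix (Fin 3) (Fin 3) F :=
  1 + (μ - 1) • Matrix.vecMulVec v φ

/-- `G` contains the homology. -/
def InH (G : Subgroup (GL (Fin 3) F)) (μ : F) (v φ : Fin 3 → F) : Prop :=
  φ ⬝ᵥ v = 1 ∧ ∃ g ∈ G, (g : Matrix (Fin 3) (Fin 3) F) = hMat μ v φ

/-- `G` has no transvections. -/
def NoT (G : Subgroup (GL (Fin 3) F)) : Prop := ∀ z a, InT G z a → z = 0 ∨ a = 0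

/-- The two pairs give the same homologies. -/
def Same (v φ w ψ : Fin 3 → F) : Prop := Matrix.vecMulVec w ψ = Matrix.vecMulVec v φ

theorem hMat_mulVec (μ : F) (v φ x : Fin 3 → F) :
    hMat μ v φ *ᵥ x = x + ((μ - 1) * (φ ⬝ᵥ x)) • v := by
  funext i
  simp only [hMat, Matrix.add_mulVec, Matrix.one_mulVec, Matrix.smul_mulVec,
    Matrix.vecMulVec_mulVec, Pi.add_apply, Pi.smul_apply, smul_eq_mul, MulOpposite.smul_eq_mul_unop,
    MulOpposite.unop_op]
  ring

theorem vecMul_hMat (μ : F) (v φ ψ : Fin 3 → F) :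
    ψ ᵥ* hMat μ v φ = ψ + ((μ - 1) * (ψ ⬝ᵥ v)) • φ := by
  funext i
  simp only [hMat, Matrix.vecMul_add, Matrix.vecMul_one, Matrix.vecMul_smul,
    Matrix.vecMul_vecMulVec, Pi.add_apply, Pi.smul_apply, smul_eq_mul]
  ring

theorem hMat_mul {v φ : Fin 3 → F} (h : φ ⬝ᵥ v = 1) (μ ν : F) :
    hMat μ v φ * hMat ν v φ = hMat (μ * ν) v φ := by
  simp only [hMat, add_mul, mul_add, one_mul, mul_one, Matrix.smul_mul, Matrix.mul_smul,
    Matrix.vecMulVec_mul_vecMulVec, h, one_smul, smul_smul, add_assoc, ← add_smul]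
  congr 2
  ring

theorem hMat_one (v φ : Fin 3 → F) : hMat 1 v φ = 1 := by simp [hMat]

theorem InH.ne_zero {μ : F} {v φ : Fin 3 → F} (h : InH G μ v φ) : v ≠ 0 ∧ φ ≠ 0 :=
  ⟨fun e => by simpa [e] using h.1, fun e => by simpa [e] using h.1⟩

theorem inv_val {μ : F} {v φ : Fin 3 → F} (hd : φ ⬝ᵥ v = 1) (hμ : μ ≠ 0) {g : GL (Fin 3) F}
    (hg : (g : Matrix (Fin 3) (Fin 3) F) = hMat μ v φ) :
    ((g⁻¹ : GL (Fin 3) F) : Matrix (Fin 3) (Fin 3) F) = hMat μ⁻¹ v φ := by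
  have h1 : g.val * hMat μ⁻¹ v φ = 1 := by rw [hg, hMat_mul hd, mul_inv_cancel₀ hμ, hMat_one]
  calc (g⁻¹).val = (g⁻¹).val * (g.val * hMat μ⁻¹ v φ) := by rw [h1, mul_one]
    _ = hMat μ⁻¹ v φ := by rw [← mul_assoc, Units.inv_mul, one_mul]

theorem InH.sq {μ : F} {v φ : Fin 3 → F} (h : InH G μ v φ) : InH G (μ * μ) v φ := by
  obtain ⟨hd, g, hg, hv⟩ := h
  exact ⟨hd, g * g, mul_mem hg hg, by rw [Units.val_mul, hv, hMat_mul hd]⟩

theorem InH.rescale {μ : F} {v φ : Fin 3 → F} {s : F} (h : InH G μ (s • v) φ) :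
    InH G μ v (s • φ) := by
  obtain ⟨hd, g, hg, hv⟩ := h
  refine ⟨?_, g, hg, ?_⟩
  · rw [smul_dotProduct]; rwa [dotProduct_smul] at hd
  · rw [hv, hMat, hMat, Matrix.vecMulVec_smul, Matrix.smul_vecMulVec]

theorem InH.rescale' {μ : F} {v φ : Fin 3 → F} {s : F} (h : InH G μ v (s • φ)) :
    InH G μ (s • v) φ := by
  obtain ⟨hd, g, hg, hv⟩ := h
  refine ⟨?_, g, hg, ?_⟩
  · rw [dotProduct_smul]; rwa [smul_dotProduct] at hd
  · rw [hv, hMat, hMat, Matrix.vecMulVec_smul, Matrix.smul_vecMulVec]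

theorem InH.conj {μ : F} {v φ : Fin 3 → F} (h : InH G μ v φ) {g : GL (Fin 3) F} (hg : g ∈ G) :
    InH G μ (g.val *ᵥ v) (φ ᵥ* g⁻¹.val) := by
  obtain ⟨hd, k, hk, hv⟩ := h
  refine ⟨?_, g * k * g⁻¹, mul_mem (mul_mem hg hk) (inv_mem hg), ?_⟩
  · rw [← Matrix.dotProduct_mulVec, inv_mul_mulVec, hd]
  · rw [Units.val_mul, Units.val_mul, hv, hMat, hMat, mul_add, add_mul, mul_one, Units.mul_inv,
      Matrix.mul_smul, Matrix.smul_mul, Matrix.mul_vecMulVec, Matrix.vecMulVec_mul]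

/-- Conjugation of a homology by a homology. -/
theorem InH.conj_hom {μ ν : F} {v φ w ψ : Fin 3 → F} (hμ : μ ≠ 0) (ha : InH G μ v φ)
    (hb : InH G ν w ψ) :
    InH G ν (w + ((μ - 1) * (φ ⬝ᵥ w)) • v) (ψ + ((μ⁻¹ - 1) * (ψ ⬝ᵥ v)) • φ) := by
  obtain ⟨hd, g, hg, hv⟩ := ha
  have h := hb.conj hg
  rwa [hv, inv_val hd hμ hv, hMat_mulVec, vecMul_hMat] at h

/-- A transvection from a product of two homologies with the same centre. -/
theorem same_centre (hT : NoT G) {μ : F} (h0 : μ ≠ 0) (h1 : μ ≠ 1) {v φ φ' : Fin 3 → F}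
    (ha : InH G μ v φ) (hb : InH G μ v φ') : φ' = φ := by
  have hv0 := ha.ne_zero.1
  obtain ⟨hd, g, hg, hgv⟩ := ha
  obtain ⟨hd', g', hg', hgv'⟩ := hb
  have hz : (φ' - φ) ⬝ᵥ ((μ - 1) • v) = 0 := by
    rw [dotProduct_smul, sub_dotProduct, hd, hd', sub_self, smul_zero]
  have hT' : InT G ((μ - 1) • v) (φ' - φ) := by
    refine ⟨hz, ?_⟩
    have he : tv ((μ - 1) • v) (φ' - φ) hz = g' * g⁻¹ := by
      apply Units.ext
      rw [coe_tv, Units.val_mul, hgv', inv_val hd h0 hgv]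
      simp only [tvMat, hMat, add_mul, mul_add, one_mul, mul_one, Matrix.smul_mul, Matrix.mul_smul,
        Matrix.vecMulVec_mul_vecMulVec, hd', one_smul]
      ext i j
      simp only [Matrix.add_apply, Matrix.smul_apply, Matrix.vecMulVec_apply, Pi.smul_apply,
        Pi.sub_apply, smul_eq_mul]
      field_simp
      ring
    rw [he]
    exact mul_mem hg' (inv_mem hg)
  rcases hT _ _ hT' with e | e
  · exact absurd ((smul_eq_zero.1 e).resolve_left (sub_ne_zero.2 h1)) hv0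
  · exact sub_eq_zero.1 e

/-- A transvection from a product of two homologies with the same axis. -/
theorem same_axis (hT : NoT G) {μ : F} (h0 : μ ≠ 0) (h1 : μ ≠ 1) {v v' φ : Fin 3 → F}
    (ha : InH G μ v φ) (hb : InH G μ v' φ) : v' = v := by
  have hφ := ha.ne_zero.2
  obtain ⟨hd, g, hg, hgv⟩ := ha
  obtain ⟨hd', g', hg', hgv'⟩ := hb
  have hz : φ ⬝ᵥ ((μ - 1) • (v' - v)) = 0 := by
    rw [dotProduct_smul, dotProduct_sub, hd, hd', sub_self, smul_zero]
  have hT' : InT G ((μ - 1) • (v' - v)) φ := by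
    refine ⟨hz, ?_⟩
    have he : tv ((μ - 1) • (v' - v)) φ hz = g⁻¹ * g' := by
      apply Units.ext
      rw [coe_tv, Units.val_mul, hgv', inv_val hd h0 hgv]
      simp only [tvMat, hMat, add_mul, mul_add, one_mul, mul_one, Matrix.smul_mul, Matrix.mul_smul,
        Matrix.vecMulVec_mul_vecMulVec, hd']
      ext i j
      simp only [Matrix.add_apply, Matrix.smul_apply, Matrix.vecMulVec_apply, Pi.smul_apply,
        Pi.sub_apply, smul_eq_mul]
      field_simp
      ring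
    rw [he]
    exact mul_mem (inv_mem hg) hg'
  rcases hT _ _ hT' with e | e
  · exact sub_eq_zero.1 ((smul_eq_zero.1 e).resolve_left (sub_ne_zero.2 h1))
  · exact absurd e hφ

theorem same_of_centre (hT : NoT G) {μ : F} (h0 : μ ≠ 0) (h1 : μ ≠ 1) {v φ w ψ : Fin 3 → F}
    (ha : InH G μ v φ) (hb : InH G μ w ψ) {s : F} (hw : w = s • v) : Same v φ w ψ := by
  subst hw
  have := same_centre hT h0 h1 ha hb.rescale
  rw [Same, Matrix.smul_vecMulVec, ← Matrix.vecMulVec_smul, this]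

theorem same_of_axis (hT : NoT G) {μ : F} (h0 : μ ≠ 0) (h1 : μ ≠ 1) {v φ w ψ : Fin 3 → F}
    (ha : InH G μ v φ) (hb : InH G μ w ψ) {s : F} (hw : ψ = s • φ) : Same v φ w ψ := by
  subst hw
  have := same_axis hT h0 h1 ha hb.rescale'
  rw [Same, Matrix.vecMulVec_smul, ← Matrix.smul_vecMulVec, this]

theorem zero_left (hT : NoT G) {μ : F} (h0 : μ ≠ 0) (h1 : μ ≠ 1) {v φ w ψ : Fin 3 → F}
    (ha : InH G μ v φ) (hb : InH G μ w ψ) (hx : φ ⬝ᵥ w = 0) : ψ ⬝ᵥ v = 0 := by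
  have h := InH.conj_hom h0 ha hb
  rw [hx, mul_zero, zero_smul, add_zero] at h
  have e := same_centre hT h0 h1 hb h
  rw [add_eq_left, smul_eq_zero] at e
  rcases mul_eq_zero.1 (e.resolve_right ha.ne_zero.2) with e' | e'
  · exact absurd (inv_eq_one.1 (sub_eq_zero.1 e')) h1
  · exact e'

theorem zero_right (hT : NoT G) {μ : F} (h0 : μ ≠ 0) (h1 : μ ≠ 1) {v φ w ψ : Fin 3 → F}
    (ha : InH G μ v φ) (hb : InH G μ w ψ) (hy : ψ ⬝ᵥ v = 0) : φ ⬝ᵥ w = 0 :=
  zero_left hT h0 h1 hb ha hy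

/-- The invariant of two different homologies is never one. -/
theorem same_of_prod_eq_one (hT : NoT G) {μ : F} (h0 : μ ≠ 0) (hsq : μ * μ ≠ 1)
    {v φ w ψ : Fin 3 → F} (ha : InH G μ v φ) (hb : InH G μ w ψ)
    (hc : (φ ⬝ᵥ w) * (ψ ⬝ᵥ v) = 1) : Same v φ w ψ := by
  have h1 : μ ≠ 1 := fun e => hsq (by rw [e, one_mul])
  set x := φ ⬝ᵥ w with hx
  set y := ψ ⬝ᵥ v with hy
  by_cases hX : w - x • v = 0
  · exact same_of_centre hT h0 h1 ha hb (sub_eq_zero.1 hX)
  by_cases hY : ψ - y • φ = 0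
  · exact same_of_axis hT h0 h1 ha hb (sub_eq_zero.1 hY)
  exfalso
  set x0 := w - x • v with hx0
  set f0 := ψ - y • φ with hf0
  have hd := ha.1
  have hψw := hb.1
  have d1 : φ ⬝ᵥ x0 = 0 := by
    rw [hx0, dotProduct_sub, dotProduct_smul, hd, ← hx, smul_eq_mul, mul_one, sub_self]
  have d2 : f0 ⬝ᵥ v = 0 := by
    rw [hf0, sub_dotProduct, smul_dotProduct, hd, ← hy, smul_eq_mul, mul_one, sub_self]
  have d3 : f0 ⬝ᵥ x0 = 0 := by
    rw [hf0, sub_dotProduct, smul_dotProduct, d1, smul_zero, sub_zero, hx0, dotProduct_sub,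
      dotProduct_smul, ← hy, hψw, smul_eq_mul, hc, sub_self]
  obtain ⟨-, g, hg, hgv⟩ := ha
  obtain ⟨-, k, hk, hkv⟩ := hb
  set E := Matrix.vecMulVec v φ with hE
  set A := Matrix.vecMulVec (x • v) f0 with hA
  set B := Matrix.vecMulVec x0 (y • φ) with hB
  set C := Matrix.vecMulVec x0 f0 with hC
  have hW : Matrix.vecMulVec w ψ = E + A + B + C := by
    have e1 : w = x • v + x0 := by rw [hx0]; abel
    have e2 : ψ = y • φ + f0 := by rw [hf0]; abel
    have hE' : Matrix.vecMulVec (x • v) (y • φ) = E := by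
      rw [Matrix.smul_vecMulVec, Matrix.vecMulVec_smul, smul_smul, hc, one_smul]
    conv_lhs => rw [e1, e2]
    rw [Matrix.add_vecMulVec, Matrix.vecMulVec_add, Matrix.vecMulVec_add, hE', ← add_assoc]
  have hEE : E * E = E := by
    rw [hE, Matrix.vecMulVec_mul_vecMulVec, hd, one_smul]
  have hEA : E * A = A := by
    rw [hE, hA, Matrix.vecMulVec_mul_vecMulVec, dotProduct_smul, hd, smul_eq_mul, mul_one,
      Matrix.vecMulVec_smul, ← Matrix.smul_vecMulVec]
  have hEB : E * B = 0 := by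
    rw [hE, hB, Matrix.vecMulVec_mul_vecMulVec, d1, zero_smul, Matrix.vecMulVec_zero]
  have hEC : E * C = 0 := by
    rw [hE, hC, Matrix.vecMulVec_mul_vecMulVec, d1, zero_smul, Matrix.vecMulVec_zero]
  have hAE : A * E = 0 := by
    rw [hA, hE, Matrix.vecMulVec_mul_vecMulVec, d2, zero_smul, Matrix.vecMulVec_zero]
  have hBE : B * E = B := by
    rw [hB, hE, Matrix.vecMulVec_mul_vecMulVec, smul_dotProduct, hd, smul_eq_mul, mul_one]
  have hCE : C * E = 0 := by
    rw [hC, hE, Matrix.vecMulVec_mul_vecMulVec, d2, zero_smul, Matrix.vecMulVec_zero]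
  have hAA : A * A = 0 := by
    rw [hA, Matrix.vecMulVec_mul_vecMulVec, dotProduct_smul, d2, smul_zero, zero_smul,
      Matrix.vecMulVec_zero]
  have hAB : A * B = 0 := by
    rw [hA, hB, Matrix.vecMulVec_mul_vecMulVec, d3, zero_smul, Matrix.vecMulVec_zero]
  have hAC : A * C = 0 := by
    rw [hA, hC, Matrix.vecMulVec_mul_vecMulVec, d3, zero_smul, Matrix.vecMulVec_zero]
  have hBA : B * A = C := by
    rw [hB, hA, Matrix.vecMulVec_mul_vecMulVec, smul_dotProduct, dotProduct_smul, hd, hC]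
    simp only [smul_eq_mul, mul_one]
    rw [mul_comm, hc, one_smul]
  have hBB : B * B = 0 := by
    rw [hB, Matrix.vecMulVec_mul_vecMulVec, smul_dotProduct, d1, smul_zero, zero_smul,
      Matrix.vecMulVec_zero]
  have hBC : B * C = 0 := by
    rw [hB, hC, Matrix.vecMulVec_mul_vecMulVec, smul_dotProduct, d1, smul_zero, zero_smul,
      Matrix.vecMulVec_zero]
  have hCA : C * A = 0 := by
    rw [hC, hA, Matrix.vecMulVec_mul_vecMulVec, dotProduct_smul, d2, smul_zero, zero_smul,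
      Matrix.vecMulVec_zero]
  have hCB : C * B = 0 := by
    rw [hC, hB, Matrix.vecMulVec_mul_vecMulVec, d3, zero_smul, Matrix.vecMulVec_zero]
  have hCC : C * C = 0 := by
    rw [hC, Matrix.vecMulVec_mul_vecMulVec, d3, zero_smul, Matrix.vecMulVec_zero]
  set u := g * k⁻¹ with hu
  set u' := g * u * g⁻¹ with hu'
  have huv : u.val = 1 + (1 - μ) • A + (μ⁻¹ - 1) • B + (μ⁻¹ - 1) • C := by
    rw [hu, Units.val_mul, hgv, inv_val hψw h0 hkv, hMat, hMat, ← hE, hW]
    simp only [add_mul, mul_add, one_mul, mul_one, Matrix.smul_mul, Matrix.mul_smul, smul_add,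
      hEE, hEA, hEB, hEC, smul_zero, add_zero, smul_smul]
    match_scalars <;> field_simp <;> ring
  have huv' : u'.val = 1 + (μ * (1 - μ)) • A + (μ⁻¹ * (μ⁻¹ - 1)) • B + (μ⁻¹ - 1) • C := by
    rw [hu', Units.val_mul, Units.val_mul, huv, hgv, inv_val hd h0 hgv, hMat, hMat, ← hE]
    simp only [add_mul, mul_add, one_mul, mul_one, Matrix.smul_mul, Matrix.mul_smul, smul_add,
      hEE, hEA, hEB, hEC, hAE, hBE, hCE, smul_zero, add_zero, zero_add, smul_smul]
    match_scalars <;> field_simp <;> ring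
  set δ := (μ⁻¹ - 1) * (1 - μ) * (μ - μ⁻¹) with hδ
  have hcomm : u.val * u'.val = (1 + δ • C) * (u'.val * u.val) := by
    rw [huv, huv']
    simp only [add_mul, mul_add, one_mul, mul_one, Matrix.smul_mul, Matrix.mul_smul, smul_add,
      hAA, hAB, hAC, hBA, hBB, hBC, hCA, hCB, hCC, smul_zero, add_zero, zero_add, smul_smul, hδ]
    match_scalars <;> ring
  have hz : f0 ⬝ᵥ (δ • x0) = 0 := by rw [dotProduct_smul, d3, smul_zero]
  have hG : InT G (δ • x0) f0 := by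
    refine ⟨hz, ?_⟩
    have he : tv (δ • x0) f0 hz * (u' * u) = u * u' := by
      apply Units.ext
      rw [Units.val_mul, coe_tv, tvMat, Matrix.smul_vecMulVec, ← hC, Units.val_mul u' u,
        Units.val_mul u u', hcomm]
    have hum : u ∈ G := mul_mem hg (inv_mem hk)
    have hum' : u' ∈ G := mul_mem (mul_mem hg hum) (inv_mem hg)
    rw [eq_mul_inv_of_mul_eq he]
    exact mul_mem (mul_mem hum hum') (inv_mem (mul_mem hum' hum))
  rcases hT _ _ hG with e | e
  · refine hX ((smul_eq_zero.1 e).resolve_left ?_)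
    rw [hδ]
    refine mul_ne_zero (mul_ne_zero (sub_ne_zero.2 fun e => h1 (inv_eq_one.1 e))
      (sub_ne_zero.2 (Ne.symm h1))) (sub_ne_zero.2 fun e => hsq ?_)
    nth_rewrite 1 [e]
    exact inv_mul_cancel₀ h0
  · exact hY e

end Cfsg.Lib.Linear.Mitchell
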