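import Cfsg.Agent.Lib.Linear.Mitchell.HomologyBasic
import Cfsg.Agent.Lib.Dickson.CentralizerCard
import Cfsg.Agent.Lib.Dickson.PGLMax.Borel
import Cfsg.Agent.Lib.Linear.GLTwo

/-!
# Two homologies of order four

In a group without transvections two non-commuting homologies of eigenvalue `i` generate, on the
line of their centres, a group with image `S₄` in `PGL₂`, so their product has projective order
three there and the invariant `φ(w) ψ(v)` is one half.
-/

set_option autoImplicit false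

namespace Cfsg.Lib.Linear.Mitchell

open Cfsg.Geo
open Cfsg.Lib.Linear.TVec
open scoped Matrix MatrixGroups

variable {F : Type*} [Field F] {G : Subgroup (GL (Fin 3) F)}

/-- `GL₂` on the first two coordinates. -/
def blk2 : GL (Fin 2) F →* GL (Fin 3) F where
  toFun A := Matrix.GeneralLinearGroup.mkOfDetNeZero
    !![A.val 0 0, A.val 0 1, 0; A.val 1 0, A.val 1 1, 0; 0, 0, 1] (by
      have h := (Matrix.GeneralLinearGroup.det A).ne_zero
      rw [Matrix.GeneralLinearGroup.val_det_apply, Matrix.det_fin_two] at h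
      rw [Matrix.det_fin_three]
      simpa using h)
  map_one' := Units.ext (by
    ext i j
    fin_cases i <;> fin_cases j <;> simp [Matrix.GeneralLinearGroup.mkOfDetNeZero])
  map_mul' A B := Units.ext (by
    ext i j
    fin_cases i <;> fin_cases j <;>
      simp [Matrix.GeneralLinearGroup.mkOfDetNeZero, Matrix.mul_apply, Fin.sum_univ_three,
        Fin.sum_univ_two])

theorem blk2_val (A : GL (Fin 2) F) :
    (blk2 A).val = !![A.val 0 0, A.val 0 1, 0; A.val 1 0, A.val 1 1, 0; 0, 0, 1] := rfl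

/-- A matrix of size two with nilpotent part of square zero gives a transvection. -/
theorem inT_of_sq_zero {g : GL (Fin 2) F} {N : Matrix (Fin 2) (Fin 2) F} (hg : g.val = 1 + N)
    (hN : N * N = 0) (hN0 : N ≠ 0) (hG : blk2 g ∈ G) :
    ∃ z a, InT G z a ∧ z ≠ 0 ∧ a ≠ 0 := by
  have e00 : N 0 0 * N 0 0 + N 0 1 * N 1 0 = 0 := by
    simpa [Matrix.mul_apply, Fin.sum_univ_two] using congrFun (congrFun hN 0) 0
  have e01 : N 0 0 * N 0 1 + N 0 1 * N 1 1 = 0 := by
    simpa [Matrix.mul_apply, Fin.sum_univ_two] using congrFun (congrFun hN 0) 1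
  have e11 : N 1 0 * N 0 1 + N 1 1 * N 1 1 = 0 := by
    simpa [Matrix.mul_apply, Fin.sum_univ_two] using congrFun (congrFun hN 1) 1
  have main : ∀ z a : Fin 2 → F, N = Matrix.vecMulVec z a → a ⬝ᵥ z = 0 →
      InT G ![z 0, z 1, 0] ![a 0, a 1, 0] := by
    intro z a hza haz
    have h : (![a 0, a 1, 0] : Fin 3 → F) ⬝ᵥ ![z 0, z 1, 0] = 0 := by
      simpa [dotProduct, Fin.sum_univ_two, Fin.sum_univ_three] using haz
    refine ⟨h, ?_⟩
    have he : tv ![z 0, z 1, 0] ![a 0, a 1, 0] h = blk2 g := by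
      apply Units.ext
      rw [coe_tv, blk2_val, hg, hza]
      ext i j
      fin_cases i <;> fin_cases j <;> simp [tvMat, Matrix.vecMulVec_apply, Matrix.one_apply]
    rw [he]
    exact hG
  by_cases h01 : N 0 1 = 0
  · have h00 : N 0 0 = 0 := by
      simpa [h01] using e00
    have h11 : N 1 1 = 0 := by
      simpa [h01] using e11
    have h10 : N 1 0 ≠ 0 := fun h => hN0 (by
      ext i j
      fin_cases i <;> fin_cases j <;> simp [h00, h01, h11, h])
    refine ⟨_, _, main ![0, 1] ![N 1 0, 0] ?_ (by simp [dotProduct, Fin.sum_univ_two]), ?_, ?_⟩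
    · ext i j
      fin_cases i <;> fin_cases j <;> simp [Matrix.vecMulVec_apply, h00, h01, h11]
    · intro e
      simpa using congrFun e 1
    · intro e
      exact h10 (by simpa using congrFun e 0)
  · have hd : N 0 0 + N 1 1 = 0 := by
      refine (mul_eq_zero.1 (?_ : N 0 1 * (N 0 0 + N 1 1) = 0)).resolve_left h01
      linear_combination e01
    refine ⟨_, _, main ![N 0 1, N 1 1] ![N 0 0 / N 0 1, 1] ?_ ?_, ?_, ?_⟩
    · ext i j
      fin_cases i <;> fin_cases j <;> simp [Matrix.vecMulVec_apply]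
      · field_simp
      · field_simp
        linear_combination e00 - N 0 0 * hd
    · simp [dotProduct, Fin.sum_univ_two, div_mul_cancel₀ _ h01, hd]
    · intro e
      exact h01 (by simpa using congrFun e 0)
    · intro e
      simpa using congrFun e 1

/-- A subgroup of `GL₂` whose image in `GL₃` has no transvection has order prime to `p`. -/
theorem not_dvd_card_comap [Finite F] (hT : NoT G) (p : ℕ) [Fact p.Prime] [CharP F p] :
    ¬ p ∣ Nat.card (G.comap blk2 : Subgroup (GL (Fin 2) F)) := by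
  intro hd
  obtain ⟨⟨g, hg⟩, ho⟩ := exists_prime_orderOf_dvd_card' p hd
  rw [Subgroup.orderOf_mk] at ho
  haveI : CharP (Matrix (Fin 2) (Fin 2) F) p := inferInstance
  set N := g.val - 1 with hN
  have hgN : g.val = 1 + N := by rw [hN]; abel
  have hp : N ^ p = 0 := by
    rw [hN, sub_pow_char_of_commute (R := Matrix (Fin 2) (Fin 2) F) p (Commute.one_right _),
      one_pow, ← Units.val_pow_eq_pow_val, ← ho, pow_orderOf_eq_one, Units.val_one, sub_self]
  have hN2 : N * N = 0 := by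
    have hdet : N.det = 0 := by
      have := congrArg Matrix.det hp
      rw [Matrix.det_pow, Matrix.det_zero] at this
      exact eq_zero_of_pow_eq_zero this
    have hsq : N * N = N.trace • N := by
      rw [Matrix.det_fin_two] at hdet
      ext i j
      fin_cases i <;> fin_cases j <;>
        simp [Matrix.mul_apply, Fin.sum_univ_two, Matrix.trace_fin_two] <;>
          first | ring1 | linear_combination -hdet | linear_combination hdet
    have hpow : ∀ n : ℕ, N ^ (n + 1) = N.trace ^ n • N := by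
      intro n
      induction n with
      | zero => simp
      | succ n ih => rw [pow_succ, ih, Matrix.smul_mul, hsq, smul_smul, pow_succ]
    obtain ⟨m, hm⟩ := Nat.exists_eq_add_one.2 (Fact.out : p.Prime).pos
    rw [hsq]
    rcases smul_eq_zero.1 ((hpow m).symm.trans (hm ▸ hp)) with e | e
    · rw [eq_zero_of_pow_eq_zero e, zero_smul]
    · rw [e, smul_zero]
  have hN0 : N ≠ 0 := fun e => by
    have : g = 1 := Units.ext (by rw [hgN, e, add_zero, Units.val_one])
    rw [this, orderOf_one] at ho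
    exact (Fact.out : p.Prime).one_lt.ne ho
  obtain ⟨z, a, h, hz, ha⟩ := inT_of_sq_zero hgN hN2 hN0 (Subgroup.mem_comap.1 hg)
  exact (hT z a h).elim hz ha

theorem noT_cj (hT : NoT G) (P : GL (Fin 3) F) : NoT (cj P G) := by
  intro z a h
  rcases hT _ _ (inT_cj.1 h) with e | e
  · exact Or.inl (by rw [← mul_inv_mulVec P z, e, Matrix.mulVec_zero])
  · exact Or.inr (by rw [← mul_inv_vecMul P a, e, Matrix.zero_vecMul])

theorem perm_four_mul : ∀ r s : Equiv.Perm (Fin 4),
    r ^ 4 = 1 → r ^ 2 ≠ 1 → s ^ 4 = 1 → s ^ 2 ≠ 1 → r * s ≠ s * r → (r * s) ^ 3 = 1 := by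
  decide +kernel

theorem alt_four_no_four : ∀ r : alternatingGroup (Fin 4), r ^ 4 = 1 → r ^ 2 = 1 := by decide +kernel

theorem alt_five_no_four : ∀ r : alternatingGroup (Fin 5), r ^ 4 = 1 → r ^ 2 = 1 := by decide +kernel

theorem dihedral_four_commute {k : ℕ} {r s : DihedralGroup k} (hr : r ^ 2 ≠ 1) (hs : s ^ 2 ≠ 1) :
    r * s = s * r := by
  cases r with
  | sr i => exact absurd (by rw [pow_two, DihedralGroup.sr_mul_self]) hr
  | r i =>
    cases s with
    | sr j => exact absurd (by rw [pow_two, DihedralGroup.sr_mul_self]) hs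
    | r j => simp [add_comm]

/-- In a subgroup of `PGL₂` of order prime to `p`, two non-commuting elements of order four have
product of order three. -/
theorem mul_pow_three [Fintype F] (p : ℕ) [Fact p.Prime] [CharP F p] (h2 : (2 : F) ≠ 0)
    (M : Subgroup (Matrix.ProjGenLinGroup (Fin 2) F)) (hM : ¬ p ∣ Nat.card M)
    {a b : Matrix.ProjGenLinGroup (Fin 2) F} (ha : a ∈ M) (hb : b ∈ M) (ha4 : a ^ 4 = 1)
    (ha2 : a ^ 2 ≠ 1) (hb4 : b ^ 4 = 1) (hb2 : b ^ 2 ≠ 1) (hab : a * b ≠ b * a) :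
    (a * b) ^ 3 = 1 := by
  have hodd : Fintype.card F % 2 = 1 := by
    refine FiniteField.odd_card_of_char_ne_two fun e => h2 ?_
    have := ringChar.charP F
    rw [e] at this
    exact_mod_cast CharP.cast_eq_zero F 2
  have key : ∀ {X : Type} [Group X] (e : M ≃* X),
      (∀ r s : X, r ^ 4 = 1 → r ^ 2 ≠ 1 → s ^ 4 = 1 → s ^ 2 ≠ 1 → r * s ≠ s * r → (r * s) ^ 3 = 1) →
        (a * b) ^ 3 = 1 := by
    intro X _ e hX
    have t : ∀ (z : M) (n : ℕ), e z ^ n = 1 ↔ (z : Matrix.ProjGenLinGroup (Fin 2) F) ^ n = 1 :=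
      fun z n => by
        rw [← map_pow, MulEquiv.map_eq_one_iff, ← Subgroup.coe_pow, OneMemClass.coe_eq_one]
    have h := hX (e ⟨a, ha⟩) (e ⟨b, hb⟩) ((t _ _).2 ha4) (fun h => ha2 ((t _ _).1 h))
      ((t _ _).2 hb4) (fun h => hb2 ((t _ _).1 h))
      (fun h => by
        rw [← map_mul, ← map_mul] at h
        exact hab (congrArg Subtype.val (e.injective h)))
    rw [← map_mul] at h
    exact (t _ _).1 h
  rcases Cfsg.Lib.Dickson.pgl_subgroup_cases p hodd M with
    ⟨k, -, ⟨hc, -⟩ | ⟨⟨e⟩⟩⟩ | ⟨R, -, hR, hne⟩ | ⟨⟨e⟩⟩ | ⟨⟨e⟩⟩ | ⟨⟨e⟩⟩ |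
      ⟨K, _, _, m, _, hK3, -, hK⟩
  · exact absurd (congrArg Subtype.val (hc.commutative.is_comm.comm (⟨a, ha⟩ : M) ⟨b, hb⟩)) hab
  · exact key e fun r s _ hr _ hs hrs => absurd (dihedral_four_commute hr hs) hrs
  · refine absurd ?_ hM
    obtain ⟨n, hn⟩ := IsPGroup.iff_card.1 hR
    refine dvd_trans ?_ (Subgroup.card_subgroup_dvd_card R)
    rw [hn]
    refine dvd_pow_self p fun e => hne ?_
    rw [← Subgroup.card_eq_one, hn, e, pow_zero]
  · exact key e fun r s h4 h _ _ _ => absurd (alt_four_no_four r h4) h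
  · exact key e perm_four_mul
  · exact key e fun r s h4 h _ _ _ => absurd (alt_five_no_four r h4) h
  · refine absurd ?_ hM
    have hsyl : ∀ P : Sylow p (Matrix.ProjectiveSpecialLinearGroup (Fin 2) K),
        p ∣ Nat.card (Matrix.ProjectiveSpecialLinearGroup (Fin 2) K) := fun P => by
      refine dvd_trans ?_ (Subgroup.card_subgroup_dvd_card (P : Subgroup _))
      rw [Cfsg.Lib.Dickson.card_sylow_psl p P]
      exact Cfsg.Lib.Linear.Two.dvd_card p
    rcases hK with ⟨⟨e⟩, -⟩ | ⟨⟨e⟩⟩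
    · rw [Nat.card_congr e.toEquiv]
      exact hsyl default
    · rw [Nat.card_congr e.toEquiv]
      exact (hsyl default).trans
        (Subgroup.card_dvd_of_injective _ Matrix.ProjectiveSpecialLinearGroup.toPGL_injective)

/-- If the cube of a matrix of size two is scalar, the matrix is scalar or the square of its trace
is its determinant. -/
theorem trace_sq_of_cube {Q : Matrix (Fin 2) (Fin 2) F} {s : F} (h : Q * Q * Q = s • 1)
    (hQ : ∀ c : F, Q ≠ c • 1) : Q.trace * Q.trace = Q.det := by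
  by_contra hne
  have hch : Q * Q = Q.trace • Q - Q.det • 1 := by
    ext i j
    fin_cases i <;> fin_cases j <;>
      simp [Matrix.mul_apply, Fin.sum_univ_two, Matrix.trace_fin_two, Matrix.det_fin_two] <;> ring
  have h3 : (Q.trace * Q.trace - Q.det) • Q = (s + Q.trace * Q.det) • (1 : Matrix _ _ F) := by
    rw [hch, sub_mul, Matrix.smul_mul, Matrix.smul_mul, one_mul, hch, smul_sub, smul_smul,
      smul_smul] at h
    rw [add_smul, ← h]
    module
  refine hQ ((Q.trace * Q.trace - Q.det)⁻¹ * (s + Q.trace * Q.det)) ?_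
  rw [← smul_smul, ← h3, inv_smul_smul₀ (sub_ne_zero.2 hne)]

theorem mk_commute_iff {g h : GL (Fin 2) F}
    (e : Matrix.ProjGenLinGroup.mk g * Matrix.ProjGenLinGroup.mk h =
      Matrix.ProjGenLinGroup.mk h * Matrix.ProjGenLinGroup.mk g) :
    ∃ s : F, g.val * h.val = s • (h.val * g.val) := by
  rw [← map_mul, ← map_mul, Matrix.ProjGenLinGroup.mk_eq_mk_iff] at e
  obtain ⟨u, hu⟩ := e
  refine ⟨((u⁻¹ : Fˣ) : F), ?_⟩
  have hu' := congrArg Units.val hu
  simp only [Units.val_mul, Matrix.GeneralLinearGroup.coe_scalar, Matrix.scalar_apply,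
    ← Matrix.smul_one_eq_diagonal, mul_smul_comm, mul_one] at hu'
  rw [← hu', smul_smul, Units.inv_mul, one_smul]

theorem mk_pow_three {g : GL (Fin 2) F} (e : Matrix.ProjGenLinGroup.mk g ^ 3 = 1) :
    ∃ s : F, g.val * g.val * g.val = s • 1 := by
  rw [← map_pow, ← map_one (Matrix.ProjGenLinGroup.mk (n := Fin 2) (R := F)),
    Matrix.ProjGenLinGroup.mk_eq_mk_iff] at e
  obtain ⟨u, hu⟩ := e
  refine ⟨((u⁻¹ : Fˣ) : F), ?_⟩
  have hu' := congrArg Units.val hu
  simp only [Units.val_mul, Units.val_pow_eq_pow_val, Units.val_one,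
    Matrix.GeneralLinearGroup.coe_scalar, Matrix.scalar_apply,
    ← Matrix.smul_one_eq_diagonal, mul_smul_comm, mul_one] at hu'
  rw [← hu', smul_smul, Units.inv_mul, one_smul, pow_three, mul_assoc]

/-- Two homologies of eigenvalue `i`: they commute, or their invariant `c` satisfies
`4 (1 - c) ^ 2 = 1`, or `c = 1` and they are equal. -/
theorem pair_cases [Fintype F] (hT : NoT G) (h2 : (2 : F) ≠ 0) {μ : F} (hμ : μ * μ = -1)
    {v φ w ψ : Fin 3 → F} (ha : InH G μ v φ) (hb : InH G μ w ψ) :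
    (φ ⬝ᵥ w = 0 ∧ ψ ⬝ᵥ v = 0) ∨ ((φ ⬝ᵥ w) * (ψ ⬝ᵥ v) = 1 ∧ Same v φ w ψ) ∨
      (((φ ⬝ᵥ w) * (ψ ⬝ᵥ v) ≠ 0) ∧ 4 * (1 - (φ ⬝ᵥ w) * (ψ ⬝ᵥ v)) ^ 2 = 1) := by
  have h0 : μ ≠ 0 := fun e => by simp [e] at hμ
  have hsq : μ * μ ≠ 1 := fun e => h2 (by linear_combination hμ - e)
  have hm2 : μ * μ - 1 ≠ 0 := sub_ne_zero.2 hsq
  have h1 : μ ≠ 1 := fun e => hsq (by rw [e, one_mul])
  have hm1 : μ + 1 ≠ 0 := fun e => hsq (by linear_combination (μ - 1) * e)
  set x := φ ⬝ᵥ w with hx
  set y := ψ ⬝ᵥ v with hy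
  by_cases hx0 : x = 0
  · exact Or.inl ⟨hx0, zero_left hT h0 h1 ha hb hx0⟩
  have hy0 : y ≠ 0 := fun e => hx0 (zero_right hT h0 h1 ha hb e)
  by_cases hc : x * y = 1
  · exact Or.inr (Or.inl ⟨hc, same_of_prod_eq_one hT h0 hsq ha hb hc⟩)
  refine Or.inr (Or.inr ⟨mul_ne_zero hx0 hy0, ?_⟩)
  -- the frame
  set n := crossProduct φ ψ with hn
  have hnφ : φ ⬝ᵥ n = 0 := dot_self_cross φ ψ
  have hnψ : ψ ⬝ᵥ n = 0 := dot_cross_self φ ψ
  have hn0 : n ≠ 0 := by
    intro e
    have h3 : (φ ⬝ᵥ v) • ψ - (ψ ⬝ᵥ v) • φ = 0 := by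
      funext i
      have e' := fun j => congrFun e j
      have h00 := e' 0
      have h01 := e' 1
      have h02 := e' 2
      rw [hn, cross_apply] at h00 h01 h02
      simp only [Matrix.cons_val_zero, Pi.zero_apply] at h00
      simp only [Matrix.cons_val_one, Matrix.head_cons, Matrix.cons_val_zero, Pi.zero_apply] at h01
      simp only [Matrix.cons_val_two, Matrix.tail_cons, Matrix.head_cons, Pi.zero_apply] at h02
      simp only [dotProduct, Fin.sum_univ_three, Pi.sub_apply, Pi.smul_apply, smul_eq_mul,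
        Pi.zero_apply]
      fin_cases i <;> simp only [Fin.zero_eta, Fin.mk_one, Fin.reduceFinMk]
      · linear_combination (-v 1) * h02 + v 2 * h01
      · linear_combination v 0 * h02 - v 2 * h00
      · linear_combination (-v 0) * h01 + v 1 * h00
    rw [ha.1, one_smul, sub_eq_zero, ← hy] at h3
    have h4 := congrArg (fun f => f ⬝ᵥ w) h3
    rw [hb.1, smul_dotProduct, ← hx, smul_eq_mul] at h4
    exact hc (by rw [mul_comm]; exact h4.symm)
  set B : Matrix (Fin 3) (Fin 3) F := (Matrix.of ![v, w - x • v, n]).transpose with hB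
  have hBv : ∀ u : Fin 3 → F, B *ᵥ u = u 0 • v + u 1 • (w - x • v) + u 2 • n := fun u => by
    funext i
    simp [hB, Matrix.mulVec, dotProduct, Fin.sum_univ_three, mul_comm]
  have hφB : φ ᵥ* B = ![1, 0, 0] := by
    funext j
    have e : ∀ u : Fin 3 → F, (φ ᵥ* B) ⬝ᵥ u = φ ⬝ᵥ (B *ᵥ u) := fun u =>
      (Matrix.dotProduct_mulVec φ B u).symm
    have := e (Pi.single j 1)
    rw [dotProduct_single, mul_one, hBv] at this
    rw [this]
    fin_cases j <;> simp [dotProduct_add, dotProduct_sub, dotProduct_smul, ha.1, ← hx, hnφ]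
  have hψB : ψ ᵥ* B = ![y, 1 - x * y, 0] := by
    funext j
    have e : ∀ u : Fin 3 → F, (ψ ᵥ* B) ⬝ᵥ u = ψ ⬝ᵥ (B *ᵥ u) := fun u =>
      (Matrix.dotProduct_mulVec ψ B u).symm
    have := e (Pi.single j 1)
    rw [dotProduct_single, mul_one, hBv] at this
    rw [this]
    fin_cases j <;> simp [dotProduct_add, dotProduct_sub, dotProduct_smul, hb.1, ← hy, hnψ]
  have hdet : B.det ≠ 0 := by
    intro hd
    obtain ⟨u, hu0, hu⟩ := Matrix.exists_mulVec_eq_zero_iff.2 hd
    have e1 : (φ ᵥ* B) ⬝ᵥ u = 0 := by rw [← Matrix.dotProduct_mulVec, hu, dotProduct_zero]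
    have e2 : (ψ ᵥ* B) ⬝ᵥ u = 0 := by rw [← Matrix.dotProduct_mulVec, hu, dotProduct_zero]
    rw [hφB] at e1
    rw [hψB] at e2
    simp [dotProduct, Fin.sum_univ_three] at e1 e2
    have u1 : u 1 = 0 := by
      rw [e1, mul_zero, zero_add] at e2
      exact (mul_eq_zero.1 e2).resolve_left (sub_ne_zero.2 (Ne.symm hc))
    rw [hBv, e1, u1, zero_smul, zero_smul, zero_add, zero_add] at hu
    refine hu0 (funext fun i => ?_)
    fin_cases i
    · exact e1
    · exact u1
    · exact (smul_eq_zero.1 hu).resolve_right hn0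
  set P := Matrix.GeneralLinearGroup.mkOfDetNeZero B hdet with hP
  have hPv : P.val = B := rfl
  have hPi : ∀ u z, B *ᵥ u = z → P⁻¹.val *ᵥ z = u := fun u z e => by
    rw [← e, ← hPv, inv_mul_mulVec]
  have hv' : P⁻¹.val *ᵥ v = ![1, 0, 0] := hPi _ _ (by rw [hBv]; simp)
  have hw' : P⁻¹.val *ᵥ w = ![x, 1, 0] := hPi _ _ (by rw [hBv]; simp)
  -- the two elements
  obtain ⟨hd, g, hg, hgv⟩ := ha
  obtain ⟨hd', k, hk, hkv⟩ := hb
  have hval : ∀ (g : GL (Fin 3) F) (z f : Fin 3 → F), g.val = hMat μ z f →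
      (P⁻¹ * g * P).val = hMat μ (P⁻¹.val *ᵥ z) (f ᵥ* B) := by
    intro g z f e
    rw [Units.val_mul, Units.val_mul, e, hMat, hMat, mul_add, add_mul, mul_one, Units.inv_mul,
      Matrix.mul_smul, Matrix.smul_mul, Matrix.mul_vecMulVec, Matrix.vecMulVec_mul, hPv]
  set G' := cj P⁻¹ G with hG'
  have hA' : P⁻¹ * g * P ∈ G' := mem_cj.2 (by simpa [mul_assoc] using hg)
  have hB' : P⁻¹ * k * P ∈ G' := mem_cj.2 (by simpa [mul_assoc] using hk)
  set c := x * y with hcdef
  let a2 : GL (Fin 2) F := Matrix.GeneralLinearGroup.mkOfDetNeZero !![μ, 0; 0, 1]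
    (by rw [Matrix.det_fin_two]; simpa using h0)
  let b2 : GL (Fin 2) F := Matrix.GeneralLinearGroup.mkOfDetNeZero
    !![1 + (μ - 1) * c, (μ - 1) * (x * (1 - c)); (μ - 1) * y, 1 + (μ - 1) * (1 - c)]
    (by
      rw [Matrix.det_fin_two]
      refine ne_of_eq_of_ne (b := μ) ?_ h0
      simp [hcdef]
      ring)
  have hblka : blk2 a2 = P⁻¹ * g * P := by
    apply Units.ext
    rw [hval g v φ hgv, hv', hφB, blk2_val]
    ext i j
    fin_cases i <;> fin_cases j <;>
      simp [a2, hMat, Matrix.vecMulVec_apply, Matrix.GeneralLinearGroup.mkOfDetNeZero,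
        Matrix.one_apply]
  have hblkb : blk2 b2 = P⁻¹ * k * P := by
    apply Units.ext
    rw [hval k w ψ hkv, hw', hψB, blk2_val]
    ext i j
    fin_cases i <;> fin_cases j <;>
      simp [b2, hMat, Matrix.vecMulVec_apply, Matrix.GeneralLinearGroup.mkOfDetNeZero,
        Matrix.one_apply, hcdef]
  obtain ⟨p, hp⟩ := CharP.exists F
  haveI : Fact p.Prime := ⟨CharP.char_is_prime F p⟩
  set G2 : Subgroup (GL (Fin 2) F) := G'.comap blk2 with hG2
  have ha2m : a2 ∈ G2 := Subgroup.mem_comap.2 (hblka ▸ hA')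
  have hb2m : b2 ∈ G2 := Subgroup.mem_comap.2 (hblkb ▸ hB')
  set M := G2.map Matrix.ProjGenLinGroup.mk with hM
  have hpM : ¬ p ∣ Nat.card M := fun hd =>
    not_dvd_card_comap (noT_cj hT P⁻¹) p (hd.trans (Subgroup.card_map_dvd _ _))
  have ha2v : a2.val = !![μ, 0; 0, 1] := rfl
  have hb2v : b2.val =
      !![1 + (μ - 1) * c, (μ - 1) * (x * (1 - c)); (μ - 1) * y, 1 + (μ - 1) * (1 - c)] := rfl
  have hmk1 : ∀ {g : GL (Fin 2) F}, g.val = 1 → Matrix.ProjGenLinGroup.mk g = 1 := fun {g} e => by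
    rw [show g = 1 from Units.ext e, map_one]
  have hns : ∀ {g : GL (Fin 2) F}, (g.val 0 1 ≠ 0 ∨ g.val 0 0 ≠ g.val 1 1) →
      Matrix.ProjGenLinGroup.mk g ≠ 1 := fun {g} hgd e => by
    rw [← map_one (Matrix.ProjGenLinGroup.mk (n := Fin 2) (R := F)),
      Matrix.ProjGenLinGroup.mk_eq_mk_iff] at e
    obtain ⟨u, hu⟩ := e
    have hu' : g.val * Matrix.scalar (Fin 2) (u : F) = (1 : Matrix (Fin 2) (Fin 2) F) := by
      have := congrArg Units.val hu
      simpa using this
    have h01 := congrFun (congrFun hu' 0) 1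
    have h00 := congrFun (congrFun hu' 0) 0
    have h11 := congrFun (congrFun hu' 1) 1
    simp [Matrix.scalar_apply, Matrix.mul_diagonal] at h01 h00 h11
    rcases hgd with e' | e'
    · exact e' h01
    · exact e' (mul_right_cancel₀ u.ne_zero (h00.trans h11.symm))
  have hpow : ∀ g : GL (Fin 2) F, Matrix.ProjGenLinGroup.mk g ^ 2 = Matrix.ProjGenLinGroup.mk (g * g) ∧
      Matrix.ProjGenLinGroup.mk g ^ 4 = Matrix.ProjGenLinGroup.mk (g * g * (g * g)) := fun g =>
    ⟨by rw [map_mul, pow_two], by rw [map_mul, map_mul, ← pow_two, ← pow_two, ← pow_mul]⟩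
  have hne : c ≠ 0 := mul_ne_zero hx0 hy0
  have ha24 : Matrix.ProjGenLinGroup.mk a2 ^ 4 = 1 := by
    rw [(hpow a2).2]
    refine hmk1 ?_
    simp only [Units.val_mul, ha2v]
    ext i j
    fin_cases i <;> fin_cases j <;> simp [hμ]
  have ha22 : Matrix.ProjGenLinGroup.mk a2 ^ 2 ≠ 1 := by
    rw [(hpow a2).1]
    refine hns (Or.inr ?_)
    simp [Units.val_mul, ha2v, hμ]
    exact fun e => h2 (by linear_combination -e)
  have hbb : (b2 * b2).val = !![1 - 2 * c, -2 * (x * (1 - c)); -2 * y, 1 - 2 * (1 - c)] := by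
    rw [Units.val_mul, hb2v]
    ext i j
    fin_cases i <;> fin_cases j <;> simp [Matrix.mul_apply, Fin.sum_univ_two] <;>
      simp only [hcdef]
    · linear_combination (x * y) * hμ
    · linear_combination (x * (1 - x * y)) * hμ
    · linear_combination y * hμ
    · linear_combination (1 - x * y) * hμ
  have hb24 : Matrix.ProjGenLinGroup.mk b2 ^ 4 = 1 := by
    rw [(hpow b2).2]
    refine hmk1 ?_
    rw [Units.val_mul, hbb]
    ext i j
    fin_cases i <;> fin_cases j <;> simp [Matrix.mul_apply, Fin.sum_univ_two, hcdef] <;> ring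
  have hb22 : Matrix.ProjGenLinGroup.mk b2 ^ 2 ≠ 1 := by
    rw [(hpow b2).1]
    refine hns (Or.inl ?_)
    rw [hbb]
    simp [h2, hx0, sub_ne_zero.2 (Ne.symm hc)]
  have hncm : Matrix.ProjGenLinGroup.mk a2 * Matrix.ProjGenLinGroup.mk b2 ≠
      Matrix.ProjGenLinGroup.mk b2 * Matrix.ProjGenLinGroup.mk a2 := by
    intro e
    obtain ⟨s, hs⟩ := mk_commute_iff e
    rw [ha2v, hb2v] at hs
    have e01 := congrFun (congrFun hs 0) 1
    have e00 := congrFun (congrFun hs 0) 0
    have e11 := congrFun (congrFun hs 1) 1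
    simp [Matrix.mul_apply, Fin.sum_univ_two] at e01 e00 e11
    have hs' : s = μ := by
      have hne01 : (μ - 1) * (x * (1 - c)) ≠ 0 :=
        mul_ne_zero (sub_ne_zero.2 h1) (mul_ne_zero hx0 (sub_ne_zero.2 (Ne.symm hc)))
      refine mul_right_cancel₀ hne01 ?_
      rcases e01 with e | e | e | e
      · rw [e]
      all_goals simp [e]
    subst hs'
    have f0 : 1 + (s - 1) * c = 0 := by
      refine (mul_eq_zero.1 (?_ : s * (1 - s) * (1 + (s - 1) * c) = 0)).resolve_left
        (mul_ne_zero h0 (sub_ne_zero.2 (Ne.symm h1)))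
      linear_combination e00
    have f1 : 1 + (s - 1) * (1 - c) = 0 := by
      refine (mul_eq_zero.1 (?_ : (1 - s) * (1 + (s - 1) * (1 - c)) = 0)).resolve_left
        (sub_ne_zero.2 (Ne.symm h1))
      linear_combination e11
    exact hm1 (by linear_combination f0 + f1)
  have h3 := mul_pow_three p h2 M hpM (Subgroup.mem_map_of_mem _ ha2m)
    (Subgroup.mem_map_of_mem _ hb2m) ha24 ha22 hb24 hb22 hncm
  rw [← map_mul] at h3
  obtain ⟨s, hs⟩ := mk_pow_three h3
  have hQ : ∀ r : F, (a2 * b2).val ≠ r • 1 := by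
    intro r e
    have h01 := congrFun (congrFun e 0) 1
    simp [Units.val_mul, ha2v, hb2v, Matrix.mul_apply, Fin.sum_univ_two, h0, sub_eq_zero, h1, hx0,
      Ne.symm hc] at h01
  have ht := trace_sq_of_cube hs hQ
  rw [Units.val_mul, ha2v, hb2v, Matrix.det_mul, Matrix.det_fin_two, Matrix.det_fin_two,
    Matrix.trace_fin_two] at ht
  simp [Matrix.mul_apply, Fin.sum_univ_two] at ht
  simp only [hcdef] at ht ⊢
  linear_combination (-(1 : F)) * ht + (4 * (1 - x * y) ^ 2 - 1 + 4 * μ * (1 - x * y) * (x * y) +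
    (μ * μ + 1) * (x * y) ^ 2) * hμ

end Cfsg.Lib.Linear.Mitchell
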