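import Mathlib

/-!
# Generators of type `(2, 3, 7)` of `L₃(2)`
-/

set_option autoImplicit false
set_option maxHeartbeats 4000000

namespace Cfsg.Lib.Linear.Mitchell.L27Facts

local notation "M2" => Matrix.SpecialLinearGroup (Fin 3) (ZMod 2)

/-- A fixed element of order seven. -/
def c0 : M2 := ⟨!![0, 0, 1; 1, 0, 1; 0, 1, 0], by decide⟩

theorem c0_props : c0 ^ 7 = 1 ∧ c0 ≠ 1 := by decide +kernel

theorem conj_c0 : ∀ c : M2, c ^ 7 = 1 → c = 1 ∨ ∃ h, h * c = c0 * h ∨ h * c = c0⁻¹ * h := by decide +kernel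

/-- Short words in `g` and `t`. -/
def Word (g t x : M2) : Prop :=
  ∃ i : Fin 7, ∃ j : Fin 7, x = g ^ (i : ℕ) * t * g ^ (j : ℕ) ∨ x = g ^ (i : ℕ) ∨
    ∃ k : Fin 7, x = g ^ (i : ℕ) * t * g ^ (j : ℕ) * t * g ^ (k : ℕ)

instance (g t x : M2) : Decidable (Word g t x) := by unfold Word; infer_instance

/-- Every element is such a word or such a word times `t`. -/
def Words (g t : M2) : Prop := ∀ x : M2, Word g t x ∨ Word g t (x * t)

instance (g t : M2) : Decidable (Words g t) := by unfold Words; infer_instance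

theorem exists_t0 : ∀ e : Bool, ∃ t : M2, t * t = 1 ∧ t ≠ 1 ∧ ((bif e then c0 else c0⁻¹) * t) ^ 3 = 1 ∧
    Words (bif e then c0 else c0⁻¹) t := by
  decide +kernel

/-- At most one involution up to `⟨g⟩`. -/
def Uniq (g : M2) : Prop :=
  ∀ t : M2, t * t = 1 ∧ t ≠ 1 ∧ (g * t) ^ 3 = 1 →
    ∀ t' : M2, t' * t' = 1 ∧ t' ≠ 1 ∧ (g * t') ^ 3 = 1 → ∃ i : Fin 7, g ^ (i : ℕ) * t = t' * g ^ (i : ℕ)

instance : DecidablePred Uniq := fun g => by unfold Uniq; infer_instance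

theorem unique_t0 : ∀ e : Bool, Uniq (bif e then c0 else c0⁻¹) := by decide +kernel

/-- Elements of order seven are conjugate up to inversion. -/
theorem seven_conj {c d : M2} (hc : c ^ 7 = 1) (hc1 : c ≠ 1) (hd : d ^ 7 = 1) (hd1 : d ≠ 1) :
    ∃ y, y * d * y⁻¹ = c ∨ y * d * y⁻¹ = c⁻¹ := by
  obtain ⟨h, hh⟩ := (conj_c0 c hc).resolve_left hc1
  obtain ⟨k, hk⟩ := (conj_c0 d hd).resolve_left hd1
  refine ⟨h⁻¹ * k, ?_⟩
  have e : h⁻¹ * k * d * (h⁻¹ * k)⁻¹ = h⁻¹ * (k * d) * k⁻¹ * h := by group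
  rw [e]
  rcases hh with hh | hh <;> rcases hk with hk | hk <;> rw [hk]
  · left
    calc h⁻¹ * (c0 * k) * k⁻¹ * h = h⁻¹ * (c0 * h) := by group
      _ = c := by rw [← hh, inv_mul_cancel_left]
  · right
    calc h⁻¹ * (c0⁻¹ * k) * k⁻¹ * h = (h⁻¹ * (c0 * h))⁻¹ := by group
      _ = c⁻¹ := by rw [← hh, inv_mul_cancel_left]
  · right
    calc h⁻¹ * (c0 * k) * k⁻¹ * h = (h⁻¹ * (c0⁻¹ * h))⁻¹ := by group
      _ = c⁻¹ := by rw [← hh, inv_mul_cancel_left]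
  · left
    calc h⁻¹ * (c0⁻¹ * k) * k⁻¹ * h = h⁻¹ * (c0⁻¹ * h) := by group
      _ = c := by rw [← hh, inv_mul_cancel_left]

theorem normalise {c : M2} (hc : c ^ 7 = 1) (hc1 : c ≠ 1) :
    ∃ (h : M2) (e : Bool), h * c * h⁻¹ = bif e then c0 else c0⁻¹ := by
  obtain ⟨h, hh | hh⟩ := (conj_c0 c hc).resolve_left hc1
  · exact ⟨h, true, by rw [hh, mul_inv_cancel_right]; rfl⟩
  · exact ⟨h, false, by rw [hh, mul_inv_cancel_right]; rfl⟩

theorem exists_invol {c : M2} (hc : c ^ 7 = 1) (hc1 : c ≠ 1) : ∃ t, t * t = 1 ∧ t ≠ 1 ∧ (c * t) ^ 3 = 1 ∧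
    ∀ S : Subgroup M2, c ∈ S → t ∈ S → S = ⊤ := by
  obtain ⟨h, e, hh⟩ := normalise hc hc1
  obtain ⟨t, h2, h1, h3, hw⟩ := exists_t0 e
  refine ⟨h⁻¹ * t * h, ?_, fun x => h1 ?_, ?_, ?_⟩
  · calc h⁻¹ * t * h * (h⁻¹ * t * h) = h⁻¹ * (t * t) * h := by group
      _ = 1 := by rw [h2, mul_one, inv_mul_cancel]
  · calc t = h * (h⁻¹ * t * h) * h⁻¹ := by group
      _ = 1 := by rw [x, mul_one, mul_inv_cancel]
  · calc (c * (h⁻¹ * t * h)) ^ 3 = (h⁻¹ * ((h * c * h⁻¹) * t) * h⁻¹⁻¹) ^ 3 := by congr 1; group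
      _ = 1 := by rw [hh, conj_pow, h3, mul_one, mul_inv_cancel]
  · intro S hcS htS
    let φ := MulAut.conj h
    have hg : (bif e then c0 else c0⁻¹) ∈ S.map φ.toMonoidHom := ⟨c, hcS, hh⟩
    have ht : t ∈ S.map φ.toMonoidHom := ⟨_, htS, by
      show h * (h⁻¹ * t * h) * h⁻¹ = t
      group⟩
    refine eq_top_iff.2 fun x _ => (Subgroup.mem_map_iff_mem (f := φ.toMonoidHom) φ.injective).1 ?_
    show φ x ∈ S.map φ.toMonoidHom
    suffices hword : ∀ z, Word (bif e then c0 else c0⁻¹) t z → z ∈ S.map φ.toMonoidHom by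
      rcases hw (φ x) with hx | hx
      · exact hword _ hx
      · simpa [mul_assoc, h2] using mul_mem (hword _ hx) ht
    rintro z ⟨i, j, e' | e' | ⟨k, e'⟩⟩ <;> rw [e']
    · exact mul_mem (mul_mem (pow_mem hg _) ht) (pow_mem hg _)
    · exact pow_mem hg _
    · exact mul_mem (mul_mem (mul_mem (mul_mem (pow_mem hg _) ht) (pow_mem hg _)) ht) (pow_mem hg _)

theorem unique_invol {c : M2} (hc : c ^ 7 = 1) (hc1 : c ≠ 1) {t t' : M2} (h2 : t * t = 1) (h1 : t ≠ 1)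
    (h3 : (c * t) ^ 3 = 1) (h2' : t' * t' = 1) (h1' : t' ≠ 1) (h3' : (c * t') ^ 3 = 1) :
    ∃ i : ℕ, c ^ i * t = t' * c ^ i := by
  obtain ⟨h, e, hh⟩ := normalise hc hc1
  let φ := MulAut.conj h
  have hφ : φ c = bif e then c0 else c0⁻¹ := hh
  obtain ⟨i, hi⟩ := unique_t0 e (φ t) ⟨by rw [← map_mul, h2, map_one], by simpa using h1,
    by rw [← hφ, ← map_mul, ← map_pow, h3, map_one]⟩ (φ t') ⟨by rw [← map_mul, h2', map_one],
    by simpa using h1', by rw [← hφ, ← map_mul, ← map_pow, h3', map_one]⟩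
  refine ⟨i, φ.injective ?_⟩
  rw [map_mul, map_mul, map_pow, hφ, hi]

end Cfsg.Lib.Linear.Mitchell.L27Facts
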