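import Cfsg.Agent.Lib.Linear.Mitchell.L27FiveData
import Cfsg.Agent.Lib.Linear.Mitchell.L27Facts
import Cfsg.Agent.Lib.Linear.Mitchell.FieldSmall

/-!
# `L₂(7)` is not maximal in `SU₃(5)`

Its generators of orders seven and two can be moved by a unitary element into the line stabiliser `3.A₇`.
-/

set_option autoImplicit false
set_option linter.unusedSectionVars false
set_option linter.style.haveILetI false
set_option maxHeartbeats 1600000

namespace Cfsg.Lib.Linear.Mitchell.L27Five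

open Cfsg.Geo Cfsg.Lib.Linear Cfsg.Lib.Linear.Asch Cfsg.Lib.Linear.Asch.SUThreeTab
open scoped Matrix MatrixGroups Pointwise
open Fin.NatCast

variable {F : Type*} [Field F] [Fintype F]

/-- `PSL₃(2)` is `SL₃(2)`. -/
theorem exists_sl32 {P : Subgroup (GL (Fin 3) F)} (hP : Core P)
    (e : P ⧸ (scalars (Fin 3) F).subgroupOf P ≃* Matrix.ProjectiveSpecialLinearGroup (Fin 3) (ZMod 2)) :
    Nonempty (P ≃* Matrix.SpecialLinearGroup (Fin 3) (ZMod 2)) := by
  haveI : Fact (Nat.Prime 7) := ⟨by norm_num⟩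
  obtain ⟨e'⟩ := Cfsg.Agent.S0255.result (F := ZMod 7) (K := ZMod 2) (ZMod.card 7) (ZMod.card 2)
  let ψ := (e.trans e'.symm).toMonoidHom.comp (qm P)
  have hψ : ψ.ker = (scalars (Fin 3) F).subgroupOf P := by
    ext v; simp [ψ, qm, MonoidHom.mem_ker, QuotientGroup.eq_one_iff]
  have hinj : Function.Injective (qm P) := (injective_iff_map_eq_one _).2 fun v hv => by
    refine scalars_trivial hP ψ ((e.trans e'.symm).surjective.comp (QuotientGroup.mk'_surjective _)) hψ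
      (by rw [ZMod.card]; norm_num) (by rw [ringChar.eq (ZMod 7) 7]; norm_num) (Or.inr (by rw [ZMod.card]; norm_num)) ?_
    show (e.trans e'.symm) (qm P v) = 1
    rw [hv, map_one]
  let π : Matrix.SpecialLinearGroup (Fin 3) (ZMod 2) →* Matrix.ProjectiveSpecialLinearGroup (Fin 3) (ZMod 2) :=
    QuotientGroup.mk' _
  have hπ : Function.Injective π := (injective_iff_map_eq_one _).2 fun v hv => by
    rw [QuotientGroup.mk'_apply, QuotientGroup.eq_one_iff, Matrix.SpecialLinearGroup.mem_center_iff] at hv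
    obtain ⟨r, hr, hv⟩ := hv
    have hr1 : r = 1 := (by decide : ∀ r : ZMod 2, r ^ Fintype.card (Fin 3) = 1 → r = 1) r hr
    refine Subtype.ext ?_
    rw [← hv, hr1, map_one, Matrix.SpecialLinearGroup.coe_one]
  exact ⟨((MulEquiv.ofBijective (qm P) ⟨hinj, QuotientGroup.mk'_surjective _⟩).trans e).trans
    (MulEquiv.ofBijective π ⟨hπ, QuotientGroup.mk'_surjective _⟩).symm⟩

/-- An involution of `SU₃(q)`, `q` odd, is the reflection in its fixed point. -/
theorem exists_reflection {q : ℕ} (hF : Fintype.card F = q ^ 2) (h2 : (2 : F) ≠ 0) {t : GL (Fin 3) F}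
    (ht : t ∈ sunit 3 F q) (htt : t * t = 1) (ht1 : t ≠ 1) :
    ∃ v : Fin 3 → F, t.val *ᵥ v = v ∧ Cfsg.hermForm 3 F q v v ≠ 0 ∧
      ∀ w, t.val *ᵥ w = -w + (2 * Cfsg.hermForm 3 F q w v * (Cfsg.hermForm 3 F q v v)⁻¹) • v := by
  have hU := herm_unitary (n := 3) hF
  have hf := isSesq_of_unitary hU
  obtain ⟨Q, hQ⟩ := exists_flip_frame h2 ht.2 htt ht1
  have hcol : t.val * Q.val = Q.val * flipMat := by
    rw [← hQ, ← Units.val_mul, ← Units.val_mul]
    congr 1
    group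
  have he : ∀ i : Fin 3, t.val *ᵥ (Q.val *ᵥ Pi.single i 1) =
      (if i = 2 then (1 : F) else -1) • (Q.val *ᵥ Pi.single i 1) := fun i => by
    rw [Matrix.mulVec_mulVec, hcol, ← Matrix.mulVec_mulVec, ← Matrix.mulVec_smul]
    congr 1
    funext j
    fin_cases i <;> fin_cases j <;> simp [flipMat, Matrix.mulVec, dotProduct, Fin.sum_univ_three, Pi.single_apply]
  set v := Q.val *ᵥ (Pi.single 2 1 : Fin 3 → F) with hv
  have htv : t.val *ᵥ v = v := by have h := he 2; rwa [if_pos rfl, one_smul] at h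
  set c : (Fin 3 → F) → Fin 3 → F := fun w => Q⁻¹.val *ᵥ w with hc
  have hdec : ∀ w, w = c w 0 • (Q.val *ᵥ Pi.single 0 1) + c w 1 • (Q.val *ᵥ Pi.single 1 1) + c w 2 • v := by
    intro w
    conv_lhs => rw [← mulVec_inv_mulVec Q w]
    rw [hv, ← Matrix.mulVec_smul, ← Matrix.mulVec_smul, ← Matrix.mulVec_smul, ← Matrix.mulVec_add,
      ← Matrix.mulVec_add]
    congr 1
    funext j
    fin_cases j <;> simp [hc]
  have horth : ∀ i : Fin 3, i ≠ 2 → Cfsg.hermForm 3 F q (Q.val *ᵥ Pi.single i 1) v = 0 := by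
    intro i hi
    have h := mem_sunit ht (Q.val *ᵥ Pi.single i 1) v
    rw [he i, htv, if_neg hi, hf.smul_left] at h
    refine mul_left_cancel₀ h2 ?_
    rw [mul_zero]
    linear_combination -h
  have hval : ∀ w, Cfsg.hermForm 3 F q w v = c w 2 * Cfsg.hermForm 3 F q v v := by
    intro w
    conv_lhs => rw [hdec w]
    rw [hU.add_left, hU.add_left, hU.smul_left, hU.smul_left, hU.smul_left, horth 0 (by decide),
      horth 1 (by decide), mul_zero, mul_zero, zero_add, zero_add]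
  have hvv : Cfsg.hermForm 3 F q v v ≠ 0 := fun h0 => by
    have hv0 : v ≠ 0 := Asch.move_ne_zero Q (by simp)
    obtain ⟨⟨x, hx⟩, -⟩ := hU.nondegenerate v hv0
    exact hx (by rw [hval, h0, mul_zero])
  refine ⟨v, htv, hvv, fun w => ?_⟩
  rw [hval, show 2 * (c w 2 * Cfsg.hermForm 3 F q v v) * (Cfsg.hermForm 3 F q v v)⁻¹ = 2 * c w 2 by field_simp]
  conv_lhs => rw [hdec w, Matrix.mulVec_add, Matrix.mulVec_add, Matrix.mulVec_smul, Matrix.mulVec_smul,
    Matrix.mulVec_smul, he 0, he 1, htv]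
  conv_rhs => arg 1; rw [hdec w]
  simp only [show ((0 : Fin 3) = 2) = False by decide, show ((1 : Fin 3) = 2) = False by decide, if_false,
    neg_one_smul, smul_neg]
  rw [mul_smul, two_smul]
  abel

/-- Involutions of `SU₃(q)` fixing the same anisotropic point are equal. -/
theorem eq_of_fix {q : ℕ} (hF : Fintype.card F = q ^ 2) (h2 : (2 : F) ≠ 0) {s t : GL (Fin 3) F}
    (hs : s ∈ sunit 3 F q) (hss : s * s = 1) (hs1 : s ≠ 1) (ht : t ∈ sunit 3 F q) (htt : t * t = 1) (ht1 : t ≠ 1)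
    {w : Fin 3 → F} (hw : w ≠ 0) (hsw : s.val *ᵥ w = w) (htw : t.val *ᵥ w = w) : s = t := by
  have hf := isSesq_of_unitary (herm_unitary (n := 3) hF)
  have key : ∀ {r : GL (Fin 3) F}, r ∈ sunit 3 F q → r * r = 1 → r ≠ 1 → r.val *ᵥ w = w →
      ∀ x, r.val *ᵥ x = -x + (2 * Cfsg.hermForm 3 F q x w * (Cfsg.hermForm 3 F q w w)⁻¹) • w := by
    intro r hr hrr hr1 hrw x
    obtain ⟨v, -, hvv, hr'⟩ := exists_reflection hF h2 hr hrr hr1
    have e := hr' w
    rw [hrw] at e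
    set a := Cfsg.hermForm 3 F q w v * (Cfsg.hermForm 3 F q v v)⁻¹ with ha
    have hwa : w = a • v := by
      refine smul_right_injective (Fin 3 → F) h2 ?_
      show (2 : F) • w = (2 : F) • a • v
      rw [two_smul, smul_smul, ha, ← mul_assoc]
      nth_rewrite 1 [e]
      abel
    have ha0 : a ≠ 0 := fun h => hw (by rw [hwa, h, zero_smul])
    rw [hr' x, hwa, hf.smul_right, hf.smul_left, hf.smul_right, smul_smul]
    congr 1
    have hσ : Asch.sigmaE hF a ≠ 0 := (map_ne_zero _).2 ha0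
    congr 1
    field_simp
  refine Units.ext (Matrix.toLin'.injective (LinearMap.ext fun x => ?_))
  rw [Matrix.toLin'_apply, Matrix.toLin'_apply, key hs hss hs1 hsw, key ht htt ht1 htw]

/-- The trace of `g t` for a reflection `t`. -/
theorem trace_mul_reflection {q : ℕ} {t : GL (Fin 3) F} {v : Fin 3 → F} {μ : F} (g : GL (Fin 3) F)
    (ht : ∀ w, t.val *ᵥ w = -w + (μ * Cfsg.hermForm 3 F q w v) • v) :
    (g * t).val.trace = -g.val.trace + μ * Cfsg.hermForm 3 F q (g.val *ᵥ v) v := by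
  have htm : t.val = -1 + μ • Matrix.vecMulVec v (fun k => v k ^ q) := by
    refine Matrix.toLin'.injective (LinearMap.ext fun w => ?_)
    rw [Matrix.toLin'_apply, Matrix.toLin'_apply, ht, Matrix.add_mulVec, Matrix.neg_mulVec, Matrix.one_mulVec,
      Matrix.smul_mulVec, Matrix.vecMulVec_mulVec]
    congr 1
    rw [op_smul_eq_smul, smul_smul]
    congr 1
    simp only [Cfsg.hermForm, dotProduct, mul_eq_mul_left_iff]
    left
    exact Finset.sum_congr rfl fun k _ => mul_comm _ _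
  rw [Units.val_mul, htm, mul_add, mul_neg, mul_one, Matrix.trace_add, Matrix.trace_neg, Matrix.mul_smul,
    Matrix.trace_smul, Matrix.mul_vecMulVec, Matrix.trace_vecMulVec, smul_eq_mul]
  rfl

section code

variable [Fact (Nat.Prime 5)] {w : F} (V : Valid 5 w)
include V

theorem phi_hC (u v : CVec) :
    phi 5 w (hC u v) = Cfsg.hermForm 3 F 5 (V.liftV u) (V.liftV v) := by
  haveI := V.charP
  rw [hC, V.lift_dot]
  simp only [V.phi_conj]
  rfl

theorem exists_code (v : Fin 3 → F) (hv : v ≠ 0) :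
    ∃ (l : F) (u : CVec), l ≠ 0 ∧ l • v = V.liftV u ∧ chk u := by
  haveI := V.charP
  by_cases h0 : v 0 = 0
  · by_cases h1 : v 1 = 0
    · have h2 : v 2 ≠ 0 := fun h2 => hv (funext fun i => by fin_cases i <;> simp_all)
      refine ⟨(v 2)⁻¹, ![0, 0, 1], inv_ne_zero h2, funext fun i => ?_, chk_point⟩
      fin_cases i <;> simp [Valid.liftV, h0, h1, h2, V.phi_zero, V.phi_one]
    · obtain ⟨a, ha, ha'⟩ := V.surj ((v 1)⁻¹ * v 2)
      refine ⟨(v 1)⁻¹, ![0, 1, a], inv_ne_zero h1, funext fun i => ?_, chk_line ⟨a, ha⟩⟩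
      fin_cases i <;> simp [Valid.liftV, h0, h1, ha', V.phi_zero, V.phi_one]
  · obtain ⟨a, ha, ha'⟩ := V.surj ((v 0)⁻¹ * v 1)
    obtain ⟨b, hb, hb'⟩ := V.surj ((v 0)⁻¹ * v 2)
    refine ⟨(v 0)⁻¹, ![1, a, b], inv_ne_zero h0, funext fun i => ?_, chk_plane ⟨a, ha⟩ ⟨b, hb⟩⟩
    fin_cases i <;> simp [Valid.liftV, h0, ha', hb', V.phi_one]

/-- An involution with `tr (g t) = 0` is moved to the coded one by a unitary element centralising `g`. -/
theorem exists_move {g c t t₀ : GL (Fin 3) F} (hgv : g.val = V.lift qFive_g) (hgS : g ∈ sunit 3 F 5)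
    (hcv : c.val = V.lift cC) (ht0 : t₀ ∈ sunit 3 F 5) (ht0v : t₀.val = V.lift t0C) (ht : t ∈ sunit 3 F 5)
    (htt : t * t = 1) (ht1 : t ≠ 1) (htr : (g * t).val.trace = 0) :
    ∃ b ∈ Cfsg.GU 3 F 5, b * g * b⁻¹ = g ∧ b * t * b⁻¹ = t₀ := by
  haveI := V.charP
  have h2 : (2 : F) ≠ 0 := by
    intro h
    have := (CharP.cast_eq_zero_iff F 5 2).1 (by exact_mod_cast h)
    norm_num at this
  have hF := V.card
  have hf := isSesq_of_unitary (herm_unitary (n := 3) hF)
  obtain ⟨v, htv, hvv, hval⟩ := exists_reflection hF h2 ht htt ht1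
  have hv0 : v ≠ 0 := fun e => hvv (by rw [e]; simp [Cfsg.hermForm])
  obtain ⟨l, u, hl, hu, hchk⟩ := exists_code V v hv0
  set hh := Cfsg.hermForm 3 F 5 v v
  have htr' : 2 * Cfsg.hermForm 3 F 5 (g.val *ᵥ v) v = g.val.trace * hh := by
    rw [trace_mul_reflection (μ := 2 * hh⁻¹) (v := v) g (fun x => by
      rw [hval x]; congr 2; ring)] at htr
    field_simp at htr
    linear_combination htr
  rcases hchk with hc0 | hne | ⟨i, k, hz, he⟩
  · exfalso
    refine hvv ?_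
    have e := phi_hC V u u
    rw [hc0, V.phi_zero, ← hu, hf.smul_left, hf.smul_right] at e
    exact ((mul_eq_zero.1 e.symm).resolve_left hl |> mul_eq_zero.1).resolve_left ((map_ne_zero _).2 hl)
  · exfalso
    refine hne (V.inj _ (mulC_lt _ _) _ (mulC_lt _ _) ?_)
    rw [phi_mul V.sq, phi_mul V.sq, phi_hC V, phi_hC V, ← V.lift_vec, ← V.lift_trace, ← hgv, ← hu,
      Matrix.mulVec_smul, hf.smul_left, hf.smul_right, hf.smul_left, hf.smul_right,
      show phi 5 w 2 = 2 by rw [phi_natCast (by norm_num : 2 < 5)]; norm_num]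
    linear_combination l * (Asch.sigmaE hF l) * htr'
  · set b := g ^ (i : ℕ) * c ^ (k : ℕ) with hb
    have hcU : c ∈ Cfsg.GU 3 F 5 := V.mem_GU hcv cC_props.1
    have hgc : Commute c g := Units.ext (by
      rw [Units.val_mul, Units.val_mul, hcv, hgv, ← V.lift_mul, ← V.lift_mul, cC_props.2])
    have hbU : b ∈ Cfsg.GU 3 F 5 := mul_mem (pow_mem hgS.1 _) (pow_mem hcU _)
    have hbg : b * g * b⁻¹ = g := by
      have h : Commute b g := (Commute.pow_self g _).mul_left (hgc.pow_left _)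
      rw [h.eq, mul_inv_cancel_right]
    have hgi : ∀ j : ℕ, (g ^ j).val = V.lift (qFive_gp (j : Fin 7)) := by
      intro j
      induction j with
      | zero => rw [pow_zero, Units.val_one, Nat.cast_zero, qFive_gp_zero, V.lift_one]
      | succ j ih => rw [pow_succ, Units.val_mul, ih, hgv, ← V.lift_mul, qFive_gp_step, Nat.cast_succ]
    have hbv : b.val = V.lift (tor i k) := by
      have hi : ((i : ℕ) : Fin 7) = i := Fin.cast_val_eq_self i
      obtain ⟨e0, e1, e2⟩ := tor_eq i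
      rw [hb, Units.val_mul, hgi, hi]
      fin_cases k
      · simp [e0]
      · rw [show ((⟨1, by norm_num⟩ : Fin 3) : ℕ) = 1 from rfl, pow_one, hcv, ← V.lift_mul, ← e1]; rfl
      · rw [show ((⟨2, by norm_num⟩ : Fin 3) : ℕ) = 2 from rfl, pow_two, Units.val_mul, hcv, ← mul_assoc,
          ← V.lift_mul, ← V.lift_mul, ← e1, ← e2]
        rfl
    refine ⟨b, hbU, hbg, ?_⟩
    have hS : b * t * b⁻¹ ∈ sunit 3 F 5 := conj_mem_sunit hbU ht
    set z := b.val *ᵥ (l • v) with hzdef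
    have hzc : z = V.liftV (mvC 5 (tor i k) u) := by rw [hzdef, hu, hbv, V.lift_vec]
    have hz0 : z 0 = 0 := by rw [hzc, Valid.liftV, hz, V.phi_zero]
    have hz12 : z 1 = z 2 := by rw [hzc, Valid.liftV, Valid.liftV, he]
    have hzne : z ≠ 0 := Asch.move_ne_zero b (smul_ne_zero hl hv0)
    have h0t : t₀ * t₀ = 1 := Units.ext (by
      rw [Units.val_mul, ht0v, ← V.lift_mul, show mmC 5 t0C t0C = oneC by decide, V.lift_one, Units.val_one])
    have h01 : t₀ ≠ 1 := fun e => by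
      have := congrArg Units.val e
      rw [ht0v, Units.val_one, ← V.lift_one] at this
      exact absurd (V.lift_inj (by decide) (by decide) this) (by decide)
    refine eq_of_fix hF h2 hS ?_ ?_ ht0 h0t h01 hzne ?_ ?_
    · calc b * t * b⁻¹ * (b * t * b⁻¹) = b * (t * t) * b⁻¹ := by group
        _ = 1 := by rw [htt, mul_one, mul_inv_cancel]
    · intro e
      refine ht1 ?_
      calc t = b⁻¹ * (b * t * b⁻¹) * b := by group
        _ = 1 := by rw [e, mul_one, inv_mul_cancel]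
    · rw [hzdef, Asch.mul_mulVec, Asch.mul_mulVec, Asch.inv_mulVec_mulVec, Matrix.mulVec_smul, htv]
    · rw [ht0v]
      funext j
      fin_cases j <;> simp [Matrix.mulVec, dotProduct, Fin.sum_univ_three, Valid.lift, t0C, V.phi_zero, V.phi_one,
        hz0, hz12]

end code

/-- `L₂(7)` is not maximal in `SU₃(5)`. -/
theorem l27_five_false (hF : Fintype.card F = 5 ^ 2) {H P : Subgroup (GL (Fin 3) F)}
    (hH : IsMaximalIn (sunit 3 F 5) H) (hPH : P ≤ H) (hn : ∀ h ∈ H, ∀ x ∈ P, h * x * h⁻¹ ∈ P) (hP : Core P)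
    (hcent : ∀ h ∈ H, (∀ x ∈ P, h * x * h⁻¹ * x⁻¹ ∈ scalars (Fin 3) F) → h ∈ scalars (Fin 3) F)
    (e : P ⧸ (scalars (Fin 3) F).subgroupOf P ≃* Matrix.ProjectiveSpecialLinearGroup (Fin 3) (ZMod 2)) : False := by
  classical
  haveI : Fact (Nat.Prime 5) := ⟨by norm_num⟩
  haveI : Fact (Nat.Prime 7) := ⟨by norm_num⟩
  haveI : Finite (Matrix (Fin 3) (Fin 3) F) := inferInstanceAs (Finite (Fin 3 → Fin 3 → F))
  obtain ⟨φ⟩ := exists_sl32 hP e
  obtain ⟨w, V⟩ := exists_valid (p := 5) hF (Or.inr rfl)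
  haveI := V.charP
  obtain ⟨g, hgM, hgv⟩ := mem_overM V (reps := qFive_reps) qFive_unit_g qFive_stable_g
  obtain ⟨t₀, ht0M, ht0v⟩ := mem_overM V (reps := qFive_reps) t0_unit t0_stable
  obtain ⟨hh, hhM, hhv⟩ := mem_overM V (reps := qFive_reps) qFive_unit_h qFive_stable_h
  obtain ⟨ro, hroM, hrov⟩ := mem_overM V (reps := qFive_reps) qFive_unit_rot qFive_stable_rot
  obtain ⟨c, hcv⟩ := V.exists_unit cC_props.1
  obtain ⟨u, hu, huM⟩ := exists_moved V qFive_k qFive_unit_u qFive_moved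
  set M := overM V qFive_reps with hM
  have hgS : g ∈ sunit 3 F 5 := hgM.2
  have hgi : ∀ j : ℕ, (g ^ j).val = V.lift (qFive_gp (j : Fin 7)) := by
    intro j
    induction j with
    | zero => rw [pow_zero, Units.val_one, Nat.cast_zero, qFive_gp_zero, V.lift_one]
    | succ j ih => rw [pow_succ, Units.val_mul, ih, hgv, ← V.lift_mul, qFive_gp_step, Nat.cast_succ]
  have hg7 : g ^ 7 = 1 := Units.ext (by
    rw [hgi, show ((7 : ℕ) : Fin 7) = 0 from Fin.natCast_self 7, qFive_gp_zero, V.lift_one, Units.val_one])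
  have hg1 : g ≠ 1 := fun e' => by
    have := congrArg Units.val e'
    rw [hgv, Units.val_one, ← V.lift_one] at this
    exact qFive_g_ne (V.lift_inj (by decide) (by decide) this)
  have hgtr : (g⁻¹).val.trace ≠ g.val.trace := by
    rw [show g⁻¹ = g ^ 6 from inv_eq_of_mul_eq_one_right (by rw [← pow_succ', hg7]), hgi, hgv, V.lift_trace,
      V.lift_trace]
    intro h
    have := qFive_trace _ (V.inj _ (addC_lt _ _) _ (addC_lt _ _) h)
    exact absurd this (by decide)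
  -- an element of order seven of `P`, moved to `g`
  set g' : P := φ.symm L27Facts.c0
  have hg'7 : g' ^ 7 = 1 := by rw [← map_pow, L27Facts.c0_props.1, map_one]
  have hg'1 : g' ≠ 1 := fun e' => L27Facts.c0_props.2 (φ.symm.injective (e'.trans (map_one φ.symm).symm))
  set y : GL (Fin 3) F := (g' : GL (Fin 3) F) with hy
  have hyS : y ∈ sunit 3 F 5 := hH.1.le (hPH g'.2)
  have hy7 : y ^ 7 = 1 := by rw [hy, ← Subgroup.coe_pow, hg'7, OneMemClass.coe_one]
  have hy1 : y ≠ 1 := fun e' => hg'1 (Subtype.ext e')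
  have hcard : (Nat.card (sunit 3 F 5)).factorization 7 = 1 := by
    have h7 : 7 ∣ Nat.card (sunit 3 F 5) := by
      have := orderOf_dvd_natCard (⟨y, hyS⟩ : sunit 3 F 5)
      rwa [Subgroup.orderOf_mk, orderOf_eq_prime hy7 hy1] at this
    refine le_antisymm ?_ ((Nat.Prime.dvd_iff_one_le_factorization (by norm_num) Nat.card_pos.ne').1 h7)
    by_contra hgt
    have h2 : 7 ^ 2 ∣ Nat.card (sunit 3 F 5) :=
      (Nat.Prime.pow_dvd_iff_le_factorization (by norm_num) Nat.card_pos.ne').2 (by omega)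
    have h3 := h2.trans (Subgroup.card_dvd_of_le (inf_le_left : sunit 3 F 5 ≤ Cfsg.GU 3 F 5))
    rw [show Nat.card (Cfsg.GU 3 F 5) = 2268000 by rw [Herm.card_GU hF 3]; decide] at h3
    norm_num at h3
  let toSyl : ∀ z : GL (Fin 3) F, (hz : z ∈ sunit 3 F 5) → z ^ 7 = 1 → z ≠ 1 → Sylow 7 (sunit 3 F 5) :=
    fun z hz h7 h1 => Sylow.ofCard (Subgroup.zpowers ⟨z, hz⟩) (by
      rw [Nat.card_zpowers, Subgroup.orderOf_mk, orderOf_eq_prime h7 h1, hcard, pow_one])
  obtain ⟨a, ha⟩ := MulAction.exists_smul_eq (sunit 3 F 5) (toSyl y hyS hy7 hy1) (toSyl g hgS hg7 hg1)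
  obtain ⟨g₁, hg₁7, hg₁⟩ : ∃ g₁ : P, g₁ ^ 7 = 1 ∧ (a : GL (Fin 3) F) * g₁ * (a : GL (Fin 3) F)⁻¹ = g := by
    have h1 : (⟨g, hgS⟩ : sunit 3 F 5) ∈ (MulAut.conj a • (toSyl y hyS hy7 hy1 : Subgroup (sunit 3 F 5))) := by
      have hg0 : (⟨g, hgS⟩ : sunit 3 F 5) ∈ (toSyl g hgS hg7 hg1 : Subgroup (sunit 3 F 5)) :=
        Subgroup.mem_zpowers _
      rwa [← ha] at hg0
    obtain ⟨z, hz, hz'⟩ := h1
    obtain ⟨j, rfl⟩ := hz
    refine ⟨g' ^ j, ?_, ?_⟩
    · rw [← zpow_natCast, ← zpow_mul, mul_comm, zpow_mul, zpow_natCast, hg'7, one_zpow]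
    · rw [← show ((MulAut.conj a) ((⟨y, hyS⟩ : sunit 3 F 5) ^ j) : GL (Fin 3) F) = g from congrArg Subtype.val hz']
      simp [hy, MulAut.conj_apply]
  have hg₁1 : g₁ ≠ 1 := fun e' => hg1 (by rw [← hg₁, e', OneMemClass.coe_one, mul_one, mul_inv_cancel])
  -- the involution
  have hc7 : φ g₁ ^ 7 = 1 := by rw [← map_pow, hg₁7, map_one]
  have hc1 : φ g₁ ≠ 1 := by simpa using hg₁1
  obtain ⟨t', ht'2, ht'1, ht'3, hgen⟩ := L27Facts.exists_invol hc7 hc1
  set t₁ : P := φ.symm t'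
  have ht₁2 : t₁ * t₁ = 1 := by rw [← map_mul, ht'2, map_one]
  have ht₁1 : t₁ ≠ 1 := fun e' => ht'1 (φ.symm.injective (e'.trans (map_one φ.symm).symm))
  have ht₁3 : (g₁ * t₁) ^ 3 = 1 := φ.injective (by rw [map_pow, map_mul, φ.apply_symm_apply, ht'3, map_one])
  set τ := (a : GL (Fin 3) F) * t₁ * (a : GL (Fin 3) F)⁻¹ with hτ
  have hτS : τ ∈ sunit 3 F 5 := conj_mem_sunit a.2.1 (hH.1.le (hPH t₁.2))
  have hτ2 : τ * τ = 1 := by
    calc τ * τ = (a : GL (Fin 3) F) * ↑(t₁ * t₁) * (a : GL (Fin 3) F)⁻¹ := by rw [hτ, Subgroup.coe_mul]; group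
      _ = 1 := by rw [ht₁2, OneMemClass.coe_one, mul_one, mul_inv_cancel]
  have hτ1 : τ ≠ 1 := fun e' => ht₁1 (Subtype.ext (by
    calc (t₁ : GL (Fin 3) F) = (a : GL (Fin 3) F)⁻¹ * τ * a := by rw [hτ]; group
      _ = 1 := by rw [e', mul_one, inv_mul_cancel]))
  have hgτ : g * τ = (a : GL (Fin 3) F) * ↑(g₁ * t₁) * (a : GL (Fin 3) F)⁻¹ := by
    rw [hτ, ← hg₁, Subgroup.coe_mul]; group
  have hgτ3 : (g * τ) ^ 3 = 1 := by
    rw [hgτ, conj_pow, ← Subgroup.coe_pow, ht₁3, OneMemClass.coe_one, mul_one, mul_inv_cancel]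
  have htr : (g * τ).val.trace = 0 := by
    rcases trace_cube_zero (mul_mem hgS.2 hτS.2) hgτ3 with hs | ⟨h0, -⟩
    · exfalso
      refine hg1 ?_
      have hcomm : Commute g τ := by
        have h := scalars_comm' hs g
        calc g * τ = g⁻¹ * (g * (g * τ)) := by group
          _ = τ * g := by rw [h]; group
      have h6 : (g * τ) ^ 6 = 1 := by rw [show 6 = 3 * 2 by rfl, pow_mul, hgτ3, one_pow]
      rw [hcomm.mul_pow, show τ ^ 6 = (τ * τ) ^ 3 by rw [← pow_two, ← pow_mul], hτ2, one_pow, mul_one] at h6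
      rw [show (7 : ℕ) = 6 + 1 by rfl, pow_succ, h6, one_mul] at hg7
      exact hg7
    · exact h0
  obtain ⟨b₂, hb₂, hb₂g, hb₂t⟩ := exists_move V hgv hgS hcv ht0M.2 ht0v hτS hτ2 hτ1 htr
  set d := b₂ * (a : GL (Fin 3) F) with hd
  have hdU : d ∈ Cfsg.GU 3 F 5 := mul_mem hb₂ a.2.1
  have hdP : ∀ x : P, d * x * d⁻¹ ∈ M := by
    let S : Subgroup P := M.comap ((MulAut.conj d).toMonoidHom.comp P.subtype)
    have hSg : g₁ ∈ S := by
      show d * (g₁ : GL (Fin 3) F) * d⁻¹ ∈ M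
      rw [hd, show b₂ * (a : GL (Fin 3) F) * g₁ * (b₂ * (a : GL (Fin 3) F))⁻¹ =
        b₂ * ((a : GL (Fin 3) F) * g₁ * (a : GL (Fin 3) F)⁻¹) * b₂⁻¹ by group, hg₁, hb₂g]
      exact hgM
    have hSt : t₁ ∈ S := by
      show d * (t₁ : GL (Fin 3) F) * d⁻¹ ∈ M
      rw [hd, show b₂ * (a : GL (Fin 3) F) * t₁ * (b₂ * (a : GL (Fin 3) F))⁻¹ = b₂ * τ * b₂⁻¹ by rw [hτ]; group,
        hb₂t]
      exact ht0M
    intro x
    have htop := hgen (S.map φ.toMonoidHom) ⟨g₁, hSg, rfl⟩ ⟨t₁, hSt, φ.apply_symm_apply t'⟩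
    exact (Subgroup.mem_map_iff_mem (f := φ.toMonoidHom) φ.injective).1
      (htop ▸ Subgroup.mem_top (φ x) : φ x ∈ S.map φ.toMonoidHom)
  -- the structure of `H`
  have hHP : ∀ k ∈ H, ∃ x : P, ∃ s ∈ scalars (Fin 3) F, k = x * s := by
    intro k hk
    set kg : P := ⟨k * g₁ * k⁻¹, hn k hk _ g₁.2⟩
    have hk7 : kg ^ 7 = 1 := Subtype.ext (by
      show (k * (g₁ : GL (Fin 3) F) * k⁻¹) ^ 7 = 1
      rw [conj_pow, ← Subgroup.coe_pow, hg₁7, OneMemClass.coe_one, mul_one, mul_inv_cancel])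
    have hk1 : kg ≠ 1 := fun e' => hg₁1 (Subtype.ext (by
      calc (g₁ : GL (Fin 3) F) = k⁻¹ * (kg : GL (Fin 3) F) * k := by show _ = k⁻¹ * (k * g₁ * k⁻¹) * k; group
        _ = 1 := by rw [e', OneMemClass.coe_one, mul_one, inv_mul_cancel]))
    obtain ⟨y', hy'⟩ := L27Facts.seven_conj hc7 hc1 (d := φ kg) (by rw [← map_pow, hk7, map_one]) (by simpa using hk1)
    set yP : P := φ.symm y' with hyP
    have hy'' : yP * kg * yP⁻¹ = g₁ ∨ yP * kg * yP⁻¹ = g₁⁻¹ :=
      hy'.imp (fun h => φ.injective (by rw [map_mul, map_mul, map_inv, φ.apply_symm_apply, h]))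
        (fun h => φ.injective (by rw [map_mul, map_mul, map_inv, φ.apply_symm_apply, h, map_inv]))
    set z := (yP : GL (Fin 3) F) * k with hz
    have hzH : z ∈ H := mul_mem (hPH yP.2) hk
    have hzg : z * g₁ * z⁻¹ = (g₁ : GL (Fin 3) F) := by
      rcases hy'' with h | h
      · have h' := congrArg Subtype.val h
        simp only [Subgroup.coe_mul, Subgroup.coe_inv, kg] at h'
        calc z * g₁ * z⁻¹ = (yP : GL (Fin 3) F) * (k * g₁ * k⁻¹) * (yP : GL (Fin 3) F)⁻¹ := by rw [hz]; group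
          _ = g₁ := h'
      · exfalso
        have h' := congrArg Subtype.val h
        simp only [Subgroup.coe_mul, Subgroup.coe_inv, kg] at h'
        have e1 : ((g₁ : GL (Fin 3) F)⁻¹).val.trace = (g₁ : GL (Fin 3) F).val.trace := by
          rw [← h']
          simp only [Units.val_mul]
          rw [Matrix.trace_units_conj, Matrix.trace_units_conj]
        refine hgtr ?_
        rw [← hg₁]
        simp only [mul_inv_rev, inv_inv, ← mul_assoc, Units.val_mul]
        rw [Matrix.trace_units_conj, Matrix.trace_units_conj, e1]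
    set zt : P := ⟨z * t₁ * z⁻¹, hn z hzH _ t₁.2⟩
    have hzt2 : zt * zt = 1 := Subtype.ext (by
      show z * (t₁ : GL (Fin 3) F) * z⁻¹ * (z * t₁ * z⁻¹) = 1
      calc _ = z * ↑(t₁ * t₁) * z⁻¹ := by rw [Subgroup.coe_mul]; group
        _ = 1 := by rw [ht₁2, OneMemClass.coe_one, mul_one, mul_inv_cancel])
    have hzt1 : zt ≠ 1 := fun e' => ht₁1 (Subtype.ext (by
      calc (t₁ : GL (Fin 3) F) = z⁻¹ * (zt : GL (Fin 3) F) * z := by show _ = z⁻¹ * (z * t₁ * z⁻¹) * z; group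
        _ = 1 := by rw [e', OneMemClass.coe_one, mul_one, inv_mul_cancel]))
    have hzt3 : (g₁ * zt) ^ 3 = 1 := Subtype.ext (by
      show ((g₁ : GL (Fin 3) F) * (z * t₁ * z⁻¹)) ^ 3 = 1
      calc _ = (z * g₁ * z⁻¹ * (z * t₁ * z⁻¹)) ^ 3 := by rw [hzg]
        _ = (z * ↑(g₁ * t₁) * z⁻¹) ^ 3 := by rw [Subgroup.coe_mul]; congr 1; group
        _ = 1 := by rw [conj_pow, ← Subgroup.coe_pow, ht₁3, OneMemClass.coe_one, mul_one, mul_inv_cancel])
    obtain ⟨i, hi⟩ := L27Facts.unique_invol hc7 hc1 (t := φ t₁) (t' := φ zt) (by rw [← map_mul, ht₁2, map_one])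
      (by simpa using ht₁1) (by rw [← map_mul, ← map_pow, ht₁3, map_one]) (by rw [← map_mul, hzt2, map_one])
      (by simpa using hzt1) (by rw [← map_mul, ← map_pow, hzt3, map_one])
    have hi' : g₁ ^ i * t₁ = zt * g₁ ^ i := φ.injective (by rw [map_mul, map_mul, map_pow, hi])
    set s := ((g₁ : GL (Fin 3) F) ^ i)⁻¹ * z with hs
    have hsH : s ∈ H := mul_mem (inv_mem (pow_mem (hPH g₁.2) i)) hzH
    have hsc : s ∈ scalars (Fin 3) F := by
      refine hcent s hsH fun x hx => ?_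
      let S : Subgroup P := (Subgroup.centralizer {s}).comap P.subtype
      have hmem : ∀ v : P, v ∈ S ↔ Commute s (v : GL (Fin 3) F) := fun v => by
        show (v : GL (Fin 3) F) ∈ Subgroup.centralizer {s} ↔ _
        rw [Subgroup.mem_centralizer_singleton_iff]
        exact ⟨fun h => h.symm, fun h => h.symm⟩
      have hSg : g₁ ∈ S := (hmem _).2 ((((Commute.refl (g₁ : GL (Fin 3) F)).pow_left i).inv_left).mul_left
        (mul_inv_eq_iff_eq_mul.1 hzg))
      have hSt : t₁ ∈ S := (hmem _).2 (by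
        have h := congrArg Subtype.val hi'
        simp only [Subgroup.coe_mul, Subgroup.coe_pow, zt] at h
        show ((g₁ : GL (Fin 3) F) ^ i)⁻¹ * z * t₁ = t₁ * (((g₁ : GL (Fin 3) F) ^ i)⁻¹ * z)
        have h' : z * (t₁ : GL (Fin 3) F) = (g₁ : GL (Fin 3) F) ^ i * t₁ * ((g₁ : GL (Fin 3) F) ^ i)⁻¹ * z := by
          rw [h]; group
        rw [mul_assoc, h']; group)
      have htop := hgen (S.map φ.toMonoidHom) ⟨g₁, hSg, rfl⟩ ⟨t₁, hSt, φ.apply_symm_apply t'⟩
      have hxS := (hmem ⟨x, hx⟩).1 ((Subgroup.mem_map_iff_mem (f := φ.toMonoidHom) φ.injective).1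
        (htop ▸ Subgroup.mem_top (φ ⟨x, hx⟩) : φ ⟨x, hx⟩ ∈ S.map φ.toMonoidHom))
      rw [hxS.eq, mul_inv_cancel_right, mul_inv_cancel]
      exact one_mem _
    refine ⟨yP⁻¹ * g₁ ^ i, s, hsc, ?_⟩
    rw [hs, hz, Subgroup.coe_mul, Subgroup.coe_inv, Subgroup.coe_pow]; group
  -- the overgroup
  refine overgroup_false hH (M := M) inf_le_right hu huM (b := d⁻¹) (inv_mem hdU) (fun k hk => ?_)
    (mul_mem hhM hroM) fun hfH => ?_
  · rw [inv_inv]
    obtain ⟨x, s, hs, rfl⟩ := hHP k hk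
    rw [show d * ((x : GL (Fin 3) F) * s) * d⁻¹ = d * x * d⁻¹ * (d * s * d⁻¹) by group, scalars_comm' hs d,
      mul_inv_cancel_right]
    refine mul_mem (hdP x) (scalar_mem_overM V ?_ hs)
    have : s = (x : GL (Fin 3) F)⁻¹ * ((x : GL (Fin 3) F) * s) := by group
    rw [this]
    exact hH.1.le (mul_mem (inv_mem (hPH x.2)) hk)
  · rw [inv_inv] at hfH
    have hfv : (hh * ro).val = V.lift fiveC := by rw [Units.val_mul, hhv, hrov, ← V.lift_mul, fiveC_eq.1]
    have hf5 : (hh * ro) ^ 5 = 1 := Units.ext (by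
      rw [Units.val_pow_eq_pow_val, show 5 = 2 + (2 + 1) by rfl, pow_add, pow_add, pow_two, pow_one, hfv,
        ← V.lift_mul, ← V.lift_mul, ← V.lift_mul, fiveC_eq.2.2, V.lift_one, Units.val_one])
    obtain ⟨x, s, hs, hxs⟩ := hHP _ hfH
    have hf' : (d⁻¹ * (hh * ro) * d) ^ 5 = 1 := by
      rw [show d⁻¹ * (hh * ro) * d = d⁻¹ * (hh * ro) * d⁻¹⁻¹ by rw [inv_inv], conj_pow, hf5, mul_one,
        mul_inv_cancel]
    have hx84 : x ^ 84 = 1 := φ.injective (by
      rw [map_pow, map_one]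
      rcases SmallFacts.sl32_cases (φ x) with h | h | h
      · rw [show 84 = 3 * 28 by rfl, pow_mul, h, one_pow]
      · rw [show 84 = 4 * 21 by rfl, pow_mul, h, one_pow]
      · rw [show 84 = 7 * 12 by rfl, pow_mul, h, one_pow])
    have hs3 : s ^ 3 = 1 := by
      refine scalar_cube hs ?_
      have : s = (x : GL (Fin 3) F)⁻¹ * (d⁻¹ * (hh * ro) * d) := by rw [hxs]; group
      rw [this]
      exact mul_mem (inv_mem (hP.le_sl x.2)) (hH.1.le hfH).2
    have h84 : (d⁻¹ * (hh * ro) * d) ^ 84 = 1 := by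
      rw [hxs, Commute.mul_pow (scalars_comm' hs _), ← Subgroup.coe_pow, hx84, OneMemClass.coe_one, one_mul,
        show 84 = 3 * 28 by rfl, pow_mul, hs3, one_pow]
    have h1 := pow_gcd_eq_one.2 ⟨hf', h84⟩
    rw [show Nat.gcd 5 84 = 1 by norm_num, pow_one] at h1
    have hf1 : hh * ro = 1 := by
      calc hh * ro = d * (d⁻¹ * (hh * ro) * d) * d⁻¹ := by group
        _ = 1 := by rw [h1, mul_one, mul_inv_cancel]
    have := congrArg Units.val hf1
    rw [hfv, Units.val_one, ← V.lift_one] at this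
    exact fiveC_eq.2.1 (V.lift_inj (by decide) (by decide) this)

end Cfsg.Lib.Linear.Mitchell.L27Five
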