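import Cfsg.Agent.Lib.Linear.Aschbacher.SUThreeFalse

/-!
# Coded data: involutions `t` of `SU₃(5)` with `tr (g t) = 0` for the element `g` of order seven
-/

set_option autoImplicit false
set_option maxRecDepth 40000
set_option maxHeartbeats 16000000

namespace Cfsg.Lib.Linear.Mitchell.L27Five

open Cfsg.Lib.Linear.Asch.SUThreeTab

/-- The reflection in `(0, 1, 1)`. -/
def t0C : CMat := ![![4, 0, 0], ![0, 0, 1], ![0, 1, 0]]

theorem t0_unit : isUC 5 t0C ∧ detC 5 t0C = 1 := by decide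

/-- Images of the lines. -/
def t0_perm : Fin 105 → Fin 105 := ![1, 0, 2, 3, 6, 7, 4, 5, 8, 30, 15, 82, 75, 62, 55, 10, 34, 29, 25, 19, 72, 52, 33, 28, 24, 18, 32, 27, 23, 17, 9, 31, 26, 22, 16, 71, 51, 92, 38, 96, 81, 68, 50, 80, 67, 88, 61, 104, 87, 60, 42, 36, 21, 74, 70, 14, 98, 95, 79, 66, 49, 46, 13, 103, 100, 86, 59, 44, 41, 90, 54, 35, 20, 89, 53, 12, 102, 99, 85, 58, 43, 40, 11, 97, 94, 78, 65, 48, 45, 73, 69, 91, 37, 101, 84, 57, 39, 83, 56, 77, 64, 93, 76, 63, 47]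

/-- Multipliers. -/
def t0_mult : Fin 105 → ℕ := ![1, 1, 1, 4, 12, 13, 17, 18, 4, 4, 4, 4, 4, 4, 4, 4, 4, 4, 4, 4, 4, 4, 4, 4, 4, 4, 4, 4, 4, 4, 4, 4, 4, 4, 4, 4, 4, 4, 4, 4, 4, 4, 4, 4, 4, 4, 4, 4, 4, 4, 4, 4, 4, 4, 4, 4, 4, 4, 4, 4, 4, 4, 4, 4, 4, 4, 4, 4, 4, 4, 4, 4, 4, 4, 4, 4, 4, 4, 4, 4, 4, 4, 4, 4, 4, 4, 4, 4, 4, 4, 4, 4, 4, 4, 4, 4, 4, 4, 4, 4, 4, 4, 4, 4, 4]

theorem t0_stable : ∀ i, mvC 5 t0C (qFive_reps i) = fun k => mulC 5 (t0_mult i) (qFive_reps (t0_perm i) k) := by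
  decide

/-- An element of order five of the overgroup. -/
def fiveC : CMat := ![![3, 5, 3], ![3, 20, 3], ![20, 0, 5]]

theorem fiveC_eq : mmC 5 qFive_h qFive_rot = fiveC ∧ fiveC ≠ oneC ∧
    mmC 5 (mmC 5 fiveC fiveC) (mmC 5 (mmC 5 fiveC fiveC) fiveC) = oneC := by decide

/-- A unitary element centralising `g`. -/
def cC : CMat := ![![3, 19, 3], ![19, 18, 8], ![2, 22, 0]]

theorem cC_props : isUC 5 cC ∧ mmC 5 cC qFive_g = mmC 5 qFive_g cC := by decide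

/-- The products `gⁱ cᵏ`. -/
def tor : Fin 7 → Fin 3 → CMat := ![
  ![![![1, 0, 0], ![0, 1, 0], ![0, 0, 1]], ![![3, 19, 3], ![19, 18, 8], ![2, 22, 0]], ![![24, 13, 17], ![13, 5, 7], ![13, 23, 20]]],
  ![![![0, 5, 11], ![5, 9, 6], ![19, 24, 3]], ![![18, 9, 17], ![9, 4, 4], ![13, 1, 2]], ![![5, 1, 8], ![1, 22, 14], ![22, 16, 12]]],
  ![![![8, 7, 10], ![7, 7, 23], ![15, 7, 22]], ![![13, 6, 17], ![6, 24, 19], ![13, 11, 23]], ![![23, 11, 4], ![11, 18, 23], ![1, 7, 16]]],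
  ![![![4, 13, 6], ![13, 6, 4], ![24, 1, 17]], ![![23, 17, 20], ![17, 21, 4], ![5, 1, 15]], ![![15, 17, 16], ![17, 21, 12], ![14, 18, 23]]],
  ![![![4, 18, 9], ![18, 21, 1], ![21, 4, 12]], ![![15, 19, 12], ![19, 4, 10], ![18, 15, 5]], ![![13, 3, 13], ![3, 2, 19], ![17, 11, 15]]],
  ![![![23, 22, 10], ![22, 22, 22], ![15, 8, 7]], ![![16, 12, 8], ![12, 8, 5], ![22, 20, 1]], ![![4, 9, 13], ![9, 18, 12], ![17, 18, 24]]],
  ![![![0, 20, 14], ![20, 24, 9], ![16, 21, 3]], ![![2, 13, 13], ![13, 16, 15], ![17, 10, 14]], ![![6, 11, 24], ![11, 4, 8], ![6, 22, 0]]]]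

theorem tor_eq : ∀ i : Fin 7, tor i 0 = qFive_gp i ∧ tor i 1 = mmC 5 (qFive_gp i) cC ∧
    tor i 2 = mmC 5 (tor i 1) cC := by decide

/-- The hermitian product of coded vectors. -/
def hC (u v : CVec) : ℕ := dotC 5 u fun k => conjC 5 (v k)

/-- `tr (g t) = 0` for the reflection in `v` puts `v` on the orbit of `(0, 1, 1)`. -/
def chk (v : CVec) : Prop :=
  hC v v = 0 ∨ mulC 5 2 (hC (mvC 5 qFive_g v) v) ≠ mulC 5 (trC 5 qFive_g) (hC v v) ∨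
    ∃ i : Fin 7, ∃ k : Fin 3, mvC 5 (tor i k) v 0 = 0 ∧ mvC 5 (tor i k) v 1 = mvC 5 (tor i k) v 2

instance (v : CVec) : Decidable (chk v) := inferInstanceAs (Decidable (_ ∨ _ ∨ _))

theorem chk_point : chk ![0, 0, 1] := by decide +kernel

theorem chk_line : ∀ a : Fin 25, chk ![0, 1, (a : ℕ)] := by decide +kernel

theorem chk_plane : ∀ a b : Fin 25, chk ![1, (a : ℕ), (b : ℕ)] := by decide +kernel

end Cfsg.Lib.Linear.Mitchell.L27Five
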