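import Mathlib

/-!
# Arithmetic for the maximal geometric subgroups of `SL₃(q)` and `SU₃(q)`

`q` is the field order, `q₁` that of a subfield. The products are the orders of the groups of the
geometric types, up to a factor dividing three.
-/

set_option autoImplicit false

namespace Cfsg.Lib.Linear.Mitchell.MaxArith

/-- `q ^ 3 * (q ^ 3 - 1) * (q ^ 2 - 1)`. -/
def ordL (q : ℕ) : ℕ := q ^ 3 * ((q ^ 3 - 1) * (q ^ 2 - 1))

/-- `q ^ 3 * (q ^ 3 + 1) * (q ^ 2 - 1)`. -/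
def ordU (q : ℕ) : ℕ := q ^ 3 * ((q ^ 3 + 1) * (q ^ 2 - 1))

/-- `q * (q ^ 2 - 1)`. -/
def ordO (q : ℕ) : ℕ := q * (q ^ 2 - 1)

/-- `q ^ 2 + q + 1`. -/
def ordS (q : ℕ) : ℕ := q ^ 2 + q + 1

theorem coprime_pow_pred {q : ℕ} (hq : 1 ≤ q) {a b : ℕ} (hb : b ≠ 0) :
    Nat.Coprime (q ^ a) (q ^ b - 1) := by
  refine Nat.Coprime.pow_left a ?_
  obtain ⟨m, rfl⟩ : ∃ m, b = m + 1 := ⟨b - 1, by omega⟩
  have h1 : 1 ≤ q ^ (m + 1) := Nat.one_le_pow _ _ hq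
  rw [Nat.coprime_iff_gcd_eq_one]
  have h2 : Nat.gcd q (q ^ (m + 1) - 1) ∣ 1 := by
    have ha : Nat.gcd q (q ^ (m + 1) - 1) ∣ q ^ (m + 1) :=
      (Nat.gcd_dvd_left _ _).trans (dvd_pow_self q (by omega))
    have := Nat.dvd_sub ha (Nat.gcd_dvd_right q (q ^ (m + 1) - 1))
    rwa [Nat.sub_sub_self h1] at this
  exact Nat.dvd_one.1 h2

theorem coprime_ordS {q a : ℕ} : Nat.Coprime (ordS q) (q ^ a) := by
  refine Nat.Coprime.pow_right a ?_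
  rw [ordS, show q ^ 2 + q + 1 = 1 + q * (q + 1) by ring, Nat.coprime_add_mul_left_left]
  exact Nat.coprime_one_left q

theorem coprime_pred {q : ℕ} (hq : 1 ≤ q) (a : ℕ) : Nat.Coprime (q - 1) (q ^ a) := by
  have := (coprime_pow_pred hq (a := a) (b := 1) one_ne_zero).symm
  rwa [pow_one] at this

theorem odd_ordS (q : ℕ) : Odd (ordS q) := by
  rw [ordS, show q ^ 2 + q + 1 = q * (q + 1) + 1 by ring]
  exact (Nat.even_mul_succ_self q).add_one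

/-! ### Monomial groups -/

theorem mono_field {q : ℕ} (h : 6 * (q - 1) ^ 2 ∣ 3 * ordS q) : False := by
  have h2 : 2 ∣ 3 * ordS q := (dvd_mul_of_dvd_left (by norm_num) _).trans h
  exact absurd ((Odd.mul (by decide : Odd 3) (odd_ordS q))) (Nat.not_odd_iff_even.2 (even_iff_two_dvd.2 h2))

theorem mono_sub {q₁ s : ℕ} (hq : 2 ≤ q₁) (hs : 2 ≤ s)
    (h : 6 * (q₁ ^ s - 1) ^ 2 ∣ 3 * ordL q₁) : False := by
  have h1 : 2 * (q₁ ^ s - 1) ^ 2 ∣ ordL q₁ := by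
    rw [show 6 * (q₁ ^ s - 1) ^ 2 = 3 * (2 * (q₁ ^ s - 1) ^ 2) by ring] at h
    exact Nat.dvd_of_mul_dvd_mul_left three_pos h
  have hc : Nat.Coprime ((q₁ ^ s - 1) ^ 2) (q₁ ^ 3) :=
    Nat.Coprime.pow_left 2 (coprime_pow_pred (by omega) (by omega)).symm
  have h2 : (q₁ ^ s - 1) ^ 2 ∣ (q₁ ^ 3 - 1) * (q₁ ^ 2 - 1) :=
    hc.dvd_of_dvd_mul_left ((dvd_mul_left _ 2).trans h1)
  have h4 : 4 ≤ q₁ ^ 2 := by nlinarith
  rcases (show s = 2 ∨ 3 ≤ s by omega) with rfl | hs3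
  · rw [sq (q₁ ^ 2 - 1)] at h2
    have h3 : q₁ ^ 2 - 1 ∣ q₁ ^ 3 - 1 := Nat.dvd_of_mul_dvd_mul_right (by omega) h2
    have h5 : q₁ + 1 ∣ q₁ ^ 3 - 1 := by
      refine Dvd.dvd.trans ?_ h3
      exact ⟨q₁ - 1, by obtain ⟨m, rfl⟩ : ∃ m, q₁ = m + 2 := ⟨q₁ - 2, by omega⟩
                        simp [Nat.sub_eq_iff_eq_add (show 1 ≤ (m + 2) ^ 2 by nlinarith)]; ring⟩
    have h6 : q₁ + 1 ∣ q₁ ^ 3 + 1 := ⟨q₁ ^ 2 - q₁ + 1, by
      have : q₁ ≤ q₁ ^ 2 := by nlinarith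
      zify [this]; ring⟩
    have h7 := Nat.dvd_sub h6 h5
    have h8 : 1 ≤ q₁ ^ 3 := Nat.one_le_pow _ _ (by omega)
    rw [show q₁ ^ 3 + 1 - (q₁ ^ 3 - 1) = 2 by omega] at h7
    have := Nat.le_of_dvd two_pos h7
    omega
  · have hp : q₁ ^ 3 ≤ q₁ ^ s := Nat.pow_le_pow_right (by omega) hs3
    have hlt : q₁ ^ 2 < q₁ ^ 3 := Nat.pow_lt_pow_right (by omega) (by omega)
    have hle := Nat.le_of_dvd (Nat.mul_pos (by omega) (by omega)) h2
    have hm : (q₁ ^ 3 - 1) * (q₁ ^ 2 - 1) < (q₁ ^ s - 1) ^ 2 := by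
      rw [sq (q₁ ^ s - 1)]
      exact Nat.mul_lt_mul_of_le_of_lt (by omega) (by omega) (by omega)
    omega

theorem mono_unitary {q₁ : ℕ} (hq : 2 ≤ q₁) (h : 6 * (q₁ ^ 2 - 1) ^ 2 ∣ 3 * ordU q₁) : q₁ = 2 := by
  have h4 : 4 ≤ q₁ ^ 2 := by nlinarith
  have h1 : (2 * (q₁ ^ 2 - 1)) * (q₁ ^ 2 - 1) ∣ (q₁ ^ 3 * (q₁ ^ 3 + 1)) * (q₁ ^ 2 - 1) := by
    have h' : 3 * ((2 * (q₁ ^ 2 - 1)) * (q₁ ^ 2 - 1)) ∣ 3 * ((q₁ ^ 3 * (q₁ ^ 3 + 1)) * (q₁ ^ 2 - 1)) := by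
      convert h using 1 <;> (try simp only [ordU]) <;> ring
    exact Nat.dvd_of_mul_dvd_mul_left three_pos h'
  have h2 : q₁ ^ 2 - 1 ∣ q₁ ^ 3 + 1 :=
    (coprime_pow_pred (by omega) (by omega)).symm.dvd_of_dvd_mul_left
      ((dvd_mul_left _ 2).trans (Nat.dvd_of_mul_dvd_mul_right (by omega) h1))
  have h21 : q₁ - 1 ∣ q₁ ^ 2 - 1 := by simpa using Nat.pow_sub_one_dvd_pow_sub_one q₁ (one_dvd 2)
  have h3 : q₁ - 1 ∣ q₁ ^ 3 + 1 := h21.trans h2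
  have h5 : q₁ - 1 ∣ q₁ ^ 3 - 1 := by simpa using Nat.pow_sub_one_dvd_pow_sub_one q₁ (one_dvd 3)
  have h6 := Nat.dvd_sub h3 h5
  have h8 : 1 ≤ q₁ ^ 3 := Nat.one_le_pow _ _ (by omega)
  rw [show q₁ ^ 3 + 1 - (q₁ ^ 3 - 1) = 2 by omega] at h6
  have hle := Nat.le_of_dvd two_pos h6
  rcases (show q₁ = 2 ∨ q₁ = 3 by omega) with rfl | rfl
  · rfl
  · norm_num [ordU] at h

theorem mono_quad {q : ℕ} (hq : 5 ≤ q) (h : 6 * (q - 1) ^ 2 ∣ 3 * ordO q) : False := by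
  obtain ⟨t, rfl⟩ : ∃ t, q = t + 1 := ⟨q - 1, by omega⟩
  rw [Nat.add_sub_cancel] at h
  have h1 : 3 * (t * (2 * t)) ∣ 3 * (t * ((t + 1) * (t + 2))) := by
    convert h using 1
    · ring
    · rw [ordO, show (t + 1) ^ 2 = t * (t + 2) + 1 by ring, Nat.add_sub_cancel]; ring
  have h2 := (dvd_mul_left t 2).trans
    (Nat.dvd_of_mul_dvd_mul_left (show 0 < t by omega) (Nat.dvd_of_mul_dvd_mul_left three_pos h1))
  have h3 : t ∣ (t + 1) * (t + 2) - t * (t + 3) := Nat.dvd_sub h2 (dvd_mul_right _ _)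
  rw [show (t + 1) * (t + 2) = t * (t + 3) + 2 by ring, Nat.add_sub_cancel_left] at h3
  have := Nat.le_of_dvd two_pos h3
  omega

theorem le_of_sq_dvd {t m B : ℕ} (hm : 0 < m) (h : t ^ 2 ∣ m) (hB : m < (B + 1) ^ 2) : t ≤ B := by
  by_contra h0
  have := Nat.le_of_dvd hm h
  have : (B + 1) ^ 2 ≤ t ^ 2 := Nat.pow_le_pow_left (by omega) 2
  omega

theorem mono_extra {q : ℕ} (hq : 5 ≤ q) (h : 6 * (q - 1) ^ 2 ∣ 648) : q = 7 := by
  rw [show (648 : ℕ) = 6 * 108 by norm_num] at h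
  have h' := Nat.dvd_of_mul_dvd_mul_left (by norm_num) h
  have := le_of_sq_dvd (by norm_num) h' (B := 10) (by norm_num)
  obtain h2 : q ≤ 11 := by omega
  interval_cases q <;> first | rfl | (norm_num at h')

theorem mono_L32 {q : ℕ} (hq : 5 ≤ q) (h : 6 * (q - 1) ^ 2 ∣ 1008) : False := by
  rw [show (1008 : ℕ) = 6 * 168 by norm_num] at h
  have h' := Nat.dvd_of_mul_dvd_mul_left (by norm_num) h
  have := le_of_sq_dvd (by norm_num) h' (B := 12) (by norm_num)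
  obtain h2 : q ≤ 13 := by omega
  interval_cases q <;> norm_num at h'

theorem mono_A6 {q : ℕ} (hq : 5 ≤ q) (hodd : Odd q) (h : 6 * (q - 1) ^ 2 ∣ 4320) :
    q = 5 ∨ q = 7 ∨ q = 13 := by
  rw [show (4320 : ℕ) = 6 * 720 by norm_num] at h
  have h' := Nat.dvd_of_mul_dvd_mul_left (by norm_num) h
  have := le_of_sq_dvd (by norm_num) h' (B := 26) (by norm_num)
  obtain h2 : q ≤ 27 := by omega
  interval_cases q <;> first | decide | exact absurd hodd (by decide) | (norm_num at h')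

theorem mono_A7 {q : ℕ} (hq : 5 ≤ q) (h5 : 5 ∣ q) (h : 6 * (q - 1) ^ 2 ∣ 15120) : False := by
  rw [show (15120 : ℕ) = 6 * 2520 by norm_num] at h
  have h' := Nat.dvd_of_mul_dvd_mul_left (by norm_num) h
  have := le_of_sq_dvd (by norm_num) h' (B := 50) (by norm_num)
  obtain h2 : q ≤ 51 := by omega
  interval_cases q <;> first | omega | (norm_num at h')

/-! ### Singer normalisers -/

theorem field_mono {q : ℕ} (hq : 2 ≤ q) (h : 3 * ordS q ∣ 6 * (q - 1) ^ 2) : False := by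
  rw [show 6 * (q - 1) ^ 2 = 3 * (2 * (q - 1) ^ 2) by ring] at h
  have h1 := Nat.dvd_of_mul_dvd_mul_left three_pos h
  have h2 : ordS q ∣ (q - 1) ^ 2 := by
    refine Nat.Coprime.dvd_of_dvd_mul_left ?_ h1
    rw [Nat.coprime_two_right]
    exact odd_ordS q
  have h3 := Nat.le_of_dvd (pow_pos (by omega) 2) h2
  have h4 : (q - 1) ^ 2 ≤ q ^ 2 := Nat.pow_le_pow_left (by omega) 2
  simp only [ordS] at h3
  omega

theorem field_sub {q₁ s : ℕ} (hq : 2 ≤ q₁) (hs : 2 ≤ s) (h : 3 * ordS (q₁ ^ s) ∣ 3 * ordL q₁) :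
    q₁ = 2 ∧ s = 2 := by
  have h1 := Nat.dvd_of_mul_dvd_mul_left three_pos h
  have hc : Nat.Coprime (ordS (q₁ ^ s)) (q₁ ^ 3) := by
    refine Nat.Coprime.coprime_dvd_right ?_ (coprime_ordS (q := q₁ ^ s) (a := 3))
    rw [← pow_mul]
    exact pow_dvd_pow q₁ (by omega)
  have h2 : ordS (q₁ ^ s) ∣ (q₁ ^ 3 - 1) * (q₁ ^ 2 - 1) := hc.dvd_of_dvd_mul_left h1
  have p2 : 4 ≤ q₁ ^ 2 := by nlinarith
  have p3 : 8 ≤ q₁ ^ 3 := by nlinarith
  rcases (show s = 2 ∨ 3 ≤ s by omega) with rfl | hs3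
  · refine ⟨?_, rfl⟩
    by_contra hne
    have hq3 : 3 ≤ q₁ := by omega
    obtain ⟨k, hk⟩ := h2
    simp only [ordS] at hk
    zify [show 1 ≤ q₁ ^ 3 by omega, show 1 ≤ q₁ ^ 2 by omega] at hk
    have hb : ((q₁ : ℤ) ^ 2 - q₁ + 1) ∣ 2 * (q₁ : ℤ) - 1 := by
      have hpos : (0 : ℤ) < (q₁ : ℤ) ^ 2 + q₁ + 1 := by positivity
      have e : ((q₁ : ℤ) - 1) * ((q₁ : ℤ) ^ 2 - 1) = ((q₁ : ℤ) ^ 2 - q₁ + 1) * k := by
        refine mul_left_cancel₀ hpos.ne' ?_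
        linear_combination hk
      exact ⟨(q₁ : ℤ) - k, by linear_combination -e⟩
    have hle := Int.le_of_dvd (by push_cast; linarith [show (3 : ℤ) ≤ q₁ by exact_mod_cast hq3]) hb
    nlinarith [show (3 : ℤ) ≤ q₁ by exact_mod_cast hq3]
  · have hle := Nat.le_of_dvd (Nat.mul_pos (by omega) (by omega)) h2
    have hp : (q₁ ^ 3) ^ 2 ≤ (q₁ ^ s) ^ 2 :=
      Nat.pow_le_pow_left (Nat.pow_le_pow_right (by omega) hs3) 2
    have hm : (q₁ ^ 3 - 1) * (q₁ ^ 2 - 1) ≤ q₁ ^ 3 * q₁ ^ 3 :=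
      Nat.mul_le_mul (by omega) ((Nat.sub_le _ _).trans (Nat.pow_le_pow_right (by omega) (by omega)))
    rw [← sq] at hm
    simp only [ordS] at hle
    omega

theorem field_unitary {q₁ : ℕ} (hq : 2 ≤ q₁) (h : 3 * ordS (q₁ ^ 2) ∣ 3 * ordU q₁) : False := by
  have h1 := Nat.dvd_of_mul_dvd_mul_left three_pos h
  have hc : Nat.Coprime (ordS (q₁ ^ 2)) (q₁ ^ 3) := by
    refine Nat.Coprime.coprime_dvd_right ?_ (coprime_ordS (q := q₁ ^ 2) (a := 3))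
    rw [← pow_mul]
    exact pow_dvd_pow q₁ (by omega)
  obtain ⟨k, hk⟩ := hc.dvd_of_dvd_mul_left h1
  have p2 : 4 ≤ q₁ ^ 2 := by nlinarith
  simp only [ordS] at hk
  zify [show 1 ≤ q₁ ^ 2 by omega] at hk
  have ha : ((q₁ : ℤ) ^ 2 + q₁ + 1) ∣ 2 * (q₁ : ℤ) + 1 := by
    have hpos : (0 : ℤ) < (q₁ : ℤ) ^ 2 - q₁ + 1 := by nlinarith
    have e : ((q₁ : ℤ) + 1) * ((q₁ : ℤ) ^ 2 - 1) = ((q₁ : ℤ) ^ 2 + q₁ + 1) * k := by
      refine mul_left_cancel₀ hpos.ne' ?_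
      linear_combination hk
    exact ⟨(q₁ : ℤ) - k, by linear_combination -e⟩
  have := Int.le_of_dvd (by positivity) ha
  nlinarith [show (2 : ℤ) ≤ q₁ by exact_mod_cast hq]

theorem field_quad {q : ℕ} (hq : 2 ≤ q) (h : 3 * ordS q ∣ 3 * ordO q) : False := by
  have h1 := Nat.dvd_of_mul_dvd_mul_left three_pos h
  have h2 : ordS q ∣ q ^ 2 - 1 := by
    refine Nat.Coprime.dvd_of_dvd_mul_left ?_ h1
    simpa using coprime_ordS (q := q) (a := 1)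
  have p2 : 4 ≤ q ^ 2 := by nlinarith
  have := Nat.le_of_dvd (by omega) h2
  simp only [ordS] at this
  omega

theorem le_of_ordS_dvd {q m B : ℕ} (hm : 0 < m) (h : ordS q ∣ m) (hB : m < (B + 1) ^ 2) : q ≤ B := by
  by_contra h0
  have := Nat.le_of_dvd hm h
  have h1 : (B + 1) ^ 2 ≤ q ^ 2 := Nat.pow_le_pow_left (by omega) 2
  simp only [ordS] at this
  omega

theorem field_extra {q : ℕ} (hq : 2 ≤ q) (h : 3 * ordS q ∣ 648) : False := by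
  rw [show (648 : ℕ) = 3 * 216 by norm_num] at h
  have h' := Nat.dvd_of_mul_dvd_mul_left (by norm_num) h
  have := le_of_ordS_dvd (by norm_num) h' (B := 14) (by norm_num)
  interval_cases q <;> norm_num [ordS] at h'

theorem field_L32 {q : ℕ} (hq : 2 ≤ q) (hodd : Odd q) (h : 3 * ordS q ∣ 1008) : False := by
  rw [show (1008 : ℕ) = 3 * 336 by norm_num] at h
  have h' := Nat.dvd_of_mul_dvd_mul_left (by norm_num) h
  have := le_of_ordS_dvd (by norm_num) h' (B := 18) (by norm_num)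
  interval_cases q <;> first | exact absurd hodd (by decide) | (norm_num [ordS] at h')

theorem field_A6 {q : ℕ} (hq : 2 ≤ q) (h : 3 * ordS q ∣ 4320) : False := by
  rw [show (4320 : ℕ) = 3 * 1440 by norm_num] at h
  have h' := Nat.dvd_of_mul_dvd_mul_left (by norm_num) h
  have := le_of_ordS_dvd (by norm_num) h' (B := 37) (by norm_num)
  interval_cases q <;> norm_num [ordS] at h'

theorem field_A7 {q : ℕ} (hq : 2 ≤ q) (h5 : 5 ∣ q) (h : 3 * ordS q ∣ 15120) : False := by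
  rw [show (15120 : ℕ) = 3 * 5040 by norm_num] at h
  have h' := Nat.dvd_of_mul_dvd_mul_left (by norm_num) h
  have := le_of_ordS_dvd (by norm_num) h' (B := 70) (by norm_num)
  interval_cases q <;> first | omega | (norm_num [ordS] at h')

/-! ### Orthogonal groups -/

theorem orth_mono {q : ℕ} (hq : 3 ≤ q) (hodd : Odd q) (h : ordO q ∣ 6 * (q - 1) ^ 2) : q = 3 := by
  have hc : Nat.Coprime q ((q - 1) ^ 2) := by
    have := (coprime_pred (q := q) (by omega) 1).symm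
    rw [pow_one] at this
    exact this.pow_right 2
  have h1 : q ∣ 6 := hc.dvd_of_dvd_mul_right ((dvd_mul_right q _).trans h)
  have := Nat.le_of_dvd (by norm_num) h1
  rcases hodd with ⟨k, rfl⟩
  have hk : k ≤ 2 := by omega
  interval_cases k <;> norm_num at *

theorem orth_field {q : ℕ} (hq : 2 ≤ q) (h : ordO q ∣ 3 * ordS q) : False := by
  have h2 : 2 ∣ ordO q := by
    rw [ordO, show q ^ 2 - 1 = (q + 1) * (q - 1) by rw [← Nat.sq_sub_sq, one_pow], ← mul_assoc]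
    exact dvd_mul_of_dvd_left (even_iff_two_dvd.1 (Nat.even_mul_succ_self q)) _
  exact absurd ((by decide : Odd 3).mul (odd_ordS q))
    (Nat.not_odd_iff_even.2 (even_iff_two_dvd.2 (h2.trans h)))

theorem orth_extra {q : ℕ} (hq : 2 ≤ q) (hodd : Odd q) (h3 : Nat.Coprime q 3) (h : ordO q ∣ 648) : False := by
  have h1 : q ∣ 8 * 81 := (dvd_mul_right q _).trans h
  have h2 : q ∣ 81 := (Nat.Coprime.dvd_of_dvd_mul_left (by
    rw [show (8 : ℕ) = 2 ^ 3 by norm_num]; exact (Nat.coprime_two_right.2 hodd).pow_right 3) h1)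
  have h4 : q ∣ 1 := (h3.pow_right 4).dvd_of_dvd_mul_right (k := q) (m := 1) (by rw [one_mul]; exact h2)
  have := Nat.le_of_dvd one_pos h4
  omega

theorem orth_sub {q₁ s : ℕ} (hq : 3 ≤ q₁) (hs : 2 ≤ s) (h : ordO (q₁ ^ s) ∣ 3 * ordL q₁) : False := by
  have h1 : (q₁ ^ s) ^ 2 - 1 ∣ q₁ ^ 3 * (3 * ((q₁ ^ 3 - 1) * (q₁ ^ 2 - 1))) := by
    refine (dvd_mul_left _ (q₁ ^ s)).trans (h.trans (dvd_of_eq ?_))
    rw [ordL]; ring
  rw [← pow_mul] at h1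
  have h2 : q₁ ^ (s * 2) - 1 ∣ 3 * ((q₁ ^ 3 - 1) * (q₁ ^ 2 - 1)) :=
    (coprime_pow_pred (by omega) (by omega)).symm.dvd_of_dvd_mul_left h1
  have p2 : 9 ≤ q₁ ^ 2 := by nlinarith
  have p3 : 27 ≤ q₁ ^ 3 := by nlinarith
  rcases (show s = 2 ∨ 3 ≤ s by omega) with rfl | hs3
  · obtain ⟨k, hk⟩ := h2
    zify [show 1 ≤ q₁ ^ 3 by omega, show 1 ≤ q₁ ^ 2 by omega,
      show 1 ≤ q₁ ^ (2 * 2) by exact Nat.one_le_pow _ _ (by omega)] at hk
    have e : 3 * ((q₁ : ℤ) ^ 3 - 1) = ((q₁ : ℤ) ^ 2 + 1) * k := by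
      refine mul_left_cancel₀ (show ((q₁ : ℤ) ^ 2 - 1) ≠ 0 by
        have : (9 : ℤ) ≤ (q₁ : ℤ) ^ 2 := by exact_mod_cast p2
        omega) ?_
      linear_combination hk
    have hd : ((q₁ : ℤ) ^ 2 + 1) ∣ 3 * ((q₁ : ℤ) + 1) := ⟨3 * (q₁ : ℤ) - k, by linear_combination -e⟩
    have := Int.le_of_dvd (by positivity) hd
    have hq' : (3 : ℤ) ≤ q₁ := by exact_mod_cast hq
    have hq4 : q₁ = 3 := by
      by_contra hne
      have : (4 : ℤ) ≤ q₁ := by exact_mod_cast (show 4 ≤ q₁ by omega)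
      nlinarith
    subst hq4
    norm_num at e
    omega
  · have hp : q₁ ^ 6 ≤ q₁ ^ (s * 2) := Nat.pow_le_pow_right (by omega) (by omega)
    have hle := Nat.le_of_dvd (Nat.mul_pos three_pos (Nat.mul_pos (by omega) (by omega))) h2
    have hb : 3 * ((q₁ ^ 3 - 1) * (q₁ ^ 2 - 1)) + 2 ≤ q₁ ^ 6 := by
      zify [show 1 ≤ q₁ ^ 3 by omega, show 1 ≤ q₁ ^ 2 by omega]
      have hq' : (3 : ℤ) ≤ q₁ := by exact_mod_cast hq
      nlinarith [mul_le_mul_of_nonneg_right hq' (pow_nonneg (show (0 : ℤ) ≤ q₁ by positivity) 5)]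
    omega

theorem orth_unitary {q₁ : ℕ} (hq : 3 ≤ q₁) (h : ordO (q₁ ^ 2) ∣ 3 * ordU q₁) : False := by
  have h1 : (q₁ ^ 2) ^ 2 - 1 ∣ q₁ ^ 3 * (3 * ((q₁ ^ 3 + 1) * (q₁ ^ 2 - 1))) := by
    refine (dvd_mul_left _ (q₁ ^ 2)).trans (h.trans (dvd_of_eq ?_))
    rw [ordU]; ring
  rw [← pow_mul] at h1
  obtain ⟨k, hk⟩ := (coprime_pow_pred (q := q₁) (by omega) (by omega)).symm.dvd_of_dvd_mul_left h1
  have p2 : 9 ≤ q₁ ^ 2 := by nlinarith
  zify [show 1 ≤ q₁ ^ 2 by omega, show 1 ≤ q₁ ^ (2 * 2) by exact Nat.one_le_pow _ _ (by omega)] at hk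
  have e : 3 * ((q₁ : ℤ) ^ 3 + 1) = ((q₁ : ℤ) ^ 2 + 1) * k := by
    refine mul_left_cancel₀ (show ((q₁ : ℤ) ^ 2 - 1) ≠ 0 by
      have : (9 : ℤ) ≤ (q₁ : ℤ) ^ 2 := by exact_mod_cast p2
      omega) ?_
    linear_combination hk
  have hd : ((q₁ : ℤ) ^ 2 + 1) ∣ 3 * ((q₁ : ℤ) - 1) := ⟨3 * (q₁ : ℤ) - k, by linear_combination -e⟩
  have hq' : (3 : ℤ) ≤ q₁ := by exact_mod_cast hq
  have := Int.le_of_dvd (by linarith) hd
  nlinarith

theorem orth_L32 {q : ℕ} (hq : 3 ≤ q) (hodd : Odd q) (h : ordO q ∣ 1008) : q = 3 ∨ q = 7 := by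
  have h1 := Nat.le_of_dvd (by norm_num) h
  have hb : q ≤ 10 := by
    by_contra h0
    obtain h0 : 11 ≤ q := by omega
    have : 11 * (11 ^ 2 - 1) ≤ ordO q :=
      Nat.mul_le_mul h0 (Nat.sub_le_sub_right (Nat.pow_le_pow_left h0 2) 1)
    norm_num at this
    omega
  interval_cases q <;> first | decide | exact absurd hodd (by decide) | (norm_num [ordO] at h)

theorem orth_A6 {q : ℕ} (hq : 3 ≤ q) (hodd : Odd q) (h : ordO q ∣ 4320) : q = 3 ∨ q = 5 ∨ q = 9 := by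
  have h1 := Nat.le_of_dvd (by norm_num) h
  have hb : q ≤ 16 := by
    by_contra h0
    obtain h0 : 17 ≤ q := by omega
    have : 17 * (17 ^ 2 - 1) ≤ ordO q :=
      Nat.mul_le_mul h0 (Nat.sub_le_sub_right (Nat.pow_le_pow_left h0 2) 1)
    norm_num at this
    omega
  interval_cases q <;> first | decide | exact absurd hodd (by decide) | (norm_num [ordO] at h)

theorem orth_A7 {q : ℕ} (hq : 3 ≤ q) (h5 : 5 ∣ q) (hodd : Odd q) (h : ordO q ∣ 15120) : q = 5 := by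
  have h1 := Nat.le_of_dvd (by norm_num) h
  have hb : q ≤ 24 := by
    by_contra h0
    obtain h0 : 25 ≤ q := by omega
    have : 25 * (25 ^ 2 - 1) ≤ ordO q :=
      Nat.mul_le_mul h0 (Nat.sub_le_sub_right (Nat.pow_le_pow_left h0 2) 1)
    norm_num at this
    omega
  obtain ⟨k, rfl⟩ := h5
  have : k ≤ 4 := by omega
  interval_cases k <;> first | omega | exact absurd hodd (by decide) | (norm_num [ordO] at h)

/-! ### Linear groups over subfields -/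

theorem ordL_pos {q : ℕ} (hq : 2 ≤ q) : 0 < ordL q :=
  Nat.mul_pos (pow_pos (by omega) 3) (Nat.mul_pos
    (Nat.sub_pos_of_lt (Nat.one_lt_pow (by omega) (by omega)))
    (Nat.sub_pos_of_lt (Nat.one_lt_pow (by omega) (by omega))))

theorem sub_mono {q₀ r : ℕ} (hq : 2 ≤ q₀) (hr : 1 ≤ r) (h : ordL q₀ ∣ 6 * (q₀ ^ r - 1) ^ 2) : False := by
  have h1 : q₀ ^ 3 ∣ 6 := ((coprime_pow_pred (by omega) (by omega)).pow_right 2).dvd_of_dvd_mul_right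
    ((dvd_mul_right _ _).trans h)
  have := Nat.le_of_dvd (by norm_num) h1
  have := Nat.pow_le_pow_left hq 3
  omega

theorem sub_field {q₀ r : ℕ} (hq : 2 ≤ q₀) (hr : 1 ≤ r) (h : ordL q₀ ∣ 3 * ordS (q₀ ^ r)) : False := by
  have h1 : q₀ ^ 3 ∣ 3 := by
    refine Nat.Coprime.dvd_of_dvd_mul_right ?_ ((dvd_mul_right _ _).trans h)
    refine (Nat.Coprime.coprime_dvd_right ?_ (coprime_ordS (q := q₀ ^ r) (a := 3))).symm
    rw [← pow_mul]
    exact pow_dvd_pow q₀ (by omega)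
  have := Nat.le_of_dvd (by norm_num) h1
  have := Nat.pow_le_pow_left hq 3
  omega

theorem sub_extra {q₀ : ℕ} (hq : 2 ≤ q₀) (h3 : Nat.Coprime q₀ 3) (h : ordL q₀ ∣ 648) : False := by
  have h1 := Nat.le_of_dvd (by norm_num) h
  have hb : q₀ ≤ 2 := by
    by_contra h0
    obtain h0 : 3 ≤ q₀ := by omega
    have : 3 ^ 3 * ((3 ^ 3 - 1) * (3 ^ 2 - 1)) ≤ ordL q₀ :=
      Nat.mul_le_mul (Nat.pow_le_pow_left h0 3) (Nat.mul_le_mul
        (Nat.sub_le_sub_right (Nat.pow_le_pow_left h0 3) 1)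
        (Nat.sub_le_sub_right (Nat.pow_le_pow_left h0 2) 1))
    norm_num at this
    omega
  interval_cases q₀
  norm_num [ordL] at h

theorem sub_quad {q₀ r : ℕ} (hq : 2 ≤ q₀) (hodd : Odd q₀) (hr : r.Prime) (h : ordL q₀ ∣ 3 * ordO (q₀ ^ r)) :
    False := by
  have hq3 : 3 ≤ q₀ := by rcases hodd with ⟨k, rfl⟩; omega
  have h1 : (q₀ ^ 3 - 1) * (q₀ ^ 2 - 1) ∣ q₀ ^ r * (3 * (q₀ ^ (r * 2) - 1)) := by
    refine (dvd_mul_left _ (q₀ ^ 3)).trans (h.trans (dvd_of_eq ?_))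
    rw [ordO, ← pow_mul]; ring
  have hcp : Nat.Coprime ((q₀ ^ 3 - 1) * (q₀ ^ 2 - 1)) (q₀ ^ r) :=
    Nat.Coprime.mul_left (coprime_pow_pred (by omega) (by omega)).symm
      (coprime_pow_pred (by omega) (by omega)).symm
  have h2 := hcp.dvd_of_dvd_mul_left h1
  have p2 : 9 ≤ q₀ ^ 2 := by nlinarith
  have p3 : 27 ≤ q₀ ^ 3 := by nlinarith
  by_cases h3 : r = 3
  · subst h3
    obtain ⟨k, hk⟩ := h2
    zify [show 1 ≤ q₀ ^ 3 by omega, show 1 ≤ q₀ ^ 2 by omega,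
      show 1 ≤ q₀ ^ (3 * 2) by exact Nat.one_le_pow _ _ (by omega)] at hk
    have e : 3 * ((q₀ : ℤ) ^ 3 + 1) = ((q₀ : ℤ) ^ 2 - 1) * k := by
      refine mul_left_cancel₀ (show ((q₀ : ℤ) ^ 3 - 1) ≠ 0 by
        have : (27 : ℤ) ≤ (q₀ : ℤ) ^ 3 := by exact_mod_cast p3
        omega) ?_
      linear_combination hk
    have hq' : (3 : ℤ) ≤ q₀ := by exact_mod_cast hq3
    have e2 : 3 * ((q₀ : ℤ) ^ 2 - q₀ + 1) = ((q₀ : ℤ) - 1) * k := by
      refine mul_left_cancel₀ (show ((q₀ : ℤ) + 1) ≠ 0 by omega) ?_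
      linear_combination e
    have hd : ((q₀ : ℤ) - 1) ∣ 3 := ⟨k - 3 * q₀, by linear_combination e2⟩
    have hle := Int.le_of_dvd three_pos hd
    have : q₀ ≤ 4 := by omega
    obtain rfl : q₀ = 3 := by rcases hodd with ⟨j, rfl⟩; omega
    norm_num at hd
  · have hg : Nat.gcd (q₀ ^ 3 - 1) (q₀ ^ (r * 2) - 1) = q₀ - 1 := by
      rw [Nat.pow_sub_one_gcd_pow_sub_one, show Nat.gcd 3 (r * 2) = 1 from ?_, pow_one]
      refine Nat.Coprime.mul_right ?_ (by norm_num)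
      exact (Nat.coprime_primes Nat.prime_three hr).2 (Ne.symm h3)
    have h4 : q₀ ^ 3 - 1 ∣ 3 * (q₀ - 1) := by
      have h5 : q₀ ^ 3 - 1 ∣ Nat.gcd (3 * (q₀ ^ 3 - 1)) (3 * (q₀ ^ (r * 2) - 1)) :=
        Nat.dvd_gcd (dvd_mul_left _ _) ((dvd_mul_right _ _).trans h2)
      rwa [Nat.gcd_mul_left, hg] at h5
    have := Nat.le_of_dvd (by omega) h4
    have : q₀ * 9 ≤ q₀ ^ 3 := by nlinarith
    omega

theorem sub_small {q₀ : ℕ} (hq : 2 ≤ q₀) {m : ℕ} (hm : m = 1008 ∧ 3 ≤ q₀ ∨ m = 4320 ∨ m = 15120 ∧ 5 ≤ q₀)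
    (h : ordL q₀ ∣ m) : False := by
  have hmono : ∀ a, a ≤ q₀ → a ^ 3 * ((a ^ 3 - 1) * (a ^ 2 - 1)) ≤ ordL q₀ := fun a ha =>
    Nat.mul_le_mul (Nat.pow_le_pow_left ha 3) (Nat.mul_le_mul
      (Nat.sub_le_sub_right (Nat.pow_le_pow_left ha 3) 1)
      (Nat.sub_le_sub_right (Nat.pow_le_pow_left ha 2) 1))
  rcases hm with ⟨rfl, h3⟩ | rfl | ⟨rfl, h5⟩
  · have := hmono 3 h3
    have := Nat.le_of_dvd (by norm_num) h
    norm_num at *
    omega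
  · rcases (show q₀ = 2 ∨ 3 ≤ q₀ by omega) with rfl | h3
    · norm_num [ordL] at h
    · have := hmono 3 h3
      have := Nat.le_of_dvd (by norm_num) h
      norm_num at *
      omega
  · have := hmono 5 h5
    have := Nat.le_of_dvd (by norm_num) h
    norm_num at *
    omega

/-! ### Unitary groups -/

theorem unit_mono {q₀ : ℕ} (hq : 2 ≤ q₀) (h : ordU q₀ ∣ 6 * (q₀ ^ 2 - 1) ^ 2) : False := by
  have h1 : q₀ ^ 3 ∣ 6 := ((coprime_pow_pred (by omega) (by omega)).pow_right 2).dvd_of_dvd_mul_right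
    ((dvd_mul_right _ _).trans h)
  have := Nat.le_of_dvd (by norm_num) h1
  have := Nat.pow_le_pow_left hq 3
  omega

theorem unit_field {q₀ : ℕ} (hq : 2 ≤ q₀) (h : ordU q₀ ∣ 3 * ordS (q₀ ^ 2)) : False := by
  have h1 : q₀ ^ 3 ∣ 3 := by
    refine Nat.Coprime.dvd_of_dvd_mul_right ?_ ((dvd_mul_right _ _).trans h)
    refine (Nat.Coprime.coprime_dvd_right ?_ (coprime_ordS (q := q₀ ^ 2) (a := 3))).symm
    rw [← pow_mul]
    exact pow_dvd_pow q₀ (by omega)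
  have := Nat.le_of_dvd (by norm_num) h1
  have := Nat.pow_le_pow_left hq 3
  omega

theorem unit_le {q₀ a : ℕ} (ha : a ≤ q₀) : a ^ 3 * ((a ^ 3 + 1) * (a ^ 2 - 1)) ≤ ordU q₀ :=
  Nat.mul_le_mul (Nat.pow_le_pow_left ha 3) (Nat.mul_le_mul
    (Nat.add_le_add_right (Nat.pow_le_pow_left ha 3) 1)
    (Nat.sub_le_sub_right (Nat.pow_le_pow_left ha 2) 1))

theorem unit_extra {q₀ : ℕ} (hq : 2 ≤ q₀) (h : ordU q₀ ∣ 648) : q₀ = 2 := by
  by_contra h0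
  have := unit_le (show 3 ≤ q₀ by omega)
  have := Nat.le_of_dvd (by norm_num) h
  norm_num at *
  omega

theorem unit_quad {q₀ : ℕ} (hq : 2 ≤ q₀) (h : ordU q₀ ∣ 3 * ordO (q₀ ^ 2)) : False := by
  have h1 : q₀ ^ 2 * q₀ ∣ q₀ ^ 2 * (3 * ((q₀ ^ 2) ^ 2 - 1)) := by
    refine Dvd.dvd.trans ?_ ((dvd_mul_right _ _).trans (h.trans (dvd_of_eq ?_)))
    · exact dvd_of_eq (by ring)
    · rw [ordO]; ring
  have h2 := Nat.dvd_of_mul_dvd_mul_left (pow_pos (by omega) 2) h1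
  rw [← pow_mul] at h2
  have hc := (coprime_pow_pred (q := q₀) (a := 1) (b := 2 * 2) (by omega) (by omega))
  rw [pow_one] at hc
  have h3 := Nat.le_of_dvd three_pos (hc.dvd_of_dvd_mul_right h2)
  interval_cases q₀ <;> norm_num [ordU, ordO] at h

theorem unit_sub {q₀ q₁ s : ℕ} (hq : 2 ≤ q₀) (hq₁ : 2 ≤ q₁) (hs : 2 ≤ s) (he : q₀ ^ 2 = q₁ ^ s)
    (h : ordU q₀ ∣ 3 * ordL q₁) : False := by
  rcases (show s = 2 ∨ 3 ≤ s by omega) with rfl | hs3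
  · obtain rfl : q₀ = q₁ := Nat.pow_left_injective (by norm_num) he
    have p3 : 2 ^ 3 ≤ q₀ ^ 3 := Nat.pow_le_pow_left hq 3
    have p2 : 2 ^ 2 ≤ q₀ ^ 2 := Nat.pow_le_pow_left hq 2
    norm_num at p2 p3
    have h1 : (q₀ ^ 3 * (q₀ ^ 2 - 1)) * (q₀ ^ 3 + 1) ∣ (q₀ ^ 3 * (q₀ ^ 2 - 1)) * (3 * (q₀ ^ 3 - 1)) := by
      convert h using 1 <;> simp only [ordU, ordL] <;> ring
    obtain ⟨k, hk⟩ := Nat.dvd_of_mul_dvd_mul_left (Nat.mul_pos (by omega) (by omega)) h1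
    have h2 : q₀ ^ 3 + 1 ∣ 6 := ⟨3 - k, by
      have hk3 : k ≤ 2 := by
        by_contra h0
        have : (q₀ ^ 3 + 1) * 3 ≤ (q₀ ^ 3 + 1) * k := Nat.mul_le_mul_left _ (by omega)
        omega
      interval_cases k <;> omega⟩
    have := Nat.le_of_dvd (by norm_num) h2
    omega
  · -- the unipotent part is too large
    have hc : Nat.Coprime (q₀ ^ 3) ((q₁ ^ 3 - 1) * (q₁ ^ 2 - 1)) := by
      have h6 : q₀ ^ 3 ∣ q₁ ^ (s * 3) := by
        rw [pow_mul, ← he, ← pow_mul]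
        exact pow_dvd_pow q₀ (by norm_num)
      exact (Nat.Coprime.mul_right (coprime_pow_pred (by omega) (by omega))
        (coprime_pow_pred (by omega) (by omega))).coprime_dvd_left h6
    have h1 : q₀ ^ 3 ∣ 3 * q₁ ^ 3 := hc.dvd_of_dvd_mul_right
      (((dvd_mul_right _ _).trans h).trans (dvd_of_eq (by rw [ordL]; ring)))
    have h2 := pow_dvd_pow_of_dvd h1 2
    rw [show (q₀ ^ 3) ^ 2 = (q₀ ^ 2) ^ 3 by ring, he, show (3 * q₁ ^ 3) ^ 2 = q₁ ^ 6 * 9 by ring, ← pow_mul,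
      show s * 3 = 6 + (s * 3 - 6) by omega, pow_add] at h2
    have h3 := Nat.le_of_dvd (by norm_num) ((pow_dvd_pow q₁ (show 3 ≤ s * 3 - 6 by omega)).trans
      (Nat.dvd_of_mul_dvd_mul_left (pow_pos (by omega) 6) h2))
    have h4 : q₁ ≤ 2 := by
      by_contra h0
      have := Nat.pow_le_pow_left (show 3 ≤ q₁ by omega) 3
      omega
    interval_cases q₁
    have h5 := (pow_dvd_pow 2 (show 3 ≤ s * 3 - 6 by omega)).trans
      (Nat.dvd_of_mul_dvd_mul_left (pow_pos (by omega) 6) h2)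
    norm_num at h5

theorem unit_small {q₀ m : ℕ} (hq : 2 ≤ q₀) (hm : m = 1008 ∧ 3 ≤ q₀ ∨ m = 4320 ∨ m = 15120 ∧ 5 ≤ q₀)
    (h : ordU q₀ ∣ m) : q₀ = 2 ∧ m = 4320 := by
  rcases hm with ⟨rfl, h3⟩ | rfl | ⟨rfl, h5⟩
  · have := unit_le h3
    have := Nat.le_of_dvd (by norm_num) h
    norm_num at *
    omega
  · refine ⟨?_, rfl⟩
    by_contra h0
    have := unit_le (show 3 ≤ q₀ by omega)
    have := Nat.le_of_dvd (by norm_num) h
    norm_num at *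
    omega
  · have := unit_le h5
    have := Nat.le_of_dvd (by norm_num) h
    norm_num at *
    omega

end Cfsg.Lib.Linear.Mitchell.MaxArith
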