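import Cfsg.Agent.Lib.Linear.Mitchell.MaxCardsBasic
import Cfsg.Agent.Lib.CpClosed.AbelianTwo.Small
import Cfsg.Agent.S0813
import Cfsg.Agent.S2119

/-!
# Almost simple subgroups of `SL₃` are bounded by automorphism groups
-/

set_option autoImplicit false
set_option linter.unusedSectionVars false
set_option linter.style.haveILetI false

namespace Cfsg.Lib.Linear.Mitchell.Max

open Cfsg.Geo Cfsg.Lib.Linear
open scoped Matrix MatrixGroups

variable {F : Type*} [Field F] [Fintype F]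

/-- Conjugation of a normal subgroup modulo its scalars. -/
theorem exists_conjQuot {M P : Subgroup (GL (Fin 3) F)} (hn : ∀ g ∈ M, ∀ a ∈ P, g * a * g⁻¹ ∈ P) :
    ∃ φ : M →* MulAut (P ⧸ (scalars (Fin 3) F).subgroupOf P), ∀ (g : M) (x : P) (y : P),
      (y : GL (Fin 3) F) = g * x * (g : GL (Fin 3) F)⁻¹ → φ g (QuotientGroup.mk x) = QuotientGroup.mk y := by
  let cj : M → (P ≃* P) := fun g =>
    { toFun := fun x => ⟨g * x * (g : GL (Fin 3) F)⁻¹, hn g g.2 x x.2⟩
      invFun := fun x => ⟨(g : GL (Fin 3) F)⁻¹ * x * g, by simpa using hn _ (inv_mem g.2) x x.2⟩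
      left_inv := fun x => Subtype.ext (by simp [mul_assoc])
      right_inv := fun x => Subtype.ext (by simp [mul_assoc])
      map_mul' := fun x y => Subtype.ext (by simp [mul_assoc]) }
  have hN : ∀ g, ((scalars (Fin 3) F).subgroupOf P).map (cj g : P →* P) = (scalars (Fin 3) F).subgroupOf P := by
    intro g
    ext x
    constructor
    · rintro ⟨y, hy, rfl⟩
      rw [Subgroup.mem_subgroupOf]
      exact scalars_normal.conj_mem _ hy _
    · intro hx
      refine ⟨(cj g).symm x, ?_, (cj g).apply_symm_apply x⟩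
      rw [SetLike.mem_coe, Subgroup.mem_subgroupOf]
      simpa [cj] using scalars_normal.conj_mem _ hx (g : GL (Fin 3) F)⁻¹
  refine ⟨MonoidHom.mk' (fun g => QuotientGroup.congr _ _ (cj g) (hN g)) (fun g h => ?_), fun g x y hy => ?_⟩
  · ext q
    obtain ⟨x, rfl⟩ := QuotientGroup.mk_surjective q
    rw [MulAut.mul_apply, QuotientGroup.congr_mk, QuotientGroup.congr_mk, QuotientGroup.congr_mk]
    congr 1
    exact Subtype.ext (by simp [cj, mul_assoc])
  · rw [MonoidHom.mk'_apply, QuotientGroup.congr_mk]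
    congr 1
    exact Subtype.ext hy.symm

/-- A group normalising `P` with scalar centraliser modulo scalars. -/
theorem card_dvd_aut {M P : Subgroup (GL (Fin 3) F)} (hM : M ≤ specialLinear (Fin 3) F)
    (hn : ∀ g ∈ M, ∀ a ∈ P, g * a * g⁻¹ ∈ P)
    (hcent : ∀ h ∈ M, (∀ x ∈ P, h * x * h⁻¹ * x⁻¹ ∈ scalars (Fin 3) F) → h ∈ scalars (Fin 3) F) :
    Nat.card M ∣ 3 * Nat.card (MulAut (P ⧸ (scalars (Fin 3) F).subgroupOf P)) := by
  obtain ⟨φ, hφ⟩ := exists_conjQuot hn
  rw [← φ.ker.card_mul_index, Subgroup.index_ker]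
  refine mul_dvd_mul ?_ (Subgroup.card_subgroup_dvd_card _)
  rw [Nat.card_congr (φ.ker.equivMapOfInjective _ M.subtype_injective).toEquiv]
  refine (Subgroup.card_dvd_of_le ?_).trans (card_scalars_SL_dvd (F := F))
  rintro _ ⟨g, hg, rfl⟩
  refine ⟨hcent _ g.2 fun x hx => ?_, hM g.2⟩
  have h1 := hφ g ⟨x, hx⟩ ⟨_, hn g g.2 x hx⟩ rfl
  rw [MonoidHom.mem_ker.1 hg, MulAut.one_apply, QuotientGroup.eq, Subgroup.mem_subgroupOf] at h1
  have h2 := scalars_normal.conj_mem _ h1 x
  simpa [mul_assoc] using h2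

theorem card_mulAut_congr {A B : Type*} [Group A] [Group B] (e : A ≃* B) :
    Nat.card (MulAut A) = Nat.card (MulAut B) :=
  Nat.card_congr (MulAut.congr e).toEquiv

theorem card_GL_center {K : Type*} [Field K] [Fintype K] (n : ℕ) [NeZero n] :
    Nat.card (Matrix.ProjGenLinGroup (Fin n) K) * (Fintype.card K - 1) = Nat.card (GL (Fin n) K) := by
  rw [← card_center_GL (ι := Fin n) (F := K)]
  exact (Subgroup.card_eq_card_quotient_mul_card_subgroup _).symm

theorem aut_L32 : Nat.card (MulAut (Matrix.ProjectiveSpecialLinearGroup (Fin 3) (ZMod 2))) = 336 := by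
  haveI : Fact (Nat.Prime 2) := ⟨Nat.prime_two⟩
  rw [Cfsg.Agent.S0813.result 2 1 le_rfl (by rw [ZMod.card, pow_one]) 3 (by norm_num) (by norm_num)]
  have h := card_GL_center (K := ZMod 2) 3
  rw [Matrix.card_GL_field, ZMod.card] at h
  norm_num [Fin.prod_univ_three] at h
  rw [h]
  norm_num

theorem card_L32 : Nat.card (Matrix.ProjectiveSpecialLinearGroup (Fin 3) (ZMod 2)) = 168 := by
  haveI : Fact (Nat.Prime 2) := ⟨Nat.prime_two⟩
  have h := card_SL_eq_gcd_mul_card_PSL (ι := Fin 3) (F := ZMod 2)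
  rw [ZMod.card, Fintype.card_fin] at h
  have h3 := card_GL_eq_mul_card_SL (ι := Fin 3) (F := ZMod 2)
  rw [Matrix.card_GL_field, ZMod.card] at h3
  norm_num [Fin.prod_univ_three] at h h3
  rw [Nat.card_eq_fintype_card]
  omega

theorem aut_A6 : Nat.card (MulAut (alternatingGroup (Fin 6))) = 1440 := by
  obtain ⟨K, _, _, hK, ⟨e⟩⟩ := Cfsg.Lib.CpClosed.AbelianTwo.alt_six_equiv
  haveI : Fact (Nat.Prime 3) := ⟨by norm_num⟩
  rw [card_mulAut_congr e, Cfsg.Agent.S0813.result 3 2 (by norm_num) (by rw [hK]; norm_num) 2 le_rfl (by norm_num)]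
  have h := card_GL_center (K := K) 2
  rw [Matrix.card_GL_field, hK] at h
  norm_num [Fin.prod_univ_two] at h ⊢
  omega

theorem aut_A7 : Nat.card (MulAut (alternatingGroup (Fin 7))) = 5040 := by
  rw [← Nat.card_congr (MulEquiv.ofBijective _ (Cfsg.Agent.S2119.result 7 (by norm_num) (by norm_num))).toEquiv,
    Nat.card_perm, Nat.card_eq_fintype_card, Fintype.card_fin]
  rfl

theorem card_alt (n : ℕ) (hn : 2 ≤ n) : 2 * Nat.card (alternatingGroup (Fin n)) = n.factorial := by
  haveI := Fin.nontrivial_iff_two_le.2 hn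
  rw [nat_card_alternatingGroup, Nat.card_eq_fintype_card, Fintype.card_fin]
  obtain ⟨k, hk⟩ := Nat.dvd_factorial two_pos hn
  rw [hk]; omega

end Cfsg.Lib.Linear.Mitchell.Max
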