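import Cfsg.Agent.Lib.Linear.Aschbacher.Linear
import Cfsg.Agent.Lib.Linear.Mitchell.MaxArith
import Cfsg.Agent.Lib.Linear.FormClass.Common
import Cfsg.Agent.Lib.Linear.SLBasic

/-!
# Orders of subgroups of `SL₃` through their images modulo scalars
-/

set_option autoImplicit false
set_option linter.unusedSectionVars false

namespace Cfsg.Lib.Linear.Mitchell.Max

open Cfsg.Geo Cfsg.Lib.Linear MaxArith
open scoped Matrix MatrixGroups

variable {F : Type*} [Field F] [Fintype F]

/-- The quotient map by the scalars. -/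
abbrev modZ : GL (Fin 3) F →* GL (Fin 3) F ⧸ scalars (Fin 3) F := QuotientGroup.mk' _

theorem card_scalars_SL_dvd :
    Nat.card (scalars (Fin 3) F ⊓ specialLinear (Fin 3) F : Subgroup (GL (Fin 3) F)) ∣ 3 := by
  classical
  let f : Fˣ →* GL (Fin 3) F := Units.map (Matrix.scalar (Fin 3) : F →+* Matrix (Fin 3) (Fin 3) F).toMonoidHom
  have h : (scalars (Fin 3) F ⊓ specialLinear (Fin 3) F : Subgroup (GL (Fin 3) F)) ≤
      (powMonoidHom 3 : Fˣ →* Fˣ).ker.map f := by
    rintro g ⟨⟨c, rfl⟩, hg⟩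
    refine ⟨c, ?_, rfl⟩
    rw [SetLike.mem_coe, MonoidHom.mem_ker, powMonoidHom_apply]
    have h1 := congrArg Units.val (MonoidHom.mem_ker.1 hg)
    refine Units.ext ?_
    simpa [Matrix.det_diagonal] using h1
  refine (Subgroup.card_dvd_of_le h).trans ((Subgroup.card_map_dvd _ _).trans ?_)
  rw [IsCyclic.card_powMonoidHom_ker]
  exact Nat.gcd_dvd_right _ _

/-- A subgroup of `SL₃` has order dividing three times that of its image modulo scalars. -/
theorem card_dvd_three_mul {S : Subgroup (GL (Fin 3) F)} (hS : S ≤ specialLinear (Fin 3) F) :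
    Nat.card S ∣ 3 * Nat.card (S.map (modZ (F := F))) := by
  let φ : S →* GL (Fin 3) F ⧸ scalars (Fin 3) F := modZ.comp S.subtype
  have hr : φ.range = S.map (modZ (F := F)) := by
    rw [MonoidHom.range_comp, Subgroup.range_subtype]
  have hk : Nat.card φ.ker ∣ 3 := by
    have he : Nat.card φ.ker = Nat.card (φ.ker.map S.subtype) :=
      Nat.card_congr (φ.ker.equivMapOfInjective _ S.subtype_injective).toEquiv
    rw [he]
    refine (Subgroup.card_dvd_of_le ?_).trans (card_scalars_SL_dvd (F := F))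
    rintro _ ⟨g, hg, rfl⟩
    exact ⟨(QuotientGroup.eq_one_iff _).1 (MonoidHom.mem_ker.1 hg), hS g.2⟩
  rw [← φ.ker.card_mul_index, Subgroup.index_ker, hr]
  exact mul_dvd_mul_right hk _

/-- If a subgroup of `SL₃` is, modulo scalars, inside another, its order divides three times that one's. -/
theorem card_dvd_of_le_sup {S A : Subgroup (GL (Fin 3) F)} (hS : S ≤ specialLinear (Fin 3) F)
    (h : S ≤ A ⊔ scalars (Fin 3) F) : Nat.card S ∣ 3 * Nat.card (A.map (modZ (F := F))) := by
  refine (card_dvd_three_mul hS).trans (mul_dvd_mul_left 3 (Subgroup.card_dvd_of_le ?_))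
  refine (Subgroup.map_mono h).trans (le_of_eq ?_)
  rw [Subgroup.map_sup, show (scalars (Fin 3) F).map (modZ (F := F)) = ⊥ from
    (Subgroup.map_eq_bot_iff _).2 (le_of_eq (QuotientGroup.ker_mk' _).symm), sup_bot_eq]

theorem card_map_conj {G : Type*} [Group G] (S : Subgroup G) (P : G) :
    Nat.card (S.map (MulAut.conj P).toMonoidHom) = Nat.card S :=
  (Nat.card_congr (S.equivMapOfInjective _ (MulAut.conj P).injective).toEquiv).symm

theorem map_conj_SL (P : GL (Fin 3) F) :
    (specialLinear (Fin 3) F).map (MulAut.conj P).toMonoidHom = specialLinear (Fin 3) F := by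
  haveI : (specialLinear (Fin 3) F).Normal := MonoidHom.normal_ker _
  exact Subgroup.Normal.map_conj_eq _ P

theorem card_GL_three : Nat.card (GL (Fin 3) F) = (Fintype.card F - 1) * ordL (Fintype.card F) := by
  rw [Matrix.card_GL_field]
  set q := Fintype.card F
  have h1 : 1 ≤ q := Fintype.card_pos
  have h2 : q ≤ q ^ 3 := le_self_pow₀ h1 (by norm_num)
  have h3 : q ^ 2 ≤ q ^ 3 := Nat.pow_le_pow_right h1 (by norm_num)
  have h4 : 1 ≤ q ^ 2 := Nat.one_le_pow _ _ h1
  have h5 : 1 ≤ q ^ 3 := Nat.one_le_pow _ _ h1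
  simp only [Fin.prod_univ_three, ordL, Fin.val_zero, Fin.val_one, Fin.val_two, pow_zero, pow_one]
  zify [h1, h2, h3, h4, h5]
  ring

theorem card_SL_three : Nat.card (specialLinear (Fin 3) F) = ordL (Fintype.card F) := by
  have hq : 1 < Fintype.card F := Fintype.one_lt_card
  have h := card_GL_eq_mul_card_SL (ι := Fin 3) (F := F)
  rw [card_GL_three] at h
  rw [FormClass.card_specialLinear]
  exact (Nat.eq_of_mul_eq_mul_left (by omega) h).symm

/-- Modulo scalars, the matrices over a subfield form a group of order dividing that of `PGL₃`. -/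
theorem card_modZ_subfield (F₀ : Subfield F) :
    Nat.card (((Matrix.GeneralLinearGroup.map (n := Fin 3) (F₀.subtype : F₀ →+* F)).range).map (modZ (F := F))) ∣
      ordL (Nat.card F₀) := by
  classical
  haveI : Fintype F₀ := Fintype.ofFinite _
  set ι₀ := Matrix.GeneralLinearGroup.map (n := Fin 3) (F₀.subtype : F₀ →+* F)
  let ψ : GL (Fin 3) F₀ →* GL (Fin 3) F ⧸ scalars (Fin 3) F := modZ.comp ι₀
  have hr : ψ.range = ι₀.range.map (modZ (F := F)) := by rw [MonoidHom.range_comp]
  have hZ : scalars (Fin 3) F₀ ≤ ψ.ker := by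
    intro g hg
    obtain ⟨c, hc⟩ := (mem_scalars_iff g).1 hg
    rw [MonoidHom.mem_ker]
    refine (QuotientGroup.eq_one_iff _).2 ((mem_scalars_iff _).2 ⟨Units.map F₀.subtype.toMonoidHom c, ?_⟩)
    ext i j
    simp [ι₀, hc, Matrix.one_apply, apply_ite F₀.subtype]
  have hcs : Nat.card (scalars (Fin 3) F₀) = Fintype.card F₀ - 1 := by
    rw [scalars, ← Nat.card_congr (MonoidHom.ofInjective (f := Units.map
      (Matrix.scalar (Fin 3) : F₀ →+* Matrix (Fin 3) (Fin 3) F₀).toMonoidHom) ?_).toEquiv, Nat.card_units,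
      Nat.card_eq_fintype_card]
    exact Units.map_injective fun a b h => Matrix.scalar_inj.1 h
  have h := ψ.ker.card_mul_index
  rw [Subgroup.index_ker, card_GL_three, hr] at h
  obtain ⟨k, hk⟩ := Subgroup.card_dvd_of_le hZ
  rw [hk, hcs, mul_assoc] at h
  have hpos : 0 < Fintype.card F₀ - 1 := Nat.sub_pos_of_lt Fintype.one_lt_card
  rw [Nat.card_eq_fintype_card (α := F₀), ← Nat.eq_of_mul_eq_mul_left hpos h]
  exact dvd_mul_left _ _

/-- The determinant-one part of a subfield group. -/
theorem card_subfield_dvd (F₀ : Subfield F) (P : GL (Fin 3) F) {S : Subgroup (GL (Fin 3) F)}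
    (hS : S ≤ specialLinear (Fin 3) F) (h : S ≤ subfieldSubgroup F₀ P) :
    Nat.card S ∣ 3 * ordL (Nat.card F₀) := by
  rw [← card_map_conj S P⁻¹]
  have hS' : S.map (MulAut.conj P⁻¹).toMonoidHom ≤ specialLinear (Fin 3) F :=
    (Subgroup.map_mono hS).trans (map_conj_SL _).le
  refine (card_dvd_of_le_sup hS' ?_).trans (mul_dvd_mul_left 3 (card_modZ_subfield F₀))
  rintro _ ⟨g, hg, rfl⟩
  obtain ⟨y, hy, rfl⟩ := h hg
  simpa [MulAut.conj_apply, mul_assoc] using hy

end Cfsg.Lib.Linear.Mitchell.Max
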