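import Cfsg.Agent.Lib.Linear.Mitchell.MaxCardsBasic
import Cfsg.Agent.Lib.Linear.Aschbacher.UnitaryForms
import Cfsg.Agent.Lib.Linear.HermitianFactor
import Cfsg.Agent.Lib.Linear.NondegFix.EvenCount
import Cfsg.Agent.Lib.Linear.OrthSympTransfer

/-!
# Orders of the similarity groups of forms in `SL₃`
-/

set_option autoImplicit false
set_option linter.unusedSectionVars false

namespace Cfsg.Lib.Linear.Mitchell.Max

open Cfsg.Geo Cfsg.Lib.Linear MaxArith
open scoped Matrix MatrixGroups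

variable {F : Type*} [Field F]

/-- The isometries of a two-argument form. -/
abbrev isom (f : (Fin 3 → F) → (Fin 3 → F) → F) : Subgroup (GL (Fin 3) F) :=
  Cfsg.preserving (Units.coeHom (Matrix (Fin 3) (Fin 3) F)) f

theorem isom_le_similarity (f : (Fin 3 → F) → (Fin 3 → F) → F) : isom f ≤ similarityGroup f :=
  fun _ hg => ⟨1, fun u v => by rw [Units.val_one, one_mul]; exact hg u v⟩

/-- A similarity of determinant one is a scalar times an isometry of determinant one. -/
theorem similarity_le_sup {σ : F ≃+* F} {f : (Fin 3 → F) → (Fin 3 → F) → F} (hf : Asch.IsSesq σ f)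
    (hherm : ∀ v w, f v w = σ (f w v)) :
    similarityGroup f ⊓ specialLinear (Fin 3) F ≤ (isom f ⊓ specialLinear (Fin 3) F) ⊔ scalars (Fin 3) F := by
  rintro g ⟨⟨c, hc⟩, hg⟩
  have hd : g.val.det = 1 := congrArg Units.val (MonoidHom.mem_ker.1 hg)
  have hc3 : (c : F) ^ 3 = 1 := by
    have hM : g.valᵀ * gramMatrix f * g.val.map σ = (c : F) • gramMatrix f :=
      Asch.mat_eq σ fun u v => by
        rw [← Asch.sesq_act hf, hc, Asch.sesq_gram hf, Matrix.smul_mulVec, dotProduct_smul, smul_eq_mul]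
    have h := congrArg Matrix.det hM
    rw [Matrix.det_mul, Matrix.det_mul, Matrix.det_transpose, Matrix.det_smul, Fintype.card_fin,
      show (g.val.map σ).det = σ g.val.det from (RingHom.map_det σ.toRingHom g.val).symm, hd, map_one,
      one_mul, mul_one] at h
    exact (mul_eq_right₀ (Asch.isUnit_det_gram hf).ne_zero).1 h.symm
  obtain ⟨u, x, hux⟩ : ∃ u x, f u x ≠ 0 := by
    obtain ⟨x, hx⟩ := hf.nondeg (Pi.single 0 1) (by simp)
    exact ⟨x, _, hx⟩
  have hσc : σ (c : F) = c := by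
    refine mul_right_cancel₀ hux ?_
    calc σ (c : F) * f u x = σ ((c : F) * f x u) := by rw [map_mul, ← hherm]
      _ = f (g.val *ᵥ u) (g.val *ᵥ x) := by rw [← hc, ← hherm]
      _ = _ := hc u x
  let m : Fˣ := c ^ 2
  have hm3 : (m : F) ^ 3 = 1 := by
    rw [Units.val_pow_eq_pow_val, ← pow_mul, mul_comm 2 3, pow_mul, hc3, one_pow]
  let s : GL (Fin 3) F := Units.map (Matrix.scalar (Fin 3) : F →+* Matrix (Fin 3) (Fin 3) F).toMonoidHom m⁻¹
  have hs : ∀ v, s.val *ᵥ v = ((m⁻¹ : Fˣ) : F) • v := fun v => by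
    show Matrix.scalar (Fin 3) ((m⁻¹ : Fˣ) : F) *ᵥ v = _
    rw [show Matrix.scalar (Fin 3) ((m⁻¹ : Fˣ) : F) = ((m⁻¹ : Fˣ) : F) • 1 from
      (Matrix.smul_one_eq_diagonal _).symm, Matrix.smul_mulVec, Matrix.one_mulVec]
  have hmem : s * g ∈ isom f ⊓ specialLinear (Fin 3) F := by
    refine ⟨fun a b => ?_, mul_mem ?_ hg⟩
    · show f ((s * g).val *ᵥ a) ((s * g).val *ᵥ b) = _
      rw [Units.val_mul, ← Matrix.mulVec_mulVec, ← Matrix.mulVec_mulVec, hs, hs, hf.smul_left, hf.smul_right,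
        hc, ← mul_assoc, ← mul_assoc]
      suffices ((m⁻¹ : Fˣ) : F) * σ ((m⁻¹ : Fˣ) : F) * (c : F) = 1 by rw [this, one_mul]
      simp only [m, Units.val_inv_eq_inv_val, Units.val_pow_eq_pow_val, map_inv₀, map_pow, hσc]
      field_simp
      linear_combination -hc3
    · show s ∈ (Matrix.GeneralLinearGroup.det : GL (Fin 3) F →* Fˣ).ker
      rw [MonoidHom.mem_ker]
      refine Units.ext ?_
      show (Matrix.scalar (Fin 3) ((m⁻¹ : Fˣ) : F)).det = 1
      rw [Matrix.scalar_apply, Matrix.det_diagonal, Fin.prod_const, Units.val_inv_eq_inv_val, inv_pow, hm3,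
        inv_one]
  have := Subgroup.mul_mem_sup (inv_mem (show s ∈ scalars (Fin 3) F from ⟨m⁻¹, rfl⟩)) hmem
  rw [inv_mul_cancel_left, sup_comm] at this
  exact this

variable [Fintype F]

theorem card_similarity_dvd {σ : F ≃+* F} {f : (Fin 3 → F) → (Fin 3 → F) → F} (hf : Asch.IsSesq σ f)
    (hherm : ∀ v w, f v w = σ (f w v)) :
    Nat.card (similarityGroup f ⊓ specialLinear (Fin 3) F : Subgroup (GL (Fin 3) F)) ∣
      3 * Nat.card (isom f ⊓ specialLinear (Fin 3) F : Subgroup (GL (Fin 3) F)) :=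
  (card_dvd_of_le_sup inf_le_right (similarity_le_sup hf hherm)).trans
    (mul_dvd_mul_left 3 (Subgroup.card_map_dvd _ _))

/-! ### Unitary forms -/

/-- A unitary form is the standard one in some basis. -/
theorem exists_standard {σ : F ≃+* F} {f : (Fin 3 → F) → (Fin 3 → F) → F} (hf : IsUnitaryForm σ f) :
    ∃ (q : ℕ) (S : GL (Fin 3) F), Fintype.card F = q ^ 2 ∧ (∀ x, σ x = x ^ q) ∧
      ∀ u v, f u v = Cfsg.hermForm 3 F q (S.val *ᵥ u) (S.val *ᵥ v) := by
  obtain ⟨q, hF, hq⟩ := Herm.exists_eq_frob (σ := σ.toRingHom)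
    (fun h => hf.ne_refl (RingEquiv.ext fun x => RingHom.congr_fun h x)) hf.involutive
  have hσ : ∀ x, σ x = x ^ q := hq
  have hse : ∀ x, σ x = Asch.sigmaE hF x := fun x => by rw [hσ, Asch.sigmaE_apply]
  have hs := Asch.isSesq_of_unitary hf
  obtain ⟨w, hw⟩ : ∃ w, σ.toRingHom w ≠ w := by
    by_contra h
    push Not at h
    exact hf.ne_refl (RingEquiv.ext h)
  have hM : gramMatrix f = ((gramMatrix f).map σ)ᵀ := Matrix.ext fun i j => hf.herm _ _
  obtain ⟨S, hSu, hS, -⟩ := HermitianFactor.exists_factor (σ := σ.toRingHom) hf.involutive hw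
    (H := (gramMatrix f)ᵀ) (Matrix.ext fun i j => by
      simp only [HermitianFactor.dagger, Matrix.transpose_apply, Matrix.map_apply]
      exact (congrFun (congrFun hM j) i).symm)
    ((Matrix.isUnit_iff_isUnit_det _).2 (by rw [Matrix.det_transpose]; exact Asch.isUnit_det_gram hs))
  obtain ⟨S, rfl⟩ := hSu
  refine ⟨q, S, hF, hσ, fun u v => ?_⟩
  have hherm := Asch.isSesq_of_unitary (Asch.herm_unitary (n := 3) hF)
  have hG : gramMatrix f = S.valᵀ * S.val.map σ := by
    rw [← Matrix.transpose_transpose (gramMatrix f), ← hS, Matrix.transpose_mul, HermitianFactor.dagger,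
      Matrix.transpose_transpose]
    rfl
  rw [Asch.sesq_gram hs, Asch.sesq_act hherm, Asch.gram_herm hF, Matrix.mul_one, hG,
    show (σ ∘ v) = Asch.sigmaE hF ∘ v from funext fun i => hse _,
    show S.val.map σ = S.val.map (Asch.sigmaE hF) from Matrix.ext fun i j => hse _]

theorem card_sunit_three {q : ℕ} (hF : Fintype.card F = q ^ 2) :
    Nat.card (Asch.sunit 3 F q) = ordU q := by
  have h := Herm.card_SU hF (n := 3) (by norm_num)
  rw [Herm.card_GU hF] at h
  have e : Nat.card (Asch.sunit 3 F q) = Nat.card (Cfsg.SU 3 F q) := by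
    refine Nat.card_congr
      { toFun := fun g => ⟨⟨g.1.val, congrArg Units.val (MonoidHom.mem_ker.1 g.2.2)⟩, ?_⟩
        invFun := fun A => ⟨Matrix.SpecialLinearGroup.toGL A.1, A.2, ?_⟩
        left_inv := fun g => Subtype.ext (Units.ext rfl)
        right_inv := fun A => Subtype.ext (Subtype.ext rfl) }
    · exact g.2.1
    · show Matrix.SpecialLinearGroup.toGL A.1 ∈ (Matrix.GeneralLinearGroup.det : GL (Fin 3) F →* Fˣ).ker
      rw [MonoidHom.mem_ker]
      exact Units.ext (by simp)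
  rw [e]
  refine Nat.eq_of_mul_eq_mul_left (Nat.succ_pos q) (h.trans ?_)
  simp [Finset.prod_range_succ, ordU]
  ring

/-- The isometries and similarities of a unitary form, up to conjugation. -/
theorem unitary_card {σ : F ≃+* F} {f : (Fin 3 → F) → (Fin 3 → F) → F} (hf : IsUnitaryForm σ f) :
    ∃ q, Fintype.card F = q ^ 2 ∧
      Nat.card (isom f ⊓ specialLinear (Fin 3) F : Subgroup (GL (Fin 3) F)) = ordU q ∧
      Nat.card (similarityGroup f ⊓ specialLinear (Fin 3) F : Subgroup (GL (Fin 3) F)) =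
        Nat.card (similarityGroup (Cfsg.hermForm 3 F q) ⊓ specialLinear (Fin 3) F : Subgroup (GL (Fin 3) F)) := by
  obtain ⟨q, S, hF, hσ, hS⟩ := exists_standard hf
  have hSS : ∀ v, S⁻¹.val *ᵥ (S.val *ᵥ v) = v := Asch.inv_mulVec_mulVec S
  have hSS' : ∀ v, S.val *ᵥ (S⁻¹.val *ᵥ v) = v := Asch.mulVec_inv_mulVec S
  have key : ∀ (g : GL (Fin 3) F) (c : F),
      (∀ u v, f (g.val *ᵥ u) (g.val *ᵥ v) = c * f u v) ↔
        ∀ u v, Cfsg.hermForm 3 F q ((S * g * S⁻¹).val *ᵥ u) ((S * g * S⁻¹).val *ᵥ v) =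
          c * Cfsg.hermForm 3 F q u v := by
    intro g c
    simp only [Units.val_mul, ← Matrix.mulVec_mulVec, hS]
    refine ⟨fun h u v => ?_, fun h u v => ?_⟩
    · have := h (S⁻¹.val *ᵥ u) (S⁻¹.val *ᵥ v)
      rwa [hSS', hSS'] at this
    · have := h (S.val *ᵥ u) (S.val *ᵥ v)
      rwa [hSS, hSS] at this
  have hdet : ∀ g : GL (Fin 3) F, S * g * S⁻¹ ∈ specialLinear (Fin 3) F ↔ g ∈ specialLinear (Fin 3) F :=
    fun g => by simp [specialLinear, MonoidHom.mem_ker, mul_comm]
  have h1 : isom f ⊓ specialLinear (Fin 3) F = (Asch.sunit 3 F q).map (MulAut.conj S⁻¹).toMonoidHom := by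
    rw [Subgroup.map_equiv_eq_comap_symm']
    ext g
    simp only [Subgroup.mem_inf, Subgroup.mem_comap, MulEquiv.coe_toMonoidHom, MulAut.conj_symm_apply, inv_inv]
    rw [hdet]
    refine and_congr_left' ?_
    have := key g 1
    simp only [one_mul] at this
    exact this
  have h2 : similarityGroup f ⊓ specialLinear (Fin 3) F =
      (similarityGroup (Cfsg.hermForm 3 F q) ⊓ specialLinear (Fin 3) F).map (MulAut.conj S⁻¹).toMonoidHom := by
    rw [Subgroup.map_equiv_eq_comap_symm']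
    ext g
    simp only [Subgroup.mem_inf, Subgroup.mem_comap, MulEquiv.coe_toMonoidHom, MulAut.conj_symm_apply, inv_inv]
    rw [hdet]
    exact and_congr_left' ⟨fun ⟨c, h⟩ => ⟨c, (key g c).1 h⟩, fun ⟨c, h⟩ => ⟨c, (key g c).2 h⟩⟩
  exact ⟨q, hF, by rw [h1, card_map_conj, card_sunit_three hF], by rw [h2, card_map_conj]⟩

/-- Two unitary forms have similarity groups of the same order in `SL₃`. -/
theorem card_similarity_eq {σ τ : F ≃+* F} {f g : (Fin 3 → F) → (Fin 3 → F) → F} (hf : IsUnitaryForm σ f)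
    (hg : IsUnitaryForm τ g) :
    Nat.card (similarityGroup f ⊓ specialLinear (Fin 3) F : Subgroup (GL (Fin 3) F)) =
      Nat.card (similarityGroup g ⊓ specialLinear (Fin 3) F : Subgroup (GL (Fin 3) F)) := by
  obtain ⟨q, hq, -, h1⟩ := unitary_card hf
  obtain ⟨q', hq', -, h2⟩ := unitary_card hg
  obtain rfl : q = q' := Nat.pow_left_injective (by norm_num) (hq.symm.trans hq')
  rw [h1, h2]

end Cfsg.Lib.Linear.Mitchell.Max
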