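import Cfsg.Agent.Lib.Linear.Mitchell.MaxCardsBasic
import Cfsg.Agent.Lib.Linear.Aschbacher.Bounds
import Cfsg.Agent.Lib.Linear.Aschbacher.OrthForms

/-!
# Orders of monomial groups and field normalisers in `SL₃`
-/

set_option autoImplicit false
set_option linter.unusedSectionVars false

namespace Cfsg.Lib.Linear.Mitchell.Max

open Cfsg.Geo Cfsg.Lib.Linear MaxArith
open scoped Matrix MatrixGroups

variable {F : Type*} [Field F] [Fintype F]

/-- The determinant-one part of the stabiliser of a decomposition into lines has order `6 (q - 1) ^ 2`. -/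
theorem card_mono {D : Fin 3 → Submodule F (Fin 3 → F)} (hD : IsMDecomposition 1 D) :
    Nat.card (decompositionStabilizer D ⊓ specialLinear (Fin 3) F : Subgroup (GL (Fin 3) F)) =
      6 * (Fintype.card F - 1) ^ 2 := by
  classical
  obtain ⟨b, hb⟩ := Asch.decomp_gen hD
  let L : Equiv.Perm (Fin 3) → (Fin 3 → Fˣ) → ((Fin 3 → F) ≃ₗ[F] (Fin 3 → F)) := fun π ε =>
    b.equiv ((b.reindex π.symm).unitsSMul ε) (Equiv.refl _)
  let G : Equiv.Perm (Fin 3) → (Fin 3 → Fˣ) → GL (Fin 3) F := fun π ε =>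
    Matrix.GeneralLinearGroup.toLin.symm (LinearMap.GeneralLinearGroup.ofLinearEquiv (L π ε))
  have hG : ∀ π ε i, (G π ε).val *ᵥ b i = (ε i : F) • b (π i) := fun π ε i => by
    show (LinearMap.toMatrix' (L π ε).toLinearMap) *ᵥ b i = _
    rw [LinearMap.toMatrix'_mulVec]
    simp [L, Module.Basis.unitsSMul_apply, Units.smul_def]
  have hdet : ∀ π ε, (G π ε).val.det = ((Equiv.Perm.sign π : ℤ) : F) * ∏ i, (ε i : F) := by
    intro π ε
    rw [← LinearMap.det_toLin', ← LinearMap.det_toMatrix b]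
    have hM : LinearMap.toMatrix b b (Matrix.toLin' (G π ε).val) =
        Equiv.Perm.permMatrix F π.symm * Matrix.diagonal (fun i => (ε i : F)) := by
      ext i j
      rw [LinearMap.toMatrix_apply, Matrix.toLin'_apply, hG, map_smul, b.repr_self, Matrix.mul_diagonal,
        Equiv.Perm.permMatrix, PEquiv.toMatrix_apply, Finsupp.smul_apply, Finsupp.single_apply, smul_eq_mul]
      simp only [Equiv.toPEquiv_apply, Option.mem_some_iff]
      by_cases h : π j = i
      · subst h; simp
      · rw [if_neg h, if_neg (fun e => h (by rw [← e, Equiv.apply_symm_apply]))]; ring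
    rw [hM, Matrix.det_mul, Matrix.det_diagonal, Matrix.det_permutation, Equiv.Perm.sign_symm]
  let s : Equiv.Perm (Fin 3) → Fˣ := fun π => Units.map (Int.castRingHom F).toMonoidHom (Equiv.Perm.sign π)
  let E : Equiv.Perm (Fin 3) × Fˣ × Fˣ → (Fin 3 → Fˣ) := fun t => ![t.2.1, t.2.2, (s t.1 * t.2.1 * t.2.2)⁻¹]
  have hs : ∀ π, (s π : F) = ((Equiv.Perm.sign π : ℤ) : F) := fun π => rfl
  have hmem : ∀ t, G t.1 (E t) ∈ decompositionStabilizer D ⊓ specialLinear (Fin 3) F := fun t => by
    refine ⟨⟨t.1, fun i => ?_⟩, ?_⟩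
    · rw [hb, hb, Submodule.map_span, Set.image_singleton, Matrix.toLin'_apply, hG,
        Submodule.span_singleton_smul_eq (E t i).isUnit]
    · show G t.1 (E t) ∈ (Matrix.GeneralLinearGroup.det : GL (Fin 3) F →* Fˣ).ker
      rw [MonoidHom.mem_ker]
      refine Units.ext ?_
      rw [Matrix.GeneralLinearGroup.val_det_apply, hdet, ← hs, Fin.prod_univ_three]
      simp only [E, Matrix.cons_val_zero, Matrix.cons_val_one, Matrix.cons_val]
      rw [← Units.val_mul, ← Units.val_mul, ← Units.val_mul]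
      congr 1
      group
  let φ : Equiv.Perm (Fin 3) × Fˣ × Fˣ → (decompositionStabilizer D ⊓ specialLinear (Fin 3) F :
      Subgroup (GL (Fin 3) F)) := fun t => ⟨G t.1 (E t), hmem t⟩
  have hinj : Function.Injective φ := by
    intro t u e
    have e' : ∀ i, (E t i : F) • b (t.1 i) = (E u i : F) • b (u.1 i) := fun i => by
      rw [← hG, ← hG, show G t.1 (E t) = G u.1 (E u) from congrArg Subtype.val e]
    have key : ∀ i, t.1 i = u.1 i ∧ E t i = E u i := fun i => by
      have h := congrArg b.repr (e' i)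
      rw [map_smul, map_smul, b.repr_self, b.repr_self, Finsupp.smul_single, Finsupp.smul_single, smul_eq_mul,
        smul_eq_mul, mul_one, mul_one] at h
      rcases (Finsupp.single_eq_single_iff _ _ _ _).1 h with ⟨h1, h2⟩ | ⟨h1, -⟩
      · exact ⟨h1, Units.ext h2⟩
      · exact absurd h1 (E t i).ne_zero
    refine Prod.ext (Equiv.ext fun i => (key i).1) (Prod.ext ?_ ?_)
    · simpa [E] using (key 0).2
    · simpa [E] using (key 1).2
  have hsurj : Function.Surjective φ := by
    rintro ⟨g, ⟨hgD, hgS⟩⟩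
    obtain ⟨π, ε, hε0, hg⟩ := Asch.decomp_act hb hgD
    let ε' : Fin 3 → Fˣ := fun i => Units.mk0 (ε i) (hε0 i)
    have hgG : g = G π ε' := Units.ext (Matrix.toLin'.injective (b.ext fun i => by
      rw [Matrix.toLin'_apply, Matrix.toLin'_apply, hg, hG]; rfl))
    have hd : (G π ε').val.det = 1 := by
      rw [← hgG]; exact congrArg Units.val (MonoidHom.mem_ker.1 hgS)
    rw [hdet, ← hs, Fin.prod_univ_three] at hd
    refine ⟨(π, ε' 0, ε' 1), Subtype.ext ?_⟩
    show G π (E (π, ε' 0, ε' 1)) = g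
    rw [hgG]
    congr 1
    ext i
    fin_cases i
    · rfl
    · rfl
    · show (((s π * ε' 0 * ε' 1)⁻¹ : Fˣ) : F) = ε' 2
      rw [Units.val_inv_eq_inv_val]
      refine inv_eq_of_mul_eq_one_right ?_
      simp only [Units.val_mul]
      linear_combination hd
  rw [← Nat.card_eq_of_bijective φ ⟨hinj, hsurj⟩, Nat.card_prod, Nat.card_prod, Nat.card_units,
    Nat.card_perm, Nat.card_eq_fintype_card (α := F), Nat.card_eq_fintype_card (α := Fin 3), Fintype.card_fin,
    sq]
  rfl

/-- The determinant-one part of the normaliser of a cubic field has order `3 (q ^ 2 + q + 1)`. -/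
theorem card_field_units {K : Subalgebra F (Matrix (Fin 3) (Fin 3) F)} (hK : IsFieldSubalgebra 3 K) :
    Nat.card (subalgebraNormalizer K ⊓ specialLinear (Fin 3) F : Subgroup (GL (Fin 3) F)) =
        3 * ordS (Fintype.card F) ∧
      ∃ S : Subgroup (GL (Fin 3) F), S ≤ subalgebraNormalizer K ⊓ specialLinear (Fin 3) F ∧
        Nat.card S = ordS (Fintype.card F) ∧ ∀ g ∈ S, g.val ∈ K := by
  classical
  haveI : Finite (Matrix (Fin 3) (Fin 3) F) := inferInstanceAs (Finite (Fin 3 → Fin 3 → F))
  haveI : FiniteDimensional F K := Module.finite_of_finrank_pos (hK.finrank_eq.symm ▸ (by norm_num))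
  have hfield : IsField K :=
    { exists_pair_ne := ⟨0, 1, fun h => zero_ne_one (congrArg Subtype.val h)⟩
      mul_comm := fun a b => Subtype.ext (hK.comm a a.2 b b.2)
      mul_inv_cancel := fun {a} ha => by
        obtain ⟨y, hy, hy'⟩ := hK.inv a a.2 (fun h => ha (Subtype.ext h))
        exact ⟨⟨y, hy⟩, Subtype.ext hy'⟩ }
  letI : Field K := hfield.toField
  haveI : Finite K := Finite.of_injective Subtype.val Subtype.val_injective
  haveI : IsGalois F K := inferInstance
  -- the units of the field as matrices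
  let u : Kˣ →* GL (Fin 3) F := Units.map (K.val : K →* Matrix (Fin 3) (Fin 3) F)
  have hu : Function.Injective u := Units.map_injective Subtype.val_injective
  let v : Fin 3 → F := Pi.single 0 1
  have hv : v ≠ 0 := by simp [v]
  let ev0 : K →ₗ[F] (Fin 3 → F) :=
    { toFun := fun k => (k : Matrix (Fin 3) (Fin 3) F) *ᵥ v
      map_add' := fun a b => Matrix.add_mulVec _ _ _
      map_smul' := fun c a => Matrix.smul_mulVec _ _ _ }
  have hev : Function.Injective ev0 := by
    rw [injective_iff_map_eq_zero]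
    intro k hk
    by_contra h0
    obtain ⟨y, hy, hy'⟩ := hK.inv k k.2 (fun e => h0 (Subtype.ext e))
    rw [hK.comm _ k.2 y hy] at hy'
    refine hv ?_
    have h1 := congrArg (fun w => y *ᵥ w) hk
    simpa [ev0, Matrix.mulVec_mulVec, hy'] using h1
  let ev : K ≃ₗ[F] (Fin 3 → F) := LinearEquiv.ofBijective ev0
    ⟨hev, (LinearMap.injective_iff_surjective_of_finrank_eq_finrank
      (by rw [hK.finrank_eq, Module.finrank_fintype_fun_eq_card, Fintype.card_fin])).1 hev⟩
  have hnorm : ∀ k : K, (k : Matrix (Fin 3) (Fin 3) F).det = Algebra.norm F k := fun k => by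
    rw [Algebra.norm_apply, ← LinearMap.det_conj (Algebra.lmul F K k) ev, ← LinearMap.det_toLin']
    congr 1
    refine LinearMap.ext fun w => ?_
    obtain ⟨a, rfl⟩ := ev.surjective w
    simp only [Matrix.toLin'_apply, LinearMap.coe_comp, LinearEquiv.coe_coe, Function.comp_apply,
      LinearEquiv.symm_apply_apply]
    show (k : Matrix (Fin 3) (Fin 3) F) *ᵥ ((a : Matrix (Fin 3) (Fin 3) F) *ᵥ v) =
      ((k * a : K) : Matrix (Fin 3) (Fin 3) F) *ᵥ v
    rw [Matrix.mulVec_mulVec]
    rfl
  let N : Kˣ →* Fˣ := Units.map (Algebra.norm F : K →* F)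
  have hNcard : Nat.card N.ker = ordS (Fintype.card F) := by
    have h := N.ker.card_mul_index
    rw [Subgroup.index_ker, MonoidHom.range_eq_top.2 (FiniteField.unitsMap_norm_surjective F K),
      Subgroup.card_top, Nat.card_units, Nat.card_units, Nat.card_eq_fintype_card (α := F),
      Module.natCard_eq_pow_finrank (K := F) (V := K), hK.finrank_eq, Nat.card_eq_fintype_card (α := F)] at h
    set q := Fintype.card F
    have hq : 1 < q := Fintype.one_lt_card
    refine Nat.eq_of_mul_eq_mul_right (show 0 < q - 1 by omega) (h.trans ?_)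
    have : 1 ≤ q ^ 3 := Nat.one_le_pow _ _ (by omega)
    simp only [ordS]
    zify [this, hq.le]
    ring
  set S := subalgebraNormalizer K ⊓ specialLinear (Fin 3) F with hS
  let cj : S → (K →ₐ[F] K) := fun g =>
    { toFun := fun k => ⟨g.1.val * k * (g.1⁻¹).val, (g.2.1 _).1 k.2⟩
      map_one' := Subtype.ext (by simp)
      map_mul' := fun a b => Subtype.ext (by simp [mul_assoc])
      map_zero' := Subtype.ext (by simp)
      map_add' := fun a b => Subtype.ext (by simp [mul_add, add_mul])
      commutes' := fun r => Subtype.ext (by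
        simp [Algebra.algebraMap_eq_smul_one, Matrix.mul_smul, Matrix.smul_mul, mul_assoc]) }
  let ψ : S →* (K ≃ₐ[F] K) := MonoidHom.mk'
    (fun g => AlgEquiv.ofBijective (cj g) (Algebra.IsAlgebraic.algHom_bijective (cj g)))
    (fun g h => AlgEquiv.ext fun k => Subtype.ext (by
      show (g * h : S).1.val * (k : Matrix (Fin 3) (Fin 3) F) * ((g * h : S).1⁻¹).val =
        g.1.val * (h.1.val * k * (h.1⁻¹).val) * (g.1⁻¹).val
      simp [mul_assoc]))
  have hψker : ψ.ker.map S.subtype = N.ker.map u := by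
    apply le_antisymm
    · rintro _ ⟨g, hg, rfl⟩
      have hgK : g.1.val ∈ K := Asch.mem_of_comm_field (by norm_num) (by simp) hK fun k hk => by
        have h1 : g.1.val * k * (g.1⁻¹).val = k :=
          congrArg (fun φ : K ≃ₐ[F] K => ((φ ⟨k, hk⟩ : K) : Matrix (Fin 3) (Fin 3) F)) (MonoidHom.mem_ker.1 hg)
        calc g.1.val * k = (g.1.val * k * (g.1⁻¹).val) * g.1.val := by rw [mul_assoc, Units.inv_mul, mul_one]
          _ = k * g.1.val := by rw [h1]
      have h0 : (⟨g.1.val, hgK⟩ : K) ≠ 0 := fun e => g.1.isUnit.ne_zero (congrArg Subtype.val e)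
      refine ⟨Units.mk0 _ h0, ?_, Units.ext rfl⟩
      rw [SetLike.mem_coe, MonoidHom.mem_ker]
      refine Units.ext ?_
      show Algebra.norm F (⟨g.1.val, hgK⟩ : K) = 1
      rw [← hnorm]
      exact congrArg Units.val (MonoidHom.mem_ker.1 g.2.2)
    · rintro _ ⟨k, hk, rfl⟩
      have hk1 : ((k : K) : Matrix (Fin 3) (Fin 3) F).det = 1 := by
        rw [hnorm]; exact congrArg Units.val (MonoidHom.mem_ker.1 hk)
      have hconj : ∀ m : K, (u k).val * (m : Matrix (Fin 3) (Fin 3) F) * ((u k)⁻¹).val = m := fun m => by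
        show ((k : K) : Matrix (Fin 3) (Fin 3) F) * m * ((u k)⁻¹).val = m
        rw [hK.comm _ (k : K).2 _ m.2, mul_assoc]
        show (m : Matrix (Fin 3) (Fin 3) F) * ((u k).val * ((u k)⁻¹).val) = m
        rw [Units.mul_inv, mul_one]
      have hmemS : u k ∈ S := by
        refine ⟨fun m => ⟨fun hm => by rw [hconj ⟨m, hm⟩]; exact hm, fun hm => ?_⟩, MonoidHom.mem_ker.2 (Units.ext hk1)⟩
        have h2 := hconj ⟨_, hm⟩
        have h3 : (u k).val * m * ((u k)⁻¹).val = m := by
          have h4 := congrArg (fun X => ((u k)⁻¹).val * X * (u k).val) h2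
          simpa [mul_assoc] using h4
        rwa [← h3]
      exact ⟨⟨u k, hmemS⟩, MonoidHom.mem_ker.2 (AlgEquiv.ext fun m => Subtype.ext (hconj m)), rfl⟩
  have hψsurj : Function.Surjective ψ := by
    intro τ
    let T : GL (Fin 3) F := Matrix.GeneralLinearGroup.toLin.symm
      (LinearMap.GeneralLinearGroup.ofLinearEquiv (ev.symm.trans (τ.toLinearEquiv.trans ev)))
    have hT : ∀ a : K, T.val *ᵥ ev a = ev (τ a) := fun a => by
      show (LinearMap.toMatrix' (ev.symm.trans (τ.toLinearEquiv.trans ev)).toLinearMap) *ᵥ ev a = _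
      rw [LinearMap.toMatrix'_mulVec]
      simp
    have hTk : ∀ k : K, T.val * (k : Matrix (Fin 3) (Fin 3) F) = ((τ k : K) : Matrix (Fin 3) (Fin 3) F) * T.val := by
      intro k
      refine Matrix.toLin'.injective (LinearMap.ext fun w => ?_)
      obtain ⟨a, rfl⟩ := ev.surjective w
      simp only [Matrix.toLin'_apply, ← Matrix.mulVec_mulVec]
      rw [show (k : Matrix (Fin 3) (Fin 3) F) *ᵥ ev a = ev (k * a) from by
          show (k : Matrix (Fin 3) (Fin 3) F) *ᵥ ((a : Matrix (Fin 3) (Fin 3) F) *ᵥ v) = _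
          rw [Matrix.mulVec_mulVec]; rfl, hT, hT, map_mul]
      show _ = ((τ k : K) : Matrix (Fin 3) (Fin 3) F) *ᵥ (((τ a : K) : Matrix (Fin 3) (Fin 3) F) *ᵥ v)
      rw [Matrix.mulVec_mulVec]; rfl
    obtain ⟨k0, hk0⟩ := FiniteField.unitsMap_norm_surjective F K (Matrix.GeneralLinearGroup.det T)⁻¹
    let g := u k0 * T
    have hgk : ∀ k : K, g.val * (k : Matrix (Fin 3) (Fin 3) F) * (g⁻¹).val = ((τ k : K) : Matrix (Fin 3) (Fin 3) F) := by
      intro k
      have h1 : g.val * (k : Matrix (Fin 3) (Fin 3) F) = ((τ k : K) : Matrix (Fin 3) (Fin 3) F) * g.val := by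
        show (u k0).val * T.val * _ = _ * ((u k0).val * T.val)
        rw [mul_assoc, hTk, ← mul_assoc, ← mul_assoc]
        congr 1
        exact hK.comm _ (k0 : K).2 _ (τ k).2
      rw [h1, mul_assoc, Units.mul_inv, mul_one]
    have hgS : g ∈ S := by
      refine ⟨fun m => ⟨fun hm => by rw [hgk ⟨m, hm⟩]; exact (τ _).2, fun hm => ?_⟩, ?_⟩
      · have h2 := hgk (τ.symm ⟨_, hm⟩)
        rw [τ.apply_symm_apply] at h2
        have h3 := congrArg (fun X => (g⁻¹).val * X * g.val) h2
        simp [mul_assoc] at h3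
        rw [← h3]
        exact (τ.symm _).2
      · show g ∈ (Matrix.GeneralLinearGroup.det : GL (Fin 3) F →* Fˣ).ker
        rw [MonoidHom.mem_ker]
        simp only [g, map_mul]
        rw [show Matrix.GeneralLinearGroup.det (u k0) = N k0 from Units.ext (hnorm _), hk0, inv_mul_cancel]
    exact ⟨⟨g, hgS⟩, AlgEquiv.ext fun k => Subtype.ext (hgk k)⟩
  have hc := ψ.ker.card_mul_index
  rw [Subgroup.index_ker, MonoidHom.range_eq_top.2 hψsurj, Subgroup.card_top,
    Nat.card_congr (ψ.ker.equivMapOfInjective _ S.subtype_injective).toEquiv, hψker,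
    ← Nat.card_congr (N.ker.equivMapOfInjective _ hu).toEquiv, hNcard, IsGalois.card_aut_eq_finrank,
    hK.finrank_eq] at hc
  refine ⟨by rw [← hc, mul_comm], N.ker.map u, ?_, ?_, ?_⟩
  · rw [← hψker]
    exact Subgroup.map_subtype_le _
  · rw [← Nat.card_congr (N.ker.equivMapOfInjective _ hu).toEquiv, hNcard]
  · rintro _ ⟨k, -, rfl⟩
    exact (k : K).2

theorem card_field {K : Subalgebra F (Matrix (Fin 3) (Fin 3) F)} (hK : IsFieldSubalgebra 3 K) :
    Nat.card (subalgebraNormalizer K ⊓ specialLinear (Fin 3) F : Subgroup (GL (Fin 3) F)) =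
      3 * ordS (Fintype.card F) := (card_field_units hK).1

end Cfsg.Lib.Linear.Mitchell.Max
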