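import Cfsg.Agent.Lib.Linear.Mitchell.MaxCardsForms

/-!
# Orders of the similarity groups of quadratic forms in `SL₃`
-/

set_option autoImplicit false
set_option linter.unusedSectionVars false

namespace Cfsg.Lib.Linear.Mitchell.Max

open Cfsg.Geo Cfsg.Lib.Linear MaxArith
open scoped Matrix MatrixGroups

variable {F : Type*} [Field F] [Fintype F] {Q : (Fin 3 → F) → F}

theorem polar_self' (hQ : IsNondegenerateQuadraticForm Q) (v : Fin 3 → F) :
    QuadraticMap.polar Q v v = 2 * Q v := by
  rw [QuadraticMap.polar, ← two_smul F v, hQ.smul]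
  ring

/-- The isometries of a non-degenerate quadratic form in dimension three. -/
theorem card_isometryGroup_three (h2 : (2 : F) ≠ 0) (hQ : IsNondegenerateQuadraticForm Q) :
    Nat.card (isom (QuadraticMap.polar Q)) = 2 * ordO (Fintype.card F) := by
  classical
  let b : LinearMap.BilinForm F (Fin 3 → F) := LinearMap.mk₂ F (QuadraticMap.polar Q) hQ.polar_bilinear.add_left
    hQ.polar_bilinear.smul_left hQ.polar_bilinear.add_right hQ.polar_bilinear.smul_right
  obtain ⟨e, c, he⟩ := OrthSympTransfer.exists_toOrth h2 b (fun x y => QuadraticMap.polar_comm _ x y)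
    (fun a ha => by
      by_contra h0
      obtain ⟨-, x, hx⟩ := hQ.nondegenerate a h0
      exact hx (ha x))
    (n := 1) (by rw [Module.finrank_fintype_fun_eq_card, Fintype.card_fin])
  have he' : ∀ v, Cfsg.quadFormOdd 1 F (e v) = c * 2 * Q v := fun v => by
    rw [he, show b v v = QuadraticMap.polar Q v v from rfl, polar_self' hQ, mul_assoc]
  have hc : c ≠ 0 := by
    rintro rfl
    have h1 := he' (e.symm (Pi.single (Sum.inl ()) 1))
    rw [e.apply_symm_apply, zero_mul, zero_mul] at h1
    simp [Cfsg.quadFormOdd] at h1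
  let Φ : GL (Fin 3) F ≃* GL (Unit ⊕ (Fin 1 ⊕ Fin 1)) F :=
    Matrix.GeneralLinearGroup.toLin.trans ((LinearMap.GeneralLinearGroup.congrLinearEquiv e).trans
      Matrix.GeneralLinearGroup.toLin.symm)
  have hΦ : ∀ (g : GL (Fin 3) F) x, (Φ g).val *ᵥ x = e (g.val *ᵥ e.symm x) := fun g x => by
    simp [Φ, Matrix.GeneralLinearGroup.toLin, LinearMap.GeneralLinearGroup.congrLinearEquiv,
      LinearEquiv.conjRingEquiv]
    show (LinearMap.toMatrix' ((e.toLinearMap ∘ₗ Matrix.toLin' g.val) ∘ₗ e.symm.toLinearMap)) *ᵥ x = _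
    rw [LinearMap.toMatrix'_mulVec]
    simp
  have hiso : Cfsg.isometryGroup F (Cfsg.quadFormOdd 1 F) = (isom (QuadraticMap.polar Q)).map Φ.toMonoidHom := by
    rw [Subgroup.map_equiv_eq_comap_symm']
    ext h
    obtain ⟨g, rfl⟩ := Φ.surjective h
    rw [Subgroup.mem_comap, MulEquiv.coe_toMonoidHom, Φ.symm_apply_apply]
    constructor
    · intro hg u v
      have hQg : ∀ v, Q (g.val *ᵥ v) = Q v := fun v => by
        have h1 : Cfsg.quadFormOdd 1 F ((Φ g).val *ᵥ e v) = Cfsg.quadFormOdd 1 F (e v) := hg (e v) (e v)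
        rw [hΦ, e.symm_apply_apply, he', he'] at h1
        exact mul_left_cancel₀ (mul_ne_zero hc h2) h1
      show QuadraticMap.polar Q (g.val *ᵥ u) (g.val *ᵥ v) = _
      simp only [QuadraticMap.polar, ← Matrix.mulVec_add, hQg]
    · intro hg u _
      show Cfsg.quadFormOdd 1 F ((Φ g).val *ᵥ u) = Cfsg.quadFormOdd 1 F u
      obtain ⟨v, rfl⟩ := e.surjective u
      have h1 : QuadraticMap.polar Q (g.val *ᵥ v) (g.val *ᵥ v) = QuadraticMap.polar Q v v := hg v v
      rw [polar_self' hQ, polar_self' hQ] at h1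
      rw [hΦ, e.symm_apply_apply, he', he', mul_left_cancel₀ h2 h1]
  have h := NondegFix.card_iso_odd h2 1 (F := F)
  rw [hiso] at h
  rw [Nat.card_congr ((isom (QuadraticMap.polar Q)).equivMapOfInjective Φ.toMonoidHom Φ.injective).toEquiv, h]
  simp [NondegFix.sprod, ordO]
  ring

/-- The determinant-one isometries. -/
theorem card_SO_three (h2 : (2 : F) ≠ 0) (hQ : IsNondegenerateQuadraticForm Q) :
    Nat.card (isom (QuadraticMap.polar Q) ⊓ specialLinear (Fin 3) F : Subgroup (GL (Fin 3) F)) =
      ordO (Fintype.card F) := by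
  classical
  set O := isom (QuadraticMap.polar Q)
  let d : O →* Fˣ := Matrix.GeneralLinearGroup.det.comp O.subtype
  have hs := Asch.isSesq_of_bilinear hQ.polar_bilinear hQ.nondegenerate
  have hneg : (-1 : GL (Fin 3) F) ∈ O := fun u v => by
    show QuadraticMap.polar Q ((-1 : GL (Fin 3) F).val *ᵥ u) ((-1 : GL (Fin 3) F).val *ᵥ v) = _
    rw [Units.val_neg, Units.val_one, Matrix.neg_mulVec, Matrix.one_mulVec, Matrix.neg_mulVec, Matrix.one_mulVec,
      ← neg_one_smul F u, ← neg_one_smul F v, hs.smul_left, hs.smul_right]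
    simp
  have hr : d.range = Subgroup.zpowers (-1 : Fˣ) := by
    apply le_antisymm
    · rintro _ ⟨g, rfl⟩
      have hM := Asch.fixes_gram hs (S := matrixSet O)
        (fun s hs' u v => by obtain ⟨x, hx, rfl⟩ := hs'; exact hx u v) _ (Asch.mem_matrixSet g.2)
      have h1 := congrArg Matrix.det hM
      rw [Matrix.det_mul, Matrix.det_mul, Matrix.det_transpose,
        show (g.1.val.map (RingEquiv.refl F)).det = g.1.val.det from by simp] at h1
      have h3 : (d g : F) * (d g : F) = 1 := by
        refine mul_right_cancel₀ (Asch.isUnit_det_gram hs).ne_zero ?_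
        rw [one_mul]
        conv_rhs => rw [← h1]
        show g.1.val.det * g.1.val.det * _ = _
        ring
      rcases mul_self_eq_one_iff.1 h3 with e | e
      · rw [show d g = 1 from Units.ext e]; exact one_mem _
      · rw [show d g = -1 from Units.ext (by simpa using e)]; exact Subgroup.mem_zpowers _
    · rw [Subgroup.zpowers_le]
      exact ⟨⟨-1, hneg⟩, Units.ext (by simp [d, Matrix.det_neg, Odd.neg_one_pow (show Odd 3 by decide)])⟩
  have hz : Nat.card (Subgroup.zpowers (-1 : Fˣ)) = 2 := by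
    rw [Nat.card_zpowers]
    refine orderOf_eq_prime (by simp) fun e => h2 ?_
    have := congrArg Units.val e
    simp only [Units.val_neg, Units.val_one] at this
    linear_combination -this
  have h := d.ker.card_mul_index
  rw [Subgroup.index_ker, hr, hz, card_isometryGroup_three h2 hQ] at h
  have hk : Nat.card d.ker = Nat.card (O ⊓ specialLinear (Fin 3) F : Subgroup (GL (Fin 3) F)) := by
    refine Nat.card_congr
      { toFun := fun g => ⟨g.1.1, g.1.2, g.2⟩
        invFun := fun g => ⟨⟨g.1, g.2.1⟩, g.2.2⟩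
        left_inv := fun _ => rfl
        right_inv := fun _ => rfl }
  omega

theorem card_eq_scalars_mul {S : Subgroup (GL (Fin 3) F)} (hS : S ≤ specialLinear (Fin 3) F)
    (hZ : scalars (Fin 3) F ⊓ specialLinear (Fin 3) F ≤ S) :
    Nat.card S = Nat.card (scalars (Fin 3) F ⊓ specialLinear (Fin 3) F : Subgroup (GL (Fin 3) F)) *
      Nat.card (S.map (modZ (F := F))) := by
  let φ : S →* GL (Fin 3) F ⧸ scalars (Fin 3) F := modZ.comp S.subtype
  have hr : φ.range = S.map (modZ (F := F)) := by
    rw [MonoidHom.range_comp, Subgroup.range_subtype]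
  have hk : φ.ker.map S.subtype = scalars (Fin 3) F ⊓ specialLinear (Fin 3) F := by
    apply le_antisymm
    · rintro _ ⟨g, hg, rfl⟩
      exact ⟨(QuotientGroup.eq_one_iff _).1 (MonoidHom.mem_ker.1 hg), hS g.2⟩
    · intro g hg
      exact ⟨⟨g, hZ hg⟩, MonoidHom.mem_ker.2 ((QuotientGroup.eq_one_iff _).2 hg.1), rfl⟩
  rw [← φ.ker.card_mul_index, Subgroup.index_ker, hr,
    Nat.card_congr (φ.ker.equivMapOfInjective _ S.subtype_injective).toEquiv, hk]

theorem scalars_le_similarity {σ : F ≃+* F} {f : (Fin 3 → F) → (Fin 3 → F) → F} (hf : Asch.IsSesq σ f) :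
    scalars (Fin 3) F ≤ similarityGroup f := fun g hg => by
  obtain ⟨c, hc⟩ := (mem_scalars_iff g).1 hg
  refine ⟨c * Units.map σ.toRingHom.toMonoidHom c, fun u v => ?_⟩
  rw [hc, Matrix.smul_mulVec, Matrix.one_mulVec, Matrix.smul_mulVec, Matrix.one_mulVec, hf.smul_left,
    hf.smul_right]
  simp [mul_assoc]

/-- Modulo scalars, the similarities of determinant one are the special orthogonal group. -/
theorem map_quad (h2 : (2 : F) ≠ 0) (hQ : IsNondegenerateQuadraticForm Q) :
    Nat.card ((quadSimilarityGroup Q ⊓ specialLinear (Fin 3) F).map (modZ (F := F))) = ordO (Fintype.card F) := by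
  have hs := Asch.isSesq_of_bilinear hQ.polar_bilinear hQ.nondegenerate
  rw [Asch.quadSimilarityGroup_eq h2 hQ]
  set O := isom (QuadraticMap.polar Q) ⊓ specialLinear (Fin 3) F with hO
  have he : (similarityGroup (QuadraticMap.polar Q) ⊓ specialLinear (Fin 3) F).map (modZ (F := F)) =
      O.map (modZ (F := F)) := by
    refine le_antisymm ((Subgroup.map_mono
      (similarity_le_sup hs fun v w => QuadraticMap.polar_comm _ v w)).trans (le_of_eq ?_))
      (Subgroup.map_mono (inf_le_inf_right _ (isom_le_similarity _)))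
    rw [Subgroup.map_sup, show (scalars (Fin 3) F).map (modZ (F := F)) = ⊥ from
      (Subgroup.map_eq_bot_iff _).2 (le_of_eq (QuotientGroup.ker_mk' _).symm), sup_bot_eq]
  have hinj : Function.Injective (modZ.comp O.subtype : O →* GL (Fin 3) F ⧸ scalars (Fin 3) F) := by
    rw [injective_iff_map_eq_one]
    intro g hg
    obtain ⟨c, hc⟩ := (mem_scalars_iff _).1 ((QuotientGroup.eq_one_iff _).1 hg)
    have hd : g.1.val.det = 1 := congrArg Units.val (MonoidHom.mem_ker.1 g.2.2)
    have hc : g.1.val = (c : F) • (1 : Matrix (Fin 3) (Fin 3) F) := hc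
    rw [hc, Matrix.det_smul, Matrix.det_one, mul_one, Fintype.card_fin] at hd
    obtain ⟨x, hx⟩ := hs.nondeg (Pi.single 0 1) (by simp)
    have h1 : QuadraticMap.polar Q (g.1.val *ᵥ x) (g.1.val *ᵥ Pi.single 0 1) = _ := g.2.1 x (Pi.single 0 1)
    rw [hc, Matrix.smul_mulVec, Matrix.one_mulVec, Matrix.smul_mulVec, Matrix.one_mulVec, hs.smul_left,
      hs.smul_right, ← mul_assoc] at h1
    have h2' : (c : F) * c = 1 := (mul_eq_right₀ hx).1 h1
    have hc1 : (c : F) = 1 := by linear_combination hd - (c : F) * h2'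
    exact Subtype.ext (Units.ext (by rw [hc, hc1, one_smul, Subgroup.coe_one, Units.val_one]))
  have hr : O.map (modZ (F := F)) = (modZ.comp O.subtype).range := by
    rw [MonoidHom.range_comp, Subgroup.range_subtype]
  rw [he, hr, ← Nat.card_congr (MonoidHom.ofInjective hinj).toEquiv, card_SO_three h2 hQ]

theorem quad_card_dvd (h2 : (2 : F) ≠ 0) (hQ : IsNondegenerateQuadraticForm Q) {S : Subgroup (GL (Fin 3) F)}
    (hS : S ≤ specialLinear (Fin 3) F) (h : S ≤ quadSimilarityGroup Q) :
    Nat.card S ∣ 3 * ordO (Fintype.card F) := by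
  rw [← map_quad h2 hQ]
  exact (Subgroup.card_dvd_of_le (le_inf h hS)).trans (card_dvd_three_mul inf_le_right)

theorem card_quad_eq (h2 : (2 : F) ≠ 0) (hQ : IsNondegenerateQuadraticForm Q) :
    Nat.card (quadSimilarityGroup Q ⊓ specialLinear (Fin 3) F : Subgroup (GL (Fin 3) F)) =
      Nat.card (scalars (Fin 3) F ⊓ specialLinear (Fin 3) F : Subgroup (GL (Fin 3) F)) *
        ordO (Fintype.card F) := by
  rw [card_eq_scalars_mul inf_le_right (inf_le_inf_right _ ?_), map_quad h2 hQ]
  rw [Asch.quadSimilarityGroup_eq h2 hQ]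
  exact scalars_le_similarity (Asch.isSesq_of_bilinear hQ.polar_bilinear hQ.nondegenerate)

end Cfsg.Lib.Linear.Mitchell.Max
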