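import Cfsg.Agent.Lib.Linear.Aschbacher.Linear
import Cfsg.Agent.Lib.Linear.GLTwo

/-!
# Extraspecial groups of order 27 in dimension three and their normalisers

The normaliser in `SL₃` acts on the quotient by the centre through `SL₂(3)` with kernel of order
dividing `27`.
-/

set_option autoImplicit false
set_option linter.unusedSectionVars false
set_option maxHeartbeats 1000000

namespace Cfsg.Lib.Linear.Mitchell.Max

open Cfsg.Geo Cfsg.Lib.Linear
open scoped Matrix MatrixGroups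

variable {F : Type*} [Field F] [Finite F]

/-- An element with three eigenvalues `d, d c, d c²` has determinant `d³`. -/
theorem det_eq_one_of_shift {c : F} (hc : IsPrimitiveRoot c 3) (h3 : ((3 : ℕ) : F) ≠ 0) {g h z : GL (Fin 3) F}
    (hz : (z : Matrix (Fin 3) (Fin 3) F) = c • 1) (hg : g ^ 3 = 1) (hcomm : h * g = z * g * h) :
    g.val.det = 1 := by
  obtain ⟨v, d, hv, hd, hgv⟩ := Asch.exists_eigen_of_pow hc h3 hg
  have hd0 : d ≠ 0 := fun e => by simp [e] at hd
  have hc0 : c ≠ 0 := hc.ne_zero (by norm_num)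
  let μ : Fin 3 → F := fun k => d * (c ^ (k : ℕ))⁻¹
  let w : Fin 3 → (Fin 3 → F) := fun k => (h ^ (k : ℕ)).val *ᵥ v
  have hstep : ∀ (u : Fin 3 → F) (a : F), g.val *ᵥ u = a • u → g.val *ᵥ (h.val *ᵥ u) = (a * c⁻¹) • h.val *ᵥ u := by
    intro u a hu
    have h1 : (z * g * h).val *ᵥ u = (h * g).val *ᵥ u := by rw [hcomm]
    rw [Asch.mul_mulVec (z * g), Asch.mul_mulVec z g, Asch.mul_mulVec h g, hu, hz, Matrix.smul_mulVec,
      Matrix.one_mulVec, Matrix.mulVec_smul] at h1
    rw [mul_comm a, ← smul_smul, ← h1, smul_smul, inv_mul_cancel₀ hc0, one_smul]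
  have hw : ∀ k, g.val *ᵥ w k = μ k • w k := by
    suffices ∀ n : ℕ, g.val *ᵥ ((h ^ n).val *ᵥ v) = (d * (c ^ n)⁻¹) • (h ^ n).val *ᵥ v from fun k => this _
    intro n
    induction n with
    | zero => simpa using hgv
    | succ n ih =>
      rw [pow_succ' h, Asch.mul_mulVec, hstep _ _ ih]
      congr 1
      rw [pow_succ', mul_inv, mul_assoc, mul_comm c⁻¹]
  have hμ : Function.Injective μ := fun i j hij => by
    simp only [μ] at hij
    exact Fin.ext (hc.pow_inj i.2 j.2 (inv_injective (mul_left_cancel₀ hd0 hij)))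
  have hli := Asch.linearIndependent_eigen hμ g.val (fun k => Asch.move_ne_zero _ hv) hw
  let B := basisOfLinearIndependentOfCardEqFinrank hli (by rw [Module.finrank_fintype_fun_eq_card])
  have hB : ∀ k, B k = w k := fun k => congrFun (coe_basisOfLinearIndependentOfCardEqFinrank hli _) k
  have hM : LinearMap.toMatrix B B (Matrix.toLin' g.val) = Matrix.diagonal μ := by
    ext i j
    rw [LinearMap.toMatrix_apply, Matrix.toLin'_apply, hB, hw, map_smul, ← hB, B.repr_self, Matrix.diagonal_apply,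
      Finsupp.smul_apply, Finsupp.single_apply, smul_eq_mul]
    split_ifs with h1 h2 h2
    · rw [mul_one, h1]
    · exact absurd h1.symm h2
    · exact absurd h2.symm h1
    · exact mul_zero _
  have := congrArg Matrix.det hM
  rw [LinearMap.det_toMatrix, LinearMap.det_toLin', Matrix.det_diagonal, Fin.prod_univ_three] at this
  rw [this]
  have hc3 : c ^ 3 = 1 := hc.pow_eq_one
  simp only [μ, Fin.val_zero, Fin.val_one, Fin.val_two]
  field_simp
  linear_combination hd - hc3

/-- A symplectic-type 3-group acting absolutely irreducibly in dimension three is extraspecial of order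
27 and lies in `SL₃`. -/
theorem exists_extra {R : Subgroup (GL (Fin 3) F)} (hsymp : IsSymplecticTypeGroup 3 R)
    (habs : ActsAbsolutelyIrreducibly (matrixSet R)) (hcent : Nat.card (Subgroup.center R) = 3)
    (hcard : ∃ m, Nat.card R = 3 ^ (1 + 2 * m)) :
    ∃ c x y z, Asch.Extra 3 R c x y z ∧ z ∈ R ∧ R ≤ specialLinear (Fin 3) F := by
  classical
  haveI : Fact (Nat.Prime 3) := ⟨Nat.prime_three⟩
  have hexp : ∀ g ∈ R, g ^ 3 = 1 := fun g hg => by
    have h := Monoid.pow_exponent_eq_one (⟨g, hg⟩ : R)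
    rw [hsymp.exponent_eq, show 3 * Nat.gcd 2 3 = 3 by norm_num] at h
    exact congrArg Subtype.val h
  have hns : ¬ R ≤ scalars (Fin 3) F := fun h => Asch.not_irr_scalars (by simp) h habs.1
  -- the centre
  obtain ⟨z0, hz0⟩ : ∃ z0 : Subgroup.center R, z0 ≠ 1 := by
    haveI : Nontrivial (Subgroup.center R) := Finite.one_lt_card_iff_nontrivial.1 (by omega)
    exact exists_ne 1
  set z : GL (Fin 3) F := ((z0 : R) : GL (Fin 3) F) with hzdef
  have hzR : z ∈ R := (z0 : R).2
  have hzsc : z ∈ scalars (Fin 3) F := Asch.absIrr_center habs fun g hg =>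
    (congrArg Subtype.val (Subgroup.mem_center_iff.1 z0.2 ⟨g, hg⟩)).symm
  obtain ⟨c, hzc⟩ := (mem_scalars_iff z).1 hzsc
  have hz1 : z ≠ 1 := fun e => hz0 (Subtype.ext (Subtype.ext e))
  have hcpow : ∀ n : ℕ, (z ^ n).val = ((c : F) ^ n) • (1 : Matrix (Fin 3) (Fin 3) F) :=
    fun n => Asch.scalar_pow hzc n
  have hc3 : (c : F) ^ 3 = 1 := by
    have h := congrArg Units.val (hexp z hzR)
    rw [hcpow] at h
    simpa using congrFun (congrFun h 0) 0
  have hc1 : (c : F) ≠ 1 := fun e => hz1 (Units.ext (by rw [hzc, e, one_smul, Units.val_one]))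
  have hprim : IsPrimitiveRoot (c : F) 3 := by
    have h := IsPrimitiveRoot.orderOf (c : F)
    rwa [orderOf_eq_prime hc3 hc1] at h
  have h30 : ((3 : ℕ) : F) ≠ 0 := fun h => by
    haveI : CharP F 3 := (CharP.charP_iff_prime_eq_zero Nat.prime_three).2 h
    have h1 : ((c : F) - 1) ^ 3 = 0 := by rw [sub_pow_char, hc3, one_pow, sub_self]
    exact hc1 (sub_eq_zero.1 (pow_eq_zero_iff (by norm_num) |>.1 h1))
  have hzc' : ∀ g : GL (Fin 3) F, ∀ n, g * z ^ n = z ^ n * g := fun g n =>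
    Asch.scalars_comm (pow_mem hzsc n)
  have hord : orderOf z = 3 := orderOf_eq_prime (hexp z hzR) hz1
  -- central elements are powers of `z`
  have hcenter : ∀ g : R, g ∈ Subgroup.center R → ∃ n : ℕ, (g : GL (Fin 3) F) = z ^ n := by
    intro g hg
    have hgen : Subgroup.zpowers z0 = ⊤ := by
      apply Subgroup.eq_top_of_card_eq
      rw [Nat.card_zpowers, hcent]
      refine orderOf_eq_prime (Subtype.ext (Subtype.ext ?_)) hz0
      simpa using hexp z hzR
    obtain ⟨n, hn⟩ := mem_powers_iff_mem_zpowers.2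
      (show (⟨g, hg⟩ : Subgroup.center R) ∈ Subgroup.zpowers z0 by rw [hgen]; trivial)
    exact ⟨n, by
      have h1 := congrArg (fun u : Subgroup.center R => ((u : R) : GL (Fin 3) F)) hn
      simpa using h1.symm⟩
  -- the second centre
  have hRne : Subgroup.center R ≠ ⊤ := fun h => hns fun g hg => by
    obtain ⟨n, hn⟩ := hcenter ⟨g, hg⟩ (h ▸ Subgroup.mem_top _)
    have hn' : g = z ^ n := hn
    exact hn' ▸ pow_mem hzsc n
  haveI : Nontrivial (R ⧸ Subgroup.center R) := QuotientGroup.nontrivial_iff.2 hRne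
  haveI : Nontrivial (Subgroup.center (R ⧸ Subgroup.center R)) :=
    (hsymp.pGroup.to_quotient _).center_nontrivial
  obtain ⟨⟨yb, hyb⟩, hyb1⟩ := exists_ne (1 : Subgroup.center (R ⧸ Subgroup.center R))
  obtain ⟨yR, rfl⟩ := QuotientGroup.mk_surjective yb
  set y : GL (Fin 3) F := (yR : GL (Fin 3) F) with hydef
  have hy : y ∈ R := yR.2
  have hy1 : yR ∉ Subgroup.center R := fun h => hyb1 (Subtype.ext ((QuotientGroup.eq_one_iff _).2 h))
  have hconj : ∀ g ∈ R, ∃ n : ℕ, g * y = z ^ n * y * g := by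
    intro g hg
    have h := Subgroup.mem_center_iff.1 hyb (QuotientGroup.mk ⟨g, hg⟩)
    rw [← QuotientGroup.mk_mul, ← QuotientGroup.mk_mul, QuotientGroup.eq] at h
    obtain ⟨n, hn⟩ := hcenter _ h
    simp only [Subgroup.coe_mul, Subgroup.coe_inv] at hn
    -- `(g y)⁻¹ (y g) = z ^ n`
    refine ⟨2 * n, ?_⟩
    have hz3 : z ^ (3 * n) = 1 := by rw [pow_mul, hexp z hzR, one_pow]
    have e : y * g = g * y * z ^ n := by rw [← hn]; exact (mul_inv_cancel_left (g * y) (y * g)).symm
    calc g * y = g * y * z ^ (3 * n) := by rw [hz3, mul_one]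
      _ = g * y * z ^ n * z ^ (2 * n) := by rw [mul_assoc _ (z ^ n), ← pow_add]; congr 2; ring
      _ = z ^ (2 * n) * (g * y * z ^ n) := hzc' _ _
      _ = z ^ (2 * n) * y * g := by rw [← e, mul_assoc]
  obtain ⟨x, hx, k, hk, hxyk⟩ : ∃ x ∈ R, ∃ k : ℕ, z ^ k ≠ 1 ∧ x * y = z ^ k * y * x := by
    by_contra hne
    push Not at hne
    refine hy1 (Subgroup.mem_center_iff.2 fun g => Subtype.ext ?_)
    obtain ⟨n, hn⟩ := hconj g g.2
    rw [Subgroup.coe_mul, Subgroup.coe_mul]
    by_contra hcomm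
    refine hne g g.2 n (fun e => hcomm ?_) hn
    rw [hn, e, one_mul]
  -- normalise the commutator to `z`
  obtain ⟨x, hx, hxy⟩ : ∃ x ∈ R, x * y = z * y * x := by
    have hk2 : k % 3 = 1 ∨ k % 3 = 2 := by
      have : k % 3 ≠ 0 := fun e => hk (by rw [← pow_mod_orderOf, hord, e, pow_zero])
      omega
    have hzk : z ^ k = z ^ (k % 3) := by rw [← pow_mod_orderOf z k, hord]
    rcases hk2 with e | e
    · exact ⟨x, hx, by rwa [hzk, e, pow_one] at hxyk⟩
    · refine ⟨x ^ 2, pow_mem hx 2, ?_⟩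
      rw [hzk, e] at hxyk
      calc x ^ 2 * y = x * (x * y) := by rw [sq, mul_assoc]
        _ = x * z ^ 2 * y * x := by rw [hxyk]; group
        _ = z ^ 2 * (x * y) * x := by rw [hzc' x 2]; group
        _ = z ^ 4 * y * x ^ 2 := by rw [hxyk, sq x, show (4 : ℕ) = 2 + 2 from rfl, pow_add]; group
        _ = z * y * x ^ 2 := by rw [← pow_mod_orderOf z 4, hord]; norm_num
  have hyx : y * x = z ^ 2 * x * y := by
    calc y * x = z ^ 3 * (y * x) := by rw [hexp z hzR, one_mul]
      _ = z ^ 2 * (z * y * x) := by rw [pow_succ z 2]; group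
      _ = _ := by rw [← hxy]; group
  have hdety : y.val.det = 1 := det_eq_one_of_shift hprim h30 hzc (hexp y hy) hxy
  have hdetx : x.val.det = 1 := by
    have h2 : (z ^ 2).val = ((c : F) ^ 2) • (1 : Matrix (Fin 3) (Fin 3) F) := hcpow 2
    exact det_eq_one_of_shift (hprim.pow_of_coprime 2 (by norm_num)) h30 h2 (hexp x hx) hyx
  -- the centraliser of `y` is small
  set C : Subgroup R := Subgroup.centralizer {yR} with hC
  have hCindex : ∀ g ∈ R, ∃ j : ℕ, (x ^ j)⁻¹ * g * y = y * ((x ^ j)⁻¹ * g) ∧ j < 3 := by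
    intro g hg
    obtain ⟨n, hn⟩ := hconj g hg
    have hxn : ∀ m : ℕ, x ^ m * y = z ^ m * y * x ^ m := by
      intro m
      induction m with
      | zero => simp
      | succ m ih =>
        calc x ^ (m + 1) * y = x * (x ^ m * y) := by rw [pow_succ', mul_assoc]
          _ = x * z ^ m * y * x ^ m := by rw [ih]; group
          _ = z ^ m * (x * y) * x ^ m := by rw [hzc' x m]; group
          _ = z ^ (m + 1) * y * x ^ (m + 1) := by rw [hxy, pow_succ z, pow_succ' x]; group
    refine ⟨n % 3, ?_, Nat.mod_lt _ (by norm_num)⟩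
    have e : z ^ n = z ^ (n % 3) := by rw [← pow_mod_orderOf z n, hord]
    rw [e] at hn
    rw [mul_assoc, inv_mul_eq_iff_eq_mul, ← mul_assoc, ← mul_assoc, hxn, hn, mul_assoc _ (x ^ (n % 3)),
      mul_inv_cancel, mul_one]
  obtain ⟨v, d, hv, hd, hyv⟩ := Asch.exists_eigen_of_pow hprim h30 (hexp y hy)
  let w : Fin 3 → (Fin 3 → F) := fun i => (x ^ (i : ℕ)).val *ᵥ v
  let μ : Fin 3 → F := fun i => d * ((c : F) ^ (i : ℕ))⁻¹
  have hw : ∀ i, y.val *ᵥ w i = μ i • w i := by
    suffices ∀ n : ℕ, y.val *ᵥ ((x ^ n).val *ᵥ v) = (d * ((c : F) ^ n)⁻¹) • (x ^ n).val *ᵥ v from fun i => this _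
    intro n
    induction n with
    | zero => simpa using hyv
    | succ n ih =>
      have h1 : (z * y * x).val *ᵥ ((x ^ n).val *ᵥ v) = (x * y).val *ᵥ ((x ^ n).val *ᵥ v) := by rw [hxy]
      rw [Asch.mul_mulVec (z * y), Asch.mul_mulVec z y, Asch.mul_mulVec x y, ih, hzc, Matrix.smul_mulVec,
        Matrix.one_mulVec, Matrix.mulVec_smul] at h1
      rw [pow_succ' x, Asch.mul_mulVec, pow_succ', mul_inv, mul_left_comm, ← smul_smul _ _ (x.val *ᵥ _), ← h1,
        smul_smul, inv_mul_cancel₀ c.ne_zero, one_smul]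
  have hd0 : d ≠ 0 := fun e => by simp [e] at hd
  have hμ : Function.Injective μ := fun i j hij => by
    simp only [μ] at hij
    exact Fin.ext (hprim.pow_inj i.2 j.2 (inv_injective (mul_left_cancel₀ hd0 hij)))
  have hli := Asch.linearIndependent_eigen hμ y.val (fun k => Asch.move_ne_zero _ hv) hw
  let B := basisOfLinearIndependentOfCardEqFinrank hli (by rw [Module.finrank_fintype_fun_eq_card])
  have hB : ∀ i, B i = w i := fun i => congrFun (coe_basisOfLinearIndependentOfCardEqFinrank hli _) i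
  have hdiag : ∀ g : C, ∀ i, ∃ a : Fin 3, ((g : R) : GL (Fin 3) F).val *ᵥ w i = ((c : F) ^ (a : ℕ)) • w i := by
    intro g i
    set gg := ((g : R) : GL (Fin 3) F)
    have hgy : gg * y = y * gg := congrArg Subtype.val (Subgroup.mem_centralizer_singleton_iff.1 g.2)
    have he : y.val *ᵥ (gg.val *ᵥ w i) = μ i • (gg.val *ᵥ w i) := by
      rw [← Asch.mul_mulVec, ← hgy, Asch.mul_mulVec, hw, Matrix.mulVec_smul]
    have hco : ∀ j, j ≠ i → B.repr (gg.val *ᵥ w i) j = 0 := by
      intro j hj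
      have h1 := congrArg (fun u => B.repr (y.val *ᵥ u) j) (B.sum_repr (gg.val *ᵥ w i))
      simp only [Matrix.mulVec_sum, Matrix.mulVec_smul, hB, hw, he] at h1
      simp only [← hB, map_sum, map_smul, B.repr_self, Finsupp.finset_sum_apply, Finsupp.smul_apply,
        Finsupp.single_apply, smul_eq_mul, mul_ite, mul_one, mul_zero, Finset.sum_ite_eq',
        Finset.mem_univ, if_true] at h1
      rw [hB] at h1
      have := mul_comm (μ i) (B.repr (gg.val *ᵥ w i) j)
      have h2 : (μ j - μ i) * B.repr (gg.val *ᵥ w i) j = 0 := by linear_combination h1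
      exact (mul_eq_zero.1 h2).resolve_left (sub_ne_zero.2 (hμ.ne hj))
    obtain ⟨a, ha⟩ : ∃ a : F, gg.val *ᵥ w i = a • w i := ⟨B.repr (gg.val *ᵥ w i) i, by
      conv_lhs => rw [← B.sum_repr (gg.val *ᵥ w i)]
      rw [Finset.sum_eq_single i (fun j _ hj => by rw [hco j hj, zero_smul]) (by simp), hB]⟩
    have ha3 : a ^ 3 = 1 := by
      have h3 := congrArg (fun u : GL (Fin 3) F => u.val *ᵥ w i) (hexp gg (g : R).2)
      simp only [pow_succ, pow_zero, one_mul, Asch.mul_mulVec, ha, Matrix.mulVec_smul, smul_smul,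
        Units.val_one, Matrix.one_mulVec] at h3
      have h4 : (a * (a * a) - 1) • w i = 0 := by rw [sub_smul, one_smul, sub_eq_zero]; exact h3
      have := (smul_eq_zero.1 h4).resolve_right (Asch.move_ne_zero _ hv)
      linear_combination this
    obtain ⟨n, hn, hn'⟩ := hprim.eq_pow_of_pow_eq_one ha3
    exact ⟨⟨n, hn⟩, by rw [ha, hn']⟩
  choose α hα using hdiag
  have hαinj : Function.Injective α := fun g h e => by
    refine Subtype.ext (Subtype.ext (Units.ext (Matrix.toLin'.injective (B.ext fun i => ?_))))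
    rw [Matrix.toLin'_apply, Matrix.toLin'_apply, hB, hα, hα, e]
  have hCle : Nat.card C ≤ 27 := by
    have := Nat.card_le_card_of_injective α hαinj
    simpa using this
  have hRle : Nat.card R ≤ 81 := by
    choose j hj hjlt using hCindex
    let u : R → R := fun g => ⟨(x ^ j g g.2)⁻¹ * g.1, mul_mem (inv_mem (pow_mem hx _)) g.2⟩
    have hu : ∀ g : R, u g ∈ C := fun g => by
      rw [hC, Subgroup.mem_centralizer_singleton_iff]
      apply Subtype.ext
      rw [Subgroup.coe_mul, Subgroup.coe_mul]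
      exact hj g g.2
    let φ : R → Fin 3 × C := fun g => (⟨j g g.2, hjlt g g.2⟩, ⟨u g, hu g⟩)
    have hφ : Function.Injective φ := fun g h e => by
      simp only [φ, u, Prod.mk.injEq, Fin.mk.injEq, Subtype.mk.injEq] at e
      obtain ⟨e1, e2⟩ := e
      rw [e1] at e2
      exact Subtype.ext (mul_left_cancel e2)
    refine (Nat.card_le_card_of_injective φ hφ).trans ?_
    rw [Nat.card_prod, Nat.card_eq_fintype_card (α := Fin 3), Fintype.card_fin]
    omega
  obtain ⟨m, hm⟩ := hcard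
  have hm1 : m = 1 := by
    rcases (show m = 0 ∨ m = 1 ∨ 2 ≤ m by omega) with rfl | rfl | h2
    · exfalso
      refine hRne (Subgroup.eq_top_of_card_eq _ ?_)
      rw [hcent, hm]
      norm_num
    · rfl
    · exfalso
      have := Nat.pow_le_pow_right (show 0 < 3 by norm_num) (show 5 ≤ 1 + 2 * m by omega)
      omega
  subst hm1
  have hm27 : Nat.card R = 27 := by rw [hm]; norm_num
  -- every element is `x ^ i * y ^ j * z ^ k`
  let mk : Fin 3 × Fin 3 × Fin 3 → R := fun t =>
    ⟨x ^ (t.1 : ℕ) * y ^ (t.2.1 : ℕ) * z ^ (t.2.2 : ℕ),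
      mul_mem (mul_mem (pow_mem hx _) (pow_mem hy _)) (pow_mem hzR _)⟩
  have hmk : Function.Injective mk := by
    intro t t' e
    have e' : x ^ (t.1 : ℕ) * y ^ (t.2.1 : ℕ) * z ^ (t.2.2 : ℕ) =
        x ^ (t'.1 : ℕ) * y ^ (t'.2.1 : ℕ) * z ^ (t'.2.2 : ℕ) := congrArg Subtype.val e
    have hy' : ∀ n i, (y ^ n).val *ᵥ w i = μ i ^ n • w i := by
      intro n i
      induction n with
      | zero => simp
      | succ n ih => rw [pow_succ', Asch.mul_mulVec, ih, Matrix.mulVec_smul, hw, smul_smul, pow_succ]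
    have hx' : ∀ (n : ℕ) (i : Fin 3), (x ^ n).val *ᵥ w i = w ⟨((i : ℕ) + n) % 3, Nat.mod_lt _ (by norm_num)⟩ := by
      intro n i
      simp only [w]
      rw [← Asch.mul_mulVec, ← pow_add, add_comm n, pow_eq_pow_mod _ (hexp x hx)]
    have happ : ∀ (u : Fin 3 × Fin 3 × Fin 3) (i : Fin 3),
        (x ^ (u.1 : ℕ) * y ^ (u.2.1 : ℕ) * z ^ (u.2.2 : ℕ)).val *ᵥ w i =
          ((c : F) ^ (u.2.2 : ℕ) * μ i ^ (u.2.1 : ℕ)) •
            w ⟨((i : ℕ) + u.1) % 3, Nat.mod_lt _ (by norm_num)⟩ := fun u i => by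
      rw [Asch.mul_mulVec, hcpow, Matrix.smul_mulVec, Matrix.one_mulVec, Matrix.mulVec_smul, Asch.mul_mulVec,
        hy', Matrix.mulVec_smul, hx', smul_smul]
    have hco : ∀ i : Fin 3, ((i : ℕ) + t.1) % 3 = ((i : ℕ) + t'.1) % 3 ∧
        (c : F) ^ (t.2.2 : ℕ) * μ i ^ (t.2.1 : ℕ) = (c : F) ^ (t'.2.2 : ℕ) * μ i ^ (t'.2.1 : ℕ) := by
      intro i
      have h := congrArg (fun u : GL (Fin 3) F => B.repr (u.val *ᵥ w i)) e'
      simp only [happ] at h
      simp only [map_smul, ← hB, B.repr_self, Finsupp.smul_single, smul_eq_mul, mul_one] at h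
      rcases (Finsupp.single_eq_single_iff _ _ _ _).1 h with ⟨h1, h2⟩ | ⟨h1, -⟩
      · exact ⟨congrArg Fin.val h1, h2⟩
      · exact absurd h1 (mul_ne_zero (pow_ne_zero _ c.ne_zero)
          (pow_ne_zero _ (mul_ne_zero hd0 (inv_ne_zero (pow_ne_zero _ c.ne_zero)))))
    obtain ⟨a0, b0⟩ := hco 0
    obtain ⟨-, b1⟩ := hco 1
    have e1 : t.1 = t'.1 := by
      have := t.1.2; have := t'.1.2
      simp only [Fin.val_zero, zero_add] at a0
      exact Fin.ext (by omega)
    simp only [μ, Fin.val_zero, pow_zero, inv_one, mul_one, Fin.val_one, pow_one, mul_pow, ← mul_assoc] at b0 b1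
    rw [b0] at b1
    have e2 : t.2.1 = t'.2.1 := Fin.ext (hprim.pow_inj t.2.1.2 t'.2.1.2 (by
      have h5 := mul_left_cancel₀ (mul_ne_zero (pow_ne_zero _ c.ne_zero) (pow_ne_zero _ hd0)) b1
      rwa [inv_pow, inv_pow, inv_inj] at h5))
    rw [e2] at b0
    have e3 : t.2.2 = t'.2.2 := Fin.ext (hprim.pow_inj t.2.2.2 t'.2.2.2
      (mul_right_cancel₀ (pow_ne_zero _ hd0) b0))
    exact Prod.ext e1 (Prod.ext e2 e3)
  have hbij := (Nat.bijective_iff_injective_and_card mk).2 ⟨hmk, by simp [hm27]⟩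
  have hgen : ∀ g ∈ R, ∃ i j k : ℕ, g = x ^ i * y ^ j * z ^ k := fun g hg => by
    obtain ⟨t, ht⟩ := hbij.2 ⟨g, hg⟩
    exact ⟨t.1, t.2.1, t.2.2, (congrArg Subtype.val ht).symm⟩
  refine ⟨c, y, x, z, ⟨hsymp, habs, by rw [hm27]; norm_num, hcent, hprim, h30, hy, hx, hzc, hexp y hy,
    hexp x hx, hxy, fun g hg => ?_⟩, hzR, fun g hg => ?_⟩
  · obtain ⟨i, j, k, rfl⟩ := hgen g hg
    have hxy' : ∀ i j : ℕ, x ^ i * y ^ j = z ^ (i * j) * y ^ j * x ^ i := by
      have h1 : ∀ j, x * y ^ j = z ^ j * y ^ j * x := by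
        intro j
        induction j with
        | zero => simp
        | succ j ih =>
          calc x * y ^ (j + 1) = (x * y ^ j) * y := by rw [pow_succ, mul_assoc]
            _ = z ^ j * y ^ j * (x * y) := by rw [ih]; group
            _ = z ^ j * (y ^ j * z ^ 1) * y * x := by rw [hxy]; group
            _ = z ^ (j + 1) * y ^ (j + 1) * x := by rw [hzc' _ 1, pow_succ z, pow_succ y]; group
      intro i j
      induction i with
      | zero => simp
      | succ i ih =>
        calc x ^ (i + 1) * y ^ j = x * (x ^ i * y ^ j) := by rw [pow_succ', mul_assoc]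
          _ = (x * z ^ (i * j)) * y ^ j * x ^ i := by rw [ih]; group
          _ = z ^ (i * j) * (x * y ^ j) * x ^ i := by rw [hzc']; group
          _ = z ^ (i * j + j) * y ^ j * x ^ (i + 1) := by rw [h1, pow_add, pow_succ' x]; group
          _ = _ := by rw [add_one_mul]
    refine ⟨j, i, i * j + k, ?_⟩
    rw [hxy', mul_assoc (z ^ (i * j)), ← hzc' _ (i * j), pow_add]
    group
  · obtain ⟨i, j, k, rfl⟩ := hgen g hg
    have hmem : ∀ u : GL (Fin 3) F, u.val.det = 1 → u ∈ specialLinear (Fin 3) F := fun u hu =>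
      MonoidHom.mem_ker.2 (Units.ext hu)
    refine mul_mem (mul_mem (pow_mem (hmem x hdetx) i) (pow_mem (hmem y hdety) j)) (pow_mem (hmem z ?_) k)
    rw [hzc, Matrix.det_smul, Matrix.det_one, mul_one, Fintype.card_fin, hc3]

end Cfsg.Lib.Linear.Mitchell.Max
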