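import Cfsg.Agent.Lib.Linear.Mitchell.MaxExtra

/-!
# The action of the normaliser of an extraspecial group of order 27 on the quotient by the centre
-/

set_option autoImplicit false
set_option linter.unusedSectionVars false

namespace Cfsg.Lib.Linear.Mitchell.Max

open Cfsg.Geo Cfsg.Lib.Linear
open scoped Matrix MatrixGroups

variable {F : Type*} [Field F] [Finite F] {R : Subgroup (GL (Fin 3) F)} {c : F} {x y z : GL (Fin 3) F}

theorem extra_z_mem (hR : Asch.Extra 3 R c x y z) : z ∈ R := by
  have h : z = y * x * y⁻¹ * x⁻¹ := by rw [hR.comm]; group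
  rw [h]
  exact mul_mem (mul_mem (mul_mem hR.mem_y hR.mem_x) (inv_mem hR.mem_y)) (inv_mem hR.mem_x)

theorem extra_z_scalar (hR : Asch.Extra 3 R c x y z) : z ∈ scalars (Fin 3) F :=
  Asch.mem_scalars_of_smul hR.coe_z

theorem extra_z_pow (hR : Asch.Extra 3 R c x y z) : z ^ 3 = 1 :=
  Units.ext (by rw [Asch.scalar_pow hR.coe_z, hR.prim.pow_eq_one, one_smul, Units.val_one])

/-- Coordinates on the group: `x ^ a * y ^ b * z ^ k`. -/
theorem exists_coords (hR : Asch.Extra 3 R c x y z) :
    ∃ e : (ZMod 3 × ZMod 3 × ZMod 3) ≃ R,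
      (∀ a, (e a : GL (Fin 3) F) = x ^ a.1.val * y ^ a.2.1.val * z ^ a.2.2.val) ∧
      ∀ a b, e a * e b = e (a.1 + b.1, a.2.1 + b.2.1, a.2.2 + b.2.2 + a.2.1 * b.1) := by
  classical
  have hz3 := extra_z_pow hR
  have hzR := extra_z_mem hR
  have hzc : ∀ (g : GL (Fin 3) F) (n : ℕ), g * z ^ n = z ^ n * g := fun g n =>
    Asch.scalars_comm (pow_mem (extra_z_scalar hR) n)
  let f : ZMod 3 × ZMod 3 × ZMod 3 → R := fun a =>
    ⟨x ^ a.1.val * y ^ a.2.1.val * z ^ a.2.2.val,
      mul_mem (mul_mem (pow_mem hR.mem_x _) (pow_mem hR.mem_y _)) (pow_mem hzR _)⟩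
  have hmod : ∀ {g : GL (Fin 3) F}, g ^ 3 = 1 → ∀ n : ℕ, g ^ n = g ^ (n : ZMod 3).val := fun {g} hg n => by
    rw [ZMod.val_natCast, ← pow_eq_pow_mod n hg]
  have hf : ∀ i j k : ℕ, (f ((i : ZMod 3), (j : ZMod 3), (k : ZMod 3)) : GL (Fin 3) F) = x ^ i * y ^ j * z ^ k :=
    fun i j k => by
    show x ^ _ * y ^ _ * z ^ _ = _
    rw [← hmod hR.pow_x, ← hmod hR.pow_y, ← hmod hz3]
  have hsurj : Function.Surjective f := fun g => by
    obtain ⟨i, j, k, hg⟩ := hR.gen g g.2
    exact ⟨_, Subtype.ext (by rw [hf, hg])⟩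
  have hbij : Function.Bijective f := (Nat.bijective_iff_surjective_and_card f).2 ⟨hsurj, by
    rw [hR.card]; simp⟩
  have hyx : ∀ i j : ℕ, y ^ j * x ^ i = z ^ (j * i) * x ^ i * y ^ j := by
    have h1 : ∀ j, y ^ j * x = z ^ j * x * y ^ j := by
      intro j
      induction j with
      | zero => simp
      | succ j ih =>
        calc y ^ (j + 1) * x = y * (y ^ j * x) := by rw [pow_succ', mul_assoc]
          _ = (y * z ^ j) * x * y ^ j := by rw [ih]; group
          _ = z ^ j * (y * x) * y ^ j := by rw [hzc]; group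
          _ = z ^ (j + 1) * x * y ^ (j + 1) := by rw [hR.comm, pow_succ, pow_succ' y]; group
    intro i j
    induction i with
    | zero => simp
    | succ i ih =>
      calc y ^ j * x ^ (i + 1) = (y ^ j * x ^ i) * x := by rw [pow_succ, mul_assoc]
        _ = z ^ (j * i) * (x ^ i * z ^ j) * x * y ^ j := by rw [ih, mul_assoc _ (y ^ j), h1]; group
        _ = z ^ (j * (i + 1)) * x ^ (i + 1) * y ^ j := by rw [hzc, mul_add, mul_one, pow_add, pow_succ x]; group
  refine ⟨Equiv.ofBijective f hbij, fun a => rfl, fun a b => ?_⟩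
  obtain ⟨a1, a2, a3⟩ := a
  obtain ⟨b1, b2, b3⟩ := b
  show f _ * f _ = f _
  apply Subtype.ext
  rw [Subgroup.coe_mul]
  conv_rhs => rw [← ZMod.natCast_zmod_val a1, ← ZMod.natCast_zmod_val b1, ← ZMod.natCast_zmod_val a2,
    ← ZMod.natCast_zmod_val b2, ← ZMod.natCast_zmod_val a3, ← ZMod.natCast_zmod_val b3]
  simp only [← Nat.cast_add, ← Nat.cast_mul]
  rw [hf]
  show x ^ a1.val * y ^ a2.val * z ^ a3.val * (x ^ b1.val * y ^ b2.val * z ^ b3.val) = _
  calc _ = x ^ a1.val * y ^ a2.val * (z ^ a3.val * (x ^ b1.val * y ^ b2.val)) * z ^ b3.val := by group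
    _ = x ^ a1.val * y ^ a2.val * (x ^ b1.val * y ^ b2.val * z ^ a3.val) * z ^ b3.val := by
        rw [← hzc (x ^ b1.val * y ^ b2.val)]
    _ = x ^ a1.val * (y ^ a2.val * x ^ b1.val) * y ^ b2.val * (z ^ a3.val * z ^ b3.val) := by group
    _ = (x ^ a1.val * z ^ (a2.val * b1.val)) * x ^ b1.val * y ^ a2.val * y ^ b2.val *
          (z ^ a3.val * z ^ b3.val) := by rw [hyx]; group
    _ = z ^ (a2.val * b1.val) * (x ^ a1.val * x ^ b1.val * (y ^ a2.val * y ^ b2.val)) *
          (z ^ a3.val * z ^ b3.val) := by rw [hzc (x ^ a1.val)]; group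
    _ = x ^ (a1.val + b1.val) * y ^ (a2.val + b2.val) *
          (z ^ (a2.val * b1.val) * (z ^ a3.val * z ^ b3.val)) := by
        rw [← pow_add x, ← pow_add y, ← hzc]; group
    _ = _ := by rw [← pow_add, ← pow_add]; congr 2; ring

theorem sl_two_three_involution : ∀ A B : Matrix (Fin 2) (Fin 2) (ZMod 3), A.det = 1 → B.det = 1 →
    A * A = 1 → B * B = 1 → A = 1 ∨ B = 1 ∨ A * B = 1 := by decide +kernel

/-- The action on the quotient by the centre. -/
structure Action (R S : Subgroup (GL (Fin 3) F)) where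
  /-- The coordinates modulo the centre. -/
  proj : R →* Multiplicative (Fin 2 → ZMod 3)
  /-- The representation. -/
  rep : S →* Matrix.SpecialLinearGroup (Fin 2) (ZMod 3)
  surj : Function.Surjective proj
  ker_proj : ∀ w : R, proj w = 1 → (w : GL (Fin 3) F) ∈ scalars (Fin 3) F
  act : ∀ (g : S) (w w' : R), (w' : GL (Fin 3) F) = g * w * (g : GL (Fin 3) F)⁻¹ →
    Multiplicative.toAdd (proj w') = (rep g).1 *ᵥ Multiplicative.toAdd (proj w)
  ker_card : Nat.card rep.ker ∣ 27

theorem exists_action' (hR : Asch.Extra 3 R c x y z) {S : Subgroup (GL (Fin 3) F)}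
    (hS : S ≤ specialLinear (Fin 3) F) (hn : ∀ g ∈ S, ∀ a ∈ R, g * a * g⁻¹ ∈ R) :
    ∃ T : Action R S, Multiplicative.toAdd (T.proj ⟨x, hR.mem_x⟩) = ![1, 0] ∧
      Multiplicative.toAdd (T.proj ⟨y, hR.mem_y⟩) = ![0, 1] := by
  classical
  obtain ⟨e, he, hmul⟩ := exists_coords hR
  let pr : R →* Multiplicative (Fin 2 → ZMod 3) := MonoidHom.mk'
    (fun w => Multiplicative.ofAdd ![(e.symm w).1, (e.symm w).2.1]) (fun v w => by
      obtain ⟨a, rfl⟩ := e.surjective v
      obtain ⟨b, rfl⟩ := e.surjective w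
      rw [hmul, e.symm_apply_apply, e.symm_apply_apply, e.symm_apply_apply, ← ofAdd_add]
      congr 1
      ext i; fin_cases i <;> rfl)
  have hsurj : Function.Surjective pr := fun v => ⟨e (Multiplicative.toAdd v 0, Multiplicative.toAdd v 1, 0), by
    apply Multiplicative.toAdd.injective
    show ![_, _] = _
    rw [e.symm_apply_apply]
    ext i; fin_cases i <;> rfl⟩
  have hker : ∀ w : R, pr w = 1 → (w : GL (Fin 3) F) ∈ scalars (Fin 3) F := fun w hw => by
    obtain ⟨⟨a, b, k⟩, rfl⟩ := e.surjective w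
    have h := congrArg Multiplicative.toAdd hw
    have h0 := congrFun h 0
    have h1 := congrFun h 1
    simp [pr] at h0 h1
    rw [he, h0, h1]
    simpa using pow_mem (extra_z_scalar hR) k.val
  let cj : S → R →* R := fun g =>
    { toFun := fun w => ⟨g * w * (g : GL (Fin 3) F)⁻¹, hn g g.2 w w.2⟩
      map_one' := Subtype.ext (by simp)
      map_mul' := fun v w => Subtype.ext (by simp only [Subgroup.coe_mul]; group) }
  let wx : R := ⟨x, hR.mem_x⟩
  let wy : R := ⟨y, hR.mem_y⟩
  let col : S → R → (Fin 2 → ZMod 3) := fun g w => Multiplicative.toAdd (pr (cj g w))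
  let A : S → Matrix (Fin 2) (Fin 2) (ZMod 3) := fun g =>
    !![col g wx 0, col g wy 0; col g wx 1, col g wy 1]
  have ex : e (1, 0, 0) = wx := Subtype.ext (by rw [he]; simp [wx, ZMod.val_one])
  have ey : e (0, 1, 0) = wy := Subtype.ext (by rw [he]; simp [wy, ZMod.val_one])
  let wz : R := ⟨z, extra_z_mem hR⟩
  have ez : e (0, 0, 1) = wz := Subtype.ext (by rw [he]; simp [wz, ZMod.val_one])
  have hA : ∀ g w, col g w = A g *ᵥ Multiplicative.toAdd (pr w) := by
    intro g w
    obtain ⟨⟨a, b, k⟩, rfl⟩ := e.surjective w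
    have hd : e (a, b, k) = wx ^ a.val * wy ^ b.val * wz ^ k.val := Subtype.ext (by
      rw [he]; simp [wx, wy, wz])
    have hpz : pr (cj g wz) = 1 := by
      have : cj g wz = wz := Subtype.ext (by
        show (g : GL (Fin 3) F) * z * (g : GL (Fin 3) F)⁻¹ = z
        rw [Asch.scalars_comm (g := (g : GL (Fin 3) F)) (extra_z_scalar hR), mul_inv_cancel_right])
      rw [this, ← ez]
      show Multiplicative.ofAdd ![(e.symm (e _)).1, (e.symm (e _)).2.1] = 1
      rw [e.symm_apply_apply]
      ext i; fin_cases i <;> rfl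
    have hp : Multiplicative.toAdd (pr (e (a, b, k))) = ![a, b] := by
      show ![_, _] = _
      rw [e.symm_apply_apply]
    rw [hp]
    show Multiplicative.toAdd (pr (cj g (e (a, b, k)))) = _
    rw [hd]
    simp only [map_mul, map_pow, toAdd_mul, toAdd_pow, hpz, one_pow, toAdd_one, add_zero]
    have hsm : ∀ (a : ZMod 3) (v : Fin 2 → ZMod 3) (i : Fin 2), (a.val • v) i = a * v i := fun a v i => by
      rw [Pi.smul_apply, nsmul_eq_mul, ZMod.natCast_zmod_val]
    ext i
    simp only [Pi.add_apply, hsm]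
    fin_cases i <;>
      simp [A, col, Matrix.mulVec, dotProduct, Fin.sum_univ_two] <;> ring
  have hdet : ∀ g, (A g).det = 1 := by
    intro g
    obtain ⟨⟨a1, a2, a3⟩, ha⟩ := e.surjective (cj g wx)
    obtain ⟨⟨b1, b2, b3⟩, hb⟩ := e.surjective (cj g wy)
    have hrel : cj g wy * cj g wx = cj g wz * (cj g wx * cj g wy) := by
      rw [← map_mul, ← map_mul, ← map_mul]
      exact congrArg _ (Subtype.ext (by simp [wx, wy, wz, hR.comm, mul_assoc]))
    have hcz : cj g wz = e (0, 0, 1) := by
      rw [ez]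
      exact Subtype.ext (by
        show (g : GL (Fin 3) F) * z * (g : GL (Fin 3) F)⁻¹ = z
        rw [Asch.scalars_comm (g := (g : GL (Fin 3) F)) (extra_z_scalar hR), mul_inv_cancel_right])
    rw [← ha, ← hb, hcz, hmul, hmul, hmul] at hrel
    have h := (Prod.mk.injEq _ _ _ _).mp (e.injective hrel)
    have h3 := ((Prod.mk.injEq _ _ _ _).mp h.2).2
    have c1 : col g wx = ![a1, a2] := by
      show Multiplicative.toAdd (pr (cj g wx)) = _
      rw [← ha]
      show ![(e.symm (e _)).1, (e.symm (e _)).2.1] = _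
      rw [e.symm_apply_apply]
    have c2 : col g wy = ![b1, b2] := by
      show Multiplicative.toAdd (pr (cj g wy)) = _
      rw [← hb]
      show ![(e.symm (e _)).1, (e.symm (e _)).2.1] = _
      rw [e.symm_apply_apply]
    rw [Matrix.det_fin_two]
    simp [A, c1, c2]
    linear_combination h3
  have hcjmul : ∀ g h w, cj (g * h) w = cj g (cj h w) := fun g h w => Subtype.ext (by
    show ((g * h : S) : GL (Fin 3) F) * w * ((g * h : S) : GL (Fin 3) F)⁻¹ =
      g * ((h : GL (Fin 3) F) * w * (h : GL (Fin 3) F)⁻¹) * (g : GL (Fin 3) F)⁻¹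
    simp only [Subgroup.coe_mul]; group)
  have hpwx : Multiplicative.toAdd (pr wx) = ![1, 0] := by
    rw [← ex]; show ![_, _] = _; rw [e.symm_apply_apply]
  have hpwy : Multiplicative.toAdd (pr wy) = ![0, 1] := by
    rw [← ey]; show ![_, _] = _; rw [e.symm_apply_apply]
  have hAmul : ∀ g h, A (g * h) = A g * A h := by
    intro g h
    have k : ∀ w, col (g * h) w = (A g * A h) *ᵥ Multiplicative.toAdd (pr w) := fun w => by
      have h1 : col (g * h) w = col g (cj h w) := by simp only [col, hcjmul]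
      rw [h1, hA g (cj h w), show Multiplicative.toAdd (pr (cj h w)) = col h w from rfl, hA h w,
        Matrix.mulVec_mulVec]
    have kx := k wx
    have ky := k wy
    rw [hA, hpwx] at kx
    rw [hA, hpwy] at ky
    ext i j
    fin_cases j
    · simpa [Matrix.mulVec, dotProduct, Fin.sum_univ_two] using congrFun kx i
    · simpa [Matrix.mulVec, dotProduct, Fin.sum_univ_two] using congrFun ky i
  let repf : S → Matrix.SpecialLinearGroup (Fin 2) (ZMod 3) := fun g => ⟨A g, hdet g⟩
  let rep : S →* Matrix.SpecialLinearGroup (Fin 2) (ZMod 3) :=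
    MonoidHom.mk' repf fun g h => Subtype.ext (hAmul g h)
  refine ⟨⟨pr, rep, hsurj, hker, fun g w w' hw => ?_, ?_⟩, hpwx, hpwy⟩
  · rw [show w' = cj g w from Subtype.ext hw]
    exact hA g w
  · -- the kernel
    have hcz : ∀ g : rep.ker, ∀ w : R, pr (cj g.1 w) = pr w := fun g w => by
      apply Multiplicative.toAdd.injective
      have h1 : A g.1 = 1 := congrArg (fun M : Matrix.SpecialLinearGroup (Fin 2) (ZMod 3) => M.1)
        (MonoidHom.mem_ker.1 g.2)
      show col g.1 w = _
      rw [hA, h1, Matrix.one_mulVec]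
    -- the shifts by the centre
    let d : S → R → ZMod 3 := fun g w => (e.symm (w⁻¹ * cj g w)).2.2
    have hdw : ∀ (g : rep.ker) (w : R), cj g.1 w = w * e (0, 0, d g.1 w) := by
      intro g w
      have h1 : pr (w⁻¹ * cj g.1 w) = 1 := by rw [map_mul, map_inv, hcz, inv_mul_cancel]
      obtain ⟨⟨a, b, k⟩, hk⟩ := e.surjective (w⁻¹ * cj g.1 w)
      rw [← hk] at h1
      have h2 : ![a, b] = (0 : Fin 2 → ZMod 3) := by
        have h3 := congrArg Multiplicative.toAdd h1
        have h4 : Multiplicative.toAdd (pr (e (a, b, k))) = ![a, b] := by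
          show ![_, _] = _
          rw [e.symm_apply_apply]
        rw [h4] at h3
        simpa using h3
      have h0 : a = 0 := congrFun h2 0
      have h1' : b = 0 := congrFun h2 1
      subst h0 h1'
      have hd' : d g.1 w = k := by simp [d, ← hk]
      rw [hd', hk, mul_inv_cancel_left]
    have hcz' : ∀ (g : S) k, cj g (e (0, 0, k)) = e (0, 0, k) := fun g k => Subtype.ext (by
      show (g : GL (Fin 3) F) * _ * (g : GL (Fin 3) F)⁻¹ = _
      have hmem : (e (0, 0, k) : GL (Fin 3) F) ∈ scalars (Fin 3) F := by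
        rw [he]; simpa using pow_mem (extra_z_scalar hR) k.val
      rw [Asch.scalars_comm (g := (g : GL (Fin 3) F)) hmem, mul_inv_cancel_right])
    let ψ : rep.ker →* Multiplicative (ZMod 3 × ZMod 3) := MonoidHom.mk'
      (fun g => Multiplicative.ofAdd (d g.1 wx, d g.1 wy)) fun g h => by
        have key : ∀ w, d (g.1 * h.1) w = d g.1 w + d h.1 w := fun w => by
          have h1 : cj (g.1 * h.1) w = w * e (0, 0, d g.1 w + d h.1 w) := by
            rw [hcjmul, hdw h, map_mul, hdw g, hcz', mul_assoc, hmul]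
            simp
          have h2 := hdw ⟨g.1 * h.1, mul_mem g.2 h.2⟩ w
          rw [h1] at h2
          have h3 := e.injective (mul_left_cancel h2)
          exact ((congrArg (fun t => t.2.2) h3)).symm
        show Multiplicative.ofAdd (d ((g * h : rep.ker) : S) wx, d ((g * h : rep.ker) : S) wy) = _
        rw [Subgroup.coe_mul, key, key]
        rfl
    have hψker : Nat.card ψ.ker ∣ 3 := by
      let f : Fˣ →* GL (Fin 3) F := Units.map (Matrix.scalar (Fin 3) : F →+* Matrix (Fin 3) (Fin 3) F).toMonoidHom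
      let i : rep.ker →* GL (Fin 3) F := S.subtype.comp rep.ker.subtype
      have hi : Function.Injective i := fun a b h => Subtype.ext (Subtype.ext h)
      rw [Nat.card_congr (ψ.ker.equivMapOfInjective i hi).toEquiv]
      have hle : ψ.ker.map i ≤ (powMonoidHom 3 : Fˣ →* Fˣ).ker.map f := by
        rintro _ ⟨g, hg, rfl⟩
        have hfix : ∀ w ∈ ({wx, wy} : Set R), cj g.1 w = w := by
          intro w hw
          have h0 : d g.1 w = 0 := by
            have h1 := congrArg Multiplicative.toAdd (MonoidHom.mem_ker.1 hg)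
            simp only [ψ, MonoidHom.mk'_apply, toAdd_ofAdd, toAdd_one, Prod.mk_eq_zero] at h1
            rcases hw with rfl | rfl
            · exact h1.1
            · exact h1.2
          rw [hdw g w, h0, show e (0, 0, 0) = 1 from Subtype.ext (by rw [he]; simp), mul_one]
        have hcomm : ∀ w ∈ R, i g * w = w * i g := by
          intro w hw
          obtain ⟨a, b, k, rfl⟩ := hR.gen w hw
          have hx' : Commute (i g) x :=
            mul_inv_eq_iff_eq_mul.1 (congrArg Subtype.val (hfix wx (Or.inl rfl)))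
          have hy' : Commute (i g) y :=
            mul_inv_eq_iff_eq_mul.1 (congrArg Subtype.val (hfix wy (Or.inr rfl)))
          have hz' : Commute (i g) z := Asch.scalars_comm (extra_z_scalar hR)
          exact (((hx'.pow_right a).mul_right (hy'.pow_right b)).mul_right (hz'.pow_right k)).eq
        obtain ⟨u, hu⟩ := (mem_scalars_iff _).1 (Asch.absIrr_center hR.absIrr hcomm)
        refine ⟨u, ?_, Units.ext ?_⟩
        · rw [SetLike.mem_coe, MonoidHom.mem_ker, powMonoidHom_apply]
          refine Units.ext ?_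
          have h1 : (i g).val.det = 1 := congrArg Units.val (MonoidHom.mem_ker.1 (hS g.1.2))
          rw [hu, Matrix.det_smul, Matrix.det_one, mul_one, Fintype.card_fin] at h1
          rw [Units.val_pow_eq_pow_val, Units.val_one, h1]
        · rw [hu]
          exact (Matrix.smul_one_eq_diagonal _).symm
      refine (Subgroup.card_dvd_of_le hle).trans ((Subgroup.card_map_dvd _ _).trans ?_)
      rw [IsCyclic.card_powMonoidHom_ker]
      exact Nat.gcd_dvd_right _ _
    rw [← ψ.ker.card_mul_index, Subgroup.index_ker]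
    refine (mul_dvd_mul hψker (Subgroup.card_subgroup_dvd_card _)).trans ?_
    simp

theorem exists_action (hR : Asch.Extra 3 R c x y z) {S : Subgroup (GL (Fin 3) F)}
    (hS : S ≤ specialLinear (Fin 3) F) (hn : ∀ g ∈ S, ∀ a ∈ R, g * a * g⁻¹ ∈ R) : Nonempty (Action R S) :=
  ⟨(exists_action' hR hS hn).choose⟩

/-- The normaliser in `SL₃` of an extraspecial group has order dividing `648`. -/
theorem extra_card_dvd (hR : Asch.Extra 3 R c x y z) {S : Subgroup (GL (Fin 3) F)}
    (hS : S ≤ specialLinear (Fin 3) F) (hn : ∀ g ∈ S, ∀ a ∈ R, g * a * g⁻¹ ∈ R) : Nat.card S ∣ 648 := by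
  obtain ⟨T⟩ := exists_action hR hS hn
  rw [← T.rep.ker.card_mul_index, Subgroup.index_ker]
  refine (mul_dvd_mul T.ker_card (Subgroup.card_subgroup_dvd_card _)).trans ?_
  rw [show Nat.card (Matrix.SpecialLinearGroup (Fin 2) (ZMod 3)) = 24 by rw [Two.card_SL_two]; simp]
  norm_num

/-- It contains no four-group. -/
theorem extra_no_four (hR : Asch.Extra 3 R c x y z) {S : Subgroup (GL (Fin 3) F)}
    (hS : S ≤ specialLinear (Fin 3) F) (hn : ∀ g ∈ S, ∀ a ∈ R, g * a * g⁻¹ ∈ R) {a b : GL (Fin 3) F}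
    (ha : a ∈ S) (hb : b ∈ S) (ha2 : a * a = 1) (hb2 : b * b = 1) (hab : a * b = b * a) (ha1 : a ≠ 1)
    (hb1 : b ≠ 1) (hne : a ≠ b) : False := by
  obtain ⟨T⟩ := exists_action hR hS hn
  have key : ∀ (g : S), g * g = 1 → (T.rep g).1 = 1 → g = 1 := by
    intro g hg hr
    have hmem : g ∈ T.rep.ker := MonoidHom.mem_ker.2 (Subtype.ext hr)
    have h1 : orderOf g ∣ 27 := by
      rw [← Subgroup.orderOf_mk _ hmem]
      exact (orderOf_dvd_natCard _).trans T.ker_card
    have h2 : orderOf g ∣ 2 := orderOf_dvd_of_pow_eq_one (by rw [sq]; exact hg)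
    exact orderOf_eq_one_iff.1 (Nat.dvd_one.1 (by
      have := Nat.dvd_gcd h1 h2
      simpa using this))
  let A : S := ⟨a, ha⟩
  let B : S := ⟨b, hb⟩
  have sq : ∀ g : S, g * g = 1 → (T.rep g).1 * (T.rep g).1 = 1 := fun g hg => by
    have := congrArg Subtype.val (congrArg T.rep hg)
    simpa using this
  have hA : A * A = 1 := Subtype.ext ha2
  have hB : B * B = 1 := Subtype.ext hb2
  rcases sl_two_three_involution _ _ (T.rep A).2 (T.rep B).2 (sq A hA) (sq B hB) with h | h | h
  · exact ha1 (congrArg Subtype.val (key A hA h))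
  · exact hb1 (congrArg Subtype.val (key B hB h))
  · have hAB : A * B = 1 := key (A * B) (Subtype.ext (by
      show a * b * (a * b) = 1
      rw [mul_assoc, ← mul_assoc b a b, ← hab, mul_assoc a b b, hb2, mul_one, ha2])) (by rw [map_mul]; exact h)
    have h' : a * b = 1 := congrArg Subtype.val hAB
    exact hne (by rw [← mul_one a, ← hb2, ← mul_assoc, h', one_mul])

end Cfsg.Lib.Linear.Mitchell.Max
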