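import Cfsg.Agent.Lib.Linear.Mitchell.MaxExtraAct

/-!
# Elements of order four normalising an extraspecial group of order 27
-/

set_option autoImplicit false
set_option linter.unusedSectionVars false

namespace Cfsg.Lib.Linear.Mitchell.Max

open Cfsg.Geo Cfsg.Lib.Linear
open scoped Matrix MatrixGroups

variable {F : Type*} [Field F] [Finite F] {R R' : Subgroup (GL (Fin 3) F)} {c c' : F}
  {x y z x' y' z' : GL (Fin 3) F}

/-- A basis in which the generators are diagonal and a shift. -/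
theorem exists_frame_extra (hR : Asch.Extra 3 R c x y z) :
    ∃ P : GL (Fin 3) F,
      x.val * P.val = P.val * !![1, 0, 0; 0, c ^ 2, 0; 0, 0, c] ∧
      y.val * P.val = P.val * !![0, 0, 1; 1, 0, 0; 0, 1, 0] := by
  obtain ⟨v, d, hv, hd, hxv⟩ := Asch.exists_eigen_of_pow hR.prim hR.char_ne hR.pow_x
  have hc3 : c ^ 3 = 1 := hR.prim.pow_eq_one
  have hstep : ∀ (u : Fin 3 → F) (a : F), x.val *ᵥ u = a • u → x.val *ᵥ (y.val *ᵥ u) = (a * c ^ 2) • y.val *ᵥ u := by
    intro u a hu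
    have h1 : (z * x * y).val *ᵥ u = (y * x).val *ᵥ u := by rw [hR.comm]
    rw [Asch.mul_mulVec (z * x), Asch.mul_mulVec z x, Asch.mul_mulVec y x, hu, hR.coe_z, Matrix.smul_mulVec,
      Matrix.one_mulVec, Matrix.mulVec_smul] at h1
    rw [mul_comm a, ← smul_smul, ← h1, smul_smul, ← pow_succ, hc3, one_smul]
  -- make the first eigenvalue one
  obtain ⟨m, hm, hm'⟩ := hR.prim.eq_pow_of_pow_eq_one hd
  have hpow : ∀ n : ℕ, x.val *ᵥ ((y ^ n).val *ᵥ v) = (d * c ^ (2 * n)) • (y ^ n).val *ᵥ v := by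
    intro n
    induction n with
    | zero => simpa using hxv
    | succ n ih =>
      rw [pow_succ' y, Asch.mul_mulVec, hstep _ _ ih]
      congr 1
      ring
  set u := (y ^ m).val *ᵥ v with hu
  have hu0 : u ≠ 0 := Asch.move_ne_zero _ hv
  have hxu : x.val *ᵥ u = u := by
    rw [hu, hpow, ← hm', ← pow_add, show m + 2 * m = 3 * m by ring, pow_mul, hc3, one_pow, one_smul]
  let w : Fin 3 → (Fin 3 → F) := fun k => (y ^ (k : ℕ)).val *ᵥ u
  let μ : Fin 3 → F := fun k => c ^ (2 * (k : ℕ))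
  have hxw : ∀ k, x.val *ᵥ w k = μ k • w k := by
    suffices ∀ n : ℕ, x.val *ᵥ ((y ^ n).val *ᵥ u) = c ^ (2 * n) • (y ^ n).val *ᵥ u from fun k => this _
    intro n
    induction n with
    | zero => simpa using hxu
    | succ n ih =>
      rw [pow_succ' y, Asch.mul_mulVec, hstep _ _ ih]
      congr 1
      ring
  have hμ : Function.Injective μ := by
    intro i j hij
    have h2 : IsPrimitiveRoot (c ^ 2) 3 := hR.prim.pow_of_coprime 2 (by norm_num)
    simp only [μ, pow_mul] at hij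
    exact Fin.ext (h2.pow_inj i.2 j.2 hij)
  have hli := Asch.linearIndependent_eigen hμ x.val (fun k => Asch.move_ne_zero _ hu0) hxw
  let P : Matrix (Fin 3) (Fin 3) F := Matrix.of fun i j => w j i
  have hP : IsUnit P := by
    rw [← Matrix.isUnit_transpose, ← Matrix.linearIndependent_rows_iff_isUnit]
    exact hli
  refine ⟨hP.unit, ?_, ?_⟩
  · ext i j
    have h := congrFun (hxw j) i
    fin_cases j <;>
      simp [P, μ, Matrix.mul_apply, Fin.sum_univ_three, Matrix.mulVec, dotProduct] at h ⊢ <;> rw [h] <;> ring_nf <;>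
        simp [show c ^ 4 = c by rw [show (4 : ℕ) = 3 + 1 from rfl, pow_succ, hc3, one_mul]]
  · ext i j
    have hy : y.val *ᵥ w j = w ⟨((j : ℕ) + 1) % 3, Nat.mod_lt _ (by norm_num)⟩ := by
      simp only [w]
      rw [← Asch.mul_mulVec, ← pow_succ', pow_eq_pow_mod _ hR.pow_y]
    have h := congrFun hy i
    fin_cases j <;>
      simp [P, Matrix.mul_apply, Fin.sum_univ_three, Matrix.mulVec, dotProduct] at h ⊢ <;> exact h

/-- An element of `SL₃` normalising the group that permutes the classes modulo the centre in two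
four-cycles. -/
theorem exists_rotor (hR : Asch.Extra 3 R c x y z) :
    ∃ h : GL (Fin 3) F, h ∈ specialLinear (Fin 3) F ∧ (∀ g : GL (Fin 3) F, g ∈ R ↔ h * g * h⁻¹ ∈ R) ∧
      h * x * h⁻¹ = y ∧ h * y * h⁻¹ = x ^ 2 := by
  obtain ⟨P, hX, hY⟩ := exists_frame_extra hR
  have hc3 : c ^ 3 = 1 := hR.prim.pow_eq_one
  have hc1 : c ≠ 1 := hR.prim.ne_one (by norm_num)
  have hc0 : c ≠ 0 := hR.prim.ne_zero (by norm_num)
  have hcc : c ^ 2 + c + 1 = 0 := by
    refine mul_left_cancel₀ (sub_ne_zero.2 hc1) ?_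
    linear_combination hc3
  let t : F := c - c ^ 2
  have ht : t ≠ 0 := by
    intro e
    refine hc1 (mul_left_cancel₀ hc0 ?_).symm
    linear_combination e
  let h0 : Matrix (Fin 3) (Fin 3) F := t⁻¹ • !![1, 1, 1; 1, c, c ^ 2; 1, c ^ 2, c]
  have hdet : h0.det = 1 := by
    simp only [h0, Matrix.det_smul, Fintype.card_fin, Matrix.det_fin_three, Matrix.of_apply, Matrix.cons_val',
      Matrix.cons_val_zero, Matrix.cons_val_one, Matrix.cons_val, Matrix.empty_val', Matrix.cons_val_fin_one]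
    field_simp
    linear_combination (c ^ 3 - 3 * c ^ 2 + 2 * c) * hc3
  let H : GL (Fin 3) F := Matrix.GeneralLinearGroup.mkOfDetNeZero h0 (by rw [hdet]; exact one_ne_zero)
  have hHv : H.val = h0 := rfl
  set X : Matrix (Fin 3) (Fin 3) F := !![1, 0, 0; 0, c ^ 2, 0; 0, 0, c] with hXdef
  set Y : Matrix (Fin 3) (Fin 3) F := !![0, 0, 1; 1, 0, 0; 0, 1, 0] with hYdef
  have r1 : h0 * X = Y * h0 := by
    ext i j
    fin_cases i <;> fin_cases j <;>
      simp [h0, hXdef, hYdef, Matrix.mul_apply, Fin.sum_univ_three] <;>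
      field_simp <;> first | ring1 | exact hc3 | exact hc3.symm | linear_combination (c - 1) * hcc | linear_combination -(c - 1) * hcc |
        linear_combination c * (c - 1) * hcc | linear_combination -(c * (c - 1)) * hcc
  have r2 : h0 * Y = X * X * h0 := by
    ext i j
    fin_cases i <;> fin_cases j <;>
      simp [h0, hXdef, hYdef, Matrix.mul_apply, Fin.sum_univ_three] <;>
      field_simp <;> first | ring1 | exact hc3 | exact hc3.symm | linear_combination (c - 1) * hcc | linear_combination -(c - 1) * hcc |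
        linear_combination c * (c - 1) * hcc | linear_combination -(c * (c - 1)) * hcc |
        linear_combination c ^ 2 * (c - 1) * hcc | linear_combination -(c ^ 2 * (c - 1)) * hcc |
        linear_combination (c ^ 3 + 1) * (c - 1) * hcc | linear_combination -((c ^ 3 + 1) * (c - 1)) * hcc
  let h := P * H * P⁻¹
  have e1 : h * x = y * h := by
    have hx : x = P * (P⁻¹ * x * P) * P⁻¹ := by group
    have hy : y = P * (P⁻¹ * y * P) * P⁻¹ := by group
    have hxP : (P⁻¹ * x * P).val = X := by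
      rw [Units.val_mul, Units.val_mul, mul_assoc, hX, ← mul_assoc, ← Units.val_mul, inv_mul_cancel,
        Units.val_one, one_mul]
    have hyP : (P⁻¹ * y * P).val = Y := by
      rw [Units.val_mul, Units.val_mul, mul_assoc, hY, ← mul_assoc, ← Units.val_mul, inv_mul_cancel,
        Units.val_one, one_mul]
    have hh : H * (P⁻¹ * x * P) = (P⁻¹ * y * P) * H := Units.ext (by
      rw [Units.val_mul, Units.val_mul (P⁻¹ * y * P), hxP, hyP, hHv, r1])
    calc h * x = P * (H * (P⁻¹ * x * P)) * P⁻¹ := by simp only [h]; group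
      _ = P * ((P⁻¹ * y * P) * H) * P⁻¹ := by rw [hh]
      _ = y * h := by simp only [h]; group
  have e2 : h * y = x ^ 2 * h := by
    have hxP : (P⁻¹ * x * P).val = X := by
      rw [Units.val_mul, Units.val_mul, mul_assoc, hX, ← mul_assoc, ← Units.val_mul, inv_mul_cancel,
        Units.val_one, one_mul]
    have hyP : (P⁻¹ * y * P).val = Y := by
      rw [Units.val_mul, Units.val_mul, mul_assoc, hY, ← mul_assoc, ← Units.val_mul, inv_mul_cancel,
        Units.val_one, one_mul]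
    have hh : H * (P⁻¹ * y * P) = (P⁻¹ * x * P) * (P⁻¹ * x * P) * H := Units.ext (by
      rw [Units.val_mul, Units.val_mul (P⁻¹ * x * P * _), Units.val_mul (P⁻¹ * x * P) (P⁻¹ * x * P),
        hxP, hyP, hHv, r2])
    calc h * y = P * (H * (P⁻¹ * y * P)) * P⁻¹ := by simp only [h]; group
      _ = P * ((P⁻¹ * x * P) * (P⁻¹ * x * P) * H) * P⁻¹ := by rw [hh]
      _ = x ^ 2 * h := by simp only [h, sq x]; group
  have f1 : h * x * h⁻¹ = y := by rw [e1, mul_inv_cancel_right]
  have f2 : h * y * h⁻¹ = x ^ 2 := by rw [e2, mul_inv_cancel_right]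
  have hsc : ∀ k : ℕ, h * z ^ k * h⁻¹ = z ^ k := fun k => by
    rw [Asch.scalars_comm (g := h) (pow_mem (extra_z_scalar hR) k), mul_inv_cancel_right]
  refine ⟨h, ?_, fun g => ⟨fun hg => ?_, fun hg => ?_⟩, f1, f2⟩
  · show h ∈ (Matrix.GeneralLinearGroup.det : GL (Fin 3) F →* Fˣ).ker
    rw [MonoidHom.mem_ker]
    simp only [h, map_mul, map_inv, mul_comm (Matrix.GeneralLinearGroup.det P), mul_inv_cancel_right]
    exact Units.ext hdet
  · obtain ⟨i, j, k, rfl⟩ := hR.gen g hg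
    have : h * (x ^ i * y ^ j * z ^ k) * h⁻¹ = (h * x * h⁻¹) ^ i * (h * y * h⁻¹) ^ j * (h * z ^ k * h⁻¹) := by
      rw [conj_pow, conj_pow]; group
    rw [this, f1, f2, hsc]
    exact mul_mem (mul_mem (pow_mem hR.mem_y i) (pow_mem (pow_mem hR.mem_x 2) j)) (pow_mem (extra_z_mem hR) k)
  · obtain ⟨i, j, k, hk⟩ := hR.gen _ hg
    have hy1 : h⁻¹ * y * h = x := by rw [← f1]; group
    have hx1 : h⁻¹ * x * h = y ^ 2 := by
      have h4 : x = (h * y * h⁻¹) ^ 2 := by rw [f2, ← pow_mul, pow_succ, hR.pow_x, one_mul]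
      calc h⁻¹ * x * h = h⁻¹ * (h * y * h⁻¹) ^ 2 * h := by rw [← h4]
        _ = y ^ 2 := by rw [conj_pow]; group
    have hz1 : h⁻¹ * z ^ k * h = z ^ k := by
      rw [mul_assoc, ← Asch.scalars_comm (g := h) (pow_mem (extra_z_scalar hR) k), inv_mul_cancel_left]
    have : g = (h⁻¹ * x * h) ^ i * (h⁻¹ * y * h) ^ j * (h⁻¹ * z ^ k * h) := by
      have h5 : ∀ a : GL (Fin 3) F, ∀ n : ℕ, (h⁻¹ * a * h) ^ n = h⁻¹ * a ^ n * h := fun a n => by
        simpa using conj_pow (a := h⁻¹) (b := a) (i := n)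
      calc g = h⁻¹ * (h * g * h⁻¹) * h := by group
        _ = h⁻¹ * (x ^ i * y ^ j * z ^ k) * h := by rw [hk]
        _ = _ := by rw [h5, h5]; group
    rw [this, hx1, hy1, hz1]
    exact mul_mem (mul_mem (pow_mem (pow_mem hR.mem_y 2) i) (pow_mem hR.mem_x j)) (pow_mem (extra_z_mem hR) k)

theorem rotor_span : ∀ v : Fin 2 → ZMod 3, v ≠ 0 → ∀ u : Fin 2 → ZMod 3,
    ∃ a b : ZMod 3, u = a • v + b • ![2 * v 1, v 0] := by decide +kernel

/-- Two extraspecial groups in a group normalising both, with a rotor of the first, coincide. -/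
theorem extra_eq (hR : Asch.Extra 3 R c x y z) (hR' : Asch.Extra 3 R' c' x' y' z') {S : Subgroup (GL (Fin 3) F)}
    (hS : S ≤ specialLinear (Fin 3) F) (hn' : ∀ g ∈ S, ∀ a ∈ R', g * a * g⁻¹ ∈ R') (hRS : R ≤ S) (hR'S : R' ≤ S)
    {h : GL (Fin 3) F} (hh : h ∈ S) (hnorm : ∀ g : GL (Fin 3) F, g ∈ R → h * g * h⁻¹ ∈ R)
    (hx : h * x * h⁻¹ = y) (hy : h * y * h⁻¹ = x ^ 2) : R = R' := by
  classical
  obtain ⟨T'⟩ := exists_action hR' hS hn'
  have hscal : ∀ (g : GL (Fin 3) F) (hg : g ∈ S), g ∈ scalars (Fin 3) F → T'.rep ⟨g, hg⟩ = 1 := by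
    intro g hg hgs
    refine Subtype.ext (Matrix.ext_iff_mulVec.2 fun v => ?_)
    obtain ⟨w, hw⟩ := T'.surj (Multiplicative.ofAdd v)
    have h1 := T'.act ⟨g, hg⟩ w w (by
      show (w : GL (Fin 3) F) = g * w * g⁻¹
      rw [← Asch.scalars_comm (g := (w : GL (Fin 3) F)) hgs, mul_inv_cancel_right])
    rw [hw, toAdd_ofAdd] at h1
    show _ *ᵥ v = (1 : Matrix (Fin 2) (Fin 2) (ZMod 3)) *ᵥ v
    rw [← h1, Matrix.one_mulVec]
  have hinner : ∀ (g : GL (Fin 3) F) (hg : g ∈ R'), T'.rep ⟨g, hR'S hg⟩ = 1 := by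
    intro g hg
    refine Subtype.ext (Matrix.ext_iff_mulVec.2 fun v => ?_)
    obtain ⟨w, hw⟩ := T'.surj (Multiplicative.ofAdd v)
    let G : R' := ⟨g, hg⟩
    have h1 := T'.act ⟨g, hR'S hg⟩ w (G * w * G⁻¹) rfl
    have e : T'.proj (G * w * G⁻¹) = T'.proj w := by
      rw [map_mul, map_mul, map_inv, mul_comm (T'.proj G), mul_inv_cancel_right]
    rw [e, hw, toAdd_ofAdd] at h1
    show _ *ᵥ v = (1 : Matrix (Fin 2) (Fin 2) (ZMod 3)) *ᵥ v
    rw [← h1, Matrix.one_mulVec]
  have hker : (T'.rep.ker.map S.subtype) = R' := by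
    symm
    haveI : Finite (T'.rep.ker.map S.subtype : Subgroup (GL (Fin 3) F)) := inferInstance
    refine Subgroup.eq_of_le_of_card_ge (fun g hg => ⟨⟨g, hR'S hg⟩, MonoidHom.mem_ker.2 (hinner g hg), rfl⟩) ?_
    rw [hR'.card, ← Nat.card_congr (T'.rep.ker.equivMapOfInjective _ S.subtype_injective).toEquiv]
    exact Nat.le_of_dvd (by norm_num) T'.ker_card
  -- the part of `R` acting trivially
  let φ : R →* Matrix.SpecialLinearGroup (Fin 2) (ZMod 3) := T'.rep.comp (Subgroup.inclusion hRS)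
  suffices hall : ∀ w : R, φ w = 1 by
    refine Subgroup.eq_of_le_of_card_ge (fun g hg => ?_) (by rw [hR.card, hR'.card])
    rw [← hker]
    exact ⟨⟨g, hRS hg⟩, MonoidHom.mem_ker.2 (hall ⟨g, hg⟩), rfl⟩
  obtain ⟨T, hTX, hTY⟩ := exists_action' hR inf_le_right (S := Subgroup.normalizer (R : Set (GL (Fin 3) F)) ⊓
    specialLinear (Fin 3) F) (fun g hg a ha => (Subgroup.mem_normalizer_iff.1 hg.1 a).1 ha)
  obtain ⟨w₀, hw₀, hw₀'⟩ : ∃ w : R, φ w = 1 ∧ T.proj w ≠ 1 := by
    by_contra hne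
    push Not at hne
    have h27 : Nat.card R = 27 := by rw [hR.card]; norm_num
    have h1 : Nat.card φ.range ∣ 3 := by
      have h3 : Nat.card φ.range ∣ 27 := h27 ▸ Subgroup.card_range_dvd φ
      have h4 : Nat.card φ.range ∣ 24 := by
        have h5 := Subgroup.card_subgroup_dvd_card φ.range
        rwa [Two.card_SL_two, ZMod.card] at h5
      exact (Nat.dvd_gcd h3 h4)
    have h2 : Nat.card φ.ker ∣ Nat.card T.proj.ker :=
      Subgroup.card_dvd_of_le fun w hw => MonoidHom.mem_ker.2 (hne w (MonoidHom.mem_ker.1 hw))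
    have h6 := T.proj.ker.card_mul_index
    rw [Subgroup.index_ker, MonoidHom.range_eq_top.2 T.surj, Subgroup.card_top, h27,
      Nat.card_congr Multiplicative.toAdd, Nat.card_fun, Nat.card_zmod, Nat.card_eq_fintype_card (α := Fin 2),
      Fintype.card_fin] at h6
    have h7 := φ.ker.card_mul_index
    rw [Subgroup.index_ker, h27] at h7
    have h8 : Nat.card φ.ker ≤ 3 := (Nat.le_of_dvd (by omega) h2).trans (by omega)
    have h9 := Nat.le_of_dvd (by norm_num) h1
    nlinarith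
  -- its conjugate
  let H' : S := ⟨h, hh⟩
  let w₁ : R := ⟨h * (w₀ : GL (Fin 3) F) * h⁻¹, hnorm _ w₀.2⟩
  have hw₁ : φ w₁ = 1 := by
    have : (Subgroup.inclusion hRS w₁ : S) = H' * Subgroup.inclusion hRS w₀ * H'⁻¹ := rfl
    show T'.rep _ = 1
    rw [this, map_mul, map_mul, show T'.rep (Subgroup.inclusion hRS w₀) = 1 from hw₀, mul_one, map_inv,
      mul_inv_cancel]
  have hcoord : Multiplicative.toAdd (T.proj w₁) =
      ![2 * Multiplicative.toAdd (T.proj w₀) 1, Multiplicative.toAdd (T.proj w₀) 0] := by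
    let X : R := ⟨x, hR.mem_x⟩
    let Y : R := ⟨y, hR.mem_y⟩
    obtain ⟨i, j, k, hk⟩ := hR.gen _ w₀.2
    let Z : R := ⟨z, extra_z_mem hR⟩
    have hZ : T.proj Z = 1 := by
      have hc : ∀ w : R, Z * w = w * Z := fun w => Subtype.ext (Asch.scalars_comm (extra_z_scalar hR)).symm
      obtain ⟨u, hu⟩ := T.surj (T.proj Z)
      have e : T.proj (X ^ 0) = 1 := by simp
      have h1 : Z = Y * X * Y⁻¹ * X⁻¹ := Subtype.ext (by
        show z = y * x * y⁻¹ * x⁻¹
        rw [hR.comm]; group)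
      rw [h1, map_mul, map_mul, map_mul, map_inv, map_inv, mul_comm (T.proj Y), mul_inv_cancel_right,
        mul_inv_cancel]
    have e0 : w₀ = X ^ i * Y ^ j * Z ^ k := Subtype.ext (by simp [X, Y, Z, hk])
    have e1 : w₁ = Y ^ i * (X ^ 2) ^ j * Z ^ k := Subtype.ext (by
      show h * (w₀ : GL (Fin 3) F) * h⁻¹ = _
      simp only [hk, Subgroup.coe_mul, Subgroup.coe_pow, X, Y, Z]
      have : h * (x ^ i * y ^ j * z ^ k) * h⁻¹ = (h * x * h⁻¹) ^ i * (h * y * h⁻¹) ^ j * (h * z ^ k * h⁻¹) := by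
        rw [conj_pow, conj_pow]; group
      rw [this, hx, hy, Asch.scalars_comm (g := h) (pow_mem (extra_z_scalar hR) k), mul_inv_cancel_right])
    rw [e0, e1]
    simp only [map_mul, map_pow, hZ, one_pow, mul_one, toAdd_mul, toAdd_pow]
    ext l
    fin_cases l <;>
      simp [hZ, X, Y, hTX, hTY] <;> ring
  intro w
  obtain ⟨a, b, hab⟩ := rotor_span _ (fun e => hw₀' (Multiplicative.toAdd.injective (e.trans toAdd_one.symm)))
    (Multiplicative.toAdd (T.proj w))
  rw [← hcoord] at hab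
  let w' : R := w₀ ^ a.val * w₁ ^ b.val
  have hp : T.proj w = T.proj w' := by
    apply Multiplicative.toAdd.injective
    rw [map_mul, map_pow, map_pow, toAdd_mul, toAdd_pow, toAdd_pow, hab]
    ext l
    simp only [Pi.add_apply, Pi.smul_apply, smul_eq_mul]
    rw [nsmul_eq_mul, nsmul_eq_mul, ZMod.natCast_zmod_val, ZMod.natCast_zmod_val]
  have hsc := T.ker_proj (w * w'⁻¹) (by rw [map_mul, map_inv, hp, mul_inv_cancel])
  have h1 : φ (w * w'⁻¹) = 1 := hscal _ _ hsc
  rwa [map_mul, map_inv, map_mul, map_pow, map_pow, hw₀, hw₁, one_pow, one_pow, mul_one, inv_one, mul_one] at h1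

end Cfsg.Lib.Linear.Mitchell.Max
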