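import Cfsg.Agent.Lib.Linear.Mitchell.OddCore
import Cfsg.Agent.Lib.Linear.Mitchell.EvenCore
import Cfsg.Agent.Lib.Linear.Mitchell.MaxAut
import Cfsg.Agent.Lib.Linear.Aschbacher.Linear
import Cfsg.Agent.Lib.Linear.Aschbacher.UnitaryBasic
import Cfsg.Agent.Lib.Linear.Aschbacher.UnitaryForms

/-!
# The list of irreducible subgroups of `SL₃(q)`
-/

set_option autoImplicit false
set_option linter.unusedSectionVars false
set_option linter.style.haveILetI false

namespace Cfsg.Lib.Linear.Mitchell.Max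

open Cfsg.Geo Cfsg.Lib.Linear
open scoped Matrix MatrixGroups commutatorElement

variable {F : Type*} [Field F] [Fintype F]

/-- The core data of an almost simple subgroup. -/
structure Socle (M P : Subgroup (GL (Fin 3) F)) : Prop where
  le : P ≤ M
  normal : ∀ g ∈ M, ∀ a ∈ P, g * a * g⁻¹ ∈ P
  core : Core P
  cent : ∀ h ∈ M, (∀ x ∈ P, h * x * h⁻¹ * x⁻¹ ∈ scalars (Fin 3) F) → h ∈ scalars (Fin 3) F

/-- The small almost simple subgroups: socle `L₃(2)`, `A₆` or `A₇`. -/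
def SmallType (M : Subgroup (GL (Fin 3) F)) : Prop :=
  (Odd (Fintype.card F) ∧ ringChar F ≠ 7 ∧ Nat.card M ∣ 1008 ∧ 168 ∣ Nat.card M) ∨
    ((Fintype.card F = 4 ∨ (Odd (Fintype.card F) ∧ ringChar F ≠ 3)) ∧ Nat.card M ∣ 4320 ∧ 360 ∣ Nat.card M ∧
      ∃ P, Socle M P ∧ Nonempty (P ⧸ (scalars (Fin 3) F).subgroupOf P ≃* alternatingGroup (Fin 6))) ∨
    (ringChar F = 5 ∧ Nat.card M ∣ 15120 ∧ 2520 ∣ Nat.card M)

theorem small_orders {M P : Subgroup (GL (Fin 3) F)} (hM : M ≤ specialLinear (Fin 3) F) (hP : Socle M P)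
    {A : Type*} [Group A] (e : P ⧸ (scalars (Fin 3) F).subgroupOf P ≃* A) :
    Nat.card M ∣ 3 * Nat.card (MulAut A) ∧ Nat.card A ∣ Nat.card M := by
  refine ⟨card_mulAut_congr e ▸ card_dvd_aut hM hP.normal hP.cent, ?_⟩
  rw [← Nat.card_congr e.toEquiv]
  exact (Subgroup.card_quotient_dvd_card _).trans (Subgroup.card_dvd_of_le hP.le)

/-- The derived group of a subfield group consists of rational matrices. -/
theorem commutator_subfield_le (K : Subfield F) (Q : GL (Fin 3) F) :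
    ⁅subfieldSubgroup K Q, subfieldSubgroup K Q⁆ ≤
      ((Matrix.GeneralLinearGroup.map (n := Fin 3) (K.subtype : K →+* F)).range).map (MulAut.conj Q).toMonoidHom := by
  set A := (Matrix.GeneralLinearGroup.map (n := Fin 3) (K.subtype : K →+* F)).range
  rw [subfieldSubgroup, ← Subgroup.map_commutator]
  refine Subgroup.map_mono (Subgroup.commutator_le.2 fun g hg h hh => ?_)
  rw [← SetLike.mem_coe, Subgroup.mul_normal] at hg hh
  obtain ⟨a, ha, s, hs, rfl⟩ := Set.mem_mul.1 hg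
  obtain ⟨b, hb, t, ht, rfl⟩ := Set.mem_mul.1 hh
  have e : ⁅a * s, b * t⁆ = ⁅a, b⁆ := by
    have cs := fun g => Asch.scalars_comm (g := g) hs
    have ct := fun g => Asch.scalars_comm (g := g) ht
    simp only [commutatorElement_def, mul_inv_rev]
    calc a * s * (b * t) * (s⁻¹ * a⁻¹) * (t⁻¹ * b⁻¹) = a * (s * (b * t)) * s⁻¹ * a⁻¹ * t⁻¹ * b⁻¹ := by group
      _ = a * b * (t * a⁻¹) * t⁻¹ * b⁻¹ := by rw [← cs]; group
      _ = a * b * (a⁻¹ * t) * t⁻¹ * b⁻¹ := by rw [ct]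
      _ = a * b * a⁻¹ * b⁻¹ := by group
  rw [e]
  exact mul_mem (mul_mem (mul_mem ha hb) (inv_mem ha)) (inv_mem hb)

theorem det_one_of_map {K : Subfield F} {g₁ : GL (Fin 3) K} {g Q : GL (Fin 3) F}
    (hg₁ : Matrix.GeneralLinearGroup.map K.subtype g₁ = Q⁻¹ * g * Q) (hg : g ∈ specialLinear (Fin 3) F) :
    Matrix.GeneralLinearGroup.det g₁ = 1 := by
  refine Units.ext (Subtype.ext ?_)
  have h1 : (Q⁻¹ * g * Q).val.det = 1 := by
    have : Matrix.GeneralLinearGroup.det (Q⁻¹ * g * Q) = 1 := by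
      rw [map_mul, map_mul, map_inv, mul_comm _ (Matrix.GeneralLinearGroup.det g), inv_mul_cancel_right]
      exact MonoidHom.mem_ker.1 hg
    exact congrArg Units.val this
  rw [← hg₁] at h1
  rw [Matrix.GeneralLinearGroup.val_det_apply]
  refine Eq.trans ?_ (h1.trans rfl)
  exact (RingHom.map_det K.subtype g₁.val)

theorem realisable_of_rat {P : Subgroup (GL (Fin 3) F)} (K : Subfield F) (Q : GL (Fin 3) F)
    (h : P ≤ ((Matrix.GeneralLinearGroup.map (n := Fin 3) (K.subtype : K →+* F)).range).map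
      (MulAut.conj Q).toMonoidHom) : RealisableOver K (matrixSet P) := by
  refine ⟨Q⁻¹, ?_⟩
  rintro _ ⟨g, hg, rfl⟩ i j
  obtain ⟨_, ⟨g₀, rfl⟩, rfl⟩ := h hg
  have : (Q⁻¹).val * ((MulAut.conj Q).toMonoidHom (Matrix.GeneralLinearGroup.map K.subtype g₀)).val * ((Q⁻¹)⁻¹).val
      = (Matrix.GeneralLinearGroup.map K.subtype g₀).val := by
    rw [← Units.val_mul, ← Units.val_mul]
    congr 1
    simp [mul_assoc]
  rw [this]
  exact (g₀.val i j).2

/-- The group contains the special isometries of the form, or (characteristic 2) its root elements. -/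
def LowerUnitary (M : Subgroup (GL (Fin 3) F)) (σ : F ≃+* F) (f : (Fin 3 → F) → (Fin 3 → F) → F) : Prop :=
  (∀ g ∈ specialLinear (Fin 3) F, (∀ u v, f (g.val *ᵥ u) (g.val *ᵥ v) = f u v) → g ∈ M) ∨
    ((2 : F) = 0 ∧ Even.IsotropicRoots M σ f)

theorem LowerUnitary.mono {M N : Subgroup (GL (Fin 3) F)} {σ : F ≃+* F} {f : (Fin 3 → F) → (Fin 3 → F) → F}
    (h : LowerUnitary M σ f) (hMN : M ≤ N) : LowerUnitary N σ f :=
  h.imp (fun h g hg hf => hMN (h g hg hf)) (fun h => ⟨h.1, fun x a hx k h1 h2 h3 => hMN (h.2 x a hx k h1 h2 h3)⟩)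

/-- A group in a unitary similitude group over a subfield is realised there or fixes a unitary form. -/
theorem unitary_type_cases {P : Subgroup (GL (Fin 3) F)} (hperf : ⁅P, P⁆ = P) (hU : UnitaryType P) :
    (∃ K : Subfield F, K ≠ ⊤ ∧ RealisableOver K (matrixSet P)) ∨
      ∃ (σ : F ≃+* F) (f : (Fin 3 → F) → (Fin 3 → F) → F), IsUnitaryForm σ f ∧ FixesForm (matrixSet P) f ∧
        LowerUnitary P σ f := by
  obtain ⟨Q, K, K₂, hK, hge, hle⟩ := hU
  set A := (similarityGroup (Cfsg.hermForm 3 K₂ (Nat.card K))).map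
    (Matrix.GeneralLinearGroup.map (n := Fin 3) K₂.subtype)
  have hA : A ≤ (Matrix.GeneralLinearGroup.map (n := Fin 3) (K₂.subtype : K₂ →+* F)).range :=
    Subgroup.map_le_range _ _
  by_cases htop : K₂ = ⊤
  swap
  · refine Or.inl ⟨K₂, htop, realisable_of_rat K₂ Q ?_⟩
    rw [← hperf]
    refine (Subgroup.commutator_mono (hle.trans ?_) (hle.trans ?_)).trans (commutator_subfield_le K₂ Q) <;>
    · rw [subfieldSubgroup]
      exact Subgroup.map_mono (sup_le_sup_right hA _)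
  subst htop
  right
  set q := Nat.card K
  have hF : Fintype.card F = q ^ 2 := by
    rw [← Nat.card_eq_fintype_card, ← hK, Nat.card_congr Subfield.topEquiv.toEquiv]
  let f : (Fin 3 → F) → (Fin 3 → F) → F := fun u v => Cfsg.hermForm 3 F q (Q⁻¹.val *ᵥ u) (Q⁻¹.val *ᵥ v)
  have hh := Asch.herm_unitary (n := 3) hF
  have hf : IsUnitaryForm (Asch.sigmaE hF) f :=
    { ne_refl := hh.ne_refl
      involutive := hh.involutive
      add_left := fun x y v => by simp only [f, Matrix.mulVec_add]; exact hh.add_left _ _ _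
      smul_left := fun c x v => by simp only [f, Matrix.mulVec_smul]; exact hh.smul_left _ _ _
      herm := fun v w => hh.herm _ _
      nondegenerate := fun v hv => by
        have hv' : Q⁻¹.val *ᵥ v ≠ 0 := Asch.move_ne_zero _ hv
        obtain ⟨⟨x, hx⟩, ⟨y, hy⟩⟩ := hh.nondegenerate _ hv'
        refine ⟨⟨Q.val *ᵥ x, ?_⟩, ⟨Q.val *ᵥ y, ?_⟩⟩
        · simpa [f, Asch.inv_mulVec_mulVec] using hx
        · simpa [f, Asch.inv_mulVec_mulVec] using hy }
  have hsim : P ≤ similarityGroup f := by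
    refine hle.trans ?_
    rintro _ ⟨y, hy, rfl⟩
    have hy' : y ∈ similarityGroup (Cfsg.hermForm 3 F q) := by
      refine (sup_le ?_ ?_ : A ⊔ scalars (Fin 3) F ≤ _) hy
      · rintro _ ⟨g, ⟨c, hg⟩, rfl⟩
        refine ⟨Units.map (⊤ : Subfield F).subtype.toMonoidHom c, fun u v => ?_⟩
        let u' : Fin 3 → (⊤ : Subfield F) := fun i => ⟨u i, trivial⟩
        let v' : Fin 3 → (⊤ : Subfield F) := fun i => ⟨v i, trivial⟩
        have h := congrArg Subtype.val (hg u' v')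
        simp only [Cfsg.hermForm, Matrix.mulVec, dotProduct, Subfield.coe_mul, AddSubmonoidClass.coe_finsetSum,
          SubmonoidClass.coe_pow] at h
        simpa [Cfsg.hermForm, Matrix.mulVec, dotProduct, u', v'] using h
      · intro s hs
        obtain ⟨a, ha⟩ := (mem_scalars_iff s).1 hs
        refine ⟨a * Units.map (Asch.sigmaE hF).toRingHom.toMonoidHom a, fun u v => ?_⟩
        rw [ha, Matrix.smul_mulVec, Matrix.one_mulVec, Matrix.smul_mulVec, Matrix.one_mulVec, hh.smul_left,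
          (Asch.isSesq_of_unitary hh).smul_right]
        simp [mul_assoc]
    obtain ⟨c, hc⟩ := hy'
    refine ⟨c, fun u v => ?_⟩
    have e : ∀ w, Q⁻¹.val *ᵥ (((MulAut.conj Q).toMonoidHom y).val *ᵥ w) = y.val *ᵥ (Q⁻¹.val *ᵥ w) := fun w => by
      rw [← Asch.mul_mulVec, ← Asch.mul_mulVec]
      congr 2
      simp [mul_assoc]
    simp only [f, e]
    exact hc _ _
  refine ⟨_, f, hf, ?_⟩
  have hcomm : ⁅P, P⁆ ≤ Cfsg.preserving (Units.coeHom (Matrix (Fin 3) (Fin 3) F)) f := Subgroup.commutator_le.2 fun a ha b hb => by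
    obtain ⟨c, hc⟩ := hsim ha
    obtain ⟨d, hd⟩ := hsim hb
    intro u v
    show f ((a * b * a⁻¹ * b⁻¹).val *ᵥ u) ((a * b * a⁻¹ * b⁻¹).val *ᵥ v) = f u v
    have hinv : ∀ (g : GL (Fin 3) F) (e : Fˣ), (∀ u v, f (g.val *ᵥ u) (g.val *ᵥ v) = e * f u v) →
        ∀ u v, f (g⁻¹.val *ᵥ u) (g⁻¹.val *ᵥ v) = (e⁻¹ : Fˣ) * f u v := fun g e he u v => by
      have h := he (g⁻¹.val *ᵥ u) (g⁻¹.val *ᵥ v)
      rw [Asch.mulVec_inv_mulVec, Asch.mulVec_inv_mulVec] at h
      rw [h, ← mul_assoc, ← Units.val_mul, inv_mul_cancel, Units.val_one, one_mul]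
    rw [Asch.mul_mulVec _ b⁻¹, Asch.mul_mulVec _ b⁻¹, Asch.mul_mulVec _ a⁻¹, Asch.mul_mulVec _ a⁻¹,
      Asch.mul_mulVec a b, Asch.mul_mulVec a b, hc, hd, hinv a c hc, hinv b d hd]
    simp only [Units.val_inv_eq_inv_val]
    field_simp
  rw [hperf] at hcomm
  refine ⟨?_, Or.inl fun g hg hfix => hge ?_⟩
  · rintro _ ⟨g, hg, rfl⟩
    exact fun u v => hcomm hg u v
  let e := (Subfield.topEquiv : (⊤ : Subfield F) ≃+* F)
  let g₁ : GL (Fin 3) (⊤ : Subfield F) := Matrix.GeneralLinearGroup.map e.symm.toRingHom (Q⁻¹ * g * Q)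
  have hg₁ : Matrix.GeneralLinearGroup.map (⊤ : Subfield F).subtype g₁ = Q⁻¹ * g * Q :=
    Units.ext (Matrix.ext fun i j => rfl)
  refine ⟨_, ⟨g₁, ⟨fun u v => ?_, ?_⟩, hg₁⟩, by simp [mul_assoc]⟩
  · refine Subtype.ext ?_
    have h := hfix (Q.val *ᵥ fun i => (u i : F)) (Q.val *ᵥ fun i => (v i : F))
    have he : ∀ i j, ((g₁.val i j : (⊤ : Subfield F)) : F) = (Q⁻¹ * (g * Q)).val i j := fun i j => by
      rw [← mul_assoc, ← hg₁]; rfl
    simp only [f, ← Asch.mul_mulVec, inv_mul_cancel, Units.val_one, Matrix.one_mulVec] at h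
    simp only [Cfsg.hermForm, Matrix.mulVec, dotProduct, Subfield.coe_mul, AddSubmonoidClass.coe_finsetSum,
      SubmonoidClass.coe_pow, Units.coeHom_apply, he] at h ⊢
    exact h
  · show g₁ ∈ (Matrix.GeneralLinearGroup.det : GL (Fin 3) (⊤ : Subfield F) →* _).ker
    exact det_one_of_map hg₁ hg

/-- The irreducible subgroups of `SL₃`. -/
theorem irreducible_list {M : Subgroup (GL (Fin 3) F)} (hM : M ≤ specialLinear (Fin 3) F)
    (hirr : ActsIrreducibly (matrixSet M)) :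
    M = specialLinear (Fin 3) F ∨
      (∃ D : Fin 3 → Submodule F (Fin 3 → F), IsMDecomposition 1 D ∧ M ≤ decompositionStabilizer D) ∨
      (∃ K, IsFieldSubalgebra 3 K ∧ M ≤ subalgebraNormalizer K) ∨
      (∃ R c x y z, R ≤ M ∧ (∀ g ∈ M, ∀ a ∈ R, g * a * g⁻¹ ∈ R) ∧ Asch.Extra 3 R c x y z) ∨
      (∃ (F₁ : Subfield F) (r : ℕ) (B : GL (Fin 3) F), F₁ ≠ ⊤ ∧ r.Prime ∧
        Fintype.card F = Nat.card F₁ ^ r ∧ M ≤ subfieldSubgroup F₁ B) ∨
      ((2 : F) ≠ 0 ∧ ∃ Q, IsNondegenerateQuadraticForm Q ∧ M ≤ quadSimilarityGroup Q) ∨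
      (∃ (σ : F ≃+* F) (f : (Fin 3 → F) → (Fin 3 → F) → F), IsUnitaryForm σ f ∧ M ≤ similarityGroup f ∧
        LowerUnitary M σ f) ∨
      SmallType M := by
  classical
  rcases Asch.core_cases Nat.prime_three (by decide) (Fintype.card_fin 3) hM hirr with ⟨D, hD, hle, -⟩ |
    ⟨K, hK, hle, -⟩ | h | ⟨P, hPM, hn, hperf, hsimple, hna, hcent, habs⟩
  · exact Or.inr (Or.inl ⟨D, hD, hle⟩)
  · exact Or.inr (Or.inr (Or.inl ⟨K, hK, hle⟩))
  · exact Or.inr (Or.inr (Or.inr (Or.inl h)))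
  have hP : Socle M P := ⟨hPM, hn, ⟨hPM.trans hM, hperf, hsimple, hna, habs⟩, hcent⟩
  by_cases hreal : ∃ K : Subfield F, K ≠ ⊤ ∧ RealisableOver K (matrixSet P)
  · obtain ⟨K, hK, hR⟩ := hreal
    exact Or.inr (Or.inr (Or.inr (Or.inr (Or.inl (Asch.realisable_le hK habs hn hR)))))
  have hunit : ∀ (σ : F ≃+* F) (f : (Fin 3 → F) → (Fin 3 → F) → F), IsUnitaryForm σ f →
      FixesForm (matrixSet P) f → M ≤ similarityGroup f := fun σ f hf hfix g hg =>
    Asch.mem_similarityGroup habs (Asch.isSesq_of_unitary hf) hfix (hn g hg)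
  by_cases h2 : (2 : F) = 0
  · haveI : CharP F 2 := CharTwo.of_one_ne_zero_of_two_eq_zero one_ne_zero h2
    rcases even_core P (hPM.trans hM) hperf hsimple hna habs.1
      (fun K hR => by by_contra hK; exact hreal ⟨K, hK, hR⟩) with h | ⟨σ, f, hf, hfix, hroots⟩ | ⟨h4, ⟨e⟩⟩
    · exact Or.inl (le_antisymm hM (h ▸ hPM))
    · exact Or.inr (Or.inr (Or.inr (Or.inr (Or.inr (Or.inr (Or.inl ⟨σ, f, hf, hunit σ f hf hfix,
        LowerUnitary.mono (Or.inr ⟨h2, hroots⟩) hPM⟩))))))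
    · obtain ⟨h1, h3⟩ := small_orders hM hP e
      rw [aut_A6] at h1
      rw [show Nat.card (alternatingGroup (Fin 6)) = 360 by
        have := card_alt 6 (by norm_num); simp [Nat.factorial, -Nat.card_eq_fintype_card] at this ⊢; omega] at h3
      exact Or.inr (Or.inr (Or.inr (Or.inr (Or.inr (Or.inr (Or.inr
        (Or.inr (Or.inl ⟨Or.inl h4, h1, h3, P, hP, ⟨e⟩⟩))))))))
  have hodd : Odd (Fintype.card F) := Asch.odd_card_of_two_ne_zero h2
  rcases odd_core_strong h2 P (hPM.trans hM) hperf hsimple hna habs with h | h | ⟨Q, hQ, hfix⟩ |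
    ⟨h7, ⟨e⟩⟩ | ⟨h3, ⟨e⟩⟩ | ⟨h5, ⟨e⟩⟩
  · obtain ⟨Q, K, hle, hge⟩ := h
    by_cases hK : K = ⊤
    · subst hK
      left
      refine le_antisymm hM (fun g hg => hPM (hle ?_))
      let e := (Subfield.topEquiv : (⊤ : Subfield F) ≃+* F)
      have hgc : Q⁻¹ * g * Q ∈ (specialLinear (Fin 3) (⊤ : Subfield F)).map
          (Matrix.GeneralLinearGroup.map (⊤ : Subfield F).subtype) := by
        let g₁ : GL (Fin 3) (⊤ : Subfield F) := Matrix.GeneralLinearGroup.map e.symm.toRingHom (Q⁻¹ * g * Q)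
        have hg₁ : Matrix.GeneralLinearGroup.map (⊤ : Subfield F).subtype g₁ = Q⁻¹ * g * Q := by
          refine Units.ext (Matrix.ext fun i j => ?_)
          rfl
        refine ⟨g₁, ?_, hg₁⟩
        show g₁ ∈ (Matrix.GeneralLinearGroup.det : GL (Fin 3) (⊤ : Subfield F) →* _).ker
        exact det_one_of_map hg₁ hg
      exact ⟨_, hgc, by simp [mul_assoc]⟩
    · refine absurd ⟨K, hK, realisable_of_rat K Q ?_⟩ hreal
      rw [← hperf]
      exact (Subgroup.commutator_mono hge hge).trans (commutator_subfield_le K Q)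
  · rcases unitary_type_cases hperf h with h' | ⟨σ, f, hf, hfix, hlow⟩
    · exact absurd h' hreal
    · exact Or.inr (Or.inr (Or.inr (Or.inr (Or.inr (Or.inr (Or.inl ⟨σ, f, hf, hunit σ f hf hfix, hlow.mono hPM⟩))))))
  · refine Or.inr (Or.inr (Or.inr (Or.inr (Or.inr (Or.inl ⟨h2, Q, hQ, fun g hg => ?_⟩)))))
    rw [Asch.quadSimilarityGroup_eq h2 hQ]
    exact Asch.mem_similarityGroup habs (Asch.isSesq_of_bilinear hQ.polar_bilinear hQ.nondegenerate)
      (Asch.fixesForm_polar hfix) (hn g hg)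
  · obtain ⟨h1, h8⟩ := small_orders hM hP e
    rw [aut_L32] at h1
    rw [card_L32] at h8
    exact Or.inr (Or.inr (Or.inr (Or.inr (Or.inr (Or.inr (Or.inr (Or.inl ⟨hodd, h7, h1, h8⟩)))))))
  · obtain ⟨h1, h8⟩ := small_orders hM hP e
    rw [aut_A6] at h1
    rw [show Nat.card (alternatingGroup (Fin 6)) = 360 by
      have := card_alt 6 (by norm_num); simp [Nat.factorial, -Nat.card_eq_fintype_card] at this ⊢; omega] at h8
    exact Or.inr (Or.inr (Or.inr (Or.inr (Or.inr (Or.inr (Or.inr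
      (Or.inr (Or.inl ⟨Or.inr ⟨hodd, h3⟩, h1, h8, P, hP, ⟨e⟩⟩))))))))
  · obtain ⟨h1, h8⟩ := small_orders hM hP e
    rw [aut_A7] at h1
    rw [show Nat.card (alternatingGroup (Fin 7)) = 2520 by
      have := card_alt 7 (by norm_num); simp [Nat.factorial, -Nat.card_eq_fintype_card] at this ⊢; omega] at h8
    exact Or.inr (Or.inr (Or.inr (Or.inr (Or.inr (Or.inr (Or.inr (Or.inr (Or.inr ⟨h5, h1, h8⟩))))))))

end Cfsg.Lib.Linear.Mitchell.Max
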