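import Cfsg.Agent.Lib.Linear.Mitchell.MaxList
import Cfsg.Agent.Lib.Linear.Mitchell.MaxAut
import Cfsg.Agent.Lib.Linear.Mitchell.A6Ext

/-!
# No group with socle `A₆` contains the extraspecial frame with its quaternion group
-/

set_option autoImplicit false
set_option linter.unusedSectionVars false

namespace Cfsg.Lib.Linear.Mitchell.Max

open Cfsg.Geo Cfsg.Lib.Linear
open scoped Matrix MatrixGroups

/-- In dimension three, away from characteristic five, no element of order five is conjugate to its square. -/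
theorem eq_one_of_conj_sq {F : Type*} [Field F] (h5 : (5 : F) ≠ 0) {u k : GL (Fin 3) F} (hu : u ^ 5 = 1)
    (hk : k * u * k⁻¹ = u ^ 2) : u = 1 := by
  classical
  let K := AlgebraicClosure F
  let ι := Matrix.GeneralLinearGroup.map (n := Fin 3) (algebraMap F K)
  set U := ι u
  have hU5 : U ^ 5 = 1 := by rw [← map_pow, hu, map_one]
  have hUk : ι k * U * (ι k)⁻¹ = U ^ 2 := by rw [← map_inv, ← map_mul, ← map_mul, hk, map_pow]
  let Eig : K → Prop := fun l => ∃ v, v ≠ 0 ∧ U.val *ᵥ v = l • v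
  have hsq : ∀ l, Eig l → Eig (l ^ 2) := by
    rintro l ⟨v, hv, hl⟩
    refine ⟨(ι k)⁻¹.val *ᵥ v, Asch.move_ne_zero _ hv, ?_⟩
    have h1 : U * (ι k)⁻¹ = (ι k)⁻¹ * U ^ 2 := by rw [← hUk]; group
    rw [← Asch.mul_mulVec, h1, Asch.mul_mulVec, sq U, Asch.mul_mulVec, hl, Matrix.mulVec_smul, hl, smul_smul,
      Matrix.mulVec_smul, sq]
  have h5' : ∀ l, Eig l → l ^ 5 = 1 := by
    rintro l ⟨v, hv, hl⟩
    have h1 : ∀ n : ℕ, (U ^ n).val *ᵥ v = l ^ n • v := by
      intro n
      induction n with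
      | zero => simp
      | succ n ih => rw [pow_succ', Asch.mul_mulVec, ih, Matrix.mulVec_smul, hl, smul_smul, pow_succ]
    have h2 := h1 5
    rw [hU5, Units.val_one, Matrix.one_mulVec] at h2
    have h3 : (l ^ 5 - 1) • v = 0 := by rw [sub_smul, one_smul, ← h2, sub_self]
    exact sub_eq_zero.1 ((smul_eq_zero.1 h3).resolve_right hv)
  set χ := U.val.charpoly with hχ
  have hχ0 : χ ≠ 0 := (Matrix.charpoly_monic _).ne_zero
  have hdeg : χ.natDegree = 3 := (Matrix.charpoly_natDegree_eq_dim _).trans (Fintype.card_fin 3)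
  have hroot : ∀ l, Eig l ↔ l ∈ χ.roots := by
    intro l
    have hsm : Matrix.scalar (Fin 3) l = l • (1 : Matrix (Fin 3) (Fin 3) K) := (Matrix.smul_one_eq_diagonal l).symm
    rw [Polynomial.mem_roots hχ0, Polynomial.IsRoot, hχ, Matrix.eval_charpoly, hsm,
      ← Matrix.exists_mulVec_eq_zero_iff]
    refine exists_congr fun v => and_congr_right fun _ => ?_
    rw [Matrix.sub_mulVec, Matrix.smul_mulVec, Matrix.one_mulVec, sub_eq_zero, eq_comm]
  have hone : ∀ l, Eig l → l = 1 := by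
    intro l hl
    by_contra h1
    have h0 : l ≠ 0 := fun e => by have := h5' l hl; rw [e] at this; simp at this
    have hord : orderOf l = 5 := by
      haveI : Fact (Nat.Prime 5) := ⟨by norm_num⟩
      exact orderOf_eq_prime (h5' l hl) h1
    have hmem : ∀ i : ℕ, Eig (l ^ (2 ^ i)) := by
      intro i
      induction i with
      | zero => simpa using hl
      | succ i ih => rw [pow_succ, pow_mul]; exact hsq _ ih
    have hsub : (Finset.univ.image fun i : Fin 4 => l ^ (2 ^ (i : ℕ))) ⊆ χ.roots.toFinset := fun x hx => by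
      obtain ⟨i, -, rfl⟩ := Finset.mem_image.1 hx
      exact Multiset.mem_toFinset.2 ((hroot _).1 (hmem i))
    have hinj : Function.Injective fun i : Fin 4 => l ^ (2 ^ (i : ℕ)) := by
      intro i j he
      have hfin : IsOfFinOrder l := orderOf_pos_iff.1 (by rw [hord]; norm_num)
      have h2 := hfin.pow_inj_mod.1 he
      rw [hord] at h2
      exact (show ∀ i j : Fin 4, 2 ^ (i : ℕ) % 5 = 2 ^ (j : ℕ) % 5 → i = j by decide) i j h2
    have h4 := (Finset.card_le_card hsub).trans ((Multiset.toFinset_card_le _).trans (Polynomial.card_roots' χ))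
    rw [Finset.card_image_of_injective _ hinj, hdeg, Finset.card_univ, Fintype.card_fin] at h4
    omega
  have hsplit : χ.Splits := IsAlgClosed.splits χ
  have hroots : χ.roots = Multiset.replicate 3 1 := by
    refine Multiset.eq_replicate.2 ⟨?_, fun l hl => hone l ((hroot l).2 hl)⟩
    rw [← hdeg, ← Polynomial.splits_iff_card_roots]
    exact hsplit
  have hχeq : χ = (Polynomial.X - Polynomial.C 1) ^ 3 := by
    rw [hsplit.eq_prod_roots_of_monic (Matrix.charpoly_monic _), hroots]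
    simp [pow_three]
  set N : Matrix (Fin 3) (Fin 3) K := U.val - 1 with hN
  have hN3 : N ^ 3 = 0 := by
    have h := Matrix.aeval_self_charpoly U.val
    rw [← hχ, hχeq] at h
    simpa using h
  have hUN : U.val = 1 + N := by rw [hN]; abel
  have h5N : (5 : K) • N + (10 : K) • N ^ 2 = 0 := by
    have h := congrArg Units.val hU5
    rw [Units.val_pow_eq_pow_val, Units.val_one, hUN, add_comm 1 N, Commute.add_pow (Commute.one_right N)] at h
    simp only [Finset.sum_range_succ, Finset.sum_range_zero, one_pow, mul_one] at h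
    have h4 : N ^ 4 = 0 := by rw [pow_succ, hN3, zero_mul]
    have h5 : N ^ 5 = 0 := by rw [pow_succ, h4, zero_mul]
    simp only [hN3, h4, h5, pow_zero, pow_one, zero_mul, add_zero, zero_add,
      show Nat.choose 5 0 = 1 from rfl, show Nat.choose 5 1 = 5 from rfl, show Nat.choose 5 2 = 10 from rfl,
      Nat.cast_one, mul_one] at h
    rw [add_assoc] at h
    have h' := add_eq_left.1 h
    rw [Algebra.smul_def, Algebra.smul_def, map_ofNat, map_ofNat, ← h']
    simp only [Nat.cast_ofNat]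
    rw [(Commute.ofNat_left 5 N).eq, (Commute.ofNat_left 10 (N ^ 2)).eq]
  have h5K : (5 : K) ≠ 0 := by
    rw [← map_ofNat (algebraMap F K) 5]
    exact fun h => h5 ((map_eq_zero _).1 h)
  have hN2 : N ^ 2 = 0 := by
    have h := congrArg (fun M => N * M) h5N
    simp only [mul_add, mul_smul_comm, ← pow_succ', mul_zero, ← sq, hN3, smul_zero, add_zero] at h
    exact (smul_eq_zero.1 h).resolve_left h5K
  rw [hN2, smul_zero, add_zero] at h5N
  have hN0 := (smul_eq_zero.1 h5N).resolve_left h5K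
  have hU1 : U = 1 := Units.ext (by rw [hUN, hN0, add_zero, Units.val_one])
  refine Units.ext (Matrix.map_injective (algebraMap F K).injective ?_)
  have h := congrArg Units.val hU1
  rw [Units.val_one] at h ⊢
  show u.val.map _ = (1 : Matrix (Fin 3) (Fin 3) F).map _
  rw [Matrix.map_one _ (map_zero _) (map_one _)]
  exact h

variable {F : Type*} [Field F] [Fintype F] {c : F}

/-- The diagonal matrix of the frame. -/
def frX (c : F) : Matrix (Fin 3) (Fin 3) F := !![1, 0, 0; 0, c ^ 2, 0; 0, 0, c]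

/-- The permutation matrix of the frame. -/
def frY : Matrix (Fin 3) (Fin 3) F := !![0, 0, 1; 1, 0, 0; 0, 1, 0]

/-- The Fourier matrix. -/
def frH (c : F) : Matrix (Fin 3) (Fin 3) F := (c - c ^ 2)⁻¹ • !![1, 1, 1; 1, c, c ^ 2; 1, c ^ 2, c]

/-- The matrix moving the Fourier matrix to the second quaternion generator. -/
def frK (c : F) : Matrix (Fin 3) (Fin 3) F := !![1, 0, 0; 0, 1, 0; 0, 0, c]

theorem frame_t (hc : c ^ 2 + c + 1 = 0) (h3 : (3 : F) ≠ 0) : c - c ^ 2 ≠ 0 := fun e => h3 (by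
  linear_combination (3 - 2 * c) * hc - (2 * c + 1) * e)

theorem frX_cube (hc : c ^ 2 + c + 1 = 0) : frX c * frX c * frX c = 1 := by
  ext i j
  have h : c ^ 3 = 1 := by linear_combination (c - 1) * hc
  fin_cases i <;> fin_cases j <;> simp [frX] <;>
    first | linear_combination (c ^ 3 + 1) * h | linear_combination h

theorem frY_cube : (frY : Matrix (Fin 3) (Fin 3) F) * frY * frY = 1 := by
  ext i j
  fin_cases i <;> fin_cases j <;> simp [frY]

theorem frH_det (hc : c ^ 2 + c + 1 = 0) (h3 : (3 : F) ≠ 0) : (frH c).det = 1 := by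
  have ht := frame_t hc h3
  have hM : (!![1, 1, 1; 1, c, c ^ 2; 1, c ^ 2, c] : Matrix (Fin 3) (Fin 3) F).det = (c - c ^ 2) ^ 3 := by
    simp [Matrix.det_fin_three]
    linear_combination (c ^ 4 - 4 * c ^ 3 + 5 * c ^ 2 - 2 * c) * hc
  rw [frH, Matrix.det_smul, hM, Fintype.card_fin, inv_pow, inv_mul_cancel₀ (pow_ne_zero _ ht)]

theorem frYX (hc : c ^ 2 + c + 1 = 0) : (frY : Matrix (Fin 3) (Fin 3) F) * frX c = c • (frX c * frY) := by
  ext i j
  fin_cases i <;> fin_cases j <;> simp [frX, frY] <;>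
    first | ring1 | linear_combination (c - 1) * hc | linear_combination -(c - 1) * hc

theorem frHX (hc : c ^ 2 + c + 1 = 0) : frH c * frX c = frY * frH c := by
  ext i j
  fin_cases i <;> fin_cases j <;> simp [frH, frX, frY, Matrix.mul_apply, Fin.sum_univ_three] <;>
    first
      | ring1
      | linear_combination (c - c ^ 2)⁻¹ * (c - 1) * hc
      | linear_combination (c - c ^ 2)⁻¹ * c * (c - 1) * hc

theorem frHY (hc : c ^ 2 + c + 1 = 0) : frH c * frY = frX c * frX c * frH c := by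
  ext i j
  fin_cases i <;> fin_cases j <;> simp [frH, frX, frY, Matrix.mul_apply, Fin.sum_univ_three] <;>
    first
      | ring1
      | linear_combination -((c - c ^ 2)⁻¹ * (c - 1)) * hc
      | linear_combination -((c - c ^ 2)⁻¹ * c * (c - 1)) * hc
      | linear_combination -((c - c ^ 2)⁻¹ * (c ^ 3 + 1) * (c - 1)) * hc
      | linear_combination -((c - c ^ 2)⁻¹ * c ^ 2 * (c - 1)) * hc

theorem frKX : frK c * frX c = frX c * frK c := by
  ext i j
  fin_cases i <;> fin_cases j <;> simp [frK, frX]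

theorem frKY (hc : c ^ 2 + c + 1 = 0) : frK c * frY = c ^ 2 • (frX c * frX c * frY * frK c) := by
  ext i j
  fin_cases i <;> fin_cases j <;> simp [frK, frX, frY] <;>
    first
      | ring1
      | linear_combination (c - 1) * hc | linear_combination -(c - 1) * hc
      | linear_combination (c - 1) * (c ^ 3 + 1) * hc | linear_combination -((c - 1) * (c ^ 3 + 1)) * hc
      | linear_combination c * (c - 1) * hc | linear_combination -(c * (c - 1)) * hc
      | linear_combination c ^ 2 * (c - 1) * hc | linear_combination -(c ^ 2 * (c - 1)) * hc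

theorem frYK (hc : c ^ 2 + c + 1 = 0) : (frY : Matrix (Fin 3) (Fin 3) F) * frK c = c • (frK c * (frX c * frY)) := by
  ext i j
  fin_cases i <;> fin_cases j <;> simp [frK, frX, frY] <;>
    first
      | ring1
      | linear_combination (c - 1) * hc | linear_combination -(c - 1) * hc
      | linear_combination c * (c - 1) * hc | linear_combination -(c * (c - 1)) * hc

theorem fr_scalar (hc1 : c ≠ 1) (hc : c ^ 2 + c + 1 = 0) {a b : ℕ} (ha : a < 3) (hb : b < 3) {s : F}
    (hs : s ≠ 0) (h : frX c ^ a * (frY : Matrix (Fin 3) (Fin 3) F) ^ b = s • 1) : a = 0 ∧ b = 0 := by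
  have hX : ∀ n : ℕ, frX c ^ n = Matrix.diagonal ![1, c ^ (2 * n), c ^ n] := by
    intro n
    induction n with
    | zero => ext i j; fin_cases i <;> fin_cases j <;> simp
    | succ n ih =>
      rw [pow_succ, ih]
      ext i j
      fin_cases i <;> fin_cases j <;> simp [frX] <;> ring
  rw [hX] at h
  have hb0 : b = 0 := by
    by_contra hb0
    have h00 := congrFun (congrFun h 0) 0
    rw [Matrix.diagonal_mul, Matrix.smul_apply, Matrix.one_apply_eq, smul_eq_mul, mul_one] at h00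
    obtain rfl | rfl : b = 1 ∨ b = 2 := by omega
    · simp [frY] at h00; exact hs h00.symm
    · simp [frY, sq] at h00; exact hs h00.symm
  subst hb0
  rw [pow_zero, mul_one] at h
  have h00 := congrFun (congrFun h 0) 0
  have h22 := congrFun (congrFun h 2) 2
  simp at h00 h22
  have hca : c ^ a = 1 := h22.trans h00.symm
  refine ⟨?_, rfl⟩
  obtain rfl | rfl | rfl : a = 0 ∨ a = 1 ∨ a = 2 := by omega
  · rfl
  · exact absurd (by simpa using hca) hc1
  · exact absurd (by linear_combination (c - 1) * hc - c * hca) hc1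

/-- Whether two matrices agree up to a non-zero scalar. -/
def Sim (a b : GL (Fin 3) F) : Prop := ∃ s ∈ scalars (Fin 3) F, a = s * b

theorem sim_of_smul {a b : GL (Fin 3) F} {d : F} (hd : d ≠ 0) (h : a.val = d • b.val) : Sim a b := by
  refine ⟨Units.map (Matrix.scalar (Fin 3) : F →+* Matrix (Fin 3) (Fin 3) F).toMonoidHom (Units.mk0 d hd),
    ⟨_, rfl⟩, Units.ext ?_⟩
  rw [Units.val_mul, h]
  show _ = Matrix.diagonal (fun _ => d) * b.val
  rw [← Matrix.smul_one_eq_diagonal, Matrix.smul_mul, one_mul]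

/-- The elements of a frame. -/
structure FrameIn (M : Subgroup (GL (Fin 3) F)) (c : F) where
  /-- The change of basis. -/
  base : GL (Fin 3) F
  /-- The first generator. -/
  gx : GL (Fin 3) F
  /-- The second generator. -/
  gy : GL (Fin 3) F
  /-- The rotor. -/
  gh : GL (Fin 3) F
  /-- The auxiliary matrix. -/
  gk : GL (Fin 3) F
  val_x : gx.val = frX c
  val_y : gy.val = frY
  val_h : gh.val = frH c
  val_k : gk.val = frK c
  mem_x : base * gx * base⁻¹ ∈ M
  mem_y : base * gy * base⁻¹ ∈ M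
  mem_h : base * gh * base⁻¹ ∈ M
  mem_h' : base * (gk * gh * gk⁻¹) * base⁻¹ ∈ M

theorem no_A6_frame {M P : Subgroup (GL (Fin 3) F)} (hM : M ≤ specialLinear (Fin 3) F) (hP : Socle M P)
    (e : P ⧸ (scalars (Fin 3) F).subgroupOf P ≃* alternatingGroup (Fin 6)) (h5 : (5 : F) ≠ 0)
    (hc : c ^ 2 + c + 1 = 0) (h3 : (3 : F) ≠ 0) (D : FrameIn M c) : False := by
  classical
  have hc0 : c ≠ 0 := fun h => by rw [h] at hc; simp at hc
  have hc1 : c ≠ 1 := fun h => h3 (by rw [h] at hc; linear_combination hc)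
  set Z := (scalars (Fin 3) F).subgroupOf M with hZ
  haveI hZn : Z.Normal := ⟨fun z hz g => by
    rw [hZ, Subgroup.mem_subgroupOf] at hz ⊢
    rw [Subgroup.coe_mul, Subgroup.coe_mul, Subgroup.coe_inv, Asch.scalars_comm (g := (g : GL (Fin 3) F)) hz,
      mul_inv_cancel_right]
    exact hz⟩
  let π : M →* M ⧸ Z := QuotientGroup.mk' Z
  have hπ1 : ∀ g : M, π g = 1 ↔ (g : GL (Fin 3) F) ∈ scalars (Fin 3) F := fun g =>
    (QuotientGroup.eq_one_iff g).trans Subgroup.mem_subgroupOf
  have hπsim : ∀ g h : M, Sim (g : GL (Fin 3) F) h → π g = π h := by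
    rintro g h ⟨s, hs, hgs⟩
    rw [← mul_inv_eq_one, ← map_inv, ← map_mul, hπ1, Subgroup.coe_mul, Subgroup.coe_inv, hgs,
      mul_inv_cancel_right]
    exact hs
  let inc : P →* M := Subgroup.inclusion hP.le
  let ψ : P →* M ⧸ Z := π.comp inc
  have hker : ψ.ker = (scalars (Fin 3) F).subgroupOf P := by
    ext p
    rw [MonoidHom.mem_ker, Subgroup.mem_subgroupOf]
    exact hπ1 (inc p)
  haveI hSn : ψ.range.Normal := ⟨by
    rintro _ ⟨p, rfl⟩ g
    obtain ⟨g, rfl⟩ := QuotientGroup.mk'_surjective Z g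
    refine ⟨⟨g * p * (g : GL (Fin 3) F)⁻¹, hP.normal g g.2 p p.2⟩, ?_⟩
    show π _ = π g * π (inc p) * (π g)⁻¹
    rw [← map_inv, ← map_mul, ← map_mul]
    rfl⟩
  let eS : ψ.range ≃* alternatingGroup (Fin 6) :=
    ((QuotientGroup.quotientKerEquivRange ψ).symm.trans (QuotientGroup.quotientMulEquivOfEq hker)).trans e
  have hfaith : ∀ g, (∀ s ∈ ψ.range, g * s = s * g) → g = 1 := by
    intro g hg
    obtain ⟨g, rfl⟩ := QuotientGroup.mk'_surjective Z g
    refine (hπ1 g).2 (hP.cent g g.2 fun p hp => ?_)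
    have h := hg (ψ ⟨p, hp⟩) ⟨_, rfl⟩
    have h1 : π (g * inc ⟨p, hp⟩ * g⁻¹ * (inc ⟨p, hp⟩)⁻¹) = 1 := by
      rw [map_mul, map_mul, map_mul, map_inv, map_inv]
      rw [show π g * π (inc ⟨p, hp⟩) = π (inc ⟨p, hp⟩) * π g from h]
      group
    exact (hπ1 _).1 h1
  have hidx : ψ.range.index ∣ 4 := by
    obtain ⟨φ, hφ⟩ := exists_conjQuot hP.normal
    have hle : φ.ker ≤ Z := fun g hg => by
      rw [hZ, Subgroup.mem_subgroupOf]
      refine hP.cent g g.2 fun p hp => ?_
      have h1 := hφ g ⟨p, hp⟩ ⟨_, hP.normal g g.2 p hp⟩ rfl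
      rw [MonoidHom.mem_ker.1 hg, MulAut.one_apply, QuotientGroup.eq] at h1
      rw [Subgroup.mem_subgroupOf] at h1
      simp only [Subgroup.coe_mul, Subgroup.coe_inv] at h1
      have h2 := (Asch.scalars_comm (g := p) h1).trans (mul_assoc _ _ _)
      rw [← mul_assoc p, mul_inv_cancel, one_mul] at *
      rw [show (g : GL (Fin 3) F) * p * (g : GL (Fin 3) F)⁻¹ * p⁻¹ =
        p * (p⁻¹ * ((g : GL (Fin 3) F) * p * (g : GL (Fin 3) F)⁻¹)) * p⁻¹ by group,
        Asch.scalars_comm (g := p) h1, mul_inv_cancel_right]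
      exact h1
    have h1 : Nat.card (M ⧸ Z) ∣ 1440 := by
      rw [← Subgroup.index_eq_card]
      refine (Subgroup.index_dvd_of_le hle).trans ?_
      rw [Subgroup.index_ker]
      exact (Subgroup.card_subgroup_dvd_card _).trans (by rw [card_mulAut_congr e, aut_A6])
    have h2 : Nat.card ψ.range = 360 := (Nat.card_congr eS.toEquiv).trans A6Ext.card_alt_six
    rw [← Subgroup.index_mul_card ψ.range, h2, show 1440 = 4 * 360 by norm_num] at h1
    exact Nat.dvd_of_mul_dvd_mul_right (by norm_num) h1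
  -- the frame
  let cj := (MulAut.conj D.base).toMonoidHom
  let mx : M := ⟨_, D.mem_x⟩
  let my : M := ⟨_, D.mem_y⟩
  let mh : M := ⟨_, D.mem_h⟩
  let mh' : M := ⟨_, D.mem_h'⟩
  have hsim : ∀ (a b : GL (Fin 3) F) (a' b' : M), (a' : GL (Fin 3) F) = cj a → (b' : GL (Fin 3) F) = cj b →
      Sim a b → π a' = π b' := by
    rintro a b a' b' ha' hb' ⟨s, hs, hab⟩
    refine hπsim _ _ ⟨s, hs, ?_⟩
    rw [ha', hb', hab, map_mul]
    congr 1
    show D.base * s * D.base⁻¹ = s
    rw [Asch.scalars_comm hs, mul_inv_cancel_right]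
  have hsmul : ∀ (a b : GL (Fin 3) F) (a' b' : M) (d : F), d ≠ 0 → (a' : GL (Fin 3) F) = cj a →
      (b' : GL (Fin 3) F) = cj b → a.val = d • b.val → π a' = π b' :=
    fun a b a' b' d hd ha' hb' h => hsim a b a' b' ha' hb' (sim_of_smul hd h)
  have hyx : π my * π mx = π mx * π my := by
    rw [← map_mul, ← map_mul]
    exact hsmul (D.gy * D.gx) (D.gx * D.gy) _ _ c hc0 (map_mul cj _ _).symm (map_mul cj _ _).symm
      (by rw [Units.val_mul, Units.val_mul, D.val_x, D.val_y, frYX hc])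
  have hx3 : π mx ^ 3 = 1 := by
    rw [← map_pow, ← map_one π]
    refine congrArg _ (Subtype.ext ?_)
    have h : D.gx ^ 3 = 1 := Units.ext (by
      rw [Units.val_pow_eq_pow_val, D.val_x, pow_succ, sq, frX_cube hc, Units.val_one])
    rw [SubmonoidClass.coe_pow]
    show (cj D.gx) ^ 3 = ((1 : M) : GL (Fin 3) F)
    rw [← map_pow, h, map_one, Subgroup.coe_one]
  have hy3 : π my ^ 3 = 1 := by
    rw [← map_pow, ← map_one π]
    refine congrArg _ (Subtype.ext ?_)
    have h : D.gy ^ 3 = 1 := Units.ext (by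
      rw [Units.val_pow_eq_pow_val, D.val_y, pow_succ, sq, frY_cube, Units.val_one])
    rw [SubmonoidClass.coe_pow]
    show (cj D.gy) ^ 3 = ((1 : M) : GL (Fin 3) F)
    rw [← map_pow, h, map_one, Subgroup.coe_one]
  have hadd : ∀ g : M ⧸ Z, g ^ 3 = 1 → ∀ a b : ZMod 3, g ^ (a + b).val = g ^ a.val * g ^ b.val := fun g hg a b => by
    rw [← pow_add, ZMod.val_add]; exact (pow_eq_pow_mod _ hg).symm
  let f : Multiplicative A6Ext.V →* M ⧸ Z := MonoidHom.mk'
    (fun v => π mx ^ (Multiplicative.toAdd v 0).val * π my ^ (Multiplicative.toAdd v 1).val) (fun v w => by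
      show π mx ^ (Multiplicative.toAdd v 0 + Multiplicative.toAdd w 0).val *
        π my ^ (Multiplicative.toAdd v 1 + Multiplicative.toAdd w 1).val = _
      rw [hadd _ hx3, hadd _ hy3]
      exact (Commute.pow_pow (show Commute (π mx) (π my) from hyx.symm) _ _).mul_mul_mul_comm _ _)
  have hfv : ∀ v : A6Ext.V, f (.ofAdd v) = π mx ^ (v 0).val * π my ^ (v 1).val := fun v => rfl
  have hf : Function.Injective f := by
    rw [injective_iff_map_eq_one]
    intro v hv
    obtain ⟨v, rfl⟩ := Multiplicative.ofAdd.surjective v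
    rw [hfv, ← map_pow, ← map_pow, ← map_mul, hπ1] at hv
    obtain ⟨s, hs⟩ := (mem_scalars_iff _).1 hv
    have hs' : (D.gx ^ (v 0).val * D.gy ^ (v 1).val).val = (s : F) • 1 := by
      have h1 : ((mx ^ (v 0).val * my ^ (v 1).val : M) : GL (Fin 3) F) =
          cj (D.gx ^ (v 0).val * D.gy ^ (v 1).val) := by
        rw [map_mul, map_pow, map_pow]; rfl
      rw [h1] at hs
      have h2 := congrArg (fun X => D.base⁻¹.val * X * D.base.val) hs
      simpa [cj, mul_assoc, Matrix.mul_smul, Matrix.smul_mul] using h2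
    rw [Units.val_mul, Units.val_pow_eq_pow_val, Units.val_pow_eq_pow_val, D.val_x, D.val_y] at hs'
    obtain ⟨e0, e1⟩ := fr_scalar hc1 hc (ZMod.val_lt _) (ZMod.val_lt _) s.ne_zero hs'
    have key : v 0 = 0 ∧ v 1 = 0 := ⟨(ZMod.val_eq_zero _).1 e0, (ZMod.val_eq_zero _).1 e1⟩
    refine Multiplicative.toAdd.injective (funext fun i => ?_)
    fin_cases i
    · exact key.1
    · exact key.2
  have conjf : ∀ (g : M ⧸ Z) (L : A6Ext.M2), g * π mx * g⁻¹ = f (.ofAdd (L *ᵥ ![1, 0])) →
      g * π my * g⁻¹ = f (.ofAdd (L *ᵥ ![0, 1])) →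
      ∀ v, g * f (.ofAdd v) * g⁻¹ = f (.ofAdd (L *ᵥ v)) := by
    intro g L hgx hgy v
    have hsplit : g * f (.ofAdd v) * g⁻¹ = (g * π mx * g⁻¹) ^ (v 0).val * (g * π my * g⁻¹) ^ (v 1).val := by
      rw [hfv, conj_pow, conj_pow]; group
    rw [hsplit, hgx, hgy, ← map_pow f, ← map_pow f, ← map_mul f]
    refine congrArg f (Multiplicative.toAdd.injective ?_)
    rw [toAdd_mul, toAdd_pow, toAdd_pow, toAdd_ofAdd, toAdd_ofAdd, toAdd_ofAdd, ← Matrix.mulVec_smul,
      ← Matrix.mulVec_smul, ← Matrix.mulVec_add]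
    congr 1
    ext i
    fin_cases i <;> simp
  have hfx : f (.ofAdd ![1, 0]) = π mx := by rw [hfv]; simp [ZMod.val_one]
  have hfy : f (.ofAdd ![0, 1]) = π my := by rw [hfv]; simp [ZMod.val_one]
  have m2 : ZMod.val (2 : ZMod 3) = 2 := rfl
  have ha : ∀ v, π mh * f (.ofAdd v) * (π mh)⁻¹ = f (.ofAdd (A6Ext.qA *ᵥ v)) := by
    refine conjf _ _ ?_ ?_
    · rw [show A6Ext.qA *ᵥ ![1, 0] = ![0, 1] by decide, hfy, mul_inv_eq_iff_eq_mul, ← map_mul, ← map_mul]
      exact hsmul (D.gh * D.gx) (D.gy * D.gh) _ _ 1 one_ne_zero (map_mul cj _ _).symm (map_mul cj _ _).symm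
        (by rw [one_smul, Units.val_mul, Units.val_mul, D.val_h, D.val_x, D.val_y, frHX hc])
    · rw [show A6Ext.qA *ᵥ ![0, 1] = ![2, 0] by decide, hfv, mul_inv_eq_iff_eq_mul]
      simp only [Matrix.cons_val_zero, Matrix.cons_val_one, m2, ZMod.val_zero, pow_zero, mul_one]
      rw [sq, ← map_mul, ← map_mul, ← map_mul]
      exact hsmul (D.gh * D.gy) (D.gx * D.gx * D.gh) _ _ 1 one_ne_zero (map_mul cj _ _).symm
        (by rw [map_mul, map_mul]; rfl)
        (by rw [one_smul, Units.val_mul, Units.val_mul, Units.val_mul, D.val_h, D.val_x, D.val_y, frHY hc])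
  have hb : ∀ v, π mh' * f (.ofAdd v) * (π mh')⁻¹ = f (.ofAdd (A6Ext.qB *ᵥ v)) := by
    set h' := D.gk * D.gh * D.gk⁻¹ with hh'
    have hk : D.gk.val = frK c := D.val_k
    refine conjf _ _ ?_ ?_
    · rw [show A6Ext.qB *ᵥ ![1, 0] = ![2, 1] by decide, hfv, mul_inv_eq_iff_eq_mul]
      simp only [Matrix.cons_val_zero, Matrix.cons_val_one, m2, ZMod.val_one, pow_one]
      rw [sq, ← map_mul, ← map_mul, ← map_mul, ← map_mul]
      refine hsmul (h' * D.gx) (D.gx * D.gx * D.gy * h') _ _ (c ^ 2) (pow_ne_zero _ hc0) (map_mul cj _ _).symm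
        (by rw [map_mul, map_mul, map_mul]; rfl) ?_
      have e1 : h' * D.gx = D.gk * (D.gh * D.gx) * D.gk⁻¹ := by
        have hcom : D.gk⁻¹ * D.gx = D.gx * D.gk⁻¹ := by
          have : Commute D.gk D.gx := Units.ext (by rw [Units.val_mul, Units.val_mul, hk, D.val_x, frKX])
          exact this.inv_left.eq
        rw [hh', mul_assoc _ D.gk⁻¹, hcom]; group
      rw [e1, hh', Units.val_mul, Units.val_mul, Units.val_mul D.gh, D.val_h, D.val_x, frHX hc, ← mul_assoc, hk,
        frKY hc]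
      simp only [Units.val_mul, hk, D.val_x, D.val_y, D.val_h, Matrix.smul_mul, mul_assoc]
    · rw [show A6Ext.qB *ᵥ ![0, 1] = ![1, 1] by decide, hfv, mul_inv_eq_iff_eq_mul]
      simp only [Matrix.cons_val_zero, Matrix.cons_val_one, ZMod.val_one, pow_one]
      rw [← map_mul, ← map_mul, ← map_mul]
      refine hsmul (h' * D.gy) (D.gx * D.gy * h') _ _ (c * c ^ 2 * c ^ 2) (by simp [hc0]) (map_mul cj _ _).symm
        (by rw [map_mul, map_mul]; rfl) ?_
      -- `K⁻¹ Y = c X Y K⁻¹`, `H X Y = Y X² H`, `K Y X² = c² X² Y X² K`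
      have e1 : (D.gk⁻¹).val * D.gy.val = c • (D.gx.val * D.gy.val * (D.gk⁻¹).val) := by
        have h := congrArg (fun X => (D.gk⁻¹).val * X * (D.gk⁻¹).val) (frYK hc)
        simp only [Matrix.mul_smul, Matrix.smul_mul, ← hk, ← D.val_x, ← D.val_y] at h
        rw [mul_assoc, mul_assoc D.gy.val, Units.mul_inv, mul_one, ← mul_assoc, Units.inv_mul, one_mul] at h
        exact h
      have e2 : frH c * (frX c * frY) = frY * (frX c * frX c) * frH c := by
        rw [← mul_assoc, frHX hc, mul_assoc, frHY hc]; simp only [mul_assoc]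
      have e3 : frY * (frX c * frX c) = c ^ 2 • (frX c * frX c * frY) := by
        rw [← mul_assoc, frYX hc, Matrix.smul_mul, mul_assoc (frX c), frYX hc, Matrix.mul_smul, smul_smul, ← sq,
          ← mul_assoc]
      have e4 : frK c * (frX c * frX c * frY) = c ^ 2 • (frX c * frX c * (frX c * frX c * frY) * frK c) := by
        rw [← mul_assoc, ← mul_assoc, frKX, mul_assoc (frX c) (frK c), frKX, ← mul_assoc, mul_assoc (frX c * frX c),
          frKY hc, Matrix.mul_smul, ← mul_assoc]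
      have hX4 : frX c * frX c * (frX c * frX c * frY) = frX c * frY := by
        rw [← mul_assoc, ← mul_assoc, frX_cube hc, one_mul]
      rw [hh', Units.val_mul, Units.val_mul, Units.val_mul D.gk, mul_assoc (D.gk.val * D.gh.val), e1,
        Matrix.mul_smul, D.val_h, D.val_x, D.val_y, hk, mul_assoc (frK c), ← mul_assoc (frH c), e2, e3,
        Matrix.smul_mul, Matrix.smul_mul, Matrix.mul_smul, ← mul_assoc (frK c), ← mul_assoc (frK c), e4, hX4]
      simp only [Units.val_mul, hk, D.val_x, D.val_y, D.val_h, Matrix.smul_mul, smul_smul, mul_assoc]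
  obtain ⟨k, u, huS, hou, hku⟩ := A6Ext.exists_conj_sq ψ.range eS hidx hfaith f hf ha hb
  obtain ⟨p, rfl⟩ := huS
  obtain ⟨k, rfl⟩ := QuotientGroup.mk'_surjective Z k
  have hscal : ∀ s ∈ scalars (Fin 3) F, s ∈ specialLinear (Fin 3) F → s ^ 3 = 1 := by
    intro s hs hs1
    obtain ⟨a, ha'⟩ := (mem_scalars_iff _).1 hs
    refine Units.ext ?_
    rw [Units.val_pow_eq_pow_val, ha', smul_pow, one_pow, Units.val_one,
      show (a : F) ^ 3 = 1 from by simpa using Asch.det_scalar ha' hs1, one_smul]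
  set g := inc p
  have hg5 : ((g ^ 5 : M) : GL (Fin 3) F) ∈ scalars (Fin 3) F := by
    rw [← hπ1, map_pow, ← hou]
    exact pow_orderOf_eq_one (ψ p)
  have hg15 : (g : GL (Fin 3) F) ^ 15 = 1 := by
    rw [show 15 = 5 * 3 from rfl, pow_mul]
    exact hscal _ (by simpa using hg5) (pow_mem (hM g.2) 5)
  set v : GL (Fin 3) F := (g : GL (Fin 3) F) ^ 6 with hv
  have hv5 : v ^ 5 = 1 := by rw [hv, ← pow_mul, show 6 * 5 = 15 * 2 from rfl, pow_mul, hg15, one_pow]
  have hπv : π (g ^ 6) = π g := by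
    have h := pow_orderOf_eq_one (ψ p)
    rw [hou] at h
    have h' : π g ^ 5 = 1 := h
    rw [map_pow, pow_succ, h', one_mul]
  have hs : (k : GL (Fin 3) F) * v * (k : GL (Fin 3) F)⁻¹ * (v ^ 2)⁻¹ ∈ scalars (Fin 3) F := by
    have h1 : π (k * g ^ 6 * k⁻¹ * ((g ^ 6) ^ 2)⁻¹) = 1 := by
      rw [map_mul, map_mul, map_mul, map_inv, map_inv, map_pow π (g ^ 6) 2, hπv, mul_inv_eq_one]
      exact hku
    have h2 := (hπ1 _).1 h1
    simpa using h2
  set s := (k : GL (Fin 3) F) * v * (k : GL (Fin 3) F)⁻¹ * (v ^ 2)⁻¹ with hsdef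
  have hsv : (k : GL (Fin 3) F) * v * (k : GL (Fin 3) F)⁻¹ = s * v ^ 2 := by rw [hsdef, inv_mul_cancel_right]
  have hs5 : s ^ 5 = 1 := by
    have h1 : ((k : GL (Fin 3) F) * v * (k : GL (Fin 3) F)⁻¹) ^ 5 = 1 := by rw [conj_pow, hv5]; group
    rwa [hsv, (show Commute s (v ^ 2) from (Asch.scalars_comm hs).symm).mul_pow, ← pow_mul, pow_mul', hv5,
      one_pow, mul_one] at h1
  have hs3 : s ^ 3 = 1 := hscal s hs (mul_mem (mul_mem (mul_mem (hM k.2) (pow_mem (hM g.2) 6))
    (inv_mem (hM k.2))) (inv_mem (pow_mem (pow_mem (hM g.2) 6) 2)))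
  have hs1 : s = 1 := by
    have h1 : s = (s ^ 3) ^ 2 * (s ^ 5)⁻¹ := by group
    rw [h1, hs3, hs5]; simp
  rw [hs1, one_mul] at hsv
  have hv1 := eq_one_of_conj_sq h5 hv5 hsv
  have hp1 : ψ p = 1 := by
    show π g = 1
    rw [← hπv]
    exact (hπ1 _).2 (by rw [SubmonoidClass.coe_pow]; show v ∈ _; rw [hv1]; exact one_mem _)
  rw [hp1, orderOf_one] at hou
  omega

end Cfsg.Lib.Linear.Mitchell.Max
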