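import Cfsg.Agent.Lib.Linear.Mitchell.MaxList
import Cfsg.Agent.Lib.Linear.Mitchell.MaxArith
import Cfsg.Agent.Lib.Linear.Mitchell.MaxCardsForms
import Cfsg.Agent.Lib.Linear.Mitchell.MaxCardsQuad
import Cfsg.Agent.Lib.Linear.Mitchell.MaxCardsGeom
import Cfsg.Agent.Lib.Linear.Mitchell.MaxExtraAct

/-!
# Overgroups of geometric subgroups of `SL₃(q)`: generalities
-/

set_option autoImplicit false
set_option linter.unusedSectionVars false

namespace Cfsg.Lib.Linear.Mitchell.Max

open Cfsg.Geo Cfsg.Lib.Linear MaxArith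
open scoped Matrix MatrixGroups

variable {F : Type*} [Field F] [Fintype F]

theorem irr_mono {H M : Subgroup (GL (Fin 3) F)} (h : H ≤ M) (hH : ActsIrreducibly (matrixSet H)) :
    ActsIrreducibly (matrixSet M) :=
  fun W hW => hH W fun s hs => hW s (Set.image_mono h hs)

theorem two_le_card : 2 ≤ Fintype.card F := Fintype.one_lt_card

/-- Maximality from the containment of all proper overgroups. -/
theorem isMax_intro {A : Subgroup (GL (Fin 3) F)} (hns : ¬ specialLinear (Fin 3) F ≤ A)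
    (h : ∀ M, A ⊓ specialLinear (Fin 3) F ≤ M → M ≤ specialLinear (Fin 3) F →
      M ≠ specialLinear (Fin 3) F → M ≤ A) :
    IsMaximalIn (specialLinear (Fin 3) F) (A ⊓ specialLinear (Fin 3) F) :=
  ⟨lt_of_le_of_ne inf_le_right fun e => hns (inf_eq_right.1 e), fun M h1 h2 =>
    (em (M = specialLinear (Fin 3) F)).symm.imp (fun hne => le_antisymm (le_inf (h M h1 h2 hne) h2) h1) id⟩

/-- A group between a group and one of no larger order is that group. -/
theorem le_of_card_dvd {H M : Subgroup (GL (Fin 3) F)} (h : H ≤ M) (hc : Nat.card M ∣ Nat.card H) : M ≤ H :=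
  (Subgroup.eq_of_le_of_card_ge h (Nat.le_of_dvd Nat.card_pos hc)).ge

theorem dvd_mono {M : Subgroup (GL (Fin 3) F)} (hM : M ≤ specialLinear (Fin 3) F)
    {D : Fin 3 → Submodule F (Fin 3 → F)} (hD : IsMDecomposition 1 D) (h : M ≤ decompositionStabilizer D) :
    Nat.card M ∣ 6 * (Fintype.card F - 1) ^ 2 :=
  card_mono hD ▸ Subgroup.card_dvd_of_le (le_inf h hM)

theorem dvd_field {M : Subgroup (GL (Fin 3) F)} (hM : M ≤ specialLinear (Fin 3) F)
    {K : Subalgebra F (Matrix (Fin 3) (Fin 3) F)} (hK : IsFieldSubalgebra 3 K) (h : M ≤ subalgebraNormalizer K) :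
    Nat.card M ∣ 3 * ordS (Fintype.card F) :=
  card_field hK ▸ Subgroup.card_dvd_of_le (le_inf h hM)

theorem dvd_unitary {M : Subgroup (GL (Fin 3) F)} (hM : M ≤ specialLinear (Fin 3) F) {σ : F ≃+* F}
    {f : (Fin 3 → F) → (Fin 3 → F) → F} (hf : IsUnitaryForm σ f) (h : M ≤ similarityGroup f) :
    ∃ q₁, 2 ≤ q₁ ∧ Fintype.card F = q₁ ^ 2 ∧ Nat.card M ∣ 3 * ordU q₁ := by
  obtain ⟨q, hF, hU, -⟩ := unitary_card hf
  refine ⟨q, ?_, hF, ?_⟩
  · have := two_le_card (F := F)
    by_contra hq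
    interval_cases q <;> omega
  · exact (Subgroup.card_dvd_of_le (le_inf h hM)).trans
      (hU ▸ card_similarity_dvd (Asch.isSesq_of_unitary hf) hf.herm)

theorem two_le_subfield (F₀ : Subfield F) : 2 ≤ Nat.card F₀ := Finite.one_lt_card

/-- Elements of the stabiliser of three lines. -/
theorem mono_elts {D : Fin 3 → Submodule F (Fin 3 → F)} {b : Module.Basis (Fin 3) F (Fin 3 → F)}
    (hb : ∀ i, D i = Submodule.span F {b i}) (π : Equiv.Perm (Fin 3)) (a c : Fˣ) :
    ∃ g ∈ decompositionStabilizer D ⊓ specialLinear (Fin 3) F, ∃ e : Fˣ,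
      g.val *ᵥ b 0 = (a : F) • b (π 0) ∧ g.val *ᵥ b 1 = (c : F) • b (π 1) ∧ g.val *ᵥ b 2 = (e : F) • b (π 2) ∧
        ((Equiv.Perm.sign π : ℤ) : F) * a * c * e = 1 := by
  classical
  let L : Equiv.Perm (Fin 3) → (Fin 3 → Fˣ) → ((Fin 3 → F) ≃ₗ[F] (Fin 3 → F)) := fun π ε =>
    b.equiv ((b.reindex π.symm).unitsSMul ε) (Equiv.refl _)
  let G : Equiv.Perm (Fin 3) → (Fin 3 → Fˣ) → GL (Fin 3) F := fun π ε =>
    Matrix.GeneralLinearGroup.toLin.symm (LinearMap.GeneralLinearGroup.ofLinearEquiv (L π ε))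
  have hG : ∀ π ε i, (G π ε).val *ᵥ b i = (ε i : F) • b (π i) := fun π ε i => by
    show (LinearMap.toMatrix' (L π ε).toLinearMap) *ᵥ b i = _
    rw [LinearMap.toMatrix'_mulVec]
    simp [L, Module.Basis.unitsSMul_apply, Units.smul_def]
  have hdet : ∀ π ε, (G π ε).val.det = ((Equiv.Perm.sign π : ℤ) : F) * ∏ i, (ε i : F) := by
    intro π ε
    rw [← LinearMap.det_toLin', ← LinearMap.det_toMatrix b]
    have hM : LinearMap.toMatrix b b (Matrix.toLin' (G π ε).val) =
        Equiv.Perm.permMatrix F π.symm * Matrix.diagonal (fun i => (ε i : F)) := by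
      ext i j
      rw [LinearMap.toMatrix_apply, Matrix.toLin'_apply, hG, map_smul, b.repr_self, Matrix.mul_diagonal,
        Equiv.Perm.permMatrix, PEquiv.toMatrix_apply, Finsupp.smul_apply, Finsupp.single_apply, smul_eq_mul]
      simp only [Equiv.toPEquiv_apply, Option.mem_some_iff]
      by_cases h : π j = i
      · subst h; simp
      · rw [if_neg h, if_neg (fun e => h (by rw [← e, Equiv.apply_symm_apply]))]; ring
    rw [hM, Matrix.det_mul, Matrix.det_diagonal, Matrix.det_permutation, Equiv.Perm.sign_symm]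
  let s : Equiv.Perm (Fin 3) → Fˣ := fun π => Units.map (Int.castRingHom F).toMonoidHom (Equiv.Perm.sign π)
  let E : Equiv.Perm (Fin 3) × Fˣ × Fˣ → (Fin 3 → Fˣ) := fun t => ![t.2.1, t.2.2, (s t.1 * t.2.1 * t.2.2)⁻¹]
  have hs : ∀ π, (s π : F) = ((Equiv.Perm.sign π : ℤ) : F) := fun π => rfl
  have hmem : ∀ t, G t.1 (E t) ∈ decompositionStabilizer D ⊓ specialLinear (Fin 3) F := fun t => by
    refine ⟨⟨t.1, fun i => ?_⟩, ?_⟩
    · rw [hb, hb, Submodule.map_span, Set.image_singleton, Matrix.toLin'_apply, hG,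
        Submodule.span_singleton_smul_eq (E t i).isUnit]
    · show G t.1 (E t) ∈ (Matrix.GeneralLinearGroup.det : GL (Fin 3) F →* Fˣ).ker
      rw [MonoidHom.mem_ker]
      refine Units.ext ?_
      rw [Matrix.GeneralLinearGroup.val_det_apply, hdet, ← hs, Fin.prod_univ_three]
      simp only [E, Matrix.cons_val_zero, Matrix.cons_val_one, Matrix.cons_val]
      rw [← Units.val_mul, ← Units.val_mul, ← Units.val_mul]
      congr 1
      group
  refine ⟨_, hmem (π, a, c), E (π, a, c) 2, hG _ _ _, hG _ _ _, hG _ _ _, ?_⟩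
  show _ * (((s π * a * c)⁻¹ : Fˣ) : F) = 1
  rw [← hs, ← Units.val_mul, ← Units.val_mul, ← Units.val_mul, mul_inv_cancel, Units.val_one]

/-- Diagonal elements of the stabiliser of three lines. -/
theorem mono_diag {D : Fin 3 → Submodule F (Fin 3 → F)} {b : Module.Basis (Fin 3) F (Fin 3 → F)}
    (hb : ∀ i, D i = Submodule.span F {b i}) (ε : Fin 3 → Fˣ) (hε : ε 0 * ε 1 * ε 2 = 1) :
    ∃ g ∈ decompositionStabilizer D ⊓ specialLinear (Fin 3) F, ∀ i, g.val *ᵥ b i = (ε i : F) • b i := by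
  obtain ⟨g, hg, e, h0, h1, h2, he⟩ := mono_elts hb 1 (ε 0) (ε 1)
  obtain rfl : e = ε 2 := mul_left_cancel (a := ε 0 * ε 1) (by
    rw [hε]; refine Units.ext ?_; simpa using he)
  exact ⟨g, hg, fun i => by fin_cases i <;> assumption⟩

/-- A group with enough monomial elements is irreducible. -/
theorem irr_of_mono {H : Subgroup (GL (Fin 3) F)} (b : Module.Basis (Fin 3) F (Fin 3 → F)) {a : Fˣ} (ha : a ≠ 1)
    (hdiag : ∀ i j : Fin 3, i ≠ j → ∃ g ∈ H, ∀ l,
      g.val *ᵥ b l = ((if l = i then a else if l = j then a⁻¹ else 1 : Fˣ) : F) • b l)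
    (hperm : ∀ i j : Fin 3, ∃ g ∈ H, ∃ u : F, u ≠ 0 ∧ g.val *ᵥ b i = u • b j) :
    ActsIrreducibly (matrixSet H) := by
  classical
  refine Asch.irr_iff.2 fun W hW => or_iff_not_imp_left.2 fun hne => ?_
  have ha' : (a : F) - 1 ≠ 0 := sub_ne_zero.2 fun e => ha (Units.ext e)
  obtain ⟨v, hvW, hv⟩ := Submodule.exists_mem_ne_zero_of_ne_bot hne
  obtain ⟨i, hi⟩ : ∃ i, b.repr v i ≠ 0 := by
    by_contra h
    push Not at h
    exact hv (b.repr.map_eq_zero_iff.1 (Finsupp.ext h))
  -- two of the diagonal elements separate the line through `b i`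
  have key : ∀ j k : Fin 3, i ≠ j → i ≠ k → j ≠ k → b i ∈ W := by
    intro j k hij hik hjk
    let ε : Fin 3 → Fin 3 → Fˣ := fun j l => if l = i then a else if l = j then a⁻¹ else 1
    have step : ∀ j, i ≠ j → ∀ w ∈ W, (∑ l, ((ε j l : F) - 1) • (b.repr w l) • b l) ∈ W := fun j hj w hw => by
      obtain ⟨g, hg, hgb⟩ := hdiag i j hj
      have h := W.sub_mem (hW g hg w hw) hw
      convert h using 1
      conv_rhs => rw [← b.sum_repr w, Matrix.mulVec_sum, ← Finset.sum_sub_distrib]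
      exact Finset.sum_congr rfl fun l _ => by
        rw [Matrix.mulVec_smul, hgb, smul_comm (b.repr w l) ((ε j l : Fˣ) : F), sub_smul, one_smul]
    have h2 := step k hik _ (step j hij v hvW)
    have h3 : (((a : F) - 1) * (((a : F) - 1) * b.repr v i)) • b i ∈ W := by
      convert h2 using 1
      rw [Finset.sum_eq_single i, map_sum, Finsupp.finsetSum_apply, Finset.sum_eq_single i]
      · simp [ε, smul_smul, mul_assoc]
      · intro l _ hl; simp [hl.symm]
      · simp
      · intro l _ hl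
        rw [map_sum, Finsupp.finsetSum_apply, Finset.sum_eq_single l]
        · by_cases hlk : l = k
          · subst hlk; simp [ε, hl, Ne.symm hjk]
          · simp [ε, hl, hlk]
        · intro m _ hm; simp [hm.symm]
        · simp
      · simp
    have := W.smul_mem ((((a : F) - 1) * (((a : F) - 1) * b.repr v i)))⁻¹ h3
    rwa [smul_smul, inv_mul_cancel₀ (mul_ne_zero ha' (mul_ne_zero ha' hi)), one_smul] at this
  have hbi : b i ∈ W := by
    fin_cases i
    · exact key 1 2 (by decide) (by decide) (by decide)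
    · exact key 0 2 (by decide) (by decide) (by decide)
    · exact key 0 1 (by decide) (by decide) (by decide)
  rw [eq_top_iff, ← b.span_eq, Submodule.span_le]
  rintro _ ⟨j, rfl⟩
  obtain ⟨g, hg, u, hu, hgu⟩ := hperm i j
  have h := W.smul_mem u⁻¹ (hgu ▸ hW g hg _ hbi)
  rwa [smul_smul, inv_mul_cancel₀ hu, one_smul] at h

theorem mono_perm_elts {D : Fin 3 → Submodule F (Fin 3 → F)} {b : Module.Basis (Fin 3) F (Fin 3 → F)}
    (hb : ∀ i, D i = Submodule.span F {b i}) (i j : Fin 3) :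
    ∃ g ∈ decompositionStabilizer D ⊓ specialLinear (Fin 3) F, ∃ ε : Fin 3 → F,
      (∀ l, ε l * ε l = 1) ∧ ∀ l, g.val *ᵥ b l = ε l • b (Equiv.swap i j l) := by
  obtain ⟨g, hg, e, h0, h1, h2, he⟩ := mono_elts hb (Equiv.swap i j) 1 1
  refine ⟨g, hg, ![1, 1, (e : F)], fun l => ?_, fun l => ?_⟩
  · have he' : (e : F) * e = 1 := by
      simp only [Units.val_one, mul_one] at he
      rcases Int.units_eq_one_or (Equiv.Perm.sign (Equiv.swap i j)) with h | h <;> rw [h] at he <;>
        simp only [Units.val_one, Units.val_neg, Int.cast_one, Int.cast_neg, one_mul, neg_mul] at he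
      · rw [he, one_mul]
      · rw [neg_eq_iff_eq_neg.1 he]; ring
    fin_cases l <;> simp [he']
  · fin_cases l
    · simpa using h0
    · simpa using h1
    · simpa using h2

theorem irr_decomp (hq : 5 ≤ Fintype.card F) {D : Fin 3 → Submodule F (Fin 3 → F)} (hD : IsMDecomposition 1 D) :
    ActsIrreducibly (matrixSet (decompositionStabilizer D ⊓ specialLinear (Fin 3) F)) := by
  classical
  obtain ⟨b, hb⟩ := Asch.decomp_gen hD
  obtain ⟨a, ha⟩ : ∃ a : Fˣ, a ≠ 1 := by
    haveI : Nontrivial Fˣ := Fintype.one_lt_card_iff_nontrivial.1 (by rw [Fintype.card_units]; omega)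
    exact exists_ne 1
  refine irr_of_mono b ha (fun i j hij => mono_diag hb _ ?_) fun i j => ?_
  · fin_cases i <;> fin_cases j <;> simp_all
  · obtain ⟨g, hg, ε, hε, hgb⟩ := mono_perm_elts hb i j
    refine ⟨g, hg, ε i, fun h => ?_, by rw [hgb, Equiv.swap_apply_left]⟩
    have := hε i
    rw [h, zero_mul] at this
    exact zero_ne_one this

theorem irr_field {K : Subalgebra F (Matrix (Fin 3) (Fin 3) F)}
    (hK : IsFieldSubalgebra 3 K) :
    ActsIrreducibly (matrixSet (subalgebraNormalizer K ⊓ specialLinear (Fin 3) F)) := by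
  classical
  obtain ⟨-, S, hS, hcard, hSK⟩ := card_field_units hK
  refine Asch.irr_iff.2 fun W hW => or_iff_not_imp_left.2 fun hne => by_contra fun htop => ?_
  obtain ⟨v, hvW, hv⟩ := Submodule.exists_mem_ne_zero_of_ne_bot hne
  have hinj : Function.Injective fun g : S => (⟨g.1.val *ᵥ v, hW _ (hS g.2) v hvW⟩ : W) := by
    intro g h e
    have e' : g.1.val *ᵥ v = h.1.val *ᵥ v := congrArg Subtype.val e
    by_contra hgh
    obtain ⟨y, hy, hy'⟩ := hK.inv _ (K.sub_mem (hSK _ g.2) (hSK _ h.2))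
      (sub_ne_zero.2 fun e => hgh (Subtype.ext (Units.ext e)))
    rw [hK.comm _ (K.sub_mem (hSK _ g.2) (hSK _ h.2)) y hy] at hy'
    have h1 := congrArg (y *ᵥ ·) (sub_eq_zero.2 e')
    simp only [← Matrix.sub_mulVec, Matrix.mulVec_mulVec, hy', Matrix.one_mulVec, Matrix.mulVec_zero] at h1
    exact hv h1
  have h1 := Nat.card_le_card_of_injective _ hinj
  have h2 : Module.finrank F W ≤ 2 := by
    have := Submodule.finrank_lt htop
    rw [Module.finrank_fintype_fun_eq_card, Fintype.card_fin] at this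
    omega
  rw [hcard, Module.natCard_eq_pow_finrank (K := F), Nat.card_eq_fintype_card] at h1
  have h3 : Fintype.card F ^ Module.finrank F W ≤ Fintype.card F ^ 2 :=
    Nat.pow_le_pow_right Fintype.card_pos h2
  simp only [ordS] at h1
  omega

end Cfsg.Lib.Linear.Mitchell.Max
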