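import Cfsg.Agent.Lib.Linear.Mitchell.MaxSL3Sub
import Cfsg.Agent.Lib.Linear.Mitchell.MaxExtra
import Cfsg.Agent.Lib.Linear.Mitchell.MaxExtraFrame
import Cfsg.Agent.Lib.Linear.Mitchell.MaxNoA6

/-!
# The normalisers of extraspecial groups are maximal in `SL₃(p)`
-/

set_option autoImplicit false
set_option linter.unusedSectionVars false

namespace Cfsg.Lib.Linear.Mitchell.Max

open Cfsg.Geo Cfsg.Lib.Linear
open scoped Matrix MatrixGroups

variable {F : Type*} [Field F] [Fintype F]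

/-- The four frame matrices as units. -/
theorem exists_frame_units {c : F} (hc : c ^ 2 + c + 1 = 0) (h3 : (3 : F) ≠ 0) :
    ∃ gx gy gh gk : GL (Fin 3) F, gx.val = frX c ∧ gy.val = frY ∧ gh.val = frH c ∧ gk.val = frK c ∧
      gx ∈ specialLinear (Fin 3) F ∧ gy ∈ specialLinear (Fin 3) F ∧ gh ∈ specialLinear (Fin 3) F := by
  have hc0 : c ≠ 0 := fun h => by rw [h] at hc; simp at hc
  have hX : (frX c).det = 1 := by
    simp [frX, Matrix.det_fin_three]
    linear_combination (c - 1) * hc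
  have hY : (frY : Matrix (Fin 3) (Fin 3) F).det = 1 := by simp [frY, Matrix.det_fin_three]
  have hK : (frK c).det = c := by simp [frK, Matrix.det_fin_three]
  have mem : ∀ (M : Matrix (Fin 3) (Fin 3) F) (h : M.det = 1),
      ∃ g : GL (Fin 3) F, g.val = M ∧ g ∈ specialLinear (Fin 3) F := fun M h =>
    ⟨Matrix.GeneralLinearGroup.mkOfDetNeZero M (by rw [h]; exact one_ne_zero), rfl,
      MonoidHom.mem_ker.2 (Units.ext h)⟩
  obtain ⟨gx, e1, m1⟩ := mem _ hX
  obtain ⟨gy, e2, m2⟩ := mem _ hY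
  obtain ⟨gh, e3, m3⟩ := mem _ (frH_det hc h3)
  exact ⟨gx, gy, gh, Matrix.GeneralLinearGroup.mkOfDetNeZero (frK c) (by rw [hK]; exact hc0), e1, e2, e3, rfl,
    m1, m2, m3⟩

/-- A commutator of two similarities is an isometry. -/
theorem commutator_isom {f : (Fin 3 → F) → (Fin 3 → F) → F} {a b : GL (Fin 3) F} (ha : a ∈ similarityGroup f)
    (hb : b ∈ similarityGroup f) : a * b * a⁻¹ * b⁻¹ ∈ isom f := by
  obtain ⟨c, hc⟩ := ha
  obtain ⟨d, hd⟩ := hb
  intro u v
  show f ((a * b * a⁻¹ * b⁻¹).val *ᵥ u) ((a * b * a⁻¹ * b⁻¹).val *ᵥ v) = f u v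
  have hinv : ∀ (g : GL (Fin 3) F) (e : Fˣ), (∀ u v, f (g.val *ᵥ u) (g.val *ᵥ v) = e * f u v) →
      ∀ u v, f (g⁻¹.val *ᵥ u) (g⁻¹.val *ᵥ v) = (e⁻¹ : Fˣ) * f u v := fun g e he u v => by
    have h := he (g⁻¹.val *ᵥ u) (g⁻¹.val *ᵥ v)
    rw [Asch.mulVec_inv_mulVec, Asch.mulVec_inv_mulVec] at h
    rw [h, ← mul_assoc, ← Units.val_mul, inv_mul_cancel, Units.val_one, one_mul]
  rw [Asch.mul_mulVec _ b⁻¹, Asch.mul_mulVec _ b⁻¹, Asch.mul_mulVec _ a⁻¹, Asch.mul_mulVec _ a⁻¹,
    Asch.mul_mulVec a b, Asch.mul_mulVec a b, hc, hd, hinv a c hc, hinv b d hd]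
  simp only [Units.val_inv_eq_inv_val]
  field_simp

variable {R : Subgroup (GL (Fin 3) F)} {c : F} {x y z : GL (Fin 3) F}

/-- No commutative set normalised by the rotor contains a large part of the extraspecial group. -/
theorem no_small_map (hR : Asch.Extra 3 R c x y z) {h : GL (Fin 3) F} (hx : h * x * h⁻¹ = y)
    (hy : h * y * h⁻¹ = x ^ 2) {α : Type*} [Finite α] (φ : R → α) (hα : Nat.card α < 9)
    (A : Set (GL (Fin 3) F)) (hA : ∀ a ∈ A, ∀ b ∈ A, a * b = b * a) (hAh : ∀ a ∈ A, h * a * h⁻¹ ∈ A)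
    (hφ : ∀ g g' : R, φ g = φ g' → (g : GL (Fin 3) F)⁻¹ * g' ∈ A) : False := by
  obtain ⟨e, he, hmul⟩ := exists_coords hR
  have hcrd : ∀ p q : ZMod 3 × ZMod 3 × ZMod 3, e p * e q = e q * e p → p.2.1 * q.1 = q.2.1 * p.1 := by
    intro p q hpq
    rw [hmul, hmul] at hpq
    have h := congrArg (fun t => t.2.2) (e.injective hpq)
    simp only at h
    linear_combination h
  obtain ⟨s, t, hne, heq⟩ : ∃ s t : ZMod 3 × ZMod 3, s ≠ t ∧ φ (e (s.1, s.2, 0)) = φ (e (t.1, t.2, 0)) := by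
    by_contra hh
    push Not at hh
    have := Nat.card_le_card_of_injective (fun s : ZMod 3 × ZMod 3 => φ (e (s.1, s.2, 0)))
      (fun s t he' => by_contra fun hne => hh s t hne he')
    rw [Nat.card_prod, Nat.card_zmod] at this
    omega
  obtain ⟨⟨a, b, k⟩, hw⟩ := e.surjective ((e (s.1, s.2, 0))⁻¹ * e (t.1, t.2, 0))
  have hwA : ((e (a, b, k) : R) : GL (Fin 3) F) ∈ A := by
    rw [hw, Subgroup.coe_mul, Subgroup.coe_inv]; exact hφ _ _ heq
  have hab : ¬(a = 0 ∧ b = 0) := by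
    rintro ⟨rfl, rfl⟩
    rw [eq_inv_mul_iff_mul_eq, hmul] at hw
    have h := e.injective hw
    simp only [Prod.mk.injEq, add_zero] at h
    exact hne (Prod.ext h.1 h.2.1)
  have hconj : h * (e (a, b, k) : R) * h⁻¹ = ((e (0, a, 0) * e (2 * b, 0, 0) * e (0, 0, k) : R) : GL (Fin 3) F) := by
    simp only [Subgroup.coe_mul, he, ZMod.val_zero, pow_zero, one_mul, mul_one]
    have hz : h * z ^ k.val * h⁻¹ = z ^ k.val := by
      rw [Asch.scalars_comm (g := h) (pow_mem (extra_z_scalar hR) _), mul_inv_cancel_right]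
    have hsplit : h * (x ^ a.val * y ^ b.val * z ^ k.val) * h⁻¹ =
        (h * x * h⁻¹) ^ a.val * (h * y * h⁻¹) ^ b.val * (h * z ^ k.val * h⁻¹) := by
      rw [conj_pow, conj_pow]; group
    rw [hsplit, hx, hy, hz, ← pow_mul, ZMod.val_mul, show (2 : ZMod 3).val = 2 from rfl,
      ← pow_eq_pow_mod _ hR.pow_x]
  have hcomm := hA _ hwA _ (hconj ▸ hAh _ hwA)
  rw [← Subgroup.coe_mul, ← Subgroup.coe_mul] at hcomm
  have h1 := Subtype.ext hcomm
  rw [hmul (0, a, 0), hmul] at h1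
  have h2 := hcrd _ _ h1
  simp only [zero_add, add_zero] at h2
  exact hab ((show ∀ a b : ZMod 3, b * (2 * b) = a * a → a = 0 ∧ b = 0 by decide) a b h2)

/-- The normaliser of an extraspecial group of order `27` is maximal. -/
theorem isMax_extra {p : ℕ} (hp : p.Prime) (hcard : Fintype.card F = p) (hp3 : p % 3 = 1)
    (hdata : IsLinearSymplecticTypeData 3 R) :
    IsMaximalIn (specialLinear (Fin 3) F) (subgroupNormalizer R ⊓ specialLinear (Fin 3) F) := by
  classical
  obtain ⟨hsymp, habs, p', e', -, -, hcases⟩ := hdata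
  obtain ⟨-, -, hcent, m, -, hm⟩ := hcases.resolve_right (fun h => h.elim (fun h => absurd h.1 (by norm_num))
    (fun h => absurd h.1 (by norm_num)))
  obtain ⟨c, x, y, z, hR, -, hRsl⟩ := exists_extra hsymp habs hcent ⟨m, hm⟩
  have h3 : (3 : F) ≠ 0 := by exact_mod_cast hR.char_ne
  have hc3 : c ^ 3 = 1 := hR.prim.pow_eq_one
  have hc1 : c ≠ 1 := hR.prim.ne_one (by norm_num)
  have hc : c ^ 2 + c + 1 = 0 := by
    refine mul_left_cancel₀ (sub_ne_zero.2 hc1) ?_
    linear_combination hc3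
  have hchar : CharP F p := by
    obtain ⟨p₁, hp₁⟩ := CharP.exists F
    obtain ⟨n, hp₁', hn⟩ := FiniteField.card F p₁
    rw [hcard] at hn
    obtain rfl := (Nat.prime_dvd_prime_iff_eq hp₁' hp).1 (hn ▸ dvd_pow_self p₁ n.ne_zero)
    exact hp₁
  have h5 : (5 : F) ≠ 0 := fun h => by
    have h' : p ∣ 5 := (CharP.cast_eq_zero_iff F p 5).1 (by exact_mod_cast h)
    rw [(Nat.prime_dvd_prime_iff_eq hp (by norm_num)).1 h'] at hp3
    omega
  obtain ⟨P, hX, hY⟩ := exists_frame_extra hR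
  obtain ⟨gx, gy, gh, gk, ex, ey, eh, ek, mx, my, mh⟩ := exists_frame_units hc h3
  have hcjx : P * gx * P⁻¹ = x := by
    rw [mul_inv_eq_iff_eq_mul]
    refine Units.ext ?_
    rw [Units.val_mul, Units.val_mul, ex]
    exact hX.symm
  have hcjy : P * gy * P⁻¹ = y := by
    rw [mul_inv_eq_iff_eq_mul]
    refine Units.ext ?_
    rw [Units.val_mul, Units.val_mul, ey]
    exact hY.symm
  have mkconj : ∀ g a b : GL (Fin 3) F, g * a = b * g → (P * g * P⁻¹) * (P * a * P⁻¹) * (P * g * P⁻¹)⁻¹ =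
      P * b * P⁻¹ := fun g a b h => by
    calc P * g * P⁻¹ * (P * a * P⁻¹) * (P * g * P⁻¹)⁻¹ = P * (g * a * g⁻¹) * P⁻¹ := by group
      _ = P * b * P⁻¹ := by rw [h, mul_inv_cancel_right]
  set h := P * gh * P⁻¹ with hh
  set k := P * gk * P⁻¹ with hk
  have hhx : h * x * h⁻¹ = y := by
    rw [← hcjx, ← hcjy]
    exact mkconj _ _ _ (Units.ext (by rw [Units.val_mul, Units.val_mul, eh, ex, ey, frHX hc]))
  have hhy : h * y * h⁻¹ = x ^ 2 := by
    rw [← hcjx, ← hcjy, mkconj gh gy (gx * gx)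
      (Units.ext (by rw [Units.val_mul, Units.val_mul, Units.val_mul, eh, ex, ey, frHY hc]))]
    rw [sq]; group
  have hkx : k * x * k⁻¹ = x := by
    rw [← hcjx]
    exact mkconj _ _ _ (Units.ext (by rw [Units.val_mul, Units.val_mul, ek, ex, frKX]))
  have hky : k * y * k⁻¹ = z ^ 2 * x * x * y := by
    have h1 : (k * y).val = (z ^ 2 * x * x * y * k).val := by
      rw [hk, ← hcjx, ← hcjy,
        show P * gk * P⁻¹ * (P * gy * P⁻¹) = P * (gk * gy) * P⁻¹ by group,
        show z ^ 2 * (P * gx * P⁻¹) * (P * gx * P⁻¹) * (P * gy * P⁻¹) * (P * gk * P⁻¹) =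
          z ^ 2 * (P * (gx * gx * gy * gk) * P⁻¹) by group]
      simp only [Units.val_mul, Units.val_pow_eq_pow_val, ek, ex, ey, frKY hc, hR.coe_z, smul_pow, one_pow,
        Matrix.smul_mul, Matrix.mul_smul, one_mul]
    rw [mul_inv_eq_iff_eq_mul]
    exact Units.ext h1
  have hnorm : ∀ g : GL (Fin 3) F, g * x * g⁻¹ ∈ R → g * y * g⁻¹ ∈ R → g ∈ subgroupNormalizer R := by
    intro g h1 h2
    refine Subgroup.mem_normalizer_fintype fun w hw => ?_
    obtain ⟨i, j, l, rfl⟩ := hR.gen w hw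
    rw [show g * (x ^ i * y ^ j * z ^ l) * g⁻¹ = (g * x ^ i * g⁻¹) * (g * y ^ j * g⁻¹) * (g * z ^ l * g⁻¹) by group,
      ← conj_pow, ← conj_pow, Asch.scalars_comm (g := g) (pow_mem (extra_z_scalar hR) l), mul_inv_cancel_right]
    exact mul_mem (mul_mem (pow_mem h1 i) (pow_mem h2 j)) (pow_mem (extra_z_mem hR) l)
  have hhN : h ∈ subgroupNormalizer R :=
    hnorm h (by rw [hhx]; exact hR.mem_y) (by rw [hhy]; exact pow_mem hR.mem_x 2)
  have hkN : k ∈ subgroupNormalizer R :=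
    hnorm k (by rw [hkx]; exact hR.mem_x)
      (by rw [hky]; exact mul_mem (mul_mem (mul_mem (pow_mem (extra_z_mem hR) 2) hR.mem_x) hR.mem_x) hR.mem_y)
  have conjSL : ∀ g a : GL (Fin 3) F, g ∈ specialLinear (Fin 3) F → a * g * a⁻¹ ∈ specialLinear (Fin 3) F :=
    fun g a hg => (MonoidHom.normal_ker _).conj_mem g hg a
  set H := subgroupNormalizer R ⊓ specialLinear (Fin 3) F
  have hRH : R ≤ H := le_inf Subgroup.le_normalizer hRsl
  have hhH : h ∈ H := Subgroup.mem_inf.2 ⟨hhN, conjSL _ _ mh⟩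
  have hkhH : k * h * k⁻¹ ∈ H :=
    Subgroup.mem_inf.2 ⟨mul_mem (mul_mem hkN hhN) (inv_mem hkN), conjSL _ _ (conjSL _ _ mh)⟩
  have hq : 3 < Fintype.card F := by
    rw [hcard]
    have h2 := hp.two_le
    by_contra hle
    interval_cases p <;> omega
  refine isMax_intro (Asch.not_SL_le_normalizer le_rfl (Fintype.card_fin 3) hq hR.card
    (fun hle => Asch.not_irr_scalars (by simp) hle habs.1)) fun M hHM hM hne => ?_
  have hdvd : 27 ∣ Nat.card M := by
    rw [show 27 = Nat.card R by rw [hR.card]; norm_num]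
    exact Subgroup.card_dvd_of_le (hRH.trans hHM)
  have hprime : ∀ (q₁ s : ℕ), 2 ≤ s → Fintype.card F = q₁ ^ s → False := fun q₁ s hs he => by
    rw [hcard] at he
    exact Nat.Prime.not_prime_pow hs (he ▸ hp)
  rcases irreducible_list hM (irr_mono (hRH.trans hHM) habs.1) with h' | ⟨D, hD, hle⟩ | ⟨K, hK, hle⟩ |
    ⟨R', c', x', y', z', hRM, hn, hR'⟩ | ⟨F₁, r, B, hne₁, hr, hcard₁, hle⟩ | ⟨h2', Q, hQ, hle⟩ |
    ⟨σ, f, hf, hle, -⟩ | hsmall
  · exact absurd h' hne
  · exfalso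
    obtain ⟨b, hb⟩ := Asch.decomp_gen hD
    have hact : ∀ g : R, ∃ (π : Equiv.Perm (Fin 3)) (ε : Fin 3 → F), (∀ i, ε i ≠ 0) ∧
        ∀ i, (g : GL (Fin 3) F).val *ᵥ b i = ε i • b (π i) := fun g => Asch.decomp_act hb (hle (hHM (hRH g.2)))
    choose π ε hε0 hact using hact
    let A : Set (GL (Fin 3) F) := {g | ∀ i, ∃ d : F, g.val *ᵥ b i = d • b i}
    refine no_small_map hR hhx hhy π (by rw [Nat.card_perm]; simp [Nat.factorial]) A ?_ ?_ ?_
    · intro g hg g' hg'
      refine Units.ext (Matrix.toLin'.injective (b.ext fun i => ?_))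
      obtain ⟨d, hd⟩ := hg i
      obtain ⟨d', hd'⟩ := hg' i
      simp only [Matrix.toLin'_apply, Units.val_mul, ← Matrix.mulVec_mulVec, hd, hd', Matrix.mulVec_smul]
      rw [smul_comm]
    · intro g hg i
      obtain ⟨π', ε', hε', hact'⟩ := Asch.decomp_act hb (hle (hHM (inv_mem hhH)))
      obtain ⟨d, hd⟩ := hg (π' i)
      refine ⟨d, ?_⟩
      rw [Asch.mul_mulVec, Asch.mul_mulVec, hact', Matrix.mulVec_smul, hd, smul_comm, Matrix.mulVec_smul]
      congr 1
      rw [← hact', Asch.mulVec_inv_mulVec]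
    · intro g g' he i
      refine ⟨(ε g i)⁻¹ * ε g' i, ?_⟩
      rw [Asch.mul_mulVec, hact g', ← smul_smul, Matrix.mulVec_smul, ← he, smul_comm]
      congr 1
      rw [eq_inv_smul_iff₀ (hε0 g i), ← Matrix.mulVec_smul, ← hact g, Asch.inv_mulVec_mulVec]
  · exfalso
    haveI : Finite (Matrix (Fin 3) (Fin 3) F) := inferInstanceAs (Finite (Fin 3 → Fin 3 → F))
    haveI : FiniteDimensional F K := Module.finite_of_finrank_pos (hK.finrank_eq.symm ▸ (by norm_num))
    have hfield : IsField K :=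
      { exists_pair_ne := ⟨0, 1, fun h => zero_ne_one (congrArg Subtype.val h)⟩
        mul_comm := fun a b => Subtype.ext (hK.comm a a.2 b b.2)
        mul_inv_cancel := fun {a} ha => by
          obtain ⟨y, hy, hy'⟩ := hK.inv a a.2 (fun h => ha (Subtype.ext h))
          exact ⟨⟨y, hy⟩, Subtype.ext hy'⟩ }
    letI : Field K := hfield.toField
    let φ : R → (K →ₐ[F] K) := fun g =>
      { toFun := fun a => ⟨g.1.val * a * (g.1⁻¹).val, (hle (hHM (hRH g.2)) _).1 a.2⟩
        map_one' := Subtype.ext (by simp)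
        map_mul' := fun a b => Subtype.ext (by simp [mul_assoc])
        map_zero' := Subtype.ext (by simp)
        map_add' := fun a b => Subtype.ext (by simp [mul_add, add_mul])
        commutes' := fun r => Subtype.ext (by
          simp [Algebra.algebraMap_eq_smul_one, Matrix.mul_smul, Matrix.smul_mul, mul_assoc]) }
    refine no_small_map hR hhx hhy φ ?_ {g | g.val ∈ K} ?_ ?_ ?_
    · rw [Nat.card_eq_fintype_card]
      exact lt_of_le_of_lt AlgHom.card_le (by rw [hK.finrank_eq]; norm_num)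
    · exact fun g hg g' hg' => Units.ext (hK.comm _ hg _ hg')
    · intro g hg
      show (h * g * h⁻¹).val ∈ K
      rw [Units.val_mul, Units.val_mul]
      exact (hle (hHM hhH) _).1 hg
    · intro g g' he
      show ((g : GL (Fin 3) F)⁻¹ * g').val ∈ K
      refine Asch.mem_of_comm_field (by norm_num) (by simp) hK fun a ha => ?_
      have h1 : g.1.val * a * (g.1⁻¹).val = g'.1.val * a * (g'.1⁻¹).val :=
        congrArg (fun ψ : K →ₐ[F] K => ((ψ ⟨a, ha⟩ : K) : Matrix (Fin 3) (Fin 3) F)) he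
      have h2 := congrArg (fun X => (g.1⁻¹).val * X * g'.1.val) h1
      simp only [mul_assoc, Units.inv_mul, mul_one, Units.inv_mul_cancel_left] at h2
      rw [Units.val_mul, mul_assoc]
      exact h2.symm
  · have hRR := extra_eq hR hR' hM hn (hRH.trans hHM) hRM (hHM hhH)
      (fun g hg => (Subgroup.mem_normalizer_iff.1 hhN g).1 hg) hhx hhy
    subst hRR
    exact fun g hg => Subgroup.mem_normalizer_fintype fun a ha => hn g hg a ha
  · exact (hprime _ _ hr.two_le hcard₁).elim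
  · exfalso
    rw [Asch.quadSimilarityGroup_eq h2' hQ] at hle
    have hz := commutator_isom (hle (hHM (hRH hR.mem_y))) (hle (hHM (hRH hR.mem_x)))
    rw [show y * x * y⁻¹ * x⁻¹ = z by rw [hR.comm]; group] at hz
    obtain ⟨⟨u, hu⟩, -⟩ := hQ.nondegenerate (Pi.single 0 1) (by simp)
    have h1 := hz u (Pi.single 0 1)
    have hs := Asch.isSesq_of_bilinear hQ.polar_bilinear hQ.nondegenerate
    change QuadraticMap.polar Q (z.val *ᵥ u) (z.val *ᵥ _) = _ at h1
    rw [hR.coe_z, Matrix.smul_mulVec, Matrix.one_mulVec, Matrix.smul_mulVec, Matrix.one_mulVec, hs.smul_left,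
      hs.smul_right, RingEquiv.refl_apply] at h1
    have hcc : c * c = 1 := by
      refine mul_right_cancel₀ hu ?_
      linear_combination h1
    exact hc1 (by linear_combination hc3 - c * hcc)
  · obtain ⟨q₁, -, hF, -⟩ := dvd_unitary hM hf hle
    exact (hprime _ _ le_rfl hF).elim
  · exfalso
    rcases hsmall with ⟨-, -, hd, -⟩ | ⟨-, -, -, S, hS, ⟨e⟩⟩ | ⟨h5', -, -⟩
    · have := hdvd.trans hd
      norm_num at this
    · exact no_A6_frame hM hS e h5 hc h3
        { base := P, gx := gx, gy := gy, gh := gh, gk := gk, val_x := ex, val_y := ey, val_h := eh, val_k := ek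
          mem_x := hcjx.symm ▸ hHM (hRH hR.mem_x)
          mem_y := hcjy.symm ▸ hHM (hRH hR.mem_y)
          mem_h := hHM hhH
          mem_h' := by
            rw [show P * (gk * gh * gk⁻¹) * P⁻¹ = k * h * k⁻¹ by simp only [hh, hk]; group]
            exact hHM hkhH }
    · apply h5
      rw [ringChar.eq F p] at h5'
      subst h5'
      exact_mod_cast CharP.cast_eq_zero F 5

end Cfsg.Lib.Linear.Mitchell.Max
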