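import Cfsg.Agent.Lib.Linear.Mitchell.MaxSL3Basic
import Cfsg.Agent.Lib.Linear.Aschbacher.NotSL

/-!
# The monomial groups and the field normalisers are maximal in `SL₃(q)`
-/

set_option autoImplicit false
set_option linter.unusedSectionVars false

namespace Cfsg.Lib.Linear.Mitchell.Max

open Cfsg.Geo Cfsg.Lib.Linear MaxArith
open scoped Matrix MatrixGroups

variable {F : Type*} [Field F] [Fintype F]

theorem five_dvd_card (h : ringChar F = 5) : 5 ∣ Fintype.card F := by
  haveI : CharP F 5 := h ▸ ringChar.charP F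
  haveI : Fact (Nat.Prime 5) := ⟨by norm_num⟩
  obtain ⟨n, -, hn⟩ := FiniteField.card F 5
  rw [hn]
  exact dvd_pow_self 5 n.ne_zero

theorem dvd_ordL {M : Subgroup (GL (Fin 3) F)} (hM : M ≤ specialLinear (Fin 3) F) {m : ℕ}
    (h : m ∣ Nat.card M) : m ∣ ordL (Fintype.card F) :=
  card_SL_three (F := F) ▸ h.trans (Subgroup.card_dvd_of_le hM)

/-- The stabiliser of three lines is maximal. -/
theorem isMax_decomp (hq : 5 ≤ Fintype.card F) {D : Fin 3 → Submodule F (Fin 3 → F)}
    (hD : IsMDecomposition 1 D) :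
    IsMaximalIn (specialLinear (Fin 3) F) (decompositionStabilizer D ⊓ specialLinear (Fin 3) F) := by
  classical
  refine isMax_intro (Asch.not_SL_le_decompositionStabilizer hD) fun M hHM hM hne => ?_
  have hd : ∀ {n}, Nat.card M ∣ n → 6 * (Fintype.card F - 1) ^ 2 ∣ n := fun h =>
    card_mono hD ▸ (Subgroup.card_dvd_of_le hHM).trans h
  rcases irreducible_list hM (irr_mono hHM (irr_decomp hq hD)) with h | ⟨D', hD', hle⟩ | ⟨K, hK, hle⟩ |
    ⟨R, c, x, y, z, hRM, hn, hR⟩ | ⟨F₁, r, B, hne₁, hr, hcard, hle⟩ | ⟨h2, Q, hQ, hle⟩ |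
    ⟨σ, f, hf, hle, -⟩ | hsmall
  · exact absurd h hne
  · exact (le_of_card_dvd hHM (by rw [card_mono hD]; exact dvd_mono hM hD' hle)).trans inf_le_left
  · exact (mono_field (hd (dvd_field hM hK hle))).elim
  · exfalso
    have h7 : Fintype.card F = 7 := mono_extra hq (hd (extra_card_dvd hR hM hn))
    have h2 : (2 : F) ≠ 0 := fun h2 => by
      haveI : CharP F 2 := CharTwo.of_one_ne_zero_of_two_eq_zero one_ne_zero h2
      haveI : Fact (Nat.Prime 2) := ⟨Nat.prime_two⟩
      obtain ⟨n, -, hn⟩ := FiniteField.card F 2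
      have := dvd_pow_self 2 n.ne_zero
      rw [← hn, h7] at this
      omega
    have hne1 : ((-1 : Fˣ) : F) ≠ 1 := fun e => h2 (by
      rw [Units.val_neg, Units.val_one] at e
      linear_combination -e)
    obtain ⟨b, hb⟩ := Asch.decomp_gen hD
    obtain ⟨u, hu, hub⟩ := mono_diag hb ![1, -1, -1] (by simp)
    obtain ⟨w, hw, hwb⟩ := mono_diag hb ![-1, 1, -1] (by simp)
    have ext' : ∀ {g h : GL (Fin 3) F}, (∀ i, g.val *ᵥ b i = h.val *ᵥ b i) → g = h := fun h =>
      Units.ext (Matrix.toLin'.injective (b.ext fun i => by simpa using h i))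
    refine extra_no_four hR hM hn (hHM hu) (hHM hw) (ext' fun i => ?_) (ext' fun i => ?_) (ext' fun i => ?_)
      (fun e => ?_) (fun e => ?_) (fun e => ?_)
    · rw [Asch.mul_mulVec, hub, Matrix.mulVec_smul, hub, smul_smul]; fin_cases i <;> simp
    · rw [Asch.mul_mulVec, hwb, Matrix.mulVec_smul, hwb, smul_smul]; fin_cases i <;> simp
    · rw [Asch.mul_mulVec, Asch.mul_mulVec, hwb, hub, Matrix.mulVec_smul, Matrix.mulVec_smul, hwb, hub,
        smul_comm]
    all_goals first
      | (refine hne1 ?_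
         have h1 := congrArg b.repr (hub 1)
         rw [e] at h1
         simpa [Finsupp.single_eq_same] using (DFunLike.congr_fun h1 1).symm)
      | (refine hne1 ?_
         have h1 := congrArg b.repr (hwb 0)
         rw [e] at h1
         simpa [Finsupp.single_eq_same] using (DFunLike.congr_fun h1 0).symm)
      | (refine hne1 ?_
         have h1 := congrArg b.repr (hub 0)
         rw [e, hwb] at h1
         simpa [Finsupp.single_eq_same] using (DFunLike.congr_fun h1 0))
  · refine (mono_sub (two_le_subfield F₁) hr.two_le ?_).elim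
    rw [← hcard]
    exact hd (card_subfield_dvd F₁ B hM hle)
  · exact (mono_quad hq (hd (quad_card_dvd h2 hQ hM hle))).elim
  · obtain ⟨q₁, hq₁, hF, h⟩ := dvd_unitary hM hf hle
    have := mono_unitary hq₁ (by rw [← hF]; exact hd h)
    subst this
    omega
  · exfalso
    rcases hsmall with ⟨-, -, h, -⟩ | ⟨hc, h, h360, -⟩ | ⟨h5, h, -⟩
    · exact mono_L32 hq (hd h)
    · have hodd : Odd (Fintype.card F) := hc.elim (fun h4 => absurd hq (by omega)) (·.1)
      have h' := dvd_ordL hM h360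
      rcases mono_A6 hq hodd (hd h) with e | e | e <;> rw [e] at h' <;> norm_num [ordL] at h'
    · exact mono_A7 hq (five_dvd_card h5) (hd h)

/-- The normaliser of a cubic field is maximal. -/
theorem isMax_field (hq : Fintype.card F ≠ 4) {K : Subalgebra F (Matrix (Fin 3) (Fin 3) F)}
    (hK : IsFieldSubalgebra 3 K) :
    IsMaximalIn (specialLinear (Fin 3) F) (subalgebraNormalizer K ⊓ specialLinear (Fin 3) F) := by
  refine isMax_intro (Asch.not_SL_le_subalgebraNormalizer le_rfl (Fintype.card_fin 3) hK) fun M hHM hM hne => ?_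
  have hd : ∀ {n}, Nat.card M ∣ n → 3 * ordS (Fintype.card F) ∣ n := fun h =>
    card_field hK ▸ (Subgroup.card_dvd_of_le hHM).trans h
  have h2 := two_le_card (F := F)
  rcases irreducible_list hM (irr_mono hHM (irr_field hK)) with h | ⟨D, hD, hle⟩ | ⟨K', hK', hle⟩ |
    ⟨R, c, x, y, z, hRM, hn, hR⟩ | ⟨F₁, r, B, hne₁, hr, hcard, hle⟩ | ⟨h2', Q, hQ, hle⟩ |
    ⟨σ, f, hf, hle, -⟩ | hsmall
  · exact absurd h hne
  · exact (field_mono h2 (hd (dvd_mono hM hD hle))).elim
  · exact (le_of_card_dvd hHM (by rw [card_field hK]; exact dvd_field hM hK' hle)).trans inf_le_left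
  · exact (field_extra h2 (hd (extra_card_dvd hR hM hn))).elim
  · obtain ⟨e1, e2⟩ := field_sub (two_le_subfield F₁) hr.two_le
      (by rw [← hcard]; exact hd (card_subfield_dvd F₁ B hM hle))
    exact absurd (by rw [hcard, e1, e2]; norm_num) hq
  · exact (field_quad h2 (hd (quad_card_dvd h2' hQ hM hle))).elim
  · obtain ⟨q₁, hq₁, hF, h⟩ := dvd_unitary hM hf hle
    exact (field_unitary hq₁ (by rw [← hF]; exact hd h)).elim
  · exfalso
    rcases hsmall with ⟨hodd, -, h, -⟩ | ⟨-, h, -⟩ | ⟨h5, h, -⟩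
    · exact field_L32 h2 hodd (hd h)
    · exact field_A6 h2 (hd h)
    · exact field_A7 h2 (five_dvd_card h5) (hd h)

end Cfsg.Lib.Linear.Mitchell.Max
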