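import Cfsg.Agent.Lib.Linear.Mitchell.MaxSL3MonoField

/-!
# The orthogonal groups are maximal in `SL₃(q)`
-/

set_option autoImplicit false
set_option linter.unusedSectionVars false

namespace Cfsg.Lib.Linear.Mitchell.Max

open Cfsg.Geo Cfsg.Lib.Linear MaxArith
open scoped Matrix MatrixGroups

variable {F : Type*} [Field F] [Fintype F] {Q : (Fin 3 → F) → F}

/-- Minus the reflection in a non-singular vector. -/
theorem exists_neg_refl (hQ : IsNondegenerateQuadraticForm Q) {v : Fin 3 → F}
    (hv : Q v ≠ 0) :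
    ∃ g ∈ isom (QuadraticMap.polar Q) ⊓ specialLinear (Fin 3) F,
      ∀ w, g.val *ᵥ w = (QuadraticMap.polar Q w v / Q v) • v - w := by
  classical
  set B := QuadraticMap.polar Q with hB
  let φ : Fin 3 → F := fun j => B (Pi.single j 1) v / Q v
  have hb : IsBilinearForm B := hQ.polar_bilinear
  have hφ : ∀ w, φ ⬝ᵥ w = B w v / Q v := fun w => by
    have h1 : B w v = ∑ j, w j * B (Pi.single j 1) v := by
      let L : (Fin 3 → F) →ₗ[F] F :=
        { toFun := fun w => B w v, map_add' := fun x y => hb.add_left x y v, map_smul' := fun c x => hb.smul_left c x v }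
      show L w = ∑ j, w j * L (Pi.single j 1)
      conv_lhs => rw [pi_eq_sum_univ' w, map_sum]
      exact Finset.sum_congr rfl fun j _ => by rw [map_smul, smul_eq_mul]
    rw [h1, dotProduct, Finset.sum_div]
    exact Finset.sum_congr rfl fun j _ => by simp only [φ]; ring
  let M : Matrix (Fin 3) (Fin 3) F := Matrix.vecMulVec v φ - 1
  have hMw : ∀ w, M *ᵥ w = (B w v / Q v) • v - w := fun w => by
    rw [Matrix.sub_mulVec, Matrix.one_mulVec, ← hφ]
    congr 1
    ext i
    simp only [Matrix.mulVec, Matrix.vecMulVec_apply, dotProduct, Pi.smul_apply, smul_eq_mul, Finset.sum_mul]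
    exact Finset.sum_congr rfl fun j _ => by ring
  have hvv : B v v / Q v = 2 := by rw [hB, polar_self' hQ]; field_simp
  have hMM : M * M = 1 := Matrix.toLin'.injective (LinearMap.ext fun w => by
    simp only [Matrix.toLin'_apply, ← Matrix.mulVec_mulVec, Matrix.one_mulVec]
    rw [hMw w, Matrix.mulVec_sub, Matrix.mulVec_smul, hMw v, hMw w, hvv]
    module)
  refine ⟨⟨M, M, hMM, hMM⟩, ⟨fun u w => ?_, ?_⟩, hMw⟩
  · show B (M *ᵥ u) (M *ᵥ w) = B u w
    have hsym : B v w = B w v := QuadraticMap.polar_comm _ _ _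
    have hnl : ∀ x y, B (-x) y = -B x y := fun x y => by rw [← neg_one_smul F x, hb.smul_left, neg_one_mul]
    have hnr : ∀ x y, B x (-y) = -B x y := fun x y => by rw [← neg_one_smul F y, hb.smul_right, neg_one_mul]
    rw [hMw, hMw, sub_eq_add_neg, sub_eq_add_neg]
    simp only [hb.add_left, hb.add_right, hb.smul_left, hb.smul_right, hnl, hnr,
      show B v v = 2 * Q v from polar_self' hQ v, hsym]
    field_simp
    ring
  · refine MonoidHom.mem_ker.2 (Units.ext ?_)
    rw [Matrix.GeneralLinearGroup.val_det_apply, Units.val_one]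
    show M.det = 1
    have h2' : φ 0 * v 0 + φ 1 * v 1 + φ 2 * v 2 = 2 := by
      have := hφ v
      rw [hvv] at this
      simpa [dotProduct, Fin.sum_univ_three] using this
    rw [Matrix.det_fin_three]
    simp [M, Matrix.vecMulVec_apply]
    linear_combination h2'

theorem irr_quad (h2 : (2 : F) ≠ 0) (hQ : IsNondegenerateQuadraticForm Q) :
    ActsIrreducibly (matrixSet (isom (QuadraticMap.polar Q) ⊓ specialLinear (Fin 3) F)) := by
  classical
  refine Asch.irr_iff.2 fun W hW => or_iff_not_imp_left.2 fun hne => by_contra fun htop => ?_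
  set B := QuadraticMap.polar Q with hB
  have hb : IsBilinearForm B := hQ.polar_bilinear
  -- a non-singular vector lies in `W` or is orthogonal to it
  have dich : ∀ v, Q v ≠ 0 → v ∈ W ∨ ∀ w ∈ W, B w v = 0 := fun v hv => by
    obtain ⟨g, hg, hgw⟩ := exists_neg_refl hQ hv
    refine or_iff_not_imp_right.2 fun h => ?_
    push Not at h
    obtain ⟨w, hw, hwv⟩ := h
    have h1 := W.add_mem (hW g hg w hw) hw
    rw [hgw, sub_add_cancel] at h1
    have h3 := W.smul_mem (B w v / Q v)⁻¹ h1
    rwa [smul_smul, inv_mul_cancel₀ (div_ne_zero hwv hv), one_smul] at h3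
  haveI : Invertible (2 : F) := invertibleOfNonzero h2
  let β : LinearMap.BilinForm F (Fin 3 → F) :=
    LinearMap.mk₂ F B hb.add_left hb.smul_left hb.add_right hb.smul_right
  obtain ⟨e₀, he₀⟩ := LinearMap.BilinForm.exists_orthogonal_basis (B := β)
    ⟨fun x y => QuadraticMap.polar_comm _ x y⟩
  let e := e₀.reindex (finCongr (by rw [Module.finrank_fintype_fun_eq_card, Fintype.card_fin]))
  have horth : ∀ i j, i ≠ j → B (e i) (e j) = 0 := fun i j hij => by
    simp only [e, Module.Basis.reindex_apply]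
    exact he₀ (fun h => hij ((Equiv.injective _) h))
  have hself : ∀ i, Q (e i) ≠ 0 := fun i h0 => by
    obtain ⟨-, w, hw⟩ := hQ.nondegenerate (e i) (e.ne_zero i)
    refine hw ?_
    have : β (e i) = 0 := e.ext fun j => by
      show B (e i) (e j) = 0
      rcases eq_or_ne i j with rfl | hij
      · rw [hB, polar_self' hQ, h0, mul_zero]
      · exact horth i j hij
    have h1 := LinearMap.congr_fun this w
    simpa [β] using h1
  by_cases hall : ∀ i, e i ∈ W
  · exact htop (by rw [eq_top_iff, ← e.span_eq, Submodule.span_le]; rintro _ ⟨i, rfl⟩; exact hall i)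
  push Not at hall
  obtain ⟨j, hj⟩ := hall
  have hjp := (dich _ (hself j)).resolve_left hj
  obtain ⟨i, hi⟩ : ∃ i, e i ∈ W := by
    by_contra h
    push Not at h
    obtain ⟨w, hw, hw0⟩ := Submodule.exists_mem_ne_zero_of_ne_bot hne
    obtain ⟨-, u, hu⟩ := hQ.nondegenerate w hw0
    have h1 := LinearMap.congr_fun (e.ext (f₁ := β w) (f₂ := 0)
      fun k => ((dich _ (hself k)).resolve_left (h k)) w hw) u
    exact hu (by simpa [β] using h1)
  have hij : i ≠ j := fun h => hj (h ▸ hi)
  -- a non-singular vector with components along both `e i` and `e j`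
  obtain ⟨v, hv, hvi, hvj⟩ : ∃ v, Q v ≠ 0 ∧ B (e i) v = 2 * Q (e i) ∧ B v (e j) = 2 * Q (e j) := by
    obtain ⟨k, hki, hkj⟩ : ∃ k, k ≠ i ∧ k ≠ j :=
      (show ∀ i j : Fin 3, ∃ k, k ≠ i ∧ k ≠ j by decide) i j
    have hQadd : ∀ x y, Q (x + y) = Q x + Q y + B x y := fun x y => by simp only [hB, QuadraticMap.polar]; ring
    by_cases h0 : Q (e i + e j) = 0
    · refine ⟨e i + e j + e k, ?_, ?_, ?_⟩
      · rw [hQadd, h0, hb.add_left, horth i k hki.symm, horth j k hkj.symm]
        simpa using hself k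
      · rw [hb.add_right, hb.add_right, horth i j hij, horth i k hki.symm, hB, polar_self' hQ]; ring
      · rw [hb.add_left, hb.add_left, horth i j hij, horth k j hkj, hB, polar_self' hQ]; ring
    · refine ⟨e i + e j, h0, ?_, ?_⟩
      · rw [hb.add_right, horth i j hij, hB, polar_self' hQ]; ring
      · rw [hb.add_left, horth i j hij, hB, polar_self' hQ]; ring
  rcases dich v hv with h | h
  · exact mul_ne_zero h2 (hself j) (hvj ▸ hjp v h)
  · exact mul_ne_zero h2 (hself i) (hvi ▸ h _ hi)

theorem coprime_three (h : (3 : F) ≠ 0) : Nat.Coprime (Fintype.card F) 3 := by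
  refine (Nat.Coprime.symm ((Nat.prime_three.coprime_iff_not_dvd).2 fun hd => ?_))
  haveI : Fact (Nat.Prime 3) := ⟨Nat.prime_three⟩
  obtain ⟨x, hx⟩ := exists_prime_addOrderOf_dvd_card 3 hd
  have h1 : (3 : F) * x = 0 := by
    have := addOrderOf_nsmul_eq_zero x
    rwa [hx, nsmul_eq_mul] at this
  rcases mul_eq_zero.1 h1 with h' | h'
  · exact h h'
  · rw [h', addOrderOf_zero] at hx; omega

theorem ringChar_dvd_card : ringChar F ∣ Fintype.card F :=
  (ringChar.spec F _).1 (FiniteField.cast_card_eq_zero F)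

/-- The orthogonal similarity group is maximal. -/
theorem isMax_quad (hodd : Odd (Fintype.card F)) (hQ : IsNondegenerateQuadraticForm Q) :
    IsMaximalIn (specialLinear (Fin 3) F) (quadSimilarityGroup Q ⊓ specialLinear (Fin 3) F) := by
  classical
  have h2 : (2 : F) ≠ 0 := Asch.two_ne_zero_or_alt hQ (by decide)
  have hle' : isom (QuadraticMap.polar Q) ⊓ specialLinear (Fin 3) F ≤
      quadSimilarityGroup Q ⊓ specialLinear (Fin 3) F := by
    rw [Asch.quadSimilarityGroup_eq h2 hQ]
    exact inf_le_inf_right _ (isom_le_similarity _)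
  refine isMax_intro (Asch.not_SL_le_quad (by simp) h2 hQ) fun M hHM hM hne => ?_
  have hd : ∀ {n}, Nat.card M ∣ n → ordO (Fintype.card F) ∣ n := fun h =>
    card_SO_three h2 hQ ▸ (Subgroup.card_dvd_of_le (hle'.trans hHM)).trans h
  have hq : 3 ≤ Fintype.card F := by
    obtain ⟨k, hk⟩ := hodd
    have := two_le_card (F := F)
    omega
  rcases irreducible_list hM (irr_mono (hle'.trans hHM) (irr_quad h2 hQ)) with h | ⟨D, hD, hle⟩ | ⟨K, hK, hle⟩ |
    ⟨R, c, x, y, z, hRM, hn, hR⟩ | ⟨F₁, r, B, hne₁, hr, hcard, hle⟩ | ⟨-, Q', hQ', hle⟩ |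
    ⟨σ, f, hf, hle, -⟩ | hsmall
  · exact absurd h hne
  · have hM' := dvd_mono hM hD hle
    have h3 := orth_mono hq hodd (hd hM')
    refine (le_of_card_dvd hHM (hM'.trans ?_)).trans inf_le_left
    rw [card_quad_eq h2 hQ, show 6 * (Fintype.card F - 1) ^ 2 = ordO (Fintype.card F) by rw [h3]; rfl]
    exact dvd_mul_left _ _
  · exact (orth_field (by omega) (hd (dvd_field hM hK hle))).elim
  · exact (orth_extra (by omega) hodd (coprime_three (by exact_mod_cast hR.char_ne))
      (hd (extra_card_dvd hR hM hn))).elim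
  · refine (orth_sub (q₁ := Nat.card F₁) ?_ hr.two_le ?_).elim
    · have h1 : Odd (Nat.card F₁) := (Nat.odd_pow_iff hr.ne_zero).1 (hcard ▸ hodd)
      have := two_le_subfield F₁
      obtain ⟨k, hk⟩ := h1
      omega
    · rw [← hcard]
      exact hd (card_subfield_dvd F₁ B hM hle)
  · exact (le_of_card_dvd hHM (by
      rw [card_quad_eq h2 hQ, ← card_quad_eq h2 hQ']
      exact Subgroup.card_dvd_of_le (le_inf hle hM))).trans inf_le_left
  · obtain ⟨q₁, hq₁, hF, h⟩ := dvd_unitary hM hf hle
    refine (orth_unitary (q₁ := q₁) ?_ (by rw [← hF]; exact hd h)).elim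
    have h1 : Odd q₁ := (Nat.odd_pow_iff (by norm_num)).1 (hF ▸ hodd)
    obtain ⟨k, hk⟩ := h1
    omega
  · exfalso
    rcases hsmall with ⟨-, h7, h, h168⟩ | ⟨hc, h, h360, -⟩ | ⟨h5, h, h2520⟩
    · rcases orth_L32 hq hodd (hd h) with e | e
      · have h' := dvd_ordL hM h168
        rw [e] at h'
        norm_num [ordL] at h'
      · rcases (Nat.dvd_prime (by norm_num)).1 (e ▸ ringChar_dvd_card (F := F)) with e' | e'
        · exact CharP.ringChar_ne_one e'
        · exact h7 e'
    · have h' := dvd_ordL hM h360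
      rcases orth_A6 hq hodd (hd h) with e | e | e
      · rw [e] at h'; norm_num [ordL] at h'
      · rw [e] at h'; norm_num [ordL] at h'
      · have h3 : ringChar F ≠ 3 := hc.elim (fun h4 => by omega) (·.2)
        haveI : Fact (ringChar F).Prime := ⟨CharP.char_is_prime F _⟩
        have h9 := e ▸ ringChar_dvd_card (F := F)
        exact h3 ((Nat.prime_dvd_prime_iff_eq Fact.out Nat.prime_three).1
          (Nat.Prime.dvd_of_dvd_pow (n := 2) Fact.out h9))
    · have h' := dvd_ordL hM h2520
      rw [orth_A7 hq (five_dvd_card h5) hodd (hd h)] at h'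
      norm_num [ordL] at h'

end Cfsg.Lib.Linear.Mitchell.Max
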