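import Cfsg.Agent.Lib.Linear.Mitchell.MaxSL3Quad
import Cfsg.Agent.Lib.Linear.SLPerfect
import Cfsg.Agent.Lib.Linear.SLMax.Subfield

/-!
# The subfield groups are maximal in `SL₃(q)`
-/

set_option autoImplicit false
set_option linter.unusedSectionVars false

namespace Cfsg.Lib.Linear.Mitchell.Max

open Cfsg.Geo Cfsg.Lib.Linear MaxArith
open scoped Matrix MatrixGroups commutatorElement

variable {F : Type*} [Field F] [Fintype F]

/-- A perfect group of similarities of a form consists of isometries. -/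
theorem fixes_of_perfect {P : Subgroup (GL (Fin 3) F)} (hperf : ⁅P, P⁆ = P)
    {f : (Fin 3 → F) → (Fin 3 → F) → F} (h : P ≤ similarityGroup f) : P ≤ isom f := by
  intro g hg
  rw [← hperf] at hg
  refine Subgroup.commutator_le.2 (fun a ha b hb => ?_) hg
  obtain ⟨c, hc⟩ := h ha
  obtain ⟨d, hd⟩ := h hb
  intro u v
  show f ((a * b * a⁻¹ * b⁻¹).val *ᵥ u) ((a * b * a⁻¹ * b⁻¹).val *ᵥ v) = f u v
  have hinv : ∀ (g : GL (Fin 3) F) (e : Fˣ), (∀ u v, f (g.val *ᵥ u) (g.val *ᵥ v) = e * f u v) →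
      ∀ u v, f (g⁻¹.val *ᵥ u) (g⁻¹.val *ᵥ v) = (e⁻¹ : Fˣ) * f u v := fun g e he u v => by
    have h := he (g⁻¹.val *ᵥ u) (g⁻¹.val *ᵥ v)
    rw [Asch.mulVec_inv_mulVec, Asch.mulVec_inv_mulVec] at h
    rw [h, ← mul_assoc, ← Units.val_mul, inv_mul_cancel, Units.val_one, one_mul]
  rw [Asch.mul_mulVec _ b⁻¹, Asch.mul_mulVec _ b⁻¹, Asch.mul_mulVec _ a⁻¹, Asch.mul_mulVec _ a⁻¹,
    Asch.mul_mulVec a b, Asch.mul_mulVec a b, hc, hd, hinv a c hc, hinv b d hd]
  simp only [Units.val_inv_eq_inv_val]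
  field_simp

variable (F₀ : Subfield F)

/-- The embedding of the special linear group over the subfield. -/
def subHom : Matrix.SpecialLinearGroup (Fin 3) F₀ →* GL (Fin 3) F :=
  (Matrix.GeneralLinearGroup.map (n := Fin 3) F₀.subtype).comp Matrix.SpecialLinearGroup.toGL

theorem coe_subHom (s : Matrix.SpecialLinearGroup (Fin 3) F₀) :
    (subHom F₀ s).val = s.1.map F₀.subtype := rfl

theorem subHom_injective : Function.Injective (subHom F₀) :=
  fun s t h => Subtype.ext (Matrix.map_injective Subtype.val_injective (congrArg Units.val h))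

theorem subHom_le : (subHom F₀).range ≤ subfieldSubgroup F₀ 1 ⊓ specialLinear (Fin 3) F := by
  rintro _ ⟨s, rfl⟩
  refine ⟨(Rat0.mem_subfieldSubgroup_one F₀ _).2 ⟨1, one_ne_zero, fun i j => ?_⟩, ?_⟩
  · rw [one_mul, coe_subHom]; exact (s.1 i j).2
  · refine MonoidHom.mem_ker.2 (Units.ext ?_)
    rw [Matrix.GeneralLinearGroup.val_det_apply, coe_subHom,
      show (s.1.map F₀.subtype).det = F₀.subtype s.1.det from (RingHom.map_det _ _).symm, s.2, map_one, Units.val_one]

theorem subHom_perfect : ⁅(subHom F₀).range, (subHom F₀).range⁆ = (subHom F₀).range := by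
  haveI : Fintype F₀ := Fintype.ofFinite F₀
  rw [MonoidHom.range_eq_map, ← Subgroup.map_commutator, ← commutator_def,
    commutator_SL_eq_top' (Or.inl (by simp))]

theorem card_subHom : Nat.card (subHom F₀).range = ordL (Nat.card F₀) := by
  haveI : Fintype F₀ := Fintype.ofFinite F₀
  rw [← Nat.card_congr (MonoidHom.ofInjective (subHom_injective F₀)).toEquiv, Nat.card_eq_fintype_card (α := F₀),
    ← card_SL_three, show specialLinear (Fin 3) F₀ = _ from (range_toGL (ι := Fin 3) (F := F₀)).symm]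
  exact Nat.card_congr (MonoidHom.ofInjective Matrix.SpecialLinearGroup.toGL_injective).toEquiv

theorem transvection_mem {i j : Fin 3} (hij : i ≠ j) :
    Matrix.transvection i j (1 : F) ∈ matrixSet (subHom F₀).range := by
  refine ⟨subHom F₀ (Matrix.SpecialLinearGroup.transvection hij 1), ⟨_, rfl⟩, ?_⟩
  show (Matrix.transvection i j (1 : F₀)).map F₀.subtype = _
  ext a b
  simp only [Matrix.map_apply, Matrix.transvection, Matrix.add_apply, Matrix.one_apply, Matrix.single_apply]
  split_ifs <;> simp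

theorem transvection_mulVec {i j : Fin 3} (w : Fin 3 → F) :
    Matrix.transvection i j (1 : F) *ᵥ w = w + Pi.single i (w j) := by
  rw [Matrix.transvection, Matrix.add_mulVec, Matrix.one_mulVec, Matrix.single_mulVec]
  simp [Function.update_eq_self, Pi.single]

theorem absIrr_subHom : ActsAbsolutelyIrreducibly (matrixSet (subHom F₀).range) := by
  classical
  refine ⟨fun W hW => or_iff_not_imp_left.2 fun hne => ?_, fun M hM => ?_⟩
  · have hadd : ∀ i j : Fin 3, i ≠ j → ∀ w ∈ W, (Pi.single i (w j) : Fin 3 → F) ∈ W := fun i j hij w hw => by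
      have h1 := hW _ (transvection_mem F₀ hij) (Submodule.mem_map_of_mem hw)
      rw [Matrix.toLin'_apply, transvection_mulVec] at h1
      simpa using W.sub_mem h1 hw
    obtain ⟨v, hv, hv0⟩ := Submodule.exists_mem_ne_zero_of_ne_bot hne
    obtain ⟨j, hj⟩ := Function.ne_iff.1 hv0
    have h1 : ∀ i, i ≠ j → (Pi.single i (1 : F) : Fin 3 → F) ∈ W := fun i hij => by
      have := W.smul_mem (v j)⁻¹ (hadd i j hij v hv)
      rwa [← Pi.single_smul', smul_eq_mul, inv_mul_cancel₀ hj] at this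
    obtain ⟨i, hij⟩ : ∃ i, i ≠ j := exists_ne j
    have h2 : (Pi.single j (1 : F) : Fin 3 → F) ∈ W := by
      have := hadd j i hij.symm _ (h1 i hij)
      rwa [Pi.single_eq_same] at this
    rw [eq_top_iff, ← (Pi.basisFun F (Fin 3)).span_eq, Submodule.span_le]
    rintro _ ⟨k, rfl⟩
    rw [Pi.basisFun_apply]
    rcases eq_or_ne k j with rfl | hk
    · exact h2
    · exact h1 k hk
  · have hc : ∀ i j : Fin 3, i ≠ j → Commute (Matrix.single i j (1 : F)) M := fun i j hij => by
      have h := hM _ (transvection_mem F₀ hij)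
      rw [Matrix.transvection, mul_add, add_mul, mul_one, one_mul] at h
      exact (add_left_cancel h).symm
    obtain ⟨c, hc⟩ := Matrix.mem_range_scalar_of_commute_single hc
    exact ⟨c, by rw [← hc]; ext a b; by_cases h : a = b <;> simp [h]⟩

theorem exists_trace (c : F₀) : ∃ x ∈ (subHom F₀).range, x.val.trace = (c : F) + 1 := by
  refine ⟨_, ⟨⟨!![c, -1, 0; 1, 0, 0; 0, 0, 1], ?_⟩, rfl⟩, ?_⟩
  · rw [Matrix.det_fin_three]; simp
  · show ((!![c, -1, 0; 1, 0, 0; 0, 0, 1] : Matrix (Fin 3) (Fin 3) F₀).map F₀.subtype).trace = _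
    rw [Matrix.trace_fin_three]; simp

variable {F₀}

theorem isMax_subfield_one {r : ℕ} (hr : r.Prime) (hcard : Fintype.card F = Nat.card F₀ ^ r) :
    IsMaximalIn (specialLinear (Fin 3) F) (subfieldSubgroup F₀ 1 ⊓ specialLinear (Fin 3) F) := by
  classical
  set E := (subHom F₀).range with hE
  set q₀ := Nat.card F₀ with hq₀
  have h2 : 2 ≤ q₀ := two_le_subfield F₀
  have hne : F₀ ≠ ⊤ := by
    intro h
    have h1 : q₀ = Fintype.card F := by
      rw [hq₀, h, Nat.card_congr Subfield.topEquiv.toEquiv, Nat.card_eq_fintype_card]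
    have h3 : q₀ ^ 1 < q₀ ^ r := Nat.pow_lt_pow_right h2 hr.one_lt
    rw [pow_one] at h3
    omega
  refine isMax_intro (Asch.not_SL_le_subfieldSubgroup (by simp) hne 1) fun M hHM hM hMne => ?_
  have hEM : E ≤ M := (subHom_le F₀).trans hHM
  have hEabs := absIrr_subHom F₀
  have hd : ∀ {n}, Nat.card M ∣ n → ordL q₀ ∣ n := fun h =>
    card_subHom F₀ ▸ (Subgroup.card_dvd_of_le hEM).trans h
  rcases irreducible_list hM (irr_mono hEM hEabs.1) with h | ⟨D, hD, hle⟩ | ⟨K, hK, hle⟩ |
    ⟨R, c, x, y, z, hRM, hn, hR⟩ | ⟨F₁, s, B, hne₁, hs, hcard₁, hle⟩ | ⟨h2', Q, hQ, hle⟩ |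
    ⟨σ, f, hf, hle, -⟩ | hsmall
  · exact absurd h hMne
  · exact (sub_mono h2 hr.one_lt.le (by rw [← hcard]; exact hd (dvd_mono hM hD hle))).elim
  · exact (sub_field h2 hr.one_lt.le (by rw [← hcard]; exact hd (dvd_field hM hK hle))).elim
  · refine (sub_extra h2 ?_ (hd (extra_card_dvd hR hM hn))).elim
    exact Nat.Coprime.coprime_dvd_left (hcard ▸ dvd_pow_self q₀ hr.ne_zero)
      (coprime_three (by exact_mod_cast hR.char_ne))
  · have hrat : ∀ x ∈ E, ∀ i j, (B⁻¹ * x * B).val i j ∈ F₁ := fun x hx i j => by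
      rw [hE, ← subHom_perfect F₀] at hx
      obtain ⟨_, ⟨g, rfl⟩, rfl⟩ := commutator_subfield_le F₁ B
        (Subgroup.commutator_mono (hEM.trans hle) (hEM.trans hle) hx)
      rw [show B⁻¹ * (MulAut.conj B).toMonoidHom (Matrix.GeneralLinearGroup.map F₁.subtype g) * B =
        Matrix.GeneralLinearGroup.map F₁.subtype g by simp [mul_assoc]]
      exact (g.val i j).2
    have hsub : F₀ ≤ F₁ := fun a ha => by
      obtain ⟨x, hx, htr⟩ := exists_trace F₀ ⟨a, ha⟩
      have h1 : (B⁻¹ * x * B).val.trace ∈ F₁ := F₁.sum_mem fun i _ => hrat x hx i i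
      rw [Units.val_mul, Units.val_mul, Matrix.trace_mul_comm, ← mul_assoc, ← Units.val_mul, mul_inv_cancel,
        Units.val_one, one_mul, htr] at h1
      simpa using F₁.sub_mem h1 F₁.one_mem
    have heq : F₁ = F₀ := by
      letI : Algebra F₀ F₁ := (Subfield.inclusion hsub).toAlgebra
      haveI : Module.Finite F₀ F₁ := Module.Finite.of_finite
      have h1 := Module.natCard_eq_pow_finrank (K := F₀) (V := F₁)
      set m := Module.finrank F₀ F₁
      rw [hcard₁, h1, ← hq₀, ← pow_mul] at hcard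
      have hm := Nat.pow_right_injective h2 hcard
      rcases (Nat.dvd_prime hr).1 ⟨s, hm.symm⟩ with e | e
      · refine (SetLike.coe_injective ?_).symm
        refine Set.eq_of_subset_of_ncard_le hsub ?_ (Set.toFinite _)
        rw [← Nat.card_coe_set_eq, ← Nat.card_coe_set_eq]
        exact le_of_eq (by simpa [e] using h1)
      · rw [e] at hm
        have := hs.one_lt
        nlinarith [hr.one_lt]
    subst heq
    have hEB : ∀ x ∈ E, B⁻¹ * x * B ∈ E := fun x hx => by
      let g : Matrix (Fin 3) (Fin 3) F₁ := Matrix.of fun i j => ⟨_, hrat x hx i j⟩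
      have hg : g.map F₁.subtype = (B⁻¹ * x * B).val := Matrix.ext fun i j => rfl
      refine ⟨⟨g, Subtype.ext ?_⟩, Units.ext hg⟩
      have h1 : (g.map F₁.subtype).det = 1 := by
        rw [hg, Units.val_mul, Units.val_mul, Matrix.det_units_conj']
        exact congrArg Units.val (MonoidHom.mem_ker.1 ((subHom_le F₁ hx).2))
      exact (RingHom.map_det F₁.subtype g).trans h1
    have hB : Rat0.RatG F₁ (1 * B⁻¹ * 1⁻¹) := Asch.rat_normalizer hEabs F₁ 1
      (fun x hx i j => by
        obtain ⟨s, rfl⟩ := hx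
        simp only [Units.val_one, inv_one, one_mul, mul_one, coe_subHom]
        exact (s.1 i j).2)
      (fun x hx => by rw [inv_inv]; exact hEB x hx)
    simp only [one_mul, inv_one, mul_one] at hB
    have hB' : B ∈ subfieldSubgroup F₁ (1 : GL (Fin 3) F) :=
      inv_inv B ▸ inv_mem ((Rat0.mem_subfieldSubgroup_one F₁ _).2 hB)
    intro g hg
    have h1 := hle hg
    rw [Asch.mem_subfieldSubgroup_iff, ← Rat0.mem_subfieldSubgroup_one] at h1
    have h3 := mul_mem (mul_mem hB' h1) (inv_mem hB')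
    simpa [mul_assoc] using h3
  · have hodd : Odd q₀ := (Nat.odd_pow_iff hr.ne_zero).1 (hcard ▸ Asch.odd_card_of_two_ne_zero h2')
    exact (sub_quad h2 hodd hr (by rw [← hcard]; exact hd (quad_card_dvd h2' hQ hM hle))).elim
  · exfalso
    have hfix := fixes_of_perfect (subHom_perfect F₀) (hEM.trans hle)
    have hs := Asch.isSesq_of_unitary hf
    have hzero : ∀ i k : Fin 3, f (Pi.single k 1) (Pi.single i 1) = 0 := fun i k => by
      obtain ⟨j, hji, hjk⟩ := (show ∀ i k : Fin 3, ∃ j, j ≠ i ∧ j ≠ k by decide) i k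
      obtain ⟨g, hg, hgv⟩ := transvection_mem F₀ hji.symm
      have h := hfix hg (Pi.single k 1) (Pi.single j 1)
      change f (g.val *ᵥ _) (g.val *ᵥ _) = _ at h
      rw [show g.val = Matrix.transvection i j 1 from hgv, transvection_mulVec, transvection_mulVec,
        Pi.single_eq_same, Pi.single_eq_of_ne hjk, Pi.single_zero, add_zero, hs.add_right] at h
      simpa using h
    obtain ⟨⟨u, hu⟩, -⟩ := hf.nondegenerate (Pi.single 0 1) (by simp)
    refine hu ?_
    rw [Asch.sesq_gram hs]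
    have h0 : gramMatrix f = 0 := Matrix.ext fun i j => hzero j i
    rw [h0, Matrix.zero_mulVec, dotProduct_zero]
  · exfalso
    rcases hsmall with ⟨hodd, -, h, -⟩ | ⟨-, h, -⟩ | ⟨h5, h, -⟩
    · refine sub_small h2 (Or.inl ⟨rfl, ?_⟩) (hd h)
      have h1 : Odd q₀ := (Nat.odd_pow_iff hr.ne_zero).1 (hcard ▸ hodd)
      obtain ⟨k, hk⟩ := h1
      omega
    · exact sub_small h2 (Or.inr (Or.inl rfl)) (hd h)
    · refine sub_small h2 (Or.inr (Or.inr ⟨rfl, ?_⟩)) (hd h)
      exact Nat.le_of_dvd (by omega) ((by norm_num : Nat.Prime 5).dvd_of_dvd_pow (hcard ▸ five_dvd_card h5))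

/-- The subfield groups are maximal. -/
theorem isMax_subfield (P : GL (Fin 3) F) {r : ℕ} (hr : r.Prime) (hcard : Fintype.card F = Nat.card F₀ ^ r) :
    IsMaximalIn (specialLinear (Fin 3) F) (subfieldSubgroup F₀ P ⊓ specialLinear (Fin 3) F) := by
  have h := SLMax.Subf.maximal_conj P (map_conj_SL P) (isMax_subfield_one hr hcard)
  have hid : subfieldSubgroup F₀ P = (subfieldSubgroup F₀ (1 : GL (Fin 3) F)).map (MulAut.conj P).toMonoidHom := by
    simp only [subfieldSubgroup]
    rw [Subgroup.map_map]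
    congr 1
    ext g
    simp
  rwa [Subgroup.map_inf _ _ _ (MulAut.conj P).injective, map_conj_SL, ← hid] at h

end Cfsg.Lib.Linear.Mitchell.Max
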