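import Cfsg.Agent.Lib.Linear.Mitchell.MaxSL3Extra
import Cfsg.Agent.Lib.Linear.Aschbacher.Monomial

/-!
# The unitary groups are maximal in `SL₃(q)`
-/

set_option autoImplicit false
set_option linter.unusedSectionVars false

namespace Cfsg.Lib.Linear.Mitchell.Max

open Cfsg.Geo Cfsg.Lib.Linear MaxArith
open scoped Matrix MatrixGroups

variable {F : Type*} [Field F] [Fintype F] {σ : F ≃+* F} {f : (Fin 3 → F) → (Fin 3 → F) → F}

theorem irr_unitary (hf : IsUnitaryForm σ f) :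
    ActsIrreducibly (matrixSet (isom f ⊓ specialLinear (Fin 3) F)) := by
  classical
  obtain ⟨q, S, hF, hσ, hS⟩ := exists_standard hf
  let L : (Fin 3 → F) ≃ₗ[F] (Fin 3 → F) := LinearEquiv.ofLinear (Matrix.toLin' S⁻¹.val) (Matrix.toLin' S.val)
    (by rw [← Matrix.toLin'_mul, ← Units.val_mul, inv_mul_cancel, Units.val_one, Matrix.toLin'_one])
    (by rw [← Matrix.toLin'_mul, ← Units.val_mul, mul_inv_cancel, Units.val_one, Matrix.toLin'_one])
  let b := (Pi.basisFun F (Fin 3)).map L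
  have hrepr : ∀ v i, b.repr v i = (S.val *ᵥ v) i := fun v i => by
    simp [b, L, Module.Basis.map_repr, Pi.basisFun_repr, LinearEquiv.ofLinear, Matrix.toLin'_apply]
  have hfd : ∀ u v, Asch.diagForm b σ u v = f u v := fun u v => by
    rw [hS]
    simp only [Asch.diagForm, Cfsg.hermForm, hσ, hrepr]
  let D : Fin 3 → Submodule F (Fin 3 → F) := fun i => Submodule.span F {b i}
  have hb : ∀ i, D i = Submodule.span F {b i} := fun i => rfl
  have hmem : ∀ g ∈ decompositionStabilizer D ⊓ specialLinear (Fin 3) F, ∀ (π : Equiv.Perm (Fin 3)) (ε : Fin 3 → F),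
      (∀ l, ε l * σ (ε l) = 1) → (∀ l, g.val *ᵥ b l = ε l • b (π l)) → g ∈ isom f ⊓ specialLinear (Fin 3) F :=
    fun g hg π ε hε hgb => Subgroup.mem_inf.2 ⟨fun u v => by
      show f (g.val *ᵥ u) (g.val *ᵥ v) = f u v
      rw [← hfd, ← hfd, Asch.diagForm_monomial b σ hgb hε], (Subgroup.mem_inf.1 hg).2⟩
  have hq : 2 ≤ q := by
    have := two_le_card (F := F)
    by_contra hq
    interval_cases q <;> omega
  obtain ⟨a, ha, ha1⟩ : ∃ a : Fˣ, a ≠ 1 ∧ (a : F) * σ a = 1 := by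
    have h : 1 < Nat.card (powMonoidHom (q + 1) : Fˣ →* Fˣ).ker := by
      rw [IsCyclic.card_powMonoidHom_ker, Nat.card_units, Nat.card_eq_fintype_card, hF]
      have hd : q + 1 ∣ q ^ 2 - 1 := ⟨q - 1, by
        have : 1 ≤ q ^ 2 := Nat.one_le_pow _ _ (by omega)
        zify [this, (show 1 ≤ q by omega)]
        ring⟩
      rw [Nat.gcd_eq_right hd]
      omega
    haveI : Nontrivial (powMonoidHom (q + 1) : Fˣ →* Fˣ).ker := Finite.one_lt_card_iff_nontrivial.1 h
    obtain ⟨⟨a, ha⟩, hne⟩ := exists_ne (1 : (powMonoidHom (q + 1) : Fˣ →* Fˣ).ker)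
    refine ⟨a, fun e => hne (Subtype.ext e), ?_⟩
    rw [hσ, ← pow_succ', ← Units.val_pow_eq_pow_val, ← Units.val_one]
    exact congrArg Units.val (MonoidHom.mem_ker.1 ha)
  have hainv : (a⁻¹ : Fˣ) * σ (a⁻¹ : Fˣ) = (1 : F) := by
    rw [Units.val_inv_eq_inv_val, map_inv₀, ← mul_inv, ha1, inv_one]
  refine irr_of_mono b ha (fun i j hij => ?_) fun i j => ?_
  · obtain ⟨g, hg, hgb⟩ := mono_diag hb (fun l => if l = i then a else if l = j then a⁻¹ else 1)
      (by fin_cases i <;> fin_cases j <;> simp_all)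
    refine ⟨g, hmem g hg (Equiv.refl _) _ (fun l => ?_) hgb, hgb⟩
    split_ifs
    · exact ha1
    · exact hainv
    · simp
  · obtain ⟨g, hg, ε, hε, hgb⟩ := mono_perm_elts hb i j
    have hε' : ∀ l, ε l * σ (ε l) = 1 := fun l => by
      rcases mul_self_eq_one_iff.1 (hε l) with e | e <;> simp [e]
    refine ⟨g, hmem g hg _ ε hε' hgb, ε i, fun h => ?_, by rw [hgb, Equiv.swap_apply_left]⟩
    have := hε i
    rw [h, zero_mul] at this
    exact zero_ne_one this

/-- Over four elements the frame lies in the unitary group. -/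
theorem frame_unitary (hf : IsUnitaryForm σ f) (hF : Fintype.card F = 4) :
    ∃ c : F, c ^ 2 + c + 1 = 0 ∧ Nonempty (FrameIn (isom f ⊓ specialLinear (Fin 3) F) c) := by
  classical
  obtain ⟨q, S, hFq, -, hS⟩ := exists_standard hf
  obtain rfl : q = 2 := Nat.pow_left_injective (n := 2) (by norm_num) (hFq.symm.trans hF)
  haveI : CharP F 2 := by
    obtain ⟨p, hp⟩ := CharP.exists F
    obtain ⟨n, hpp, hn⟩ := FiniteField.card F p
    have h2 : p ∣ 2 ^ 2 := by
      rw [show (2 : ℕ) ^ 2 = p ^ (n : ℕ) from (by rw [← hn, hF]; norm_num)]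
      exact dvd_pow_self p n.ne_zero
    obtain rfl := (Nat.prime_dvd_prime_iff_eq hpp Nat.prime_two).1 (hpp.dvd_of_dvd_pow h2)
    exact hp
  have h2 : (2 : F) = 0 := CharTwo.two_eq_zero
  obtain ⟨c, hc0, hc1⟩ : ∃ c : F, c ≠ 0 ∧ c ≠ 1 := by
    by_contra h
    push Not at h
    have hle : (Finset.univ : Finset F) ⊆ {0, 1} := fun a _ => by
      rcases eq_or_ne a 0 with rfl | ha
      · simp
      · simp [h a ha]
    have := (Finset.card_le_card hle).trans Finset.card_le_two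
    rw [Finset.card_univ, hF] at this
    omega
  have hc3 : c ^ 3 = 1 := by
    have := FiniteField.pow_card_sub_one_eq_one c hc0
    rwa [hF] at this
  have hc : c ^ 2 + c + 1 = 0 := by
    refine mul_left_cancel₀ (sub_ne_zero.2 hc1) ?_
    linear_combination hc3
  have h3 : (3 : F) ≠ 0 := fun h => one_ne_zero (α := F) (by linear_combination h - h2)
  refine ⟨c, hc, ?_⟩
  obtain ⟨gx, gy, gh, gk, ex, ey, eh, ek, mx, my, mh⟩ := exists_frame_units hc h3
  have ht : c - c ^ 2 = 1 := by linear_combination -hc + (c + 0) * h2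
  let U := Cfsg.GU 3 F 2
  have hux : gx ∈ U := fun u v => by
    simp only [Units.coeHom_apply, ex, Cfsg.hermForm, Matrix.mulVec, dotProduct, Fin.sum_univ_three, frX]
    simp
    linear_combination (u 2 * v 2 ^ 2 + (c ^ 3 + 1) * (u 1 * v 1 ^ 2)) * hc3
  have huy : gy ∈ U := fun u v => by
    simp only [Units.coeHom_apply, ey, Cfsg.hermForm, Matrix.mulVec, dotProduct, Fin.sum_univ_three, frY]
    simp
    ring
  have huk : gk ∈ U := fun u v => by
    simp only [Units.coeHom_apply, ek, Cfsg.hermForm, Matrix.mulVec, dotProduct, Fin.sum_univ_three, frK]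
    simp
    linear_combination (u 2 * v 2 ^ 2) * hc3
  have huh : gh ∈ U := fun u v => by
    simp only [Units.coeHom_apply, eh, Cfsg.hermForm, Matrix.mulVec, dotProduct, Fin.sum_univ_three, frH, ht,
      inv_one, one_smul]
    simp [CharTwo.add_sq, mul_pow]
    linear_combination (u 0 * v 0 ^ 2) * h2 + (u 1 * v 1 ^ 2 + u 2 * v 2 ^ 2) * h2 +
      ((u 1 * v 1 ^ 2) * ((c ^ 3 + 1) * (c - 1) + (c - 1)) + (u 2 * v 2 ^ 2) * ((c ^ 3 + 1) * (c - 1) + (c - 1)) +
        u 0 * v 1 ^ 2 + u 0 * v 2 ^ 2 + u 1 * v 0 ^ 2 + u 2 * v 0 ^ 2 + u 1 * v 2 ^ 2 * (c ^ 2 - c + 1) +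
        u 2 * v 1 ^ 2 * (c ^ 2 - c + 1)) * hc +
      (c * (u 0 * v 1 ^ 2 + u 0 * v 2 ^ 2) + c ^ 2 * (u 1 * v 2 ^ 2 + u 2 * v 1 ^ 2)) * hc3
  have hconj : ∀ g ∈ U, g ∈ specialLinear (Fin 3) F → S⁻¹ * g * S⁻¹⁻¹ ∈ isom f ⊓ specialLinear (Fin 3) F := by
    intro g hgU hg
    refine Subgroup.mem_inf.2 ⟨fun u v => ?_, (MonoidHom.normal_ker _).conj_mem g hg S⁻¹⟩
    show f ((S⁻¹ * g * S⁻¹⁻¹).val *ᵥ u) ((S⁻¹ * g * S⁻¹⁻¹).val *ᵥ v) = f u v
    rw [inv_inv, hS, hS, Asch.mul_mulVec _ S, Asch.mul_mulVec _ S, Asch.mul_mulVec, Asch.mul_mulVec,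
      Asch.mulVec_inv_mulVec, Asch.mulVec_inv_mulVec]
    exact hgU _ _
  exact ⟨{ base := S⁻¹, gx := gx, gy := gy, gh := gh, gk := gk, val_x := ex, val_y := ey, val_h := eh, val_k := ek
           mem_x := hconj _ hux mx
           mem_y := hconj _ huy my
           mem_h := hconj _ huh mh
           mem_h' := hconj _ (mul_mem (mul_mem huk huh) (inv_mem huk))
             ((MonoidHom.normal_ker _).conj_mem gh mh gk) }⟩

/-- The unitary similarity group is maximal. -/
theorem isMax_unitary (hf : IsUnitaryForm σ f) :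
    IsMaximalIn (specialLinear (Fin 3) F) (similarityGroup f ⊓ specialLinear (Fin 3) F) := by
  classical
  obtain ⟨q₀, hF, hU, -⟩ := unitary_card hf
  have hq₀ : 2 ≤ q₀ := by
    have := two_le_card (F := F)
    by_contra hq
    interval_cases q₀ <;> omega
  have hle' : isom f ⊓ specialLinear (Fin 3) F ≤ similarityGroup f ⊓ specialLinear (Fin 3) F :=
    inf_le_inf_right _ (isom_le_similarity _)
  refine isMax_intro (Asch.not_SL_le_similarityGroup (by simp) (Asch.isSesq_of_unitary hf)) fun M hHM hM hne => ?_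
  have hd : ∀ {n}, Nat.card M ∣ n → ordU q₀ ∣ n := fun h =>
    hU ▸ (Subgroup.card_dvd_of_le (hle'.trans hHM)).trans h
  have hsame : ∀ {τ : F ≃+* F} {g : (Fin 3 → F) → (Fin 3 → F) → F}, IsUnitaryForm τ g →
      M ≤ similarityGroup g → M ≤ similarityGroup f := fun hg hle =>
    (le_of_card_dvd hHM (card_similarity_eq hf hg ▸ Subgroup.card_dvd_of_le (le_inf hle hM))).trans inf_le_left
  have hodd : Odd (Fintype.card F) → 3 ≤ q₀ := fun h => by
    obtain ⟨k, hk⟩ := (Nat.odd_pow_iff (by norm_num)).1 (hF ▸ h)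
    omega
  rcases irreducible_list hM (irr_mono (hle'.trans hHM) (irr_unitary hf)) with h | ⟨D, hD, hle⟩ | ⟨K, hK, hle⟩ |
    ⟨R, c, x, y, z, hRM, hn, hR⟩ | ⟨F₁, r, B, hne₁, hr, hcard, hle⟩ | ⟨h2, Q, hQ, hle⟩ |
    ⟨τ, g, hg, hle, -⟩ | hsmall
  · exact absurd h hne
  · exact (unit_mono hq₀ (by rw [← hF]; exact hd (dvd_mono hM hD hle))).elim
  · exact (unit_field hq₀ (by rw [← hF]; exact hd (dvd_field hM hK hle))).elim
  · have h2 := unit_extra hq₀ (hd (extra_card_dvd hR hM hn))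
    subst h2
    obtain ⟨b, hb⟩ := Asch.Extra.monomial Nat.prime_three (Fintype.card_fin 3) hR
    have hg := Asch.isUnitaryForm_diag b hf.ne_refl hf.involutive
    refine hsame hg fun m hm => Asch.mem_similarityGroup hR.absIrr (Asch.isSesq_of_unitary hg) ?_ (hn m hm)
    rintro _ ⟨m', hm', rfl⟩ u v
    obtain ⟨π, k, hk⟩ := hb m' hm'
    refine Asch.diagForm_monomial b σ hk (fun i => ?_) u v
    have h0 : c ^ k i ≠ 0 := pow_ne_zero _ (hR.prim.ne_zero (by norm_num))
    obtain ⟨q', S, hF', hσ, -⟩ := exists_standard hf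
    obtain rfl : q' = 2 := Nat.pow_left_injective (n := 2) (by norm_num) (hF'.symm.trans hF)
    rw [hσ, ← pow_succ']
    have := FiniteField.pow_card_sub_one_eq_one _ h0
    rwa [hF] at this
  · exact (unit_sub hq₀ (two_le_subfield F₁) hr.two_le (hF.symm.trans hcard)
      (hd (card_subfield_dvd F₁ B hM hle))).elim
  · exact (unit_quad hq₀ (by rw [← hF]; exact hd (quad_card_dvd h2 hQ hM hle))).elim
  · exact hsame hg hle
  · exfalso
    rcases hsmall with ⟨ho, -, h, -⟩ | ⟨-, h, -, P, hP, ⟨e⟩⟩ | ⟨h5, h, -⟩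
    · have := (unit_small hq₀ (Or.inl ⟨rfl, hodd ho⟩) (hd h)).2
      omega
    · obtain ⟨h2, -⟩ := unit_small hq₀ (Or.inr (Or.inl rfl)) (hd h)
      subst h2
      obtain ⟨c, hc, ⟨D⟩⟩ := frame_unitary hf hF
      have h2 : (2 : F) = 0 := by
        by_contra h2
        have h := Asch.odd_card_of_two_ne_zero h2
        rw [hF] at h
        exact absurd h (by decide)
      exact no_A6_frame hM hP e (fun h => one_ne_zero (α := F) (by linear_combination h - 2 * h2)) hc
        (fun h => one_ne_zero (α := F) (by linear_combination h - h2))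
        { base := D.base, gx := D.gx, gy := D.gy, gh := D.gh, gk := D.gk, val_x := D.val_x, val_y := D.val_y
          val_h := D.val_h, val_k := D.val_k, mem_x := hle'.trans hHM D.mem_x, mem_y := hle'.trans hHM D.mem_y
          mem_h := hle'.trans hHM D.mem_h, mem_h' := hle'.trans hHM D.mem_h' }
    · have h5' : 5 ≤ q₀ := Nat.le_of_dvd (by omega)
        ((by norm_num : Nat.Prime 5).dvd_of_dvd_pow (hF ▸ five_dvd_card h5))
      have := (unit_small hq₀ (Or.inr (Or.inr ⟨rfl, h5'⟩)) (hd h)).2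
      omega

end Cfsg.Lib.Linear.Mitchell.Max
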