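import Cfsg.Agent.Lib.Linear.Mitchell.Trans
import Cfsg.Agent.Lib.Linear.Mitchell.CoreList
import Cfsg.Agent.Lib.Linear.Mitchell.CoreL2Real
import Cfsg.Agent.Lib.CpClosed.AbelianTwo.Small
import Cfsg.Agent.S0252
import Cfsg.Agent.S0253
import Cfsg.Agent.S0254
import Cfsg.Agent.S0255

/-!
# Perfect irreducible subgroups of `SL₃(q)`, `q` odd, simple modulo scalars

Split type, unitary type, orthogonal, `L₃(2)`, `A₆`, or `A₇` in characteristic five (Mitchell).
-/

set_option autoImplicit false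

namespace Cfsg.Lib.Linear.Mitchell

open Cfsg.Geo
open Cfsg.Lib.Linear.TVec
open scoped Matrix MatrixGroups

/-- The list for groups without transvections. -/
theorem noT_cases {F : Type*} [Field F] [Fintype F] (h2 : (2 : F) ≠ 0) {P : Subgroup (GL (Fin 3) F)}
    (hP : Core P) (hNoT : NoT P) :
    (∃ Q : (Fin 3 → F) → F, IsNondegenerateQuadraticForm Q ∧ FixesQuadForm (matrixSet P) Q) ∨
      (ringChar F ≠ 7 ∧ Nonempty (P ⧸ (scalars (Fin 3) F).subgroupOf P ≃*
        Matrix.ProjectiveSpecialLinearGroup (Fin 3) (ZMod 2))) ∨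
      (ringChar F ≠ 3 ∧ Nonempty (P ⧸ (scalars (Fin 3) F).subgroupOf P ≃* alternatingGroup (Fin 6))) ∨
      (ringChar F = 5 ∧ Nonempty (P ⧸ (scalars (Fin 3) F).subgroupOf P ≃* alternatingGroup (Fin 7))) := by
  classical
  rcases noT_list h2 hP hNoT with ⟨K, _, _, h3, hK, ⟨e⟩⟩ | ⟨⟨e⟩⟩
  · let ψ : P →* Matrix.ProjectiveSpecialLinearGroup (Fin 2) K := e.toMonoidHom.comp (QuotientGroup.mk' _)
    have hs : Function.Surjective ψ := e.surjective.comp (QuotientGroup.mk'_surjective _)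
    have hψ : ψ.ker = (scalars (Fin 3) F).subgroupOf P := by
      ext x; simp [ψ, MonoidHom.mem_ker, QuotientGroup.eq_one_iff]
    rcases hK with h4 | hodd
    · -- `L₂(4) = L₂(5)`
      haveI : Fact (Nat.Prime 5) := ⟨by norm_num⟩
      obtain ⟨e5⟩ := Cfsg.Lib.CpClosed.AbelianTwo.psl_two_four_equiv h4
      refine Or.inl (quad_of_psl h2 hP (e5.toMonoidHom.comp ψ) (e5.surjective.comp hs) ?_
        (by rw [ZMod.card]; norm_num) (by rw [ringChar.eq (ZMod 5) 5]; norm_num) (Or.inr (ZMod.card 5)))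
      rw [← hψ]
      ext x; simp [MonoidHom.mem_ker]
    have hoddK : ringChar K ≠ 2 := by
      intro h
      have := FiniteField.even_card_of_char_two h
      omega
    by_cases hp : ringChar K = ringChar F
    · exact Or.inl (quad_of_psl h2 hP ψ hs hψ h3 hoddK (Or.inl hp))
    have hchar : ((ringChar K : ℕ) : F) ≠ 0 := fun h0 => by
      haveI : Fact (ringChar F).Prime := ⟨CharP.char_is_prime F _⟩
      have hd := (CharP.cast_eq_zero_iff F (ringChar F) _).1 h0
      exact hp ((Nat.prime_dvd_prime_iff_eq Fact.out (CharP.char_is_prime K _)).1 hd).symm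
    have hfield : ∀ p N : ℕ, p.Prime → Fintype.card K = p ^ (N + 1) → ringChar K = p := by
      intro p N hpp hc
      haveI : Fact (ringChar K).Prime := ⟨CharP.char_is_prime K _⟩
      obtain ⟨M, -, hM⟩ := FiniteField.card K (ringChar K)
      have hd : ringChar K ∣ p ^ (N + 1) := by
        rw [← hc, hM]; exact dvd_pow_self _ M.pos.ne'
      exact (Nat.prime_dvd_prime_iff_eq Fact.out hpp).1
        ((Fact.out : (ringChar K).Prime).dvd_of_dvd_pow hd)
    rcases card_of_cross hP ψ hs hψ hoddK h3 hchar with h | h | h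
    · exact Or.inl (quad_of_psl h2 hP ψ hs hψ h3 hoddK (Or.inr h))
    · refine Or.inr (Or.inl ⟨fun e7 => hp ?_, ?_⟩)
      · rw [e7, hfield 7 0 (by norm_num) (by rw [h]; norm_num)]
      · obtain ⟨e'⟩ := Cfsg.Agent.S0255.result (F := K) (K := ZMod 2) h (ZMod.card 2)
        exact ⟨e.trans e'⟩
    · refine Or.inr (Or.inr (Or.inl ⟨fun e3 => hp ?_, ?_⟩))
      · rw [e3, hfield 3 1 (by norm_num) (by rw [h]; norm_num)]
      · obtain ⟨e'⟩ := Cfsg.Agent.S0254.result (F := K) h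
        exact ⟨e.trans e'⟩
  · exact Or.inr (Or.inr (Or.inr ⟨char_five_of_A7 hP e, ⟨e⟩⟩))

/-- The list, with the exceptions outside their defining characteristics. -/
theorem odd_core_strong {F : Type*} [Field F] [Fintype F] (h2 : (2 : F) ≠ 0) (P : Subgroup (GL (Fin 3) F))
    (hSL : P ≤ specialLinear (Fin 3) F) (hperf : ⁅P, P⁆ = P)
    (hsimple : IsSimpleGroup (P ⧸ (scalars (Fin 3) F).subgroupOf P))
    (hna : ¬ IsMulCommutative (P ⧸ (scalars (Fin 3) F).subgroupOf P))
    (hirr : ActsAbsolutelyIrreducibly (matrixSet P)) :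
    SplitType P ∨ UnitaryType P ∨
      (∃ Q : (Fin 3 → F) → F, IsNondegenerateQuadraticForm Q ∧ FixesQuadForm (matrixSet P) Q) ∨
      (ringChar F ≠ 7 ∧ Nonempty (P ⧸ (scalars (Fin 3) F).subgroupOf P ≃*
        Matrix.ProjectiveSpecialLinearGroup (Fin 3) (ZMod 2))) ∨
      (ringChar F ≠ 3 ∧ Nonempty (P ⧸ (scalars (Fin 3) F).subgroupOf P ≃* alternatingGroup (Fin 6))) ∨
      (ringChar F = 5 ∧ Nonempty (P ⧸ (scalars (Fin 3) F).subgroupOf P ≃* alternatingGroup (Fin 7))) := by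
  classical
  have hP : Core P := ⟨hSL, hperf, hsimple, hna, hirr⟩
  by_cases hT : ∃ z a, TVec.InT P z a ∧ z ≠ 0 ∧ a ≠ 0
  · rcases transvection_cases h2 hirr.1 hT with h | h
    · exact Or.inl h
    · exact Or.inr (Or.inl h)
  have hNoT : NoT P := fun z a h => by
    by_contra hc
    push Not at hc
    exact hT ⟨z, a, h, hc.1, hc.2⟩
  exact Or.inr (Or.inr (noT_cases h2 hP hNoT))

/-- The interface list. -/
theorem odd_core {F : Type*} [Field F] [Fintype F] (h2 : (2 : F) ≠ 0) (P : Subgroup (GL (Fin 3) F))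
    (hSL : P ≤ specialLinear (Fin 3) F) (hperf : ⁅P, P⁆ = P)
    (hsimple : IsSimpleGroup (P ⧸ (scalars (Fin 3) F).subgroupOf P))
    (hna : ¬ IsMulCommutative (P ⧸ (scalars (Fin 3) F).subgroupOf P))
    (hirr : ActsAbsolutelyIrreducibly (matrixSet P)) :
    SplitType P ∨ UnitaryType P ∨
      (∃ Q : (Fin 3 → F) → F, IsNondegenerateQuadraticForm Q ∧ FixesQuadForm (matrixSet P) Q) ∨
      Nonempty (P ⧸ (scalars (Fin 3) F).subgroupOf P ≃* Matrix.ProjectiveSpecialLinearGroup (Fin 3) (ZMod 2)) ∨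
      Nonempty (P ⧸ (scalars (Fin 3) F).subgroupOf P ≃* alternatingGroup (Fin 6)) ∨
      (ringChar F = 5 ∧ Nonempty (P ⧸ (scalars (Fin 3) F).subgroupOf P ≃* alternatingGroup (Fin 7))) := by
  rcases odd_core_strong h2 P hSL hperf hsimple hna hirr with h | h | h | h | h | h
  · exact Or.inl h
  · exact Or.inr (Or.inl h)
  · exact Or.inr (Or.inr (Or.inl h))
  · exact Or.inr (Or.inr (Or.inr (Or.inl h.2)))
  · exact Or.inr (Or.inr (Or.inr (Or.inr (Or.inl h.2))))
  · exact Or.inr (Or.inr (Or.inr (Or.inr (Or.inr h))))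

end Cfsg.Lib.Linear.Mitchell
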