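import Cfsg.Agent.Lib.Linear.Mitchell.UnitaryFull
import Cfsg.Agent.Lib.Linear.Mitchell.FieldSmall

/-!
# The residual classes of `SL₃` and `SU₃`: field conditions

Over no smaller field, the cases of the two cores, and what the traces say about the field in the small cases.
-/

set_option autoImplicit false
set_option linter.unusedSectionVars false

namespace Cfsg.Lib.Linear.Mitchell

open Cfsg.Geo Cfsg.Lib.Linear
open scoped Matrix MatrixGroups

variable {F : Type*} [Field F] [Fintype F] {P : Subgroup (GL (Fin 3) F)}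

/-- The cases of both cores over no smaller field. -/
theorem residual_cases (hP : Core P) (hsub : ∀ K : Subfield F, K ≠ ⊤ → ¬ RealisableOver K (matrixSet P)) :
    specialLinear (Fin 3) F ≤ P ∨
      (∃ (σ : F ≃+* F) (f : (Fin 3 → F) → (Fin 3 → F) → F), IsUnitaryForm σ f ∧ FixesForm (matrixSet P) f ∧
        Max.LowerUnitary P σ f) ∨
      (∃ Q : (Fin 3 → F) → F, IsNondegenerateQuadraticForm Q ∧ FixesQuadForm (matrixSet P) Q) ∨
      ((2 : F) ≠ 0 ∧ ringChar F ≠ 7 ∧ Nonempty (P ⧸ (scalars (Fin 3) F).subgroupOf P ≃*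
        Matrix.ProjectiveSpecialLinearGroup (Fin 3) (ZMod 2))) ∨
      (((Fintype.card F = 4 ∧ ringChar F = 2) ∨ ((2 : F) ≠ 0 ∧ ringChar F ≠ 3)) ∧
        Nonempty (P ⧸ (scalars (Fin 3) F).subgroupOf P ≃* alternatingGroup (Fin 6))) ∨
      (ringChar F = 5 ∧ Nonempty (P ⧸ (scalars (Fin 3) F).subgroupOf P ≃* alternatingGroup (Fin 7))) := by
  by_cases h2 : (2 : F) = 0
  · haveI : CharP F 2 := CharTwo.of_one_ne_zero_of_two_eq_zero one_ne_zero h2
    rcases even_core P hP.le_sl hP.perfect hP.simple hP.nonab hP.absIrr.1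
      (fun K hR => by by_contra hK; exact hsub K hK hR) with h | ⟨σ, f, hf, hfix, hroots⟩ | ⟨h4, he⟩
    · exact Or.inl h.ge
    · exact Or.inr (Or.inl ⟨σ, f, hf, hfix, Or.inr ⟨h2, hroots⟩⟩)
    · exact Or.inr (Or.inr (Or.inr (Or.inr (Or.inl ⟨Or.inl ⟨h4, ringChar.eq F 2⟩, he⟩))))
  rcases odd_core_strong h2 P hP.le_sl hP.perfect hP.simple hP.nonab hP.absIrr with
    ⟨Q, K, hle, hge⟩ | h | h | h | h | h
  · by_cases hK : K = ⊤
    · subst hK
      refine Or.inl fun g hg => hle ?_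
      let e := (Subfield.topEquiv : (⊤ : Subfield F) ≃+* F)
      let g₁ : GL (Fin 3) (⊤ : Subfield F) := Matrix.GeneralLinearGroup.map e.symm.toRingHom (Q⁻¹ * g * Q)
      have hg₁ : Matrix.GeneralLinearGroup.map (⊤ : Subfield F).subtype g₁ = Q⁻¹ * g * Q :=
        Units.ext (Matrix.ext fun i j => rfl)
      refine ⟨_, ⟨g₁, ?_, hg₁⟩, by simp [mul_assoc]⟩
      show g₁ ∈ (Matrix.GeneralLinearGroup.det : GL (Fin 3) (⊤ : Subfield F) →* _).ker
      exact Max.det_one_of_map hg₁ hg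
    · refine absurd (Max.realisable_of_rat K Q ?_) (hsub K hK)
      rw [← hP.perfect]
      exact (Subgroup.commutator_mono hge hge).trans (Max.commutator_subfield_le K Q)
  · rcases Max.unitary_type_cases hP.perfect h with ⟨K, hK, hR⟩ | h'
    · exact absurd hR (hsub K hK)
    · exact Or.inr (Or.inl h')
  · exact Or.inr (Or.inr (Or.inl h))
  · exact Or.inr (Or.inr (Or.inr (Or.inl ⟨h2, h.1, h.2⟩)))
  · exact Or.inr (Or.inr (Or.inr (Or.inr (Or.inl ⟨Or.inr ⟨h2, h.1⟩, h.2⟩))))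
  · exact Or.inr (Or.inr (Or.inr (Or.inr (Or.inr h))))

variable {p : ℕ} [Fact p.Prime] [CharP F p]

theorem char_ne_two (h2 : (2 : F) ≠ 0) : p ≠ 2 := fun e => h2 (by
  have := CharP.cast_eq_zero F p
  rw [e] at this
  exact_mod_cast this)

/-- `L₂(7)`: prime field, or forms. -/
theorem l27_field (hP : Core P) (hsub : ∀ K : Subfield F, K ≠ ⊤ → ¬ RealisableOver K (matrixSet P))
    (h2 : (2 : F) ≠ 0) (h7 : p ≠ 7)
    (e : P ⧸ (scalars (Fin 3) F).subgroupOf P ≃* Matrix.ProjectiveSpecialLinearGroup (Fin 3) (ZMod 2)) :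
    (Fintype.card F = p ∧ (p % 7 = 1 ∨ p % 7 = 2 ∨ p % 7 = 4)) ∨
      ((p % 7 = 3 ∨ p % 7 = 5 ∨ p % 7 = 6) ∧
        ((Fintype.card F = p ∧ ∃ Q : (Fin 3 → F) → F, IsNondegenerateQuadraticForm Q ∧ FixesQuadForm (matrixSet P) Q) ∨
          (Fintype.card F = p ^ 2 ∧
            ∃ (σ : F ≃+* F) (f : (Fin 3 → F) → (Fin 3 → F) → F), IsUnitaryForm σ f ∧ FixesForm (matrixSet P) f))) := by
  have hne : p % 7 ≠ 0 := fun h =>
    h7 ((Nat.prime_dvd_prime_iff_eq (by norm_num) (Fact.out : p.Prime)).1 (Nat.dvd_of_mod_eq_zero h)).symm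
  by_cases hm : p % 7 = 1 ∨ p % 7 = 2 ∨ p % 7 = 4
  · exact Or.inl ⟨card_eq_of_traces hP.absIrr hsub fun x hx => (l27_frob hP (char_ne_two h2) h7 e hx).1 hm, hm⟩
  · have hm' : p % 7 = 3 ∨ p % 7 = 5 ∨ p % 7 = 6 := by omega
    exact Or.inr ⟨hm', forms_of_frobenius h2 hP.absIrr hsub fun x hx =>
      (l27_frob hP (char_ne_two h2) h7 e hx).2 hm'⟩

/-- `A₆`: the field and the congruences, or forms. -/
theorem a6_field (hP : Core P) (hsub : ∀ K : Subfield F, K ≠ ⊤ → ¬ RealisableOver K (matrixSet P))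
    (h2 : (2 : F) ≠ 0) (h3 : p ≠ 3)
    (e : P ⧸ (scalars (Fin 3) F).subgroupOf P ≃* alternatingGroup (Fin 6)) :
    (Fintype.card F = p ∧ (p % 15 = 1 ∨ p % 15 = 4)) ∨
      (Fintype.card F = p ^ 2 ∧ (p % 5 = 2 ∨ p % 5 = 3) ∧ ∃ x ∈ P, (x⁻¹).val.trace = x.val.trace ∧
        x.val.trace ^ p ≠ x.val.trace) ∨
      ((p % 15 = 11 ∨ p % 15 = 14 ∨ p = 5) ∧
        ((Fintype.card F = p ∧ ∃ Q : (Fin 3 → F) → F, IsNondegenerateQuadraticForm Q ∧ FixesQuadForm (matrixSet P) Q) ∨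
          (Fintype.card F = p ^ 2 ∧
            ∃ (σ : F ≃+* F) (f : (Fin 3 → F) → (Fin 3 → F) → F), IsUnitaryForm σ f ∧ FixesForm (matrixSet P) f))) := by
  have hp2 : p ≠ 2 := char_ne_two h2
  have hn3 : p % 3 ≠ 0 := fun h =>
    h3 ((Nat.prime_dvd_prime_iff_eq Nat.prime_three (Fact.out : p.Prime)).1 (Nat.dvd_of_mod_eq_zero h)).symm
  have h5 : p % 5 = 0 → p = 5 := fun h =>
    ((Nat.prime_dvd_prime_iff_eq Nat.prime_five (Fact.out : p.Prime)).1 (Nat.dvd_of_mod_eq_zero h)).symm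
  have hpow : ∀ (c : F) (n : ℕ), c ^ 3 = 1 → c ^ n = c ^ (n % 3) := fun c n hc => by
    conv_lhs => rw [← Nat.div_add_mod n 3, pow_add, pow_mul, hc, one_pow, one_mul]
  by_cases hm : p % 5 = 2 ∨ p % 5 = 3
  · obtain ⟨i, h1, hi2, hcard⟩ := card_le_of_traces (p := p) hP.absIrr hsub (j := 2) two_pos fun x hx => by
      obtain ⟨c, t, hc, t1, -, ht2, -⟩ := a6_trace (p := p) hP hp2 e hx
      have hp3 : p ^ 2 % 3 = 1 := by
        rw [Nat.pow_mod]
        rcases (show p % 3 = 1 ∨ p % 3 = 2 by omega) with h | h <;> rw [h]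
      rw [t1, mul_pow, ht2, hpow c _ hc, hp3, pow_one]
    obtain ⟨x, hx, hr, hne⟩ := a6_five (p := p) hP e hm
    obtain rfl | rfl : i = 1 ∨ i = 2 := by omega
    · rw [pow_one] at hcard
      exact absurd (by rw [← hcard, FiniteField.pow_card]) hne
    · exact Or.inr (Or.inl ⟨hcard, hm, x, hx, hr, hne⟩)
  · have hm' : p % 5 = 0 ∨ p % 5 = 1 ∨ p % 5 = 4 := by omega
    rcases (show p % 3 = 1 ∨ p % 3 = 2 by omega) with hp3 | hp3
    · refine Or.inl ⟨card_eq_of_traces hP.absIrr hsub fun x hx => ?_, ?_⟩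
      · obtain ⟨c, t, hc, t1, -, -, htp⟩ := a6_trace (p := p) hP hp2 e hx
        rw [t1, mul_pow, htp hm', hpow c _ hc, hp3, pow_one]
      · have : p % 5 = 0 → False := fun h => by rw [h5 h] at hp3; norm_num at hp3
        omega
    · refine Or.inr (Or.inr ⟨?_, forms_of_frobenius h2 hP.absIrr hsub fun x hx => ?_⟩)
      · rcases hm' with h | h | h
        · exact Or.inr (Or.inr (h5 h))
        · omega
        · omega
      · obtain ⟨c, t, hc, t1, t2, -, htp⟩ := a6_trace (p := p) hP hp2 e hx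
        rw [t1, t2, mul_pow, htp hm', hpow c _ hc, hp3]
        congr 1
        exact inv_eq_of_mul_eq_one_right (by rw [← pow_succ', hc])

/-- `A₇`: forms. -/
theorem a7_field [CharP F 5] (hP : Core P) (hsub : ∀ K : Subfield F, K ≠ ⊤ → ¬ RealisableOver K (matrixSet P))
    (e : P ⧸ (scalars (Fin 3) F).subgroupOf P ≃* alternatingGroup (Fin 7)) :
    (Fintype.card F = 5 ∧ ∃ Q : (Fin 3 → F) → F, IsNondegenerateQuadraticForm Q ∧ FixesQuadForm (matrixSet P) Q) ∨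
      (Fintype.card F = 5 ^ 2 ∧
        ∃ (σ : F ≃+* F) (f : (Fin 3 → F) → (Fin 3 → F) → F), IsUnitaryForm σ f ∧ FixesForm (matrixSet P) f) := by
  haveI : Fact (Nat.Prime 5) := ⟨by norm_num⟩
  have h2 : (2 : F) ≠ 0 := fun h0 => by
    have := (CharP.cast_eq_zero_iff F 5 2).1 (by exact_mod_cast h0)
    norm_num at this
  exact forms_of_frobenius h2 hP.absIrr hsub fun x hx => a7_frob hP e hx

end Cfsg.Lib.Linear.Mitchell
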