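import Cfsg.Agent.Lib.Linear.Mitchell.MaxArith

/-!
# Arithmetic for the maximal geometric subgroups of `SU₃(q)`
-/

set_option autoImplicit false

namespace Cfsg.Lib.Linear.Mitchell.SU3

open MaxArith

/-- `q ^ 2 - q + 1`. -/
def ordN (q : ℕ) : ℕ := q ^ 2 - q + 1

theorem ordN_mul (q : ℕ) : (q + 1) * ordN q = q ^ 3 + 1 := by
  have h : q ≤ q ^ 2 := Nat.le_self_pow two_ne_zero q
  zify [ordN, h]
  ring

/-- An odd prime index of a subfield of a field of square order. -/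
theorem exists_root {q₁ q r p : ℕ} (hp : p.Prime) (hr : r.Prime) (hodd : Odd r) (h : q₁ ^ r = q ^ 2)
    (hq : ∃ b, q = p ^ b) : ∃ t, q₁ = t ^ 2 ∧ q = t ^ r := by
  obtain ⟨b, rfl⟩ := hq
  obtain ⟨a, -, rfl⟩ := (Nat.dvd_prime_pow hp).1
    ((dvd_pow_self q₁ hr.ne_zero).trans (dvd_of_eq (h.trans (pow_mul p b 2).symm)))
  rw [← pow_mul, ← pow_mul] at h
  have h2 := Nat.pow_right_injective hp.two_le h
  have ha : 2 ∣ a := by
    rcases Nat.Prime.dvd_mul Nat.prime_two |>.1 (show 2 ∣ a * r from ⟨b, by omega⟩) with h' | h'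
    · exact h'
    · exact absurd (even_iff_two_dvd.2 h') (Nat.not_even_iff_odd.2 hodd)
  obtain ⟨c, rfl⟩ := ha
  refine ⟨p ^ c, by rw [← pow_mul]; congr 1; ring, ?_⟩
  rw [← pow_mul]
  congr 1
  nlinarith

theorem coprime_pow_succ {q : ℕ} (a : ℕ) {b : ℕ} (hb : b ≠ 0) : Nat.Coprime (q ^ a) (q ^ b + 1) := by
  refine Nat.Coprime.pow_left a ?_
  obtain ⟨m, rfl⟩ : ∃ m, b = m + 1 := ⟨b - 1, by omega⟩
  rw [pow_succ', Nat.add_comm, Nat.coprime_add_mul_left_right]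
  exact Nat.coprime_one_right q

/-- The greatest common divisor with a difference of powers. -/
theorem gcd_pow_succ_dvd {t m n g : ℕ} (h : Nat.gcd (2 * m) n = g) :
    Nat.gcd (t ^ m + 1) (t ^ n - 1) ∣ t ^ g - 1 := by
  rw [← h, ← Nat.pow_sub_one_gcd_pow_sub_one]
  refine Nat.gcd_dvd_gcd_of_dvd_left _ ⟨t ^ m - 1, ?_⟩
  rw [two_mul, pow_add, ← Nat.mul_self_sub_mul_self_eq, mul_one]

/-! ### Monomial groups -/

theorem mono_extra_u {q : ℕ} (hq : 3 ≤ q) (h : 6 * (q + 1) ^ 2 ∣ 648) : q = 5 := by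
  rw [show (648 : ℕ) = 6 * 108 by norm_num] at h
  have h' := Nat.dvd_of_mul_dvd_mul_left (by norm_num) h
  have := le_of_sq_dvd (by norm_num) h' (B := 10) (by norm_num)
  obtain h2 : q ≤ 9 := by omega
  interval_cases q <;> first | rfl | (norm_num at h')

theorem mono_L32_u {q : ℕ} (hq : 3 ≤ q) (h : 6 * (q + 1) ^ 2 ∣ 1008) : False := by
  rw [show (1008 : ℕ) = 6 * 168 by norm_num] at h
  have h' := Nat.dvd_of_mul_dvd_mul_left (by norm_num) h
  have := le_of_sq_dvd (by norm_num) h' (B := 12) (by norm_num)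
  obtain h2 : q ≤ 11 := by omega
  interval_cases q <;> norm_num at h'

theorem mono_A6_u {q : ℕ} (hq : 3 ≤ q) (h : 6 * (q + 1) ^ 2 ∣ 4320) : q = 3 ∨ q = 5 ∨ q = 11 := by
  rw [show (4320 : ℕ) = 6 * 720 by norm_num] at h
  have h' := Nat.dvd_of_mul_dvd_mul_left (by norm_num) h
  have := le_of_sq_dvd (by norm_num) h' (B := 26) (by norm_num)
  obtain h2 : q ≤ 25 := by omega
  interval_cases q <;> first | decide | (norm_num at h')

theorem mono_A7_u {q : ℕ} (hq : 3 ≤ q) (h : 6 * (q + 1) ^ 2 ∣ 15120) : q = 5 := by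
  rw [show (15120 : ℕ) = 6 * 2520 by norm_num] at h
  have h' := Nat.dvd_of_mul_dvd_mul_left (by norm_num) h
  have := le_of_sq_dvd (by norm_num) h' (B := 50) (by norm_num)
  obtain h2 : q ≤ 49 := by omega
  interval_cases q <;> first | rfl | (norm_num at h')

theorem mono_sub_u {t r : ℕ} (ht : 2 ≤ t) (hr : r.Prime) (hodd : Odd r)
    (h : 6 * (t ^ r + 1) ^ 2 ∣ 3 * ordL (t ^ 2)) : False := by
  set N := t ^ r + 1 with hN
  have h1 : 2 * (N * N) ∣ ordL (t ^ 2) := by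
    rw [show 6 * N ^ 2 = 3 * (2 * (N * N)) by ring] at h
    exact Nat.dvd_of_mul_dvd_mul_left three_pos h
  have hc : Nat.Coprime (N * N) ((t ^ 2) ^ 3) := by
    rw [← pow_mul]
    exact (coprime_pow_succ _ hr.ne_zero).symm.mul_left (coprime_pow_succ _ hr.ne_zero).symm
  have h2 : N * N ∣ (t ^ 6 - 1) * (t ^ 4 - 1) := by
    have := hc.dvd_of_dvd_mul_left ((dvd_mul_left _ 2).trans h1)
    rwa [← pow_mul, ← pow_mul] at this
  have p2 : 4 ≤ t ^ 2 := Nat.pow_le_pow_left ht 2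
  have hrodd : r % 2 = 1 := Nat.odd_iff.1 hodd
  by_cases h3 : r = 3
  · subst h3
    have h2' : N * N ∣ N * ((t ^ 3 - 1) * (t ^ 4 - 1)) := by
      rwa [show t ^ 6 - 1 = N * (t ^ 3 - 1) by
        rw [hN, show 6 = 3 + 3 from rfl, pow_add, ← Nat.mul_self_sub_mul_self_eq, mul_one], mul_assoc] at h2
    have h4 := Nat.dvd_of_mul_dvd_mul_left (show 0 < N by omega) h2'
    have p3 : 2 ^ 3 ≤ t ^ 3 := Nat.pow_le_pow_left ht 3
    have g1 : Nat.gcd N (t ^ 3 - 1) ∣ 2 := by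
      have := Nat.dvd_sub (Nat.gcd_dvd_left N (t ^ 3 - 1)) (Nat.gcd_dvd_right N (t ^ 3 - 1))
      rwa [show N - (t ^ 3 - 1) = 2 by omega] at this
    have g2 : Nat.gcd N (t ^ 4 - 1) ∣ t ^ 2 - 1 := gcd_pow_succ_dvd (by decide)
    have h5 : N ∣ 2 * (t ^ 2 - 1) :=
      ((Nat.dvd_gcd dvd_rfl h4).trans (Nat.gcd_mul_right_dvd_mul_gcd _ _ _)).trans (mul_dvd_mul g1 g2)
    have := Nat.le_of_dvd (by omega) h5
    have : 2 * t ^ 2 ≤ t ^ 3 := by rw [pow_succ' t 2]; exact Nat.mul_le_mul_right _ ht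
    omega
  · have h5 : 5 ≤ r := by
      by_contra hlt
      have := hr.two_le
      interval_cases r <;> first | omega | exact h3 rfl | exact absurd hr (by norm_num)
    have e6 : Nat.gcd (2 * r) 6 = 2 := by
      rw [show 6 = 2 * 3 from rfl, Nat.gcd_mul_left, (Nat.coprime_primes hr Nat.prime_three).2 h3]
    have e4 : Nat.gcd (2 * r) 4 = 2 := by
      rw [show 4 = 2 * 2 from rfl, Nat.gcd_mul_left,
        (Nat.coprime_two_right.2 hodd : Nat.Coprime r 2)]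
    have h6 : N ∣ (t ^ 2 - 1) * (t ^ 2 - 1) :=
      ((Nat.dvd_gcd dvd_rfl ((dvd_mul_right N N).trans h2)).trans (Nat.gcd_mul_right_dvd_mul_gcd _ _ _)).trans
        (mul_dvd_mul (gcd_pow_succ_dvd e6) (gcd_pow_succ_dvd e4))
    have := Nat.le_of_dvd (Nat.mul_pos (by omega) (by omega)) h6
    have hp : t ^ 4 ≤ t ^ r := Nat.pow_le_pow_right (by omega) (by omega)
    have hm : (t ^ 2 - 1) * (t ^ 2 - 1) ≤ t ^ 2 * t ^ 2 := Nat.mul_le_mul (by omega) (by omega)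
    rw [← pow_add, show 2 + 2 = 4 from rfl] at hm
    omega

end Cfsg.Lib.Linear.Mitchell.SU3
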