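import Cfsg.Agent.Lib.Linear.UnitaryMax
import Cfsg.Agent.Lib.Linear.MinIndexU3.Basic

/-!
# Stabilisers of points are maximal in three-dimensional special unitary groups

An isotropic point: the stabiliser is transitive on the other isotropic points, by transitivity on
hyperbolic pairs.  An anisotropic point `⟨a⟩`: an isotropic vector `z` outside `a⊥` determines a second
isotropic vector on the line of `a` and `z`, and the pair is moved by an element fixing `a`.
-/

set_option autoImplicit false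

namespace Cfsg.Lib.Linear.Mitchell.SU3

open Module
open Cfsg.Lib.Linear Cfsg.Lib.Linear.Herm

variable {F : Type*} [Field F] [Fintype F] {q : ℕ} (hF : Fintype.card F = q ^ 2)

/-- From transvection groups to the frozen shape of maximality. -/
theorem isMaximalIn_su (C : Three.Space (hB hF 3)) (W : Submodule F (Fin 3 → F))
    (hne : UMax.sStab hF W ≠ tvGroup (hB hF 3))
    (h : ∀ L, UMax.sStab hF W ≤ L → L ≤ tvGroup (hB hF 3) →
      L = UMax.sStab hF W ∨ L = tvGroup (hB hF 3)) :
    Cfsg.Geo.IsMaximalIn (Cfsg.GU 3 F q ⊓ Cfsg.Geo.specialLinear (Fin 3) F)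
      (Cfsg.Geo.subspaceStabilizer W ⊓ (Cfsg.GU 3 F q ⊓ Cfsg.Geo.specialLinear (Fin 3) F)) := by
  set e := (UMax.glEquiv 3 F).toMonoidHom with he
  have hdet : ∀ g : GL (Fin 3) F, LinearEquiv.det (e g) = Matrix.GeneralLinearGroup.det g := fun g => by
    refine Units.ext ?_
    rw [LinearEquiv.coe_det]
    exact LinearMap.det_toLin' _
  have hS : Cfsg.GU 3 F q ⊓ Cfsg.Geo.specialLinear (Fin 3) F = (tvGroup (hB hF 3)).comap e := by
    ext g
    rw [Subgroup.mem_comap, Three.mem_tv C, hdet, Subgroup.mem_inf]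
    exact and_congr ⟨fun hg u v => hg v u, fun hg u v => hg v u⟩ MonoidHom.mem_ker
  have hT : Cfsg.Geo.subspaceStabilizer W ⊓ (Cfsg.GU 3 F q ⊓ Cfsg.Geo.specialLinear (Fin 3) F) =
      (UMax.sStab hF W).comap e := by
    rw [hS]
    ext g
    exact ⟨fun h => ⟨h.2, h.1⟩, fun h => ⟨h.2, h.1⟩⟩
  rw [hT, hS]
  have hs : Function.Surjective e := (UMax.glEquiv 3 F).surjective
  refine ⟨lt_of_le_of_ne (Subgroup.comap_mono fun g hg => hg.1) fun hc =>
    hne (Subgroup.comap_injective hs hc), fun M hM1 hM2 => ?_⟩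
  have hM : (M.map e).comap e = M :=
    Subgroup.comap_map_eq_self_of_injective (UMax.glEquiv 3 F).injective M
  rcases h (M.map e)
      (by rw [← Subgroup.map_comap_eq_self_of_surjective hs (UMax.sStab hF W)]; exact Subgroup.map_mono hM1)
      (by rw [← Subgroup.map_comap_eq_self_of_surjective hs (tvGroup (hB hF 3))]
          exact Subgroup.map_mono hM2) with hc | hc
  · exact Or.inl (by rw [← hM, hc])
  · exact Or.inr (by rw [← hM, hc])

variable {hF} (C : Three.Space (hB hF 3)) {L : Subgroup ((Fin 3 → F) ≃ₗ[F] (Fin 3 → F))}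
include C

/-- Overgroups of the stabiliser of an isotropic point. -/
theorem maximal_isotropic {e : Fin 3 → F} (he : hB hF 3 e e = 0) (he0 : e ≠ 0)
    (hWL : UMax.sStab hF (Submodule.span F {e}) ≤ L) (hL : L ≤ tvGroup (hB hF 3)) :
    L = UMax.sStab hF (Submodule.span F {e}) ∨ L = tvGroup (hB hF 3) := by
  by_cases hle : L ≤ UMax.sStab hF (Submodule.span F {e})
  · exact Or.inl (le_antisymm hle hWL)
  refine Or.inr (UMax.eq_top_of_centres hF hL ?_)
  have hLi : L ≤ iso (hB hF 3) := hL.trans (tvGroup_le_iso C.symm)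
  obtain ⟨g, hgL, hgW⟩ := SetLike.not_le_iff_exists.1 hle
  have hee : e ∈ Submodule.span F {e} := Submodule.mem_span_singleton_self e
  have hge : g e ∉ Submodule.span F {e} := by
    intro h
    obtain ⟨c, hc⟩ := Submodule.mem_span_singleton.1 h
    refine hgW ⟨hL hgL, UMax.mem_stabW_of fun v hv => ?_⟩
    obtain ⟨d, rfl⟩ := Submodule.mem_span_singleton.1 hv
    rw [map_smul, ← hc]
    exact Submodule.smul_mem _ _ (Submodule.smul_mem _ _ hee)
  have hgee : hB hF 3 (g e) (g e) = 0 := by rw [hLi hgL e e, he]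
  have hz : UMax.Centre hF L (g e) := UMax.centre_map hF hLi hgL (UMax.centre_mem hF hWL he hee)
  intro v hvv
  by_cases hv : v ∈ Submodule.span F {e}
  · exact UMax.centre_mem hF hWL hvv hv
  obtain ⟨t, ht, hte, k, htk⟩ := Three.exists_map_pair C he hgee (Three.pair_ne_zero C he hgee he0 hge)
    he hvv (Three.pair_ne_zero C he hvv he0 hv)
  have hk : k ≠ 0 := fun h => hge (by
    rw [h, zero_smul] at htk
    rw [(LinearEquiv.map_eq_zero_iff t).1 htk]
    exact Submodule.zero_mem _)
  have htL : t ∈ L := hWL ⟨ht, UMax.mem_stabW_of fun w hw => by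
    obtain ⟨d, rfl⟩ := Submodule.mem_span_singleton.1 hw
    rw [map_smul, hte]
    exact hw⟩
  have hc := UMax.centre_map hF hLi htL hz
  rw [htk] at hc
  have h2 := UMax.centre_smul hF (v := k • v) (by simp [LinearMap.map_smulₛₗ, hvv]) hc k⁻¹
  rwa [smul_smul, inv_mul_cancel₀ hk, one_smul] at h2

/-- An isotropic vector not perpendicular to a given non-zero one. -/
theorem exists_iso_pair {a : Fin 3 → F} (ha0 : a ≠ 0) :
    ∃ v, hB hF 3 v v = 0 ∧ hB hF 3 v a ≠ 0 := by
  by_contra h
  push Not at h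
  have hs := iso_span C.ne_id C.invol C.symm C.ndeg ⊤ (by rw [finrank_top, C.dim]; norm_num)
  exact ha0 (C.ndeg.1 a fun x => by
    have hle : Submodule.span F {w | w ∈ (⊤ : Submodule F (Fin 3 → F)) ∧ hB hF 3 w w = 0} ≤
        LinearMap.ker (hB hF 3 a) :=
      Submodule.span_le.2 fun w hw => hB_symm_zero hF (h w hw.2)
    exact hle (hs Submodule.mem_top))

/-- Overgroups of the stabiliser of an anisotropic point. -/
theorem maximal_anisotropic {a : Fin 3 → F} (ha : hB hF 3 a a ≠ 0)
    (hWL : UMax.sStab hF (Submodule.span F {a}) ≤ L) (hL : L ≤ tvGroup (hB hF 3)) :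
    L = UMax.sStab hF (Submodule.span F {a}) ∨ L = tvGroup (hB hF 3) := by
  set W := Submodule.span F {a} with hWdef
  by_cases hle : L ≤ UMax.sStab hF W
  · exact Or.inl (le_antisymm hle hWL)
  refine Or.inr (UMax.eq_top_of_centres hF hL ?_)
  have hLi : L ≤ iso (hB hF 3) := hL.trans (tvGroup_le_iso C.symm)
  have haW : a ∈ W := Submodule.mem_span_singleton_self a
  have hmemU : ∀ x, x ∈ perp hF W ↔ hB hF 3 a x = 0 := fun x => by
    refine ⟨fun h => h a haW, fun h y hy => ?_⟩
    obtain ⟨c, rfl⟩ := Submodule.mem_span_singleton.1 hy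
    simp [LinearMap.map_smulₛₗ, h]
  have ha0 : a ≠ 0 := fun h => ha (by simp [h])
  obtain ⟨g, hgL, hgW⟩ := SetLike.not_le_iff_exists.1 hle
  have hgi := hLi hgL
  -- a centre outside the polar line
  obtain ⟨z, hz, hzz, hzU⟩ : ∃ z, UMax.Centre hF L z ∧ hB hF 3 z z = 0 ∧ hB hF 3 a z ≠ 0 := by
    by_contra hne
    push Not at hne
    have hUdim := finrank_perp hF W
    have hWdim : finrank F W = 1 := finrank_span_singleton ha0
    obtain ⟨u, hu, hu0, huu⟩ := exists_iso_ne_zero C.ne_id C.invol C.symm (perp hF W) (by omega)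
    obtain ⟨y, hy, huy⟩ : ∃ y ∈ perp hF W, hB hF 3 u y ≠ 0 := by
      by_contra h
      push Not at h
      have hu' : u ∈ W := UMax.perp_perp hF W ▸ fun x hx => hB_symm_zero hF (h x hx)
      obtain ⟨c, rfl⟩ := Submodule.mem_span_singleton.1 hu'
      have h1 := (hmemU _).1 hu
      rw [map_smul, smul_eq_mul] at h1
      exact hu0 (by rw [(mul_eq_zero.1 h1).resolve_right ha, zero_smul])
    have hgu : ∀ x ∈ perp hF W, hB hF 3 x x = 0 → g x ∈ perp hF W := fun x hx hxx =>
      (hmemU _).2 (hne _ (UMax.centre_map hF hLi hgL (UMax.centre_perp hF hWL hxx hx))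
        (by rw [hgi, hxx]))
    have hp : g ∈ StabCard.stabW (perp hF W) := UMax.mem_stabW_of fun x hx => by
      have : Submodule.span F ({u} ∪ {w | w ∈ perp hF W ∧ hB hF 3 w w = 0 ∧ hB hF 3 u w ≠ 0}) ≤
          (perp hF W).comap (g : (Fin 3 → F) →ₗ[F] (Fin 3 → F)) := by
        rw [Submodule.span_le]
        rintro w (rfl | ⟨hw, hww, -⟩)
        · exact hgu w hu huu
        · exact hgu w hw hww
      exact this (UMax.le_span_iso hF hu huu hy huy hx)
    have h := UMax.stab_perp hF hgi hp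
    rw [UMax.perp_perp] at h
    exact hgW ⟨hL hgL, h⟩
  intro v hvv
  by_cases hv : hB hF 3 a v = 0
  · exact UMax.centre_perp hF hWL hvv ((hmemU v).2 hv)
  have hsym := (hB_isSymm hF 3).eq
  obtain ⟨τ, hτ⟩ := exists_trace_eq C.ne_id C.invol (a := (-1 : F)) (by simp)
  set x := hB hF 3 a a with hxdef
  have hx : frob hF x = x := self_fixed C.symm a
  set y := hB hF 3 a z with hydef
  set v' := (y / hB hF 3 a v) • v with hv'def
  have hv'y : hB hF 3 a v' = y := by
    rw [hv'def, map_smul, smul_eq_mul, div_mul_cancel₀ _ hv]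
  have hv'v : hB hF 3 v' v' = 0 := by simp [hv'def, LinearMap.map_smulₛₗ, hvv]
  set s := τ * x / y with hsdef
  -- the second isotropic vector on the line of `a` and an isotropic vector
  have hiso : ∀ w, hB hF 3 w w = 0 → hB hF 3 a w = y →
      hB hF 3 (a + s • w) (a + s • w) = 0 ∧ hB hF 3 w (a + s • w) = frob hF y := by
    intro w hw hwy
    have h1 : hB hF 3 w a = frob hF y := by rw [← hsym a w, hwy]
    refine ⟨?_, by rw [map_add, map_smul, hw, smul_zero, add_zero, h1]⟩
    have h2 : s * y = τ * x := div_mul_cancel₀ _ hzU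
    have h3 : frob hF s * frob hF y = frob hF τ * x := by rw [← map_mul, h2, map_mul, hx]
    simp only [map_add, LinearMap.add_apply, map_smul, LinearMap.map_smulₛₗ, LinearMap.smul_apply,
      smul_eq_mul, hw, hwy, h1, ← hxdef]
    linear_combination h2 + h3 + x * hτ
  obtain ⟨hz2, hzz2⟩ := hiso z hzz rfl
  obtain ⟨hv2, hvv2⟩ := hiso v' hv'v hv'y
  have hyσ : frob hF y ≠ 0 := by simpa using hzU
  obtain ⟨t, ht, htz, k, htk⟩ := Three.exists_map_pair C hzz hz2 (by rw [hzz2]; exact hyσ)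
    hv'v hv2 (by rw [hvv2]; exact hyσ)
  have hk : k = 1 := by
    have h := tvGroup_le_iso C.symm ht z (a + s • z)
    rw [htz, htk, map_smul, smul_eq_mul, hvv2, hzz2] at h
    exact mul_right_cancel₀ hyσ (by rw [one_mul]; exact h)
  rw [hk, one_smul, map_add, map_smul, htz] at htk
  have hta : t a = a := add_right_cancel htk
  have htL : t ∈ L := hWL ⟨ht, UMax.mem_stabW_of fun w hw => by
    obtain ⟨d, rfl⟩ := Submodule.mem_span_singleton.1 hw
    rw [map_smul, hta]
    exact hw⟩
  have hc := UMax.centre_map hF hLi htL hz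
  rw [htz] at hc
  have h2 := UMax.centre_smul hF hv'v hc (y / hB hF 3 a v)⁻¹
  rwa [hv'def, smul_smul, inv_mul_cancel₀ (div_ne_zero hzU hv), one_smul] at h2

omit C

variable (hF)

include hF in
/-- Stabilisers of isotropic points. -/
theorem singular_maximal (hq : 3 ≤ q) (W : Submodule F (Fin 3 → F)) (hW0 : W ≠ ⊥)
    (hW : Cfsg.Geo.IsTotallySingularFor (Cfsg.hermForm 3 F q) W) :
    Cfsg.Geo.IsMaximalIn (Cfsg.GU 3 F q ⊓ Cfsg.Geo.specialLinear (Fin 3) F)
      (Cfsg.Geo.subspaceStabilizer W ⊓ (Cfsg.GU 3 F q ⊓ Cfsg.Geo.specialLinear (Fin 3) F)) := by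
  have C := MinIndexU3.space3 hF hq
  have hWi : ∀ u ∈ W, ∀ v ∈ W, hB hF 3 u v = 0 := fun u hu v hv => hW v hv u hu
  obtain ⟨e, he, he0⟩ := Submodule.exists_mem_ne_zero_of_ne_bot hW0
  obtain rfl : W = Submodule.span F {e} := by
    refine le_antisymm (fun x hx => ?_) ((Submodule.span_singleton_le_iff_mem e W).2 he)
    by_contra h
    exact Three.pair_ne_zero C (hWi e he e he) (hWi x hx x hx) he0 h (hWi e he x hx)
  have hee := hWi e he e he
  obtain ⟨f, hf, hef⟩ := Three.exists_partner C hee he0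
  refine isMaximalIn_su hF C _ (UMax.sStab_ne_of hF he hf (fun h => hef (hWi e he f h))
    fun h => hef (hB_symm_zero hF h)) fun L h1 h2 => maximal_isotropic C hee he0 h1 h2

include hF in
/-- Stabilisers of anisotropic points. -/
theorem point_maximal (hq : 3 ≤ q) (W : Submodule F (Fin 3 → F)) (hW0 : W ≠ ⊥)
    (hW : Cfsg.Geo.IsNondegenerateOn (Cfsg.hermForm 3 F q) W) (hdim : 2 * finrank F W < 3) :
    Cfsg.Geo.IsMaximalIn (Cfsg.GU 3 F q ⊓ Cfsg.Geo.specialLinear (Fin 3) F)
      (Cfsg.Geo.subspaceStabilizer W ⊓ (Cfsg.GU 3 F q ⊓ Cfsg.Geo.specialLinear (Fin 3) F)) := by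
  have C := MinIndexU3.space3 hF hq
  obtain ⟨a, haW, ha0⟩ := Submodule.exists_mem_ne_zero_of_ne_bot hW0
  obtain rfl : W = Submodule.span F {a} := (Submodule.eq_of_le_of_finrank_le
    ((Submodule.span_singleton_le_iff_mem a W).2 haW) (by rw [finrank_span_singleton ha0]; omega)).symm
  have ha : hB hF 3 a a ≠ 0 := fun h => by
    obtain ⟨-, y, hy, hay⟩ := hW a haW ha0
    obtain ⟨c, rfl⟩ := Submodule.mem_span_singleton.1 hy
    apply hay
    show hB hF 3 (c • a) a = 0
    rw [LinearMap.map_smulₛₗ, LinearMap.smul_apply, h, smul_zero]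
  obtain ⟨v, hv, hva⟩ := exists_iso_pair C ha0
  refine isMaximalIn_su hF C _ (UMax.sStab_ne_of hF haW hv (fun h => ?_) hva)
    fun L h1 h2 => maximal_anisotropic C ha h1 h2
  obtain ⟨c, rfl⟩ := Submodule.mem_span_singleton.1 h
  apply hva
  have h1 : c * frob hF c * hB hF 3 a a = 0 := by
    simp only [LinearMap.map_smulₛₗ, LinearMap.smul_apply, map_smul, smul_eq_mul] at hv
    linear_combination hv
  have hc : c = 0 := by
    rcases mul_eq_zero.1 ((mul_eq_zero.1 h1).resolve_right ha) with h | h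
    · exact h
    · simpa using h
  simp [hc]

end Cfsg.Lib.Linear.Mitchell.SU3
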