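import Cfsg.Agent.Lib.Linear.Mitchell.MaxList
import Cfsg.Agent.Lib.Linear.Mitchell.MaxCardsForms
import Cfsg.Agent.Lib.Linear.Mitchell.MaxSL3Basic
import Cfsg.Agent.Lib.Linear.Mitchell.SU3Point

/-!
# Proper irreducible subgroups of `SU₃(q)`

The list for `SL₃(q²)` without the unitary case: a group of unitary type inside `SU₃(q)` is the whole
group. Traces of unitary, orthogonal and rational elements.
-/

set_option autoImplicit false
set_option linter.unusedSectionVars false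

namespace Cfsg.Lib.Linear.Mitchell.SU3

open Cfsg.Geo Cfsg.Lib.Linear MaxArith Max
open scoped Matrix MatrixGroups commutatorElement

variable {F : Type*} [Field F] [Fintype F] {q : ℕ} (hF : Fintype.card F = q ^ 2)

local notation "S₃" => Asch.sunit 3 F q

include hF in
theorem q_unique {q₁ : ℕ} (h : Fintype.card F = q₁ ^ 2) : q₁ = q :=
  Nat.pow_left_injective two_ne_zero (h.symm.trans hF)

include hF in
theorem card_sunit : Nat.card S₃ = ordU q := card_sunit_three hF

include hF in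
theorem ne_SL (hq : 2 ≤ q) {M : Subgroup (GL (Fin 3) F)} (hM : M ≤ S₃) :
    M ≠ specialLinear (Fin 3) F := by
  intro e
  have h := Subgroup.card_le_of_le (e ▸ hM)
  rw [card_sunit hF, card_SL_three, hF, ordL, ordU] at h
  have h3 : q ^ 3 ≤ (q ^ 2) ^ 3 := Nat.pow_le_pow_left (le_self_pow₀ (by omega) (by norm_num)) 3
  have h6 : q ^ 3 + 1 < (q ^ 2) ^ 3 - 1 := by
    rw [show (q ^ 2) ^ 3 = q ^ 3 * q ^ 3 by ring]
    have : 2 ^ 3 ≤ q ^ 3 := Nat.pow_le_pow_left hq 3
    have : q ^ 3 * 8 ≤ q ^ 3 * q ^ 3 := Nat.mul_le_mul_left _ (by omega)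
    omega
  have h2 : q ^ 2 - 1 ≤ (q ^ 2) ^ 2 - 1 :=
    Nat.sub_le_sub_right (le_self_pow₀ (Nat.one_le_pow _ _ (by omega)) (by norm_num)) 1
  have hpos : 0 < q ^ 2 - 1 := Nat.sub_pos_of_lt (Nat.one_lt_pow (by norm_num) (by omega))
  have := Nat.mul_lt_mul_of_le_of_lt (a := q ^ 3) h3 (Nat.mul_lt_mul_of_lt_of_le h6 h2 (by omega)) (by positivity)
  omega

include hF in
/-- In characteristic two the isotropic root elements of any unitary form generate `SU₃`. -/
theorem eq_of_roots (hq : 3 ≤ q) {M : Subgroup (GL (Fin 3) F)} (hM : M ≤ S₃) {σ : F ≃+* F}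
    {f : (Fin 3 → F) → (Fin 3 → F) → F} (hf : IsUnitaryForm σ f)
    (h : Even.IsotropicRoots M σ f) : M = S₃ := by
  classical
  obtain ⟨q₁, T, hF₁, hσ, hT⟩ := exists_standard hf
  obtain rfl : q₁ = q := q_unique hF hF₁
  set H := Cfsg.hermForm 3 F q₁ with hH
  have hHu : IsUnitaryForm (Asch.sigmaE hF) H := Asch.herm_unitary (n := 3) hF
  have hs := Asch.isSesq_of_unitary hf
  have hHs : Asch.IsSesq (Asch.sigmaE hF) H := Asch.isSesq_of_unitary hHu
  -- the root element of an isotropic vector is a root element of the standard form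
  have key : ∀ x, x ≠ 0 → f x x = 0 →
      H x x = 0 ∧ ∃ d : F, d ≠ 0 ∧ σ d = -d ∧ ∀ v, H v x = d * f v x := by
    intro x hx hxx
    let a : Fin 3 → F := fun i => f (Pi.single i 1) x
    have ha : ∀ v, a ⬝ᵥ v = f v x := fun v => by
      let L : (Fin 3 → F) →ₗ[F] F :=
        { toFun := fun v => f v x, map_add' := fun u w => hs.add_left u w x,
          map_smul' := fun c u => hs.smul_left c u x }
      show _ = L v
      conv_rhs => rw [pi_eq_sum_univ' v, map_sum]
      exact Finset.sum_congr rfl fun i _ => by rw [map_smul, smul_eq_mul, mul_comm]; rfl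
    have hmem : tv x a (by rw [ha, hxx]) ∈ M :=
      h x a _ 1 hxx (map_one σ) (fun v => by rw [ha, one_mul])
    have hiso : ∀ u w, H (u + f u x • x) (w + f w x • x) = H u w := fun u w => by
      have h1 := (hM hmem).1 u w
      simp only [Units.coeHom_apply, coe_tv, tvMat_mulVec, ha] at h1
      exact h1
    have hexp : ∀ u w, f u x * H x w + Asch.sigmaE hF (f w x) * H u x +
        f u x * Asch.sigmaE hF (f w x) * H x x = 0 := fun u w => by
      have h1 := hiso u w
      rw [hHs.add_left, hHs.add_right, hHs.add_right, hHs.smul_left, hHs.smul_left, hHs.smul_right,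
        hHs.smul_right] at h1
      linear_combination h1
    obtain ⟨u₀, hu₀⟩ : ∃ u, f u x ≠ 0 := (hf.nondegenerate x hx).1
    have hker : ∀ w, f w x = 0 → H w x = 0 := fun w hw => by
      have h1 := hexp u₀ w
      rw [hw, map_zero, zero_mul, add_zero, mul_zero, zero_mul, add_zero] at h1
      rw [hHu.herm, (mul_eq_zero.1 h1).resolve_left hu₀, map_zero]
    have hxH : H x x = 0 := hker x hxx
    obtain ⟨d, hdd⟩ : ∃ d, d = H u₀ x / f u₀ x := ⟨_, rfl⟩
    have hd : ∀ v, H v x = d * f v x := fun v => by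
      have h1 := hker (f u₀ x • v + (-f v x) • u₀) (by
        rw [hs.add_left, hs.smul_left, hs.smul_left]; ring)
      rw [hHs.add_left, hHs.smul_left, hHs.smul_left] at h1
      rw [hdd]
      field_simp
      linear_combination h1
    have hd0 : d ≠ 0 := fun e => by
      obtain ⟨v, hv⟩ := (hHu.nondegenerate x hx).1
      exact hv (by rw [hd v, e, zero_mul])
    refine ⟨hxH, d, hd0, ?_, hd⟩
    rw [show σ d = Asch.sigmaE hF d from (hσ _).trans (Asch.sigmaE_apply hF _).symm]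
    have h1 := hexp u₀ u₀
    rw [hxH, mul_zero, add_zero, hHu.herm x u₀, hd u₀, map_mul] at h1
    have hfu : f u₀ x * Asch.sigmaE hF (f u₀ x) ≠ 0 := mul_ne_zero hu₀ (by simpa using hu₀)
    apply mul_left_cancel₀ hfu
    linear_combination h1
  -- both forms have the same number of isotropic vectors
  have hsub : {x | f x x = 0} ⊆ {x | H x x = 0} := fun x hx => by
    rcases eq_or_ne x 0 with rfl | hx0
    · show H 0 0 = 0
      rw [← zero_smul F (0 : Fin 3 → F), hHs.smul_left, zero_mul]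
    · exact (key x hx0 hx).1
  have heq : {x | f x x = 0} = {x | H x x = 0} := by
    refine Set.eq_of_subset_of_ncard_le hsub ?_ (Set.toFinite _)
    rw [← Nat.card_coe_set_eq, ← Nat.card_coe_set_eq]
    refine le_of_eq (Nat.card_congr ?_).symm
    exact
      { toFun := fun x => ⟨T.val *ᵥ x.1, (hT x.1 x.1).symm.trans x.2⟩
        invFun := fun y => ⟨T⁻¹.val *ᵥ y.1, by
          show f _ _ = 0
          rw [hT, Asch.mulVec_inv_mulVec]; exact y.2⟩
        left_inv := fun x => Subtype.ext (Asch.inv_mulVec_mulVec T x.1)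
        right_inv := fun y => Subtype.ext (Asch.mulVec_inv_mulVec T y.1) }
  have C := MinIndexU3.space3 hF hq
  refine le_antisymm hM fun g hg => ?_
  let e : GL (Fin 3) F →* ((Fin 3 → F) ≃ₗ[F] (Fin 3 → F)) := (Herm.UMax.glEquiv 3 F).toMonoidHom
  have hdet : LinearEquiv.det (e g) = Matrix.GeneralLinearGroup.det g := by
    refine Units.ext ?_
    rw [LinearEquiv.coe_det]
    exact LinearMap.det_toLin' _
  have hgt : e g ∈ Herm.tvGroup (Herm.hB hF 3) := by
    rw [Herm.Three.mem_tv C, hdet]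
    exact ⟨fun u v => hg.1 v u, MonoidHom.mem_ker.1 hg.2⟩
  suffices hgen : Herm.tvGroup (Herm.hB hF 3) ≤ M.map e by
    obtain ⟨g', hg', he⟩ := hgen hgt
    exact (Herm.UMax.glEquiv 3 F).injective he ▸ hg'
  rw [Herm.tvGroup, Subgroup.closure_le]
  rintro _ ⟨w, l, hl, hw, rfl⟩
  rcases eq_or_ne w 0 with rfl | hw0
  · refine ⟨1, one_mem _, LinearEquiv.ext fun v => ?_⟩
    simp [e, Herm.UMax.glEquiv]
  have hwf : f w w = 0 := by
    have : w ∈ {x | H x x = 0} := hw
    rwa [← heq] at this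
  obtain ⟨-, d, hd0, hdσ, hd⟩ := key w hw0 hwf
  let a : Fin 3 → F := fun i => l * w i ^ q₁
  have ha : ∀ v, a ⬝ᵥ v = l * H v w := fun v => by
    simp only [a, dotProduct, hH, Cfsg.hermForm, Finset.mul_sum]
    exact Finset.sum_congr rfl fun i _ => by ring
  have hl' : l + Asch.sigmaE hF l = 0 := by
    rw [hw, mul_zero, add_zero] at hl
    rwa [Asch.sigmaE_apply, ← Herm.frob_apply hF]
  have hfix : σ (l * d) = l * d := by
    rw [map_mul, hdσ, show σ l = Asch.sigmaE hF l from (hσ l).trans (Asch.sigmaE_apply hF l).symm]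
    linear_combination (-d) * hl'
  have haw : a ⬝ᵥ w = 0 := by rw [ha]; exact mul_eq_zero_of_right _ hw
  refine ⟨tv w a haw, h w a haw (l * d) hwf hfix (fun v => by rw [ha, hd, mul_assoc]),
    LinearEquiv.ext fun v => ?_⟩
  show Matrix.toLin' (tv w a haw).val v = _
  rw [Matrix.toLin'_apply, coe_tv, tvMat_mulVec, ha, Herm.qrefl_apply]
  rfl

include hF in
/-- The proper irreducible subgroups of `SU₃(q)`. -/
theorem proper_list (hq : 3 ≤ q) {M : Subgroup (GL (Fin 3) F)} (hM : M ≤ S₃) (hne : M ≠ S₃)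
    (hirr : ActsIrreducibly (matrixSet M)) :
    (∃ D : Fin 3 → Submodule F (Fin 3 → F), IsMDecomposition 1 D ∧ M ≤ decompositionStabilizer D) ∨
      (∃ K, IsFieldSubalgebra 3 K ∧ M ≤ subalgebraNormalizer K) ∨
      (∃ R c x y z, R ≤ M ∧ (∀ g ∈ M, ∀ a ∈ R, g * a * g⁻¹ ∈ R) ∧ Asch.Extra 3 R c x y z) ∨
      (∃ (F₁ : Subfield F) (r : ℕ) (B : GL (Fin 3) F), F₁ ≠ ⊤ ∧ r.Prime ∧
        Fintype.card F = Nat.card F₁ ^ r ∧ M ≤ subfieldSubgroup F₁ B) ∨
      ((2 : F) ≠ 0 ∧ ∃ Q, IsNondegenerateQuadraticForm Q ∧ M ≤ quadSimilarityGroup Q) ∨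
      SmallType M := by
  rcases irreducible_list (hM.trans inf_le_right) hirr with h | h | h | h | h | h |
    ⟨σ, f, hf, -, hlow⟩ | h
  · exact absurd h (ne_SL hF (by omega) hM)
  · exact Or.inl h
  · exact Or.inr (Or.inl h)
  · exact Or.inr (Or.inr (Or.inl h))
  · exact Or.inr (Or.inr (Or.inr (Or.inl h)))
  · exact Or.inr (Or.inr (Or.inr (Or.inr (Or.inl h))))
  · refine absurd ?_ hne
    rcases hlow with hlow | ⟨-, hroots⟩
    · obtain ⟨q₁, hF₁, hcard, -⟩ := unitary_card hf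
      obtain rfl : q₁ = q := q_unique hF hF₁
      refine Subgroup.eq_of_le_of_card_ge hM ?_
      rw [card_sunit hF, ← hcard]
      exact Subgroup.card_le_of_le fun g hg => hlow g hg.2 hg.1
    · exact eq_of_roots hF hq hM hf hroots
  · exact Or.inr (Or.inr (Or.inr (Or.inr (Or.inr h))))

include hF in
theorem dvd_sunit {M : Subgroup (GL (Fin 3) F)} (hM : M ≤ S₃) {m : ℕ} (h : m ∣ Nat.card M) :
    m ∣ ordU q :=
  card_sunit hF ▸ h.trans (Subgroup.card_dvd_of_le hM)

include hF in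
/-- Maximality from the containment of all proper overgroups. -/
theorem isMax_intro (hq : 3 ≤ q) {A : Subgroup (GL (Fin 3) F)}
    (hirr : ActsIrreducibly (matrixSet (A ⊓ S₃))) (hne : A ⊓ S₃ ≠ S₃)
    (h : ∀ M, A ⊓ S₃ ≤ M → M ≤ S₃ →
      ((∃ D : Fin 3 → Submodule F (Fin 3 → F), IsMDecomposition 1 D ∧ M ≤ decompositionStabilizer D) ∨
        (∃ K, IsFieldSubalgebra 3 K ∧ M ≤ subalgebraNormalizer K) ∨
        (∃ R c x y z, R ≤ M ∧ (∀ g ∈ M, ∀ a ∈ R, g * a * g⁻¹ ∈ R) ∧ Asch.Extra 3 R c x y z) ∨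
        (∃ (F₁ : Subfield F) (r : ℕ) (B : GL (Fin 3) F), F₁ ≠ ⊤ ∧ r.Prime ∧
          Fintype.card F = Nat.card F₁ ^ r ∧ M ≤ subfieldSubgroup F₁ B) ∨
        ((2 : F) ≠ 0 ∧ ∃ Q, IsNondegenerateQuadraticForm Q ∧ M ≤ quadSimilarityGroup Q) ∨
        SmallType M) → M ≤ A) :
    IsMaximalIn S₃ (A ⊓ S₃) :=
  ⟨lt_of_le_of_ne inf_le_right hne, fun M h1 h2 =>
    (em (M = S₃)).symm.imp (fun hMne => le_antisymm
      (le_inf (h M h1 h2 (proper_list hF hq h2 hMne (irr_mono h1 hirr))) h2) h1) id⟩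

/-! ### Traces -/

include hF in
/-- The trace of the inverse of a unitary element. -/
theorem trace_inv {g : GL (Fin 3) F} (hg : g ∈ Cfsg.GU 3 F q) : g⁻¹.val.trace = g.val.trace ^ q := by
  have h : g⁻¹.val = (g.val.map (Asch.sigmaE hF))ᵀ := by
    have h1 := congrArg Matrix.transpose (Asch.gu_gram hF hg)
    rw [Matrix.transpose_mul, Matrix.transpose_transpose, Matrix.transpose_one] at h1
    exact Units.inv_eq_of_mul_eq_one_left h1
  rw [h, Matrix.trace_transpose, ← Asch.sigmaE_apply hF, Matrix.trace, Matrix.trace, map_sum]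
  rfl

/-- The trace of the inverse of an isometry of a non-degenerate bilinear form. -/
theorem trace_inv_isom {f : (Fin 3 → F) → (Fin 3 → F) → F} (hb : IsBilinearForm f)
    (hn : IsNondegenerateForm f) {g : GL (Fin 3) F} (hg : g ∈ isom f) : g⁻¹.val.trace = g.val.trace := by
  have hs := Asch.isSesq_of_bilinear hb hn
  have hM := Asch.fixes_gram hs (S := {g.val}) (fun s hs' u v => by
    rw [Set.mem_singleton_iff.1 hs']; exact hg u v) _ rfl
  rw [show g.val.map (RingEquiv.refl F) = g.val from by ext; rfl] at hM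
  set G := gramMatrix f
  have hG : IsUnit G.det := Asch.isUnit_det_gram hs
  have h : g⁻¹.val = G⁻¹ * g.valᵀ * G := by
    refine Units.inv_eq_of_mul_eq_one_left ?_
    rw [Matrix.mul_assoc, Matrix.mul_assoc, ← Matrix.mul_assoc g.valᵀ, hM, Matrix.nonsing_inv_mul _ hG]
  rw [h, Matrix.trace_mul_cycle, Matrix.mul_nonsing_inv _ hG, Matrix.one_mul, Matrix.trace_transpose]

include hF in
/-- Commutators in unitary similitudes of a quadratic form have self-conjugate traces. -/
theorem trace_quad (h2 : (2 : F) ≠ 0) {M : Subgroup (GL (Fin 3) F)} (hM : M ≤ S₃) {Q : (Fin 3 → F) → F}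
    (hQ : IsNondegenerateQuadraticForm Q) (hle : M ≤ quadSimilarityGroup Q) {g : GL (Fin 3) F}
    (hg : g ∈ ⁅M, M⁆) : g.val.trace ^ q = g.val.trace := by
  have hgM : g ∈ M := (Subgroup.commutator_le.2 fun a ha b hb =>
    mul_mem (mul_mem (mul_mem ha hb) (inv_mem ha)) (inv_mem hb)) hg
  rw [← trace_inv hF (hM hgM).1]
  refine trace_inv_isom hQ.polar_bilinear hQ.nondegenerate ?_
  rw [Asch.quadSimilarityGroup_eq h2 hQ] at hle
  refine Subgroup.commutator_le.2 (fun a ha b hb => ?_) hg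
  obtain ⟨c, hc⟩ := hle ha
  obtain ⟨d, hd⟩ := hle hb
  intro u v
  set f := QuadraticMap.polar Q
  show f ((a * b * a⁻¹ * b⁻¹).val *ᵥ u) ((a * b * a⁻¹ * b⁻¹).val *ᵥ v) = f u v
  have hinv : ∀ (g : GL (Fin 3) F) (e : Fˣ), (∀ u v, f (g.val *ᵥ u) (g.val *ᵥ v) = e * f u v) →
      ∀ u v, f (g⁻¹.val *ᵥ u) (g⁻¹.val *ᵥ v) = (e⁻¹ : Fˣ) * f u v := fun g e he u v => by
    have h := he (g⁻¹.val *ᵥ u) (g⁻¹.val *ᵥ v)
    rw [Asch.mulVec_inv_mulVec, Asch.mulVec_inv_mulVec] at h
    rw [h, ← mul_assoc, ← Units.val_mul, inv_mul_cancel, Units.val_one, one_mul]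
  rw [Asch.mul_mulVec _ b⁻¹, Asch.mul_mulVec _ b⁻¹, Asch.mul_mulVec _ a⁻¹, Asch.mul_mulVec _ a⁻¹,
    Asch.mul_mulVec a b, Asch.mul_mulVec a b, hc, hd, hinv a c hc, hinv b d hd]
  simp only [Units.val_inv_eq_inv_val]
  field_simp

/-- A commutator in a subfield group has its trace in the subfield. -/
theorem trace_subfield {F₁ : Subfield F} {B : GL (Fin 3) F} {M : Subgroup (GL (Fin 3) F)}
    (hle : M ≤ subfieldSubgroup F₁ B) {g : GL (Fin 3) F} (hg : g ∈ ⁅M, M⁆) : g.val.trace ∈ F₁ := by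
  obtain ⟨_, ⟨a, rfl⟩, rfl⟩ := commutator_subfield_le F₁ B (Subgroup.commutator_mono hle hle hg)
  set X := Matrix.GeneralLinearGroup.map (n := Fin 3) F₁.subtype a with hX
  show (B * X * B⁻¹).val.trace ∈ F₁
  rw [Units.val_mul, Units.val_mul, Matrix.trace_units_conj]
  exact F₁.sum_mem fun i _ => (a.val i i).2

include hF in
theorem self_conj_of_index_two {F₁ : Subfield F} (hcard : Fintype.card F = Nat.card F₁ ^ 2) {x : F}
    (hx : x ∈ F₁) : x ^ q = x := by
  haveI : Fintype F₁ := Fintype.ofFinite _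
  have h := congrArg Subtype.val (FiniteField.pow_card (⟨x, hx⟩ : F₁))
  rw [SubmonoidClass.coe_pow, ← Nat.card_eq_fintype_card, q_unique hF hcard] at h
  exact h

/-- A group irreducible and rational in two bases: the two subfield groups agree. -/
theorem subfieldSubgroup_eq {G : Subgroup (GL (Fin 3) F)} (hG : ActsAbsolutelyIrreducibly (matrixSet G))
    (F₀ : Subfield F) (P B : GL (Fin 3) F) (hP : ∀ x ∈ G, ∀ i j, (P⁻¹ * x * P).val i j ∈ F₀)
    (hB : ∀ x ∈ G, ∀ i j, (B⁻¹ * x * B).val i j ∈ F₀) :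
    subfieldSubgroup F₀ B = subfieldSubgroup F₀ P := by
  set A := B⁻¹ * P with hA
  obtain ⟨i0, j0, h0⟩ : ∃ i j, A.val i j ≠ 0 := by
    by_contra hne
    push Not at hne
    exact A.isUnit.ne_zero (Matrix.ext fun i j => hne i j)
  obtain ⟨φ, hφ⟩ := LinearMap.exists_leftInverse_of_injective (LinearMap.toSpanSingleton F₀ F (A.val i0 j0))
    (LinearMap.ker_eq_bot.2 (smul_left_injective F₀ h0))
  have hφ1 : φ (A.val i0 j0) = 1 := by
    have h1 := LinearMap.congr_fun hφ 1
    simpa using h1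
  have hφl : ∀ (a : F) (c : F₀), φ (a * c) = φ a * c := fun a c => by
    rw [mul_comm a, show (c : F) * a = c • a from rfl, map_smul, smul_eq_mul, mul_comm]
  set N : Matrix (Fin 3) (Fin 3) F := A.val.map fun a => ((φ a : F₀) : F) with hN
  have key : ∀ x ∈ G, N * (P⁻¹ * x * P).val = (B⁻¹ * x * B).val * N := by
    intro x hx
    have heq : A.val * (P⁻¹ * x * P).val = (B⁻¹ * x * B).val * A.val := by
      rw [← Units.val_mul, ← Units.val_mul, hA]
      congr 1
      group
    refine Matrix.ext fun i j => ?_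
    have h2 := congrArg (fun Z : Matrix (Fin 3) (Fin 3) F => ((φ (Z i j) : F₀) : F)) heq
    simp only [Matrix.mul_apply, map_sum, AddSubmonoidClass.coe_finsetSum] at h2
    rw [Matrix.mul_apply, Matrix.mul_apply]
    refine Eq.trans ?_ (h2.trans ?_)
    · refine Finset.sum_congr rfl fun k _ => ?_
      have h3 := hφl (A.val i k) ⟨_, hP x hx k j⟩
      simp only at h3
      rw [h3, hN, Matrix.map_apply, Subfield.coe_mul]
    · refine Finset.sum_congr rfl fun k _ => ?_
      have h3 := hφl (A.val k j) ⟨_, hB x hx i k⟩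
      simp only at h3
      rw [mul_comm ((B⁻¹ * x * B).val i k), h3, hN, Matrix.map_apply, Subfield.coe_mul, mul_comm]
  obtain ⟨c, hc⟩ := hG.2 (B.val * N * P⁻¹.val) (by
    rintro _ ⟨x, hx, rfl⟩
    have hk := congrArg (fun Z => B.val * Z * P⁻¹.val) (key x hx)
    simpa [Units.val_mul, mul_assoc] using hk)
  have hN' : N = c • A.val := by
    have h5 := congrArg (fun Z => B⁻¹.val * Z * P.val) hc
    simpa [hA, mul_assoc] using h5
  have hc0 : c ≠ 0 := by
    rintro rfl
    rw [zero_smul] at hN'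
    have h6 := congrFun (congrFun hN' i0) j0
    rw [hN, Matrix.map_apply, hφ1] at h6
    simp at h6
  have hAF : A ∈ subfieldSubgroup F₀ (1 : GL (Fin 3) F) := by
    rw [Rat0.mem_subfieldSubgroup_one]
    refine ⟨c, hc0, fun i j => ?_⟩
    have h7 := congrFun (congrFun hN' i) j
    rw [Matrix.smul_apply, smul_eq_mul, hN, Matrix.map_apply] at h7
    rw [← h7]
    exact (φ _).2
  ext g
  rw [Asch.mem_subfieldSubgroup_iff, Asch.mem_subfieldSubgroup_iff, ← Rat0.mem_subfieldSubgroup_one,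
    ← Rat0.mem_subfieldSubgroup_one, show B⁻¹ * g * B = A * (P⁻¹ * g * P) * A⁻¹ by rw [hA]; group,
    Subgroup.mul_mem_cancel_right _ (inv_mem hAF), Subgroup.mul_mem_cancel_left _ hAF]

end Cfsg.Lib.Linear.Mitchell.SU3
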