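import Cfsg.Agent.Lib.Linear.Mitchell.SU3Common
import Cfsg.Agent.Lib.Linear.Mitchell.MaxSL3Extra

/-!
# Normalisers of extraspecial groups of order `27` are maximal in `SU₃(p)`
-/

set_option autoImplicit false
set_option linter.unusedSectionVars false

namespace Cfsg.Lib.Linear.Mitchell.SU3

open Cfsg.Geo Cfsg.Lib.Linear MaxArith Cfsg.Lib.Linear.Mitchell.Max
open scoped Matrix MatrixGroups

variable {F : Type*} [Field F] [Fintype F]

/-- A similarity of determinant one is an isometry when three is prime to `q - 1`. -/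
theorem mem_sunit_of_similar {q : ℕ} (hF : Fintype.card F = q ^ 2) (h3 : q % 3 = 2) {g : GL (Fin 3) F}
    (hg : g ∈ similarityGroup (Cfsg.hermForm 3 F q)) (hd : g ∈ specialLinear (Fin 3) F) :
    g ∈ Asch.sunit 3 F q := by
  obtain ⟨c, hc⟩ := hg
  refine ⟨fun u v => ?_, hd⟩
  suffices hc1 : (c : F) = 1 by
    show Cfsg.hermForm 3 F q (g.val *ᵥ u) (g.val *ᵥ v) = _
    rw [hc, hc1, one_mul]
  have hs := Asch.isSesq_of_unitary (Asch.herm_unitary (n := 3) hF)
  have hfix : (c : F) ^ q = c := by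
    have h := hc (Pi.single 0 1) (Pi.single 0 1)
    rw [Herm.hermForm_self, Herm.hermForm_self] at h
    have h1 : ∑ i, (Pi.single 0 1 : Fin 3 → F) i ^ (q + 1) = 1 := by
      simp [Fin.sum_univ_three]
    rw [h1, mul_one] at h
    rw [← h, Herm.q_cast_sum hF]
    exact Finset.sum_congr rfl fun i _ => Herm.norm_pow_q hF _
  have hc3 : (c : F) ^ 3 = 1 := by
    have hM : g.valᵀ * gramMatrix (Cfsg.hermForm 3 F q) * g.val.map (Asch.sigmaE hF) =
        (c : F) • gramMatrix (Cfsg.hermForm 3 F q) :=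
      Asch.mat_eq (Asch.sigmaE hF) fun u v => by
        rw [← Asch.sesq_act hs, hc, Asch.sesq_gram hs, Matrix.smul_mulVec, dotProduct_smul, smul_eq_mul]
    have h := congrArg Matrix.det hM
    rw [Asch.gram_herm hF, Matrix.mul_one, Matrix.det_mul, Matrix.det_transpose, Matrix.det_smul, Matrix.det_one,
      Fintype.card_fin, show (g.val.map (Asch.sigmaE hF)).det = Asch.sigmaE hF g.val.det from
        (RingHom.map_det (Asch.sigmaE hF).toRingHom g.val).symm,
      show g.val.det = 1 from congrArg Units.val (MonoidHom.mem_ker.1 hd), map_one, mul_one, mul_one] at h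
    exact h.symm
  obtain ⟨j, rfl⟩ : ∃ j, q = 3 * j + 2 := ⟨q / 3, by omega⟩
  rw [pow_add, pow_mul, hc3, one_pow, one_mul] at hfix
  have : (c : F) * c = 1 * c := by rw [one_mul, ← sq, hfix]
  exact mul_right_cancel₀ c.ne_zero this

variable {R : Subgroup (GL (Fin 3) F)}

/-- The normaliser of an extraspecial group of order `27` is maximal. -/
theorem isMax_extra {p : ℕ} (hp : p.Prime) (hF : Fintype.card F = p ^ 2) (hp3 : p % 3 = 2) (hp11 : 11 ≤ p)
    (hsymp : IsSymplecticTypeGroup 3 R) (habs : ActsAbsolutelyIrreducibly (matrixSet R))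
    (hsim : R ≤ similarityGroup (Cfsg.hermForm 3 F p)) (h27 : Nat.card R = 27)
    (hcent : Nat.card (Subgroup.center R) = 3) :
    IsMaximalIn (Asch.sunit 3 F p) (subgroupNormalizer R ⊓ Asch.sunit 3 F p) := by
  classical
  obtain ⟨c, x, y, z, hR, -, hRsl⟩ := exists_extra hsymp habs hcent ⟨1, by rw [h27]; norm_num⟩
  have h3 : (3 : F) ≠ 0 := by exact_mod_cast hR.char_ne
  have hc3 : c ^ 3 = 1 := hR.prim.pow_eq_one
  have hc1 : c ≠ 1 := hR.prim.ne_one (by norm_num)
  have hc : c ^ 2 + c + 1 = 0 := by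
    refine mul_left_cancel₀ (sub_ne_zero.2 hc1) ?_
    linear_combination hc3
  have hchar : CharP F p := by
    obtain ⟨p₁, hp₁⟩ := CharP.exists F
    obtain ⟨n, hp₁', hn⟩ := FiniteField.card F p₁
    rw [hF] at hn
    obtain rfl := (Nat.prime_dvd_prime_iff_eq hp₁' hp).1 (hp₁'.dvd_of_dvd_pow (hn ▸ dvd_pow_self p₁ n.ne_zero))
    exact hp₁
  have h5 : (5 : F) ≠ 0 := fun h => by
    have h' : p ∣ 5 := (CharP.cast_eq_zero_iff F p 5).1 (by exact_mod_cast h)
    rw [(Nat.prime_dvd_prime_iff_eq hp (by norm_num)).1 h'] at hp11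
    omega
  obtain ⟨P, hX, hY⟩ := exists_frame_extra hR
  obtain ⟨gx, gy, gh, gk, ex, ey, eh, ek, mx, my, mh⟩ := exists_frame_units hc h3
  have hcjx : P * gx * P⁻¹ = x := by
    rw [mul_inv_eq_iff_eq_mul]
    refine Units.ext ?_
    rw [Units.val_mul, Units.val_mul, ex]
    exact hX.symm
  have hcjy : P * gy * P⁻¹ = y := by
    rw [mul_inv_eq_iff_eq_mul]
    refine Units.ext ?_
    rw [Units.val_mul, Units.val_mul, ey]
    exact hY.symm
  have mkconj : ∀ g a b : GL (Fin 3) F, g * a = b * g → (P * g * P⁻¹) * (P * a * P⁻¹) * (P * g * P⁻¹)⁻¹ =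
      P * b * P⁻¹ := fun g a b h => by
    calc P * g * P⁻¹ * (P * a * P⁻¹) * (P * g * P⁻¹)⁻¹ = P * (g * a * g⁻¹) * P⁻¹ := by group
      _ = P * b * P⁻¹ := by rw [h, mul_inv_cancel_right]
  set h := P * gh * P⁻¹ with hh
  set k := P * gk * P⁻¹ with hk
  have hhx : h * x * h⁻¹ = y := by
    rw [← hcjx, ← hcjy]
    exact mkconj _ _ _ (Units.ext (by rw [Units.val_mul, Units.val_mul, eh, ex, ey, frHX hc]))
  have hhy : h * y * h⁻¹ = x ^ 2 := by
    rw [← hcjx, ← hcjy, mkconj gh gy (gx * gx)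
      (Units.ext (by rw [Units.val_mul, Units.val_mul, Units.val_mul, eh, ex, ey, frHY hc]))]
    rw [sq]; group
  have hkx : k * x * k⁻¹ = x := by
    rw [← hcjx]
    exact mkconj _ _ _ (Units.ext (by rw [Units.val_mul, Units.val_mul, ek, ex, frKX]))
  have hky : k * y * k⁻¹ = z ^ 2 * x * x * y := by
    have h1 : (k * y).val = (z ^ 2 * x * x * y * k).val := by
      rw [hk, ← hcjx, ← hcjy,
        show P * gk * P⁻¹ * (P * gy * P⁻¹) = P * (gk * gy) * P⁻¹ by group,
        show z ^ 2 * (P * gx * P⁻¹) * (P * gx * P⁻¹) * (P * gy * P⁻¹) * (P * gk * P⁻¹) =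
          z ^ 2 * (P * (gx * gx * gy * gk) * P⁻¹) by group]
      simp only [Units.val_mul, Units.val_pow_eq_pow_val, ek, ex, ey, frKY hc, hR.coe_z, smul_pow, one_pow,
        Matrix.smul_mul, Matrix.mul_smul, one_mul]
    rw [mul_inv_eq_iff_eq_mul]
    exact Units.ext h1
  have hnorm : ∀ g : GL (Fin 3) F, g * x * g⁻¹ ∈ R → g * y * g⁻¹ ∈ R → g ∈ subgroupNormalizer R := by
    intro g h1 h2
    refine Subgroup.mem_normalizer_fintype fun w hw => ?_
    obtain ⟨i, j, l, rfl⟩ := hR.gen w hw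
    rw [show g * (x ^ i * y ^ j * z ^ l) * g⁻¹ = (g * x ^ i * g⁻¹) * (g * y ^ j * g⁻¹) * (g * z ^ l * g⁻¹) by group,
      ← conj_pow, ← conj_pow, Asch.scalars_comm (g := g) (pow_mem (extra_z_scalar hR) l), mul_inv_cancel_right]
    exact mul_mem (mul_mem (pow_mem h1 i) (pow_mem h2 j)) (pow_mem (extra_z_mem hR) l)
  have hhN : h ∈ subgroupNormalizer R :=
    hnorm h (by rw [hhx]; exact hR.mem_y) (by rw [hhy]; exact pow_mem hR.mem_x 2)
  have hkN : k ∈ subgroupNormalizer R :=
    hnorm k (by rw [hkx]; exact hR.mem_x)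
      (by rw [hky]; exact mul_mem (mul_mem (mul_mem (pow_mem (extra_z_mem hR) 2) hR.mem_x) hR.mem_x) hR.mem_y)
  have conjSL : ∀ g a : GL (Fin 3) F, g ∈ specialLinear (Fin 3) F → a * g * a⁻¹ ∈ specialLinear (Fin 3) F :=
    fun g a hg => (MonoidHom.normal_ker _).conj_mem g hg a
  have hRS : R ≤ Asch.sunit 3 F p := fun g hg => mem_sunit_of_similar hF hp3 (hsim hg) (hRsl hg)
  have hNS : ∀ g : GL (Fin 3) F, g ∈ subgroupNormalizer R → g ∈ specialLinear (Fin 3) F →
      g ∈ Asch.sunit 3 F p := fun g hg hd =>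
    mem_sunit_of_similar hF hp3 (Asch.mem_similarityGroup habs
      (Asch.isSesq_of_unitary (Asch.herm_unitary hF)) (Asch.fixesForm_GU (hRS.trans inf_le_left))
      (fun a ha => (Subgroup.mem_normalizer_iff.1 hg a).1 ha)) hd
  set H := subgroupNormalizer R ⊓ Asch.sunit 3 F p
  have hRH : R ≤ H := le_inf Subgroup.le_normalizer hRS
  have hhH : h ∈ H := Subgroup.mem_inf.2 ⟨hhN, hNS h hhN (conjSL _ _ mh)⟩
  have hkh : k * h * k⁻¹ ∈ subgroupNormalizer R := mul_mem (mul_mem hkN hhN) (inv_mem hkN)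
  have hkhH : k * h * k⁻¹ ∈ H :=
    Subgroup.mem_inf.2 ⟨hkh, hNS _ hkh (conjSL _ _ (conjSL _ _ mh))⟩
  refine isMax_intro hF (by omega) (irr_mono hRH habs.1) (fun e => ?_) fun M hHM hM hlist => ?_
  · have h1 := extra_card_dvd hR (S := Asch.sunit 3 F p) inf_le_right fun g hg a ha =>
      (Subgroup.mem_normalizer_iff.1 (show g ∈ H from e.ge hg).1 a).1 ha
    rw [card_sunit hF] at h1
    have := unit_extra (by omega) h1
    omega
  have hMSL := hM.trans inf_le_right
  have hdvd : 27 ∣ Nat.card M := h27 ▸ Subgroup.card_dvd_of_le (hRH.trans hHM)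
  rcases hlist with ⟨D, hD, hle⟩ | ⟨K, hK, hle⟩ |
    ⟨R', c', x', y', z', hRM, hn, hR'⟩ | ⟨F₁, r, B, hne₁, hr, hcard₁, hle⟩ | ⟨h2', Q, hQ, hle⟩ | hsmall
  · exfalso
    obtain ⟨b, hb⟩ := Asch.decomp_gen hD
    have hact : ∀ g : R, ∃ (π : Equiv.Perm (Fin 3)) (ε : Fin 3 → F), (∀ i, ε i ≠ 0) ∧
        ∀ i, (g : GL (Fin 3) F).val *ᵥ b i = ε i • b (π i) := fun g => Asch.decomp_act hb (hle (hHM (hRH g.2)))
    choose π ε hε0 hact using hact
    let A : Set (GL (Fin 3) F) := {g | ∀ i, ∃ d : F, g.val *ᵥ b i = d • b i}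
    refine no_small_map hR hhx hhy π (by rw [Nat.card_perm]; simp [Nat.factorial]) A ?_ ?_ ?_
    · intro g hg g' hg'
      refine Units.ext (Matrix.toLin'.injective (b.ext fun i => ?_))
      obtain ⟨d, hd⟩ := hg i
      obtain ⟨d', hd'⟩ := hg' i
      simp only [Matrix.toLin'_apply, Units.val_mul, ← Matrix.mulVec_mulVec, hd, hd', Matrix.mulVec_smul]
      rw [smul_comm]
    · intro g hg i
      obtain ⟨π', ε', hε', hact'⟩ := Asch.decomp_act hb (hle (hHM (inv_mem hhH)))
      obtain ⟨d, hd⟩ := hg (π' i)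
      refine ⟨d, ?_⟩
      rw [Asch.mul_mulVec, Asch.mul_mulVec, hact', Matrix.mulVec_smul, hd, smul_comm, Matrix.mulVec_smul]
      congr 1
      rw [← hact', Asch.mulVec_inv_mulVec]
    · intro g g' he i
      refine ⟨(ε g i)⁻¹ * ε g' i, ?_⟩
      rw [Asch.mul_mulVec, hact g', ← smul_smul, Matrix.mulVec_smul, ← he, smul_comm]
      congr 1
      rw [eq_inv_smul_iff₀ (hε0 g i), ← Matrix.mulVec_smul, ← hact g, Asch.inv_mulVec_mulVec]
  · exfalso
    haveI : Finite (Matrix (Fin 3) (Fin 3) F) := inferInstanceAs (Finite (Fin 3 → Fin 3 → F))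
    haveI : FiniteDimensional F K := Module.finite_of_finrank_pos (hK.finrank_eq.symm ▸ (by norm_num))
    have hfield : IsField K :=
      { exists_pair_ne := ⟨0, 1, fun h => zero_ne_one (congrArg Subtype.val h)⟩
        mul_comm := fun a b => Subtype.ext (hK.comm a a.2 b b.2)
        mul_inv_cancel := fun {a} ha => by
          obtain ⟨y, hy, hy'⟩ := hK.inv a a.2 (fun h => ha (Subtype.ext h))
          exact ⟨⟨y, hy⟩, Subtype.ext hy'⟩ }
    letI : Field K := hfield.toField
    let φ : R → (K →ₐ[F] K) := fun g =>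
      { toFun := fun a => ⟨g.1.val * a * (g.1⁻¹).val, (hle (hHM (hRH g.2)) _).1 a.2⟩
        map_one' := Subtype.ext (by simp)
        map_mul' := fun a b => Subtype.ext (by simp [mul_assoc])
        map_zero' := Subtype.ext (by simp)
        map_add' := fun a b => Subtype.ext (by simp [mul_add, add_mul])
        commutes' := fun r => Subtype.ext (by
          simp [Algebra.algebraMap_eq_smul_one, Matrix.mul_smul, Matrix.smul_mul, mul_assoc]) }
    refine no_small_map hR hhx hhy φ ?_ {g | g.val ∈ K} ?_ ?_ ?_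
    · rw [Nat.card_eq_fintype_card]
      exact lt_of_le_of_lt AlgHom.card_le (by rw [hK.finrank_eq]; norm_num)
    · exact fun g hg g' hg' => Units.ext (hK.comm _ hg _ hg')
    · intro g hg
      show (h * g * h⁻¹).val ∈ K
      rw [Units.val_mul, Units.val_mul]
      exact (hle (hHM hhH) _).1 hg
    · intro g g' he
      show ((g : GL (Fin 3) F)⁻¹ * g').val ∈ K
      refine Asch.mem_of_comm_field (by norm_num) (by simp) hK fun a ha => ?_
      have h1 : g.1.val * a * (g.1⁻¹).val = g'.1.val * a * (g'.1⁻¹).val :=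
        congrArg (fun ψ : K →ₐ[F] K => ((ψ ⟨a, ha⟩ : K) : Matrix (Fin 3) (Fin 3) F)) he
      have h2 := congrArg (fun X => (g.1⁻¹).val * X * g'.1.val) h1
      simp only [mul_assoc, Units.inv_mul, mul_one, Units.inv_mul_cancel_left] at h2
      rw [Units.val_mul, mul_assoc]
      exact h2.symm
  · have hRR := extra_eq hR hR' hMSL hn (hRH.trans hHM) hRM (hHM hhH)
      (fun g hg => (Subgroup.mem_normalizer_iff.1 hhN g).1 hg) hhx hhy
    subst hRR
    exact fun g hg => Subgroup.mem_normalizer_fintype fun a ha => hn g hg a ha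
  · exfalso
    rw [hF] at hcard₁
    have hcp : Nat.card F₁ = p := by
      obtain ⟨a, ha, ha'⟩ := (Nat.dvd_prime_pow hp).1 (hcard₁ ▸ dvd_pow_self (Nat.card F₁) hr.ne_zero)
      rw [ha', ← pow_mul] at hcard₁
      have h2 := Nat.pow_right_injective hp.two_le hcard₁
      rcases (show a = 0 ∨ a = 1 ∨ a = 2 by omega) with rfl | rfl | rfl
      · omega
      · rw [ha', pow_one]
      · exact absurd (by omega : r = 1) hr.ne_one
    have hz : z ∈ ⁅M, M⁆ := by
      have h1 := Subgroup.commutator_mem_commutator (hHM (hRH hR.mem_y)) (hHM (hRH hR.mem_x))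
      rwa [commutatorElement_def, show y * x * y⁻¹ * x⁻¹ = z by rw [hR.comm]; group] at h1
    have h1 := trace_subfield hle hz
    rw [hR.coe_z, Matrix.trace_smul, Matrix.trace_one, Fintype.card_fin, smul_eq_mul] at h1
    have hcF : c ∈ F₁ := by
      have h2 := F₁.div_mem h1 (natCast_mem F₁ 3)
      rwa [mul_div_assoc, div_self (by exact_mod_cast h3), mul_one] at h2
    haveI : Fintype F₁ := Fintype.ofFinite _
    have h4 := congrArg Subtype.val (FiniteField.pow_card (⟨c, hcF⟩ : F₁))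
    rw [SubmonoidClass.coe_pow, ← Nat.card_eq_fintype_card, hcp] at h4
    obtain ⟨j, hj⟩ : ∃ j, p = 3 * j + 2 := ⟨p / 3, by omega⟩
    rw [hj, pow_add, pow_mul, hc3, one_pow, one_mul] at h4
    exact hc1 (mul_right_cancel₀ (hR.prim.ne_zero (by norm_num)) (by rw [one_mul, ← sq]; exact h4))
  · exfalso
    rw [Asch.quadSimilarityGroup_eq h2' hQ] at hle
    have hz := commutator_isom (hle (hHM (hRH hR.mem_y))) (hle (hHM (hRH hR.mem_x)))
    rw [show y * x * y⁻¹ * x⁻¹ = z by rw [hR.comm]; group] at hz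
    obtain ⟨⟨u, hu⟩, -⟩ := hQ.nondegenerate (Pi.single 0 1) (by simp)
    have h1 := hz u (Pi.single 0 1)
    have hs := Asch.isSesq_of_bilinear hQ.polar_bilinear hQ.nondegenerate
    change QuadraticMap.polar Q (z.val *ᵥ u) (z.val *ᵥ _) = _ at h1
    rw [hR.coe_z, Matrix.smul_mulVec, Matrix.one_mulVec, Matrix.smul_mulVec, Matrix.one_mulVec, hs.smul_left,
      hs.smul_right, RingEquiv.refl_apply] at h1
    have hcc : c * c = 1 := by
      refine mul_right_cancel₀ hu ?_
      linear_combination h1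
    exact hc1 (by linear_combination hc3 - c * hcc)
  · exfalso
    rcases hsmall with ⟨-, -, hd, -⟩ | ⟨-, -, -, S, hS, ⟨e⟩⟩ | ⟨h5', -, -⟩
    · have := hdvd.trans hd
      norm_num at this
    · exact no_A6_frame hMSL hS e h5 hc h3
        { base := P, gx := gx, gy := gy, gh := gh, gk := gk, val_x := ex, val_y := ey, val_h := eh, val_k := ek
          mem_x := hcjx.symm ▸ hHM (hRH hR.mem_x)
          mem_y := hcjy.symm ▸ hHM (hRH hR.mem_y)
          mem_h := hHM hhH
          mem_h' := by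
            rw [show P * (gk * gh * gk⁻¹) * P⁻¹ = k * h * k⁻¹ by simp only [hh, hk]; group]
            exact hHM hkhH }
    · apply h5
      rw [ringChar.eq F p] at h5'
      subst h5'
      exact_mod_cast CharP.cast_eq_zero F 5

end Cfsg.Lib.Linear.Mitchell.SU3
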