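import Cfsg.Agent.Lib.Linear.Mitchell.SU3FieldArith
import Cfsg.Agent.Lib.Linear.Mitchell.SU3Common

/-!
# The field normalisers are maximal in `SU₃(q)`
-/

set_option autoImplicit false
set_option linter.unusedSectionVars false

namespace Cfsg.Lib.Linear.Mitchell.SU3

open Cfsg.Geo Cfsg.Lib.Linear MaxArith Max
open scoped Matrix MatrixGroups

variable {F : Type*} [Field F] [Fintype F] {q : ℕ} (hF : Fintype.card F = q ^ 2)

local notation "S₃" => Asch.sunit 3 F q

/-- The field structure of a field subalgebra. -/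
theorem isField_sub {K : Subalgebra F (Matrix (Fin 3) (Fin 3) F)} (hK : IsFieldSubalgebra 3 K) :
    IsField K :=
  { exists_pair_ne := ⟨0, 1, fun h => zero_ne_one (congrArg Subtype.val h)⟩
    mul_comm := fun a b => Subtype.ext (hK.comm a a.2 b b.2)
    mul_inv_cancel := fun {a} ha => by
      obtain ⟨y, hy, hy'⟩ := hK.inv a a.2 (fun h => ha (Subtype.ext h))
      exact ⟨⟨y, hy⟩, Subtype.ext hy'⟩ }

/-- A non-scalar element generates a cubic field. -/
theorem gen_field {K : Subalgebra F (Matrix (Fin 3) (Fin 3) F)} (hK : IsFieldSubalgebra 3 K)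
    {z : Matrix (Fin 3) (Fin 3) F} (hz : z ∈ K) (hns : ∀ c : F, z ≠ c • 1)
    {A : Subalgebra F (Matrix (Fin 3) (Fin 3) F)} (hzA : z ∈ A) : K ≤ A := by
  letI : Field K := (isField_sub hK).toField
  haveI := Subalgebra.isSimpleOrder_of_finrank_prime F K (by rw [hK.finrank_eq]; exact Nat.prime_three)
  rcases eq_bot_or_eq_top (A.comap K.val) with h | h
  · obtain ⟨c, hc⟩ := Algebra.mem_bot.1 (h ▸ (show (⟨z, hz⟩ : K) ∈ A.comap K.val from hzA))
    refine absurd ?_ (hns c)
    have h2 : z = algebraMap F (Matrix (Fin 3) (Fin 3) F) c := (congrArg Subtype.val hc).symm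
    rw [h2, Algebra.algebraMap_eq_smul_one]
  · exact fun k hk => (h ▸ Algebra.mem_top : (⟨k, hk⟩ : K) ∈ A.comap K.val)

include hF in
/-- The part of a self-adjoint cubic field in `SU₃` has an element of order `q² - q + 1`. -/
theorem exists_torus (hq : 2 ≤ q) {K : Subalgebra F (Matrix (Fin 3) (Fin 3) F)}
    (hK : IsFieldSubalgebra 3 K) (hadj : IsAdjointClosedFor (Cfsg.hermForm 3 F q) K) :
    ∃ z : GL (Fin 3) F, z ∈ S₃ ∧ z ∈ subalgebraNormalizer K ∧ z.val ∈ K ∧ orderOf z = ordN q := by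
  classical
  haveI : Finite (Matrix (Fin 3) (Fin 3) F) := inferInstanceAs (Finite (Fin 3 → Fin 3 → F))
  haveI : FiniteDimensional F K := Module.finite_of_finrank_pos (hK.finrank_eq.symm ▸ (by norm_num))
  letI : Field K := (isField_sub hK).toField
  haveI : Finite K := Finite.of_injective Subtype.val Subtype.val_injective
  letI : Fintype K := Fintype.ofFinite K
  set σ := Asch.sigmaE hF with hσdef
  have hτmem : ∀ k ∈ K, (k.map σ)ᵀ ∈ K := by
    intro k hk
    obtain ⟨k', hk', he⟩ := hadj k hk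
    convert hk'
    ext i j
    have h := he (Pi.single i 1) (Pi.single j 1)
    simp only [Cfsg.hermForm, Matrix.mulVec_single, MulOpposite.op_one, one_smul, Pi.single_apply, ite_pow,
      one_pow, zero_pow (show q ≠ 0 by omega), mul_ite, mul_one, mul_zero, ite_mul, one_mul, zero_mul,
      Finset.sum_ite_eq', Finset.mem_univ, if_true, Matrix.col_apply] at h
    show σ (k j i) = k' i j
    rw [h, hσdef, ← Asch.sigmaE_apply hF, Asch.sigmaE_sigmaE]
  let τ : K →+* K :=
    { toFun := fun k => ⟨(k.1.map σ)ᵀ, hτmem k k.2⟩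
      map_one' := Subtype.ext (by simp [Matrix.map_one])
      map_mul' := fun a b => Subtype.ext (by
        show ((a.1 * b.1).map σ)ᵀ = (a.1.map σ)ᵀ * (b.1.map σ)ᵀ
        rw [Matrix.map_mul, Matrix.transpose_mul]
        exact hK.comm _ (hτmem _ b.2) _ (hτmem _ a.2))
      map_zero' := Subtype.ext (by simp)
      map_add' := fun a b => Subtype.ext (by
        show ((a.1 + b.1).map σ)ᵀ = (a.1.map σ)ᵀ + (b.1.map σ)ᵀ
        rw [Matrix.map_add _ (map_add σ), Matrix.transpose_add]) }
  have hτ2 : ∀ k, τ (τ k) = k := fun k => Subtype.ext (by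
    ext i j
    exact Asch.sigmaE_sigmaE hF (k.1 i j))
  have hτne : τ ≠ RingHom.id K := by
    intro e
    obtain ⟨x, hx⟩ : ∃ x : F, σ x ≠ x := by
      by_contra hall
      push Not at hall
      exact Asch.sigmaE_ne hF (RingEquiv.ext hall)
    refine hx ?_
    have h := congrFun (congrFun (congrArg Subtype.val (RingHom.congr_fun e (algebraMap F K x))) 0) 0
    simpa [τ, Matrix.algebraMap_matrix_apply] using h
  obtain ⟨q₁, hq₁, hτ⟩ := Herm.exists_eq_frob hτne hτ2
  have hcard : Nat.card K = q ^ 6 := by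
    rw [Module.natCard_eq_pow_finrank (K := F), hK.finrank_eq, Nat.card_eq_fintype_card, hF, ← pow_mul]
  obtain rfl : q₁ = q ^ 3 := Nat.pow_left_injective two_ne_zero (by
    show q₁ ^ 2 = (q ^ 3) ^ 2
    rw [← hq₁, ← Nat.card_eq_fintype_card, hcard, ← pow_mul])
  -- the element
  obtain ⟨γ, hγ⟩ := IsCyclic.exists_ofOrder_eq_natCard (α := Kˣ)
  have hγ' : orderOf γ = (q ^ 3 - 1) * (q ^ 3 + 1) := by
    rw [hγ, Nat.card_units, hcard, mul_comm, ← Nat.mul_self_sub_mul_self_eq, mul_one, ← pow_add]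
  have hq3 : 8 ≤ q ^ 3 := Nat.pow_le_pow_left hq 3
  obtain ⟨w, hwdef⟩ : ∃ w, w = γ ^ (q ^ 3 - 1) := ⟨_, rfl⟩
  have hw : orderOf w = q ^ 3 + 1 := by
    rw [hwdef, orderOf_pow_of_dvd (by omega) (by rw [hγ']; exact dvd_mul_right _ _), hγ',
      Nat.mul_div_cancel_left _ (by omega)]
  let u : Kˣ →* GL (Fin 3) F := Units.map (K.val : K →* Matrix (Fin 3) (Fin 3) F)
  have hu : Function.Injective u := Units.map_injective Subtype.val_injective
  have hwn : (u w).val * ((u w).val.map σ)ᵀ = 1 := by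
    have h : (w : K) * τ w = 1 := by
      rw [hτ, ← pow_succ', ← Units.val_pow_eq_pow_val, ← hw, pow_orderOf_eq_one, Units.val_one]
    exact congrArg Subtype.val h
  have hwGU : u w ∈ Cfsg.GU 3 F q := by
    have h1 := congrArg Matrix.transpose (mul_eq_one_comm.1 hwn)
    rw [Matrix.transpose_mul, Matrix.transpose_transpose, Matrix.transpose_one] at h1
    intro a b
    show Cfsg.hermForm 3 F q ((u w).val *ᵥ a) ((u w).val *ᵥ b) = Cfsg.hermForm 3 F q a b
    have key : ∀ x y : Fin 3 → F, Cfsg.hermForm 3 F q x y = x ⬝ᵥ (σ ∘ y) := fun x y => by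
      simp only [Cfsg.hermForm, dotProduct, Function.comp_apply, σ, Asch.sigmaE_apply]
    have hmap : σ ∘ ((u w).val *ᵥ b) = (u w).val.map σ *ᵥ (σ ∘ b) :=
      funext fun i => RingHom.map_mulVec σ.toRingHom _ _ i
    rw [key, key, hmap, Matrix.dotProduct_mulVec, ← Matrix.vecMul_transpose, Matrix.vecMul_vecMul,
      h1, Matrix.vecMul_one]
  have hord : orderOf (u (w ^ (q + 1))) = ordN q := by
    rw [orderOf_injective u hu, orderOf_pow_of_dvd (by omega) ⟨ordN q, by rw [hw, ordN_mul]⟩, hw, ← ordN_mul,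
      Nat.mul_div_cancel_left _ (by omega)]
  refine ⟨u (w ^ (q + 1)), ⟨?_, MonoidHom.mem_ker.2 ?_⟩, ?_, (w ^ (q + 1) : Kˣ).1.2, hord⟩
  · rw [map_pow]; exact pow_mem hwGU _
  · rw [map_pow, map_pow]
    refine Units.ext ?_
    rw [Units.val_pow_eq_pow_val, Matrix.GeneralLinearGroup.val_det_apply, Units.val_one]
    have h := congrArg Matrix.det hwn
    rw [Matrix.det_mul, Matrix.det_transpose, Matrix.det_one] at h
    have h2 : σ (u w).val.det = ((u w).val.map σ).det := RingEquiv.map_det σ (u w).val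
    rw [← h2, Asch.sigmaE_apply, ← pow_succ'] at h
    exact h
  · generalize w ^ (q + 1) = k
    have hconj : ∀ m ∈ K, (u k).val * m * ((u k)⁻¹).val = m := fun m hm => by
      show ((k : K) : Matrix (Fin 3) (Fin 3) F) * m * ((u k)⁻¹).val = m
      rw [hK.comm _ (k : K).2 _ hm, mul_assoc]
      show m * ((u k).val * ((u k)⁻¹).val) = m
      rw [Units.mul_inv, mul_one]
    refine fun m => ⟨fun hm => by rw [hconj m hm]; exact hm, fun hm => ?_⟩
    have h5 : (u k).val * m * ((u k)⁻¹).val = m := by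
      have h4 := congrArg (fun X => ((u k)⁻¹).val * X * (u k).val) (hconj _ hm)
      simpa [mul_assoc] using h4
    rwa [← h5]

/-- An element whose order does not divide three is not scalar in `SL₃`. -/
theorem not_scalar {g : GL (Fin 3) F} (hg : g ∈ specialLinear (Fin 3) F) (h : ¬ orderOf g ∣ 3) (c : F) :
    g.val ≠ c • 1 := fun e => h (orderOf_dvd_of_pow_eq_one (Units.ext (by
  have hdet : g.val.det = 1 := congrArg Units.val (MonoidHom.mem_ker.1 hg)
  rw [e, Matrix.det_smul, Matrix.det_one, Fintype.card_fin, mul_one] at hdet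
  rw [Units.val_pow_eq_pow_val, e, smul_pow, one_pow, hdet, one_smul, Units.val_one])))

include hF in
/-- The normaliser of a self-adjoint cubic field is maximal. -/
theorem isMax_field (hq : 4 ≤ q) (hq5 : q ≠ 5) {K : Subalgebra F (Matrix (Fin 3) (Fin 3) F)}
    (hK : IsFieldSubalgebra 3 K) (hadj : IsAdjointClosedFor (Cfsg.hermForm 3 F q) K) :
    IsMaximalIn S₃ (subalgebraNormalizer K ⊓ S₃) := by
  classical
  obtain ⟨z, hzS, hzN, hzK, hz⟩ := exists_torus hF (by omega) hK hadj
  have hN := ordN_ge hq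
  have hzns : ∀ c : F, z.val ≠ c • 1 :=
    not_scalar hzS.2 fun h => by rw [hz] at h; have := Nat.le_of_dvd three_pos h; omega
  have hirr : ActsIrreducibly (matrixSet (subalgebraNormalizer K ⊓ S₃)) := by
    refine Asch.irr_iff.2 fun W hW => or_iff_not_imp_left.2 fun hne => by_contra fun htop => ?_
    let A : Subalgebra F (Matrix (Fin 3) (Fin 3) F) :=
      { carrier := {X | ∀ w ∈ W, X *ᵥ w ∈ W}
        mul_mem' := fun {a b} ha hb w hw => by rw [← Matrix.mulVec_mulVec]; exact ha _ (hb w hw)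
        add_mem' := fun {a b} ha hb w hw => by rw [Matrix.add_mulVec]; exact W.add_mem (ha w hw) (hb w hw)
        algebraMap_mem' := fun c w hw => by
          rw [Algebra.algebraMap_eq_smul_one, Matrix.smul_mulVec, Matrix.one_mulVec]; exact W.smul_mem c hw }
    have hKA : K ≤ A := gen_field hK hzK hzns (A := A) fun w hw => hW z ⟨hzN, hzS⟩ w hw
    obtain ⟨v, hvW, hv⟩ := Submodule.exists_mem_ne_zero_of_ne_bot hne
    let φ : K →ₗ[F] W :=
      { toFun := fun k => ⟨(k : Matrix (Fin 3) (Fin 3) F) *ᵥ v, hKA k.2 v hvW⟩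
        map_add' := fun a b => Subtype.ext (by simp [Matrix.add_mulVec])
        map_smul' := fun c a => Subtype.ext (by simp [Matrix.smul_mulVec]) }
    have hinj : Function.Injective φ := by
      rw [injective_iff_map_eq_zero]
      intro k hk
      by_contra h0
      obtain ⟨y, hy, hy'⟩ := hK.inv k k.2 (fun e => h0 (Subtype.ext e))
      rw [hK.comm _ k.2 y hy] at hy'
      have h1 := congrArg (fun w => y *ᵥ w) (congrArg Subtype.val hk)
      simp [φ, Matrix.mulVec_mulVec, hy'] at h1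
      exact hv h1
    have h1 := LinearMap.finrank_le_finrank_of_injective hinj
    have h2 := Submodule.finrank_lt htop
    rw [hK.finrank_eq] at h1
    rw [Module.finrank_fintype_fun_eq_card, Fintype.card_fin] at h2
    omega
  refine isMax_intro hF (by omega) hirr (fun e => ?_) fun M hHM hM hlist => ?_
  · refine unit_field (show 2 ≤ q by omega) ?_
    rw [← card_sunit hF, ← e]
    exact (Subgroup.card_dvd_of_le (inf_le_inf_left _ inf_le_right)).trans
      (dvd_of_eq (by rw [card_field hK, hF]))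
  have hzM : z ∈ M := hHM ⟨hzN, hzS⟩
  have hd : ∀ {n}, Nat.card M ∣ n → ordN q ∣ n := fun h =>
    hz ▸ (Subgroup.orderOf_dvd_natCard M hzM).trans h
  have hMSL : M ≤ specialLinear (Fin 3) F := hM.trans inf_le_right
  have hqodd : Odd (Fintype.card F) → Odd q := fun h => Nat.Odd.of_mul_left (by rwa [hF, sq] at h)
  rcases hlist with ⟨D, hD, hle⟩ | ⟨K', hK', hle⟩ |
    ⟨R, c, x, y, z', hRM, hn, hR⟩ | ⟨F₁, r, B, hne₁, hr, hcard, hle⟩ | ⟨h2', Q, hQ, hle⟩ | hsmall
  · exact (field_mono_u hq (by rw [← hF]; exact hd (dvd_mono hMSL hD hle))).elim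
  · obtain ⟨hcN, S, hS, hScard, hSK⟩ := card_field_units hK'
    set N := subalgebraNormalizer K' ⊓ specialLinear (Fin 3) F
    have hidx : (S.subgroupOf N).index = 3 := by
      have h := (S.subgroupOf N).card_mul_index
      rw [Nat.card_congr (Subgroup.subgroupOfEquivOfLe hS).toEquiv, hScard, hcN, mul_comm 3] at h
      exact Nat.eq_of_mul_eq_mul_left (by simp [ordS]) h
    obtain ⟨n, hn0, hn3, hn⟩ := Subgroup.exists_pow_mem_of_index_ne_zero (hidx ▸ (by norm_num : (3 : ℕ) ≠ 0))
      (⟨z, hle hzM, hMSL hzM⟩ : N)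
    rw [hidx] at hn3
    have hpK' : (z ^ n).val ∈ K' := hSK _ hn
    have hpns : ∀ c : F, (z ^ n).val ≠ c • 1 := not_scalar (pow_mem hzS.2 n) fun h => by
      have h1 : z ^ (n * 3) = 1 := by rw [pow_mul]; exact orderOf_dvd_iff_pow_eq_one.1 h
      have h2 := Nat.le_of_dvd (by omega) (hz ▸ orderOf_dvd_of_pow_eq_one h1)
      omega
    have hpK : (z ^ n).val ∈ K := by rw [Units.val_pow_eq_pow_val]; exact K.pow_mem hzK n
    obtain rfl : K = K' := le_antisymm (gen_field hK hpK hpns hpK') (gen_field hK' hpK' hpns hpK)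
    exact hle
  · exact (field_extra_u hq (hd (extra_card_dvd hR hMSL hn))).elim
  · exfalso
    have h := hd (card_subfield_dvd F₁ B hMSL hle)
    rcases hr.eq_two_or_odd' with rfl | hodd
    · rw [← q_unique hF hcard] at hq h
      exact field_sub_two hq h
    · obtain ⟨p, n, hp, -, hpn⟩ := (FiniteField.isPrimePow_card F).imp fun p h => h
      obtain ⟨t, ht, hqt⟩ := exists_root hp.nat_prime hr hodd (hcard.symm.trans hF) (by
        obtain ⟨b, -, hb⟩ := (Nat.dvd_prime_pow hp.nat_prime).1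
          (show q ∣ p ^ n from ⟨q, by rw [hpn, hF, sq]⟩)
        exact ⟨b, hb⟩)
      have h2 : 2 ≤ t := by
        have := two_le_subfield F₁
        rw [ht] at this
        by_contra hlt
        interval_cases t <;> omega
      rw [ht, hqt] at h
      exact field_sub_odd h2 hr hodd h
  · exact (field_quad_u hq (by rw [← hF]; exact hd (quad_card_dvd h2' hQ hMSL hle))).elim
  · exfalso
    rcases hsmall with ⟨hodd, -, h, -⟩ | ⟨-, h, -⟩ | ⟨h5, h, -⟩
    · exact field_L32_u hq (hd h) (hqodd hodd) hq5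
    · exact field_A6_u hq (hd h)
    · refine field_A7_u hq ?_ hq5 (hd h)
      refine (Nat.prime_five).dvd_of_dvd_pow (n := 2) ?_
      haveI : CharP F 5 := h5 ▸ ringChar.charP F
      haveI : Fact (Nat.Prime 5) := ⟨by norm_num⟩
      obtain ⟨n, -, hn⟩ := FiniteField.card F 5
      rw [← hF, hn]
      exact dvd_pow_self 5 n.ne_zero

end Cfsg.Lib.Linear.Mitchell.SU3
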