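import Cfsg.Agent.Lib.Linear.Mitchell.SU3Arith

/-!
# Arithmetic for the field normalisers in `SU₃(q)`
-/

set_option autoImplicit false

namespace Cfsg.Lib.Linear.Mitchell.SU3

open MaxArith

theorem odd_ordN (q : ℕ) : Odd (ordN q) := by
  rcases q with _ | n
  · exact ⟨0, rfl⟩
  rw [ordN, show (n + 1) ^ 2 - (n + 1) = n * (n + 1) by rw [sq, Nat.mul_comm n, ← Nat.mul_sub_one]; simp]
  exact (Nat.even_mul_succ_self n).add_one

theorem ordN_ge {q : ℕ} (hq : 4 ≤ q) : 13 ≤ ordN q := by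
  have : q * 4 ≤ q ^ 2 := by rw [sq]; exact Nat.mul_le_mul_left q hq
  simp only [ordN]
  omega

theorem ordN_pos (q : ℕ) : 0 < ordN q := Nat.succ_pos _

theorem not_nine_dvd_ordN (q : ℕ) : ¬ 9 ∣ ordN q := by
  intro h
  have hq : q ≤ q ^ 2 := Nat.le_self_pow two_ne_zero q
  have h1 : ((ordN q : ℕ) : ZMod 9) = 0 := (ZMod.natCast_eq_zero_iff _ _).2 h
  rw [ordN, Nat.cast_add, Nat.cast_sub hq, Nat.cast_pow, Nat.cast_one] at h1
  exact (show ∀ x : ZMod 9, x ^ 2 - x + 1 ≠ 0 by decide) _ h1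

theorem coprime_ordN (q a : ℕ) : Nat.Coprime (ordN q) (q ^ a) :=
  ((coprime_pow_succ a (show 3 ≠ 0 by norm_num)).symm).coprime_dvd_left ⟨q + 1, by rw [mul_comm, ordN_mul]⟩

theorem ordN_dvd (q : ℕ) : ordN q ∣ q ^ 6 - 1 := by
  rw [show 6 = 3 + 3 from rfl, pow_add, ← one_mul 1, Nat.mul_self_sub_mul_self_eq, ← ordN_mul]
  exact dvd_mul_of_dvd_left (dvd_mul_left _ _) _

/-- The common part with a square less one. -/
theorem ordN_gcd_three (q : ℕ) : Nat.gcd (ordN q) (q ^ 2 - 1) ∣ 3 := by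
  rcases q with _ | _ | n
  · simp [ordN]
  · simp [ordN]
  set q := n + 2
  obtain ⟨g, hg⟩ : ∃ g, g = Nat.gcd (ordN q) (q ^ 2 - 1) := ⟨_, rfl⟩
  rw [← hg]
  have hq : q ≤ q ^ 2 := Nat.le_self_pow two_ne_zero q
  have h1 : (g : ℤ) ∣ (q : ℤ) ^ 2 - q + 1 := by
    have := Int.natCast_dvd_natCast.2 (Nat.gcd_dvd_left (ordN q) (q ^ 2 - 1))
    rw [← hg] at this
    simpa [ordN, Nat.cast_sub hq] using this
  have h2 : (g : ℤ) ∣ (q : ℤ) ^ 2 - 1 := by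
    have := Int.natCast_dvd_natCast.2 (Nat.gcd_dvd_right (ordN q) (q ^ 2 - 1))
    rw [← hg] at this
    simpa [Nat.cast_sub (show 1 ≤ q ^ 2 from Nat.one_le_pow _ _ (by omega))] using this
  have h3 : (g : ℤ) ∣ 3 := by
    -- `(1 + q) (q² − q + 1) − q (q² − 1) = q + 1`, and modulo `q + 1` the first term is `3`
    have h4 : (g : ℤ) ∣ (q : ℤ) + 1 := by
      have := dvd_sub (dvd_mul_of_dvd_right h1 ((q : ℤ) + 1)) (dvd_mul_of_dvd_right h2 (q : ℤ))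
      rwa [show ((q : ℤ) + 1) * ((q : ℤ) ^ 2 - q + 1) - (q : ℤ) * ((q : ℤ) ^ 2 - 1) = (q : ℤ) + 1 by ring] at this
    have := dvd_sub h1 (dvd_mul_of_dvd_left h4 ((q : ℤ) - 2))
    rwa [show (q : ℤ) ^ 2 - q + 1 - ((q : ℤ) + 1) * ((q : ℤ) - 2) = 3 by ring] at this
  exact_mod_cast h3

theorem dvd_nine {N a b : ℕ} (h : N ∣ a * b) (ha : Nat.gcd N a ∣ 3) (hb : Nat.gcd N b ∣ 3) : N ∣ 9 :=
  ((Nat.dvd_gcd dvd_rfl h).trans (Nat.gcd_mul_right_dvd_mul_gcd _ _ _)).trans (mul_dvd_mul ha hb)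

theorem not_dvd_odd_part {q m : ℕ} (k : ℕ) (hm : ordN q ∣ 2 ^ k * m) : ordN q ∣ m :=
  ((Nat.coprime_two_right.2 (odd_ordN q)).pow_right k).dvd_of_dvd_mul_left hm

theorem field_mono_u {q : ℕ} (hq : 4 ≤ q) (h : ordN q ∣ 6 * (q ^ 2 - 1) ^ 2) : False := by
  have h1 : ordN q ∣ 3 * (q ^ 2 - 1) ^ 2 :=
    not_dvd_odd_part (k := 1) (by rwa [pow_one, ← mul_assoc])
  have hd : ordN q ∣ 27 := by
    refine ((Nat.dvd_gcd dvd_rfl h1).trans (Nat.gcd_mul_right_dvd_mul_gcd _ _ _)).trans ?_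
    refine (mul_dvd_mul (Nat.gcd_dvd_right _ 3) (?_ : _ ∣ 3 * 3)).trans (by norm_num)
    rw [sq]
    exact (Nat.gcd_mul_right_dvd_mul_gcd _ _ _).trans (mul_dvd_mul (ordN_gcd_three q) (ordN_gcd_three q))
  have := ordN_ge hq
  obtain ⟨i, hi, he⟩ := (Nat.dvd_prime_pow Nat.prime_three).1 (show ordN q ∣ 3 ^ 3 from hd)
  interval_cases i <;> norm_num at he
  all_goals first | omega | exact not_nine_dvd_ordN q (by rw [he]; norm_num)

theorem field_extra_u {q : ℕ} (hq : 4 ≤ q) (h : ordN q ∣ 648) : False := by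
  have h1 : ordN q ∣ 3 ^ 4 := not_dvd_odd_part (k := 3) (by norm_num; exact h)
  have := ordN_ge hq
  obtain ⟨i, hi, he⟩ := (Nat.dvd_prime_pow Nat.prime_three).1 h1
  interval_cases i <;> norm_num at he
  all_goals first | omega | exact not_nine_dvd_ordN q (by rw [he]; norm_num)

theorem le_of_ordN_dvd {q m B : ℕ} (hm : 0 < m) (h : ordN q ∣ m) (hB : m < B * (B + 1)) : q ≤ B := by
  by_contra h0
  have h1 := Nat.le_of_dvd hm h
  have h2 : (B + 1) * B ≤ q * (q - 1) := Nat.mul_le_mul (by omega) (by omega)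
  rw [Nat.mul_sub_one, ← sq] at h2
  simp only [ordN] at h1
  rw [mul_comm] at hB
  omega

theorem field_L32_u {q : ℕ} (hq : 4 ≤ q) (h : ordN q ∣ 1008) (hodd : Odd q) (h5 : q ≠ 5) : False := by
  have h1 : ordN q ∣ 63 := not_dvd_odd_part (k := 4) (by norm_num; exact h)
  have := le_of_ordN_dvd (by norm_num) h1 (B := 8) (by norm_num)
  interval_cases q <;> first | exact absurd hodd (by decide) | exact h5 rfl | (norm_num [ordN] at h1)

theorem field_A6_u {q : ℕ} (hq : 4 ≤ q) (h : ordN q ∣ 4320) : False := by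
  have h1 : ordN q ∣ 135 := not_dvd_odd_part (k := 5) (by norm_num; exact h)
  have := le_of_ordN_dvd (by norm_num) h1 (B := 12) (by norm_num)
  interval_cases q <;> norm_num [ordN] at h1

theorem field_A7_u {q : ℕ} (hq : 4 ≤ q) (h5 : 5 ∣ q) (hne : q ≠ 5) (h : ordN q ∣ 15120) : False := by
  have h1 : ordN q ∣ 945 := not_dvd_odd_part (k := 4) (by norm_num; exact h)
  have := le_of_ordN_dvd (by norm_num) h1 (B := 31) (by norm_num)
  obtain ⟨k, rfl⟩ := h5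
  obtain hk : k ≤ 6 := by omega
  interval_cases k <;> first | omega | (norm_num [ordN] at h1)

theorem field_quad_u {q : ℕ} (hq : 4 ≤ q) (h : ordN q ∣ 3 * ordO (q ^ 2)) : False := by
  have h1 : ordN q ∣ 3 * ((q ^ 2) ^ 2 - 1) := by
    refine (coprime_ordN q 2).dvd_of_dvd_mul_left (h.trans (dvd_of_eq ?_))
    rw [ordO]; ring
  have g1 : Nat.gcd (ordN q) ((q ^ 2) ^ 2 - 1) ∣ 3 := by
    refine Dvd.dvd.trans ?_ (ordN_gcd_three q)
    refine Nat.dvd_gcd (Nat.gcd_dvd_left _ _) ?_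
    rw [← pow_mul]
    exact (Nat.gcd_dvd_gcd_of_dvd_left _ (ordN_dvd q)).trans (dvd_of_eq (by
      rw [Nat.pow_sub_one_gcd_pow_sub_one]; rfl))
  have := ordN_ge hq
  have := Nat.le_of_dvd (by norm_num) (dvd_nine h1 (Nat.gcd_dvd_right _ 3) g1)
  omega

theorem field_sub_two {q : ℕ} (hq : 4 ≤ q) (h : ordN q ∣ 3 * ordL q) : False := by
  have h1 : ordN q ∣ 3 * ((q ^ 3 - 1) * (q ^ 2 - 1)) := by
    refine (coprime_ordN q 3).dvd_of_dvd_mul_left (h.trans (dvd_of_eq ?_))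
    rw [ordL]; ring
  have g3 : Nat.gcd (ordN q) (q ^ 3 - 1) = 1 := by
    have p3 : 1 ≤ q ^ 3 := Nat.one_le_pow _ _ (by omega)
    have hd : Nat.gcd (ordN q) (q ^ 3 - 1) ∣ 2 := by
      have h2 : Nat.gcd (ordN q) (q ^ 3 - 1) ∣ q ^ 3 + 1 :=
        (Nat.gcd_dvd_left _ _).trans ⟨q + 1, by rw [mul_comm, ordN_mul]⟩
      have := Nat.dvd_sub h2 (Nat.gcd_dvd_right _ _)
      rwa [show q ^ 3 + 1 - (q ^ 3 - 1) = 2 by omega] at this
    rcases (Nat.dvd_prime Nat.prime_two).1 hd with e | e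
    · exact e
    · exact absurd (even_iff_two_dvd.2 (e ▸ Nat.gcd_dvd_left _ _)) (Nat.not_even_iff_odd.2 (odd_ordN q))
  have h2 : ordN q ∣ 3 * (q ^ 2 - 1) := by
    rw [mul_left_comm] at h1
    exact (Nat.coprime_iff_gcd_eq_one.2 g3).dvd_of_dvd_mul_left h1
  have := ordN_ge hq
  have := Nat.le_of_dvd (by norm_num) (dvd_nine h2 (Nat.gcd_dvd_right _ 3) (ordN_gcd_three q))
  omega

theorem field_sub_odd {t r : ℕ} (ht : 2 ≤ t) (hr : r.Prime) (hodd : Odd r)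
    (h : ordN (t ^ r) ∣ 3 * ordL (t ^ 2)) : False := by
  set N := ordN (t ^ r) with hN
  have h1 : N ∣ 3 * ((t ^ 6 - 1) * (t ^ 4 - 1)) := by
    have hc : Nat.Coprime N ((t ^ 2) ^ 3) :=
      Nat.Coprime.coprime_dvd_right (by rw [← pow_mul, ← pow_mul]; exact pow_dvd_pow t (by
        have := hr.two_le; nlinarith)) (coprime_ordN (t ^ r) 6)
    refine hc.dvd_of_dvd_mul_left (h.trans (dvd_of_eq ?_))
    rw [ordL]; ring
  have hNd : N ∣ t ^ (3 * r) + 1 := ⟨t ^ r + 1, by rw [mul_comm N, ordN_mul, ← pow_mul, mul_comm]⟩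
  have hrodd : r % 2 = 1 := Nat.odd_iff.1 hodd
  have e6 : Nat.gcd (2 * (3 * r)) 6 = 6 := Nat.gcd_eq_right ⟨r, by ring⟩
  have e4 : Nat.gcd (2 * (3 * r)) 4 = 2 := by
    rw [show 4 = 2 * 2 from rfl, Nat.gcd_mul_left,
      (Nat.coprime_two_right.2 ((by decide : Odd 3).mul hodd) : Nat.Coprime (3 * r) 2)]
  have g4 : Nat.gcd N (t ^ 4 - 1) ∣ t ^ 2 - 1 :=
    (Nat.gcd_dvd_gcd_of_dvd_left _ hNd).trans (gcd_pow_succ_dvd e4)
  by_cases h3 : r = 3
  · subst h3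
    -- `t³ + 1` and `t³ - 1` are congruent to units or to three
    have g6 : Nat.gcd N (t ^ 6 - 1) ∣ 3 := by
      rw [show t ^ 6 = (t ^ 3) ^ 2 by ring]
      exact ordN_gcd_three _
    have g4' : Nat.gcd N (t ^ 4 - 1) ∣ 3 :=
      (Nat.dvd_gcd (Nat.gcd_dvd_left _ _) (g4.trans (by
        rw [show t ^ 6 - 1 = (t ^ 2) ^ 3 - 1 ^ 3 by rw [← pow_mul, one_pow]]
        exact Nat.sub_dvd_pow_sub_pow _ _ 3))).trans g6
    have hd : N ∣ 27 :=
      ((Nat.dvd_gcd dvd_rfl h1).trans (Nat.gcd_mul_right_dvd_mul_gcd _ _ _)).trans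
        ((mul_dvd_mul (Nat.gcd_dvd_right _ 3)
          ((Nat.gcd_mul_right_dvd_mul_gcd _ _ _).trans (mul_dvd_mul g6 g4'))).trans (by norm_num))
    have h8 : 8 ≤ t ^ 3 := Nat.pow_le_pow_left ht 3
    have := Nat.le_of_dvd (by norm_num) hd
    have h9 : 8 * t ^ 3 ≤ (t ^ 3) ^ 2 := by rw [sq]; exact Nat.mul_le_mul_right _ h8
    simp only [hN, ordN] at this
    omega
  · have h5 : 5 ≤ r := by
      by_contra hlt
      have := hr.two_le
      interval_cases r <;> first | omega | exact h3 rfl | exact absurd hr (by norm_num)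
    have g6 : Nat.gcd N (t ^ 6 - 1) ∣ t ^ 6 - 1 := Nat.gcd_dvd_right _ _
    have g6' : Nat.gcd N (t ^ 6 - 1) ∣ t ^ 3 + 1 := by
      obtain ⟨k, hk⟩ := hodd
      have hc : Nat.Coprime (Nat.gcd N (t ^ 6 - 1)) (t ^ 3 - 1) := by
        have p3 : 1 ≤ t ^ 3 := Nat.one_le_pow _ _ (by omega)
        have hd : Nat.gcd (Nat.gcd N (t ^ 6 - 1)) (t ^ 3 - 1) ∣ 2 := by
          have a1 : Nat.gcd (Nat.gcd N (t ^ 6 - 1)) (t ^ 3 - 1) ∣ t ^ (3 * r) + 1 :=
            ((Nat.gcd_dvd_left _ _).trans (Nat.gcd_dvd_left _ _)).trans hNd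
          have a2 : Nat.gcd (Nat.gcd N (t ^ 6 - 1)) (t ^ 3 - 1) ∣ t ^ (3 * r) - 1 :=
            (Nat.gcd_dvd_right _ _).trans (Nat.pow_sub_one_dvd_pow_sub_one t (dvd_mul_right 3 r))
          have := Nat.dvd_sub a1 a2
          have p : 1 ≤ t ^ (3 * r) := Nat.one_le_pow _ _ (by omega)
          rwa [show t ^ (3 * r) + 1 - (t ^ (3 * r) - 1) = 2 by omega] at this
        rw [Nat.coprime_iff_gcd_eq_one]
        rcases (Nat.dvd_prime Nat.prime_two).1 hd with e | e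
        · exact e
        · exact absurd (even_iff_two_dvd.2 (e ▸ (Nat.gcd_dvd_left _ _).trans (Nat.gcd_dvd_left _ _)))
            (Nat.not_even_iff_odd.2 (odd_ordN _))
      refine hc.dvd_of_dvd_mul_right (g6.trans (dvd_of_eq ?_))
      rw [show 6 = 3 + 3 from rfl, pow_add, ← Nat.mul_self_sub_mul_self_eq, mul_one]
    have hd : N ∣ 3 * ((t ^ 3 + 1) * (t ^ 2 - 1)) :=
      ((Nat.dvd_gcd dvd_rfl h1).trans (Nat.gcd_mul_right_dvd_mul_gcd _ _ _)).trans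
        (mul_dvd_mul (Nat.gcd_dvd_right _ 3)
          ((Nat.gcd_mul_right_dvd_mul_gcd _ _ _).trans (mul_dvd_mul g6' g4)))
    have p2 : 4 ≤ t ^ 2 := Nat.pow_le_pow_left ht 2
    have hle := Nat.le_of_dvd (Nat.mul_pos three_pos (Nat.mul_pos (by omega) (by omega))) hd
    have p5 : t ^ 5 ≤ t ^ r := Nat.pow_le_pow_right (by omega) h5
    have hlow : (t ^ r) * (t ^ r - 1) ≤ N := by
      simp only [hN, ordN, Nat.mul_sub_one, ← sq]
      omega
    have hup : (t ^ 3 + 1) * (t ^ 2 - 1) ≤ 2 * t ^ 5 := by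
      refine (Nat.mul_le_mul (show t ^ 3 + 1 ≤ 2 * t ^ 3 by have := Nat.one_le_pow 3 t (by omega); omega)
        (Nat.sub_le _ 1)).trans (le_of_eq (by ring))
    have p32 : 32 ≤ t ^ 5 := Nat.pow_le_pow_left ht 5
    have : t ^ r * 31 ≤ t ^ r * (t ^ r - 1) := Nat.mul_le_mul_left _ (by omega)
    omega

end Cfsg.Lib.Linear.Mitchell.SU3
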