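import Cfsg.Agent.Lib.Linear.Mitchell.SU3Common

/-!
# Monomial elements of `SU₃(q)` in an orthonormal basis

The columns of `U ∈ GU₃(q)` form an orthonormal basis.  A group with the monomial elements whose
entries lie in a subfield has an absolutely irreducible derived group and a commutator whose trace is
not self-conjugate, so it lies in no orthogonal group and in no subfield group of index two.
-/

set_option autoImplicit false
set_option linter.unusedSectionVars false

namespace Cfsg.Lib.Linear.Mitchell.SU3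

open Cfsg.Geo Cfsg.Lib.Linear Cfsg.Lib.Linear.Mitchell.Max
open scoped Matrix MatrixGroups commutatorElement

variable {F : Type*} [Field F]

/-- The matrix sending the `j`-th basis vector to `ε j` times the `π j`-th. -/
def monoMat (π : Equiv.Perm (Fin 3)) (ε : Fin 3 → F) : Matrix (Fin 3) (Fin 3) F :=
  Matrix.of fun i j => if i = π j then ε j else 0

theorem monoMat_mul (π ρ : Equiv.Perm (Fin 3)) (ε δ : Fin 3 → F) :
    monoMat π ε * monoMat ρ δ = monoMat (π * ρ) (fun j => δ j * ε (ρ j)) := by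
  ext i j
  rw [Matrix.mul_apply, Finset.sum_eq_single (ρ j)
    (fun k _ hk => by simp [monoMat, hk]) (by simp)]
  by_cases h : i = π (ρ j) <;> simp [monoMat, h, mul_comm]

theorem monoMat_one : monoMat (1 : Equiv.Perm (Fin 3)) (fun _ => (1 : F)) = 1 := by
  ext i j
  by_cases h : i = j <;> simp [monoMat, Matrix.one_apply, h]

theorem monoMat_mulVec (π : Equiv.Perm (Fin 3)) (ε : Fin 3 → F) (v : Fin 3 → F) (j : Fin 3) :
    (monoMat π ε *ᵥ v) (π j) = ε j * v j := by
  rw [Matrix.mulVec, dotProduct, Finset.sum_eq_single j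
    (fun k _ hk => by simp [monoMat, Ne.symm hk]) (by simp)]
  simp [monoMat]

theorem det_monoMat (π : Equiv.Perm (Fin 3)) (ε : Fin 3 → F) :
    (monoMat π ε).det = ((Equiv.Perm.sign π : ℤ) : F) * ∏ i, ε i := by
  have h : monoMat π ε = Equiv.Perm.permMatrix F π.symm * Matrix.diagonal ε := by
    ext i j
    rw [Matrix.mul_diagonal, Equiv.Perm.permMatrix, PEquiv.toMatrix_apply]
    simp only [monoMat, Matrix.of_apply, Equiv.toPEquiv_apply, Option.mem_some_iff]
    by_cases h : i = π j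
    · subst h; simp
    · rw [if_neg h, if_neg (fun e => h (by rw [← e, Equiv.apply_symm_apply]))]; ring
  rw [h, Matrix.det_mul, Matrix.det_diagonal, Matrix.det_permutation, Equiv.Perm.sign_symm]

/-- Monomial invertible matrices. -/
def monoGL (π : Equiv.Perm (Fin 3)) (ε : Fin 3 → Fˣ) : GL (Fin 3) F where
  val := monoMat π fun j => (ε j : F)
  inv := monoMat π⁻¹ fun j => ((ε (π⁻¹ j))⁻¹ : Fˣ)
  val_inv := by
    rw [monoMat_mul, mul_inv_cancel, ← monoMat_one]
    congr 1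
    funext j
    simp
  inv_val := by
    rw [monoMat_mul, inv_mul_cancel, ← monoMat_one]
    congr 1
    funext j
    simp

theorem monoGL_mul (π ρ : Equiv.Perm (Fin 3)) (ε δ : Fin 3 → Fˣ) :
    monoGL π ε * monoGL ρ δ = monoGL (π * ρ) (fun j => δ j * ε (ρ j)) := by
  refine Units.ext ?_
  show monoMat _ _ * monoMat _ _ = monoMat _ _
  rw [monoMat_mul]
  congr 1

theorem monoGL_inj {π ρ : Equiv.Perm (Fin 3)} {ε δ : Fin 3 → Fˣ} (h : monoGL π ε = monoGL ρ δ) :
    π = ρ ∧ ε = δ := by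
  have key : ∀ j, π j = ρ j ∧ ε j = δ j := fun j => by
    have h1 := congrArg (fun g : GL (Fin 3) F => g.val (π j) j) h
    simp only [monoGL, monoMat, Matrix.of_apply, if_true] at h1
    split_ifs at h1 with h2
    · exact ⟨h2, Units.ext h1⟩
    · exact absurd h1 (ε j).ne_zero
  exact ⟨Equiv.ext fun j => (key j).1, funext fun j => (key j).2⟩

/-- The monomial element in the basis given by the columns of `U`. -/
def frm (U : GL (Fin 3) F) (π : Equiv.Perm (Fin 3)) (ε : Fin 3 → Fˣ) : GL (Fin 3) F :=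
  U * monoGL π ε * U⁻¹

theorem frm_mul (U : GL (Fin 3) F) (π ρ : Equiv.Perm (Fin 3)) (ε δ : Fin 3 → Fˣ) :
    frm U π ε * frm U ρ δ = frm U (π * ρ) (fun j => δ j * ε (ρ j)) := by
  rw [frm, frm, frm, ← monoGL_mul]
  group

theorem frm_one (U : GL (Fin 3) F) : frm U 1 (fun _ => 1) = 1 := by
  have h : monoGL (1 : Equiv.Perm (Fin 3)) (fun _ => (1 : Fˣ)) = 1 := Units.ext (by
    show monoMat _ _ = 1
    simp [monoMat_one])
  rw [frm, h, mul_one, mul_inv_cancel]

theorem frm_mulVec (U : GL (Fin 3) F) (π : Equiv.Perm (Fin 3)) (ε : Fin 3 → Fˣ) (j : Fin 3) :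
    (frm U π ε).val *ᵥ (U.val *ᵥ Pi.single j 1) = (ε j : F) • (U.val *ᵥ Pi.single (π j) 1) := by
  rw [frm, Asch.mul_mulVec, Asch.mul_mulVec, Asch.inv_mulVec_mulVec, ← Matrix.mulVec_smul]
  congr 1
  ext i
  obtain ⟨k, rfl⟩ := π.surjective i
  show (monoMat π _ *ᵥ _) (π k) = _
  rw [monoMat_mulVec, Pi.smul_apply, smul_eq_mul]
  rcases eq_or_ne k j with rfl | h
  · simp
  · simp [h]

theorem trace_frm_one (U : GL (Fin 3) F) (ε : Fin 3 → Fˣ) :
    (frm U 1 ε).val.trace = (ε 0 : F) + ε 1 + ε 2 := by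
  rw [frm, Units.val_mul, Units.val_mul, Matrix.trace_units_conj, Matrix.trace_fin_three]
  simp [monoGL, monoMat]

theorem det_frm (U : GL (Fin 3) F) (π : Equiv.Perm (Fin 3)) (ε : Fin 3 → Fˣ) :
    (frm U π ε).val.det = ((Equiv.Perm.sign π : ℤ) : F) * (ε 0 * ε 1 * ε 2 : F) := by
  rw [frm, Units.val_mul, Units.val_mul, Matrix.det_units_conj]
  show (monoMat π _).det = _
  rw [det_monoMat, Fin.prod_univ_three]

/-- The condition for a monomial element to lie in `SU₃` with entries in a subfield. -/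
structure Good (q : ℕ) (K : Subfield F) (π : Equiv.Perm (Fin 3)) (ε : Fin 3 → Fˣ) : Prop where
  norm : ∀ i, (ε i : F) ^ (q + 1) = 1
  mem : ∀ i, (ε i : F) ∈ K
  det : ((Equiv.Perm.sign π : ℤ) : F) * (ε 0 * ε 1 * ε 2 : F) = 1

variable [Fintype F] {q : ℕ} (hF : Fintype.card F = q ^ 2)

include hF in
theorem frm_mem {U : GL (Fin 3) F} (hU : U ∈ Cfsg.GU 3 F q) {K : Subfield F}
    {π : Equiv.Perm (Fin 3)} {ε : Fin 3 → Fˣ} (h : Good q K π ε) :
    frm U π ε ∈ Asch.sunit 3 F q := by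
  refine ⟨Subgroup.mul_mem _ (Subgroup.mul_mem _ hU ?_) (Subgroup.inv_mem _ hU), MonoidHom.mem_ker.2 (Units.ext ?_)⟩
  · intro u v
    show Cfsg.hermForm 3 F q (monoMat π _ *ᵥ u) (monoMat π _ *ᵥ v) = Cfsg.hermForm 3 F q u v
    rw [Cfsg.hermForm, Cfsg.hermForm, ← Equiv.sum_comp π]
    refine Finset.sum_congr rfl fun j _ => ?_
    rw [monoMat_mulVec, monoMat_mulVec, mul_pow]
    have := h.norm j
    rw [pow_succ'] at this
    linear_combination (u j * v j ^ q) * this
  · rw [Matrix.GeneralLinearGroup.val_det_apply, det_frm, h.det, Units.val_one]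

/-- A group with all good monomial elements. -/
def Full (U : GL (Fin 3) F) (q : ℕ) (K : Subfield F) (M : Subgroup (GL (Fin 3) F)) : Prop :=
  ∀ π ε, Good q K π ε → frm U π ε ∈ M

theorem Full.mono {U : GL (Fin 3) F} {K : Subfield F} {M N : Subgroup (GL (Fin 3) F)}
    (h : Full U q K M) (hMN : M ≤ N) : Full U q K N :=
  fun π ε hg => hMN (h π ε hg)

theorem comm_eq {G : Type*} [Group G] {a b c : G} (h : a * b = c * (b * a)) : ⁅a, b⁆ = c := by
  rw [commutatorElement_def, h]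
  group

theorem cycle_orbit : ∀ γ : Equiv.Perm (Fin 3), (∀ i, γ i ≠ i) →
    ∀ i j, j = i ∨ j = γ i ∨ j = γ (γ i) := by decide

theorem coord_diag (U : GL (Fin 3) F) (lam : Fin 3 → Fˣ) (v : Fin 3 → F) (l : Fin 3) :
    (U⁻¹.val *ᵥ ((frm U 1 lam).val *ᵥ v)) l = (lam l : F) * (U⁻¹.val *ᵥ v) l := by
  rw [frm, Asch.mul_mulVec, Asch.mul_mulVec, Asch.inv_mulVec_mulVec]
  exact monoMat_mulVec 1 _ _ l

/-- A diagonal element with distinct entries and a three-cycle generate an absolutely irreducible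
group. -/
theorem absIrr_of_diag_cycle {G : Subgroup (GL (Fin 3) F)} {U : GL (Fin 3) F} {lam : Fin 3 → Fˣ}
    (hlam : Function.Injective lam) (hd : frm U 1 lam ∈ G) {γ : Equiv.Perm (Fin 3)} {ε : Fin 3 → Fˣ}
    (hγ : ∀ i, γ i ≠ i) (hc : frm U γ ε ∈ G) : ActsAbsolutelyIrreducibly (matrixSet G) := by
  classical
  set b : Fin 3 → (Fin 3 → F) := fun i => U.val *ᵥ Pi.single i 1 with hb
  have hexp : ∀ v, v = ∑ i, (U⁻¹.val *ᵥ v) i • b i := fun v => by
    simp only [hb, ← Matrix.mulVec_smul, ← Matrix.mulVec_sum, ← Pi.single_smul', smul_eq_mul, mul_one,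
      Finset.univ_sum_single, Asch.mulVec_inv_mulVec]
  have hdb : ∀ i, (frm U 1 lam).val *ᵥ b i = (lam i : F) • b i := fun i => frm_mulVec U 1 lam i
  have hspread : ∀ (W : Submodule F (Fin 3 → F)), (∀ w ∈ W, (frm U γ ε).val *ᵥ w ∈ W) →
      ∀ i, b i ∈ W → ∀ j, b j ∈ W := by
    intro W hW i hi j
    have step : ∀ k, b k ∈ W → b (γ k) ∈ W := fun k hk => by
      have h := hW _ hk
      rw [hb, frm_mulVec] at h
      exact (Submodule.smul_mem_iff W (ε k).ne_zero).1 h
    rcases cycle_orbit γ hγ i j with rfl | rfl | rfl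
    · exact hi
    · exact step i hi
    · exact step _ (step i hi)
  refine ⟨Asch.irr_iff.2 fun W hW => or_iff_not_imp_left.2 fun hne => ?_, fun X hX => ?_⟩
  · obtain ⟨w, hw, hw0⟩ := Submodule.exists_mem_ne_zero_of_ne_bot hne
    set co := U⁻¹.val *ᵥ w with hco
    obtain ⟨i, hi⟩ : ∃ i, co i ≠ 0 := by
      by_contra h
      push Not at h
      exact hw0 (by rw [hexp w, ← hco]; exact Finset.sum_eq_zero fun i _ => by rw [h, zero_smul])
    obtain ⟨j, k, hij, hik, hjk⟩ := (show ∀ i : Fin 3, ∃ j k, i ≠ j ∧ i ≠ k ∧ j ≠ k by decide) i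
    set D := (frm U 1 lam).val
    have hmem : D *ᵥ (D *ᵥ w) - ((lam j : F) + lam k) • (D *ᵥ w) + ((lam j : F) * lam k) • w ∈ W :=
      W.add_mem (W.sub_mem (hW _ hd _ (hW _ hd _ hw)) (W.smul_mem _ (hW _ hd _ hw))) (W.smul_mem _ hw)
    have hcoord : ∀ l, (U⁻¹.val *ᵥ
        (D *ᵥ (D *ᵥ w) - ((lam j : F) + lam k) • (D *ᵥ w) + ((lam j : F) * lam k) • w)) l =
        ((lam l : F) - lam j) * ((lam l : F) - lam k) * co l := fun l => by
      simp only [Matrix.mulVec_add, Matrix.mulVec_sub, Matrix.mulVec_smul, Pi.add_apply, Pi.sub_apply,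
        Pi.smul_apply, smul_eq_mul, D, coord_diag, ← hco]
      ring
    rw [hexp (D *ᵥ _ - _ + _), Finset.sum_eq_single i (fun l _ hl => by
      rw [hcoord]
      rcases (show ∀ a b c d : Fin 3, a ≠ b → a ≠ c → b ≠ c → d ≠ a → d = b ∨ d = c by decide)
        i j k l hij hik hjk hl with rfl | rfl <;> simp) (by simp), hcoord] at hmem
    have hbi : b i ∈ W := (Submodule.smul_mem_iff W (mul_ne_zero (mul_ne_zero
      (sub_ne_zero.2 fun e => hij (hlam (Units.ext e)))
      (sub_ne_zero.2 fun e => hik (hlam (Units.ext e)))) hi)).1 hmem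
    refine eq_top_iff.2 fun v _ => ?_
    rw [hexp v]
    exact Submodule.sum_mem _ fun l _ => W.smul_mem _ (hspread W (fun u hu => hW _ hc _ hu) i hbi l)
  · set co : Fin 3 → Fin 3 → F := fun i l => (U⁻¹.val *ᵥ (X *ᵥ b i)) l
    have hdiag : ∀ i, X *ᵥ b i = co i i • b i := fun i => by
      conv_lhs => rw [hexp (X *ᵥ b i)]
      refine Finset.sum_eq_single i (fun l _ hl => ?_) (by simp)
      have h1 : (U⁻¹.val *ᵥ ((frm U 1 lam).val *ᵥ (X *ᵥ b i))) l =
          (lam i : F) * (U⁻¹.val *ᵥ (X *ᵥ b i)) l := by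
        rw [Matrix.mulVec_mulVec _ (frm U 1 lam).val X, ← hX _ (Asch.mem_matrixSet hd), ← Matrix.mulVec_mulVec,
          hdb, Matrix.mulVec_smul, Matrix.mulVec_smul, Pi.smul_apply, smul_eq_mul]
      rw [coord_diag] at h1
      have h2 : ((lam l : F) - lam i) * (U⁻¹.val *ᵥ (X *ᵥ b i)) l = 0 := by linear_combination h1
      rw [(mul_eq_zero.1 h2).resolve_left (sub_ne_zero.2 fun e => hl (hlam (Units.ext e))), zero_smul]
    have heq : ∀ i, co (γ i) (γ i) = co i i := fun i => by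
      have h1 : (frm U γ ε).val *ᵥ (X *ᵥ b i) = X *ᵥ ((frm U γ ε).val *ᵥ b i) := by
        have h := congrArg (fun Z => Z *ᵥ b i) (hX _ (Asch.mem_matrixSet hc))
        simp only [← Matrix.mulVec_mulVec] at h
        exact h.symm
      rw [hdiag, Matrix.mulVec_smul, hb, frm_mulVec, Matrix.mulVec_smul] at h1
      have h2 : X *ᵥ (U.val *ᵥ Pi.single (γ i) 1) = co (γ i) (γ i) • (U.val *ᵥ Pi.single (γ i) 1) := hdiag (γ i)
      rw [h2, smul_smul, smul_smul, mul_comm (ε i : F)] at h1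
      exact (mul_right_cancel₀ (ε i).ne_zero (smul_left_injective F
        (Asch.move_ne_zero U (by simp)) h1)).symm
    refine ⟨co 0 0, Matrix.ext_iff_mulVec.2 fun v => ?_⟩
    have hall : ∀ l, co l l = co 0 0 := fun l => by
      rcases cycle_orbit γ hγ 0 l with rfl | rfl | rfl
      · rfl
      · exact heq 0
      · rw [heq, heq]
    conv_lhs => rw [hexp v]
    rw [Matrix.smul_mulVec, Matrix.one_mulVec]
    simp only [Matrix.mulVec_sum, Matrix.mulVec_smul, hdiag, hall]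
    conv_rhs => rw [hexp v, Finset.smul_sum]
    exact Finset.sum_congr rfl fun l _ => smul_comm _ _ _

section

variable {U : GL (Fin 3) F} {K : Subfield F} {M : Subgroup (GL (Fin 3) F)}

theorem sign_swap_cast {i j : Fin 3} (h : i ≠ j) :
    ((Equiv.Perm.sign (Equiv.swap i j) : ℤ) : F) = -1 := by
  rw [Equiv.Perm.sign_swap h]
  simp

theorem pow_neg_one (hF : Fintype.card F = q ^ 2) : (-1 : F) ^ (q + 1) = 1 := by
  rw [pow_succ, ← Herm.frob_apply hF, map_neg, map_one]
  ring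

/-- The diagonal element given by two entries. -/
theorem good_diag {u : Fin 3 → Fˣ} (hu : ∀ i, (u i : F) ^ (q + 1) = 1) (hK : ∀ i, (u i : F) ∈ K)
    (h1 : u 0 * u 1 * u 2 = 1) : Good q K 1 u :=
  ⟨hu, hK, by rw [map_one, Units.val_one, Int.cast_one, one_mul, ← Units.val_mul, ← Units.val_mul, h1,
    Units.val_one]⟩

include hF in
/-- The signed transpositions. -/
theorem good_swap {i j : Fin 3} (h : i ≠ j) {ε : Fin 3 → Fˣ} (hε : ∀ l, ε l = 1 ∨ ε l = -1)
    (h1 : ε 0 * ε 1 * ε 2 = -1) : Good q K (Equiv.swap i j) ε := by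
  refine ⟨fun l => ?_, fun l => ?_, ?_⟩
  · rcases hε l with e | e <;> simp [e, pow_neg_one hF]
  · rcases hε l with e | e <;> simp [e, K.one_mem, K.neg_mem]
  · rw [sign_swap_cast h, ← Units.val_mul, ← Units.val_mul, h1]
    simp

include hF in
/-- The derived group is absolutely irreducible. -/
theorem Full.absIrr (hM : Full U q K M) {v : Fˣ} (hv : (v : F) ^ (q + 1) = 1) (hvK : (v : F) ∈ K)
    (hv2 : v ^ 2 ≠ 1) : ActsAbsolutelyIrreducibly (matrixSet ⁅M, M⁆) := by
  have hv' : ((v⁻¹ : Fˣ) : F) ^ (q + 1) = 1 := by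
    rw [Units.val_inv_eq_inv_val, inv_pow, hv, inv_one]
  have hvK' : ((v⁻¹ : Fˣ) : F) ∈ K := by rw [Units.val_inv_eq_inv_val]; exact K.inv_mem hvK
  set t := frm U (Equiv.swap 0 1) ![1, 1, -1]
  set t' := frm U (Equiv.swap 1 2) ![-1, 1, 1]
  have ht : t ∈ M := hM _ _ (good_swap hF (by decide) (fun l => by fin_cases l <;> simp) (by simp))
  have ht' : t' ∈ M := hM _ _ (good_swap hF (by decide) (fun l => by fin_cases l <;> simp) (by simp))
  have hu : frm U 1 ![1, v, v⁻¹] ∈ M := hM _ _ (good_diag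
    (fun l => by fin_cases l <;> simp [hv, hv']) (fun l => by fin_cases l <;> simp [hvK, hvK'])
    (by simp))
  have hd : ⁅t, frm U 1 ![1, v, v⁻¹]⁆ = frm U 1 ![v, v⁻¹, 1] := comm_eq (by
    simp only [t, frm_mul]
    congr 1
    funext l
    fin_cases l <;> simp [Equiv.swap_apply_def])
  set γ : Equiv.Perm (Fin 3) := Equiv.swap 0 1 * Equiv.swap 1 2 * (Equiv.swap 0 1 * Equiv.swap 1 2)
  have hc : ⁅t, t'⁆ = frm U γ ![1, -1, -1] := comm_eq (by
    simp only [t, t', frm_mul]
    congr 1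
    · decide
    · funext l
      fin_cases l <;> simp [γ, Equiv.swap_apply_def])
  refine absIrr_of_diag_cycle (lam := ![v, v⁻¹, 1]) (U := U) ?_ (hd ▸ Subgroup.commutator_mem_commutator ht hu)
    (γ := γ) (by decide) (hc ▸ Subgroup.commutator_mem_commutator ht ht')
  have h1 : v ≠ 1 := fun e => hv2 (by simp [e])
  have h2 : v ≠ v⁻¹ := fun e => hv2 (by
    have := congrArg (· * v) e
    simpa [sq] using this)
  intro a b hab
  fin_cases a <;> fin_cases b <;> simp_all [eq_comm (a := (1 : Fˣ))]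

include hF in
/-- A commutator with trace not self-conjugate. -/
theorem Full.exists_trace (hM : Full U q K M) {v : Fˣ} (hv : (v : F) ^ (q + 1) = 1) (hvK : (v : F) ∈ K)
    (hv2 : v ^ 2 ≠ 1) : ∃ g ∈ ⁅M, M⁆, g.val.trace ^ q ≠ g.val.trace := by
  have hv' : ((v⁻¹ : Fˣ) : F) ^ (q + 1) = 1 := by
    rw [Units.val_inv_eq_inv_val, inv_pow, hv, inv_one]
  have hvK' : ((v⁻¹ : Fˣ) : F) ∈ K := by rw [Units.val_inv_eq_inv_val]; exact K.inv_mem hvK
  set π : Equiv.Perm (Fin 3) := Equiv.swap 0 1 * Equiv.swap 1 2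
  have hc : frm U π (fun _ => 1) ∈ M := hM _ _ ⟨fun l => by simp, fun l => by simp [K.one_mem],
    by simp [π, Equiv.Perm.sign_mul, Equiv.Perm.sign_swap]⟩
  have hu : frm U 1 ![v, v⁻¹, 1] ∈ M := hM _ _ (good_diag
    (fun l => by fin_cases l <;> simp [hv, hv']) (fun l => by fin_cases l <;> simp [hvK, hvK'])
    (by simp))
  have he : ⁅frm U π (fun _ => 1), frm U 1 ![v, v⁻¹, 1]⁆ = frm U 1 ![v⁻¹, v ^ 2, v⁻¹] := comm_eq (by
    simp only [frm_mul]
    congr 1
    funext l
    fin_cases l <;> simp [π, Equiv.swap_apply_def, sq, mul_assoc])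
  refine ⟨_, Subgroup.commutator_mem_commutator hc hu, fun htr => ?_⟩
  rw [he, trace_frm_one] at htr
  have hσ : (v : F) ^ q = (v : F)⁻¹ := eq_inv_of_mul_eq_one_left (by rwa [← pow_succ])
  simp only [Matrix.cons_val_zero, Matrix.cons_val_one, Matrix.cons_val, Units.val_inv_eq_inv_val,
    Units.val_pow_eq_pow_val, ← Herm.frob_apply hF, map_add, map_inv₀, map_pow] at htr
  rw [Herm.frob_apply hF, hσ] at htr
  field_simp at htr
  have h0 : ((v : F) - 1) ^ 3 * ((v : F) + 1) = 0 := by linear_combination -htr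
  rcases mul_eq_zero.1 h0 with h | h
  · exact hv2 (Units.ext (by simp [sub_eq_zero.1 (pow_eq_zero_iff (by norm_num) |>.1 h)]))
  · exact hv2 (Units.ext (by simp [eq_neg_of_add_eq_zero_left h]))

include hF in
/-- No orthogonal overgroup. -/
theorem Full.not_quad (hM : Full U q K M) {v : Fˣ} (hv : (v : F) ^ (q + 1) = 1) (hvK : (v : F) ∈ K)
    (hv2 : v ^ 2 ≠ 1) (h2 : (2 : F) ≠ 0) (hMS : M ≤ Asch.sunit 3 F q) {Q : (Fin 3 → F) → F}
    (hQ : IsNondegenerateQuadraticForm Q) : ¬ M ≤ quadSimilarityGroup Q := fun hle => by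
  obtain ⟨g, hg, hne⟩ := hM.exists_trace hF hv hvK hv2
  exact hne (trace_quad hF h2 hMS hQ hle hg)

include hF in
/-- The index of a subfield group containing the group is odd. -/
theorem Full.index_odd (hM : Full U q K M) {v : Fˣ} (hv : (v : F) ^ (q + 1) = 1) (hvK : (v : F) ∈ K)
    (hv2 : v ^ 2 ≠ 1) {F₁ : Subfield F} {r : ℕ} {B : GL (Fin 3) F} (hr : r.Prime)
    (hcard : Fintype.card F = Nat.card F₁ ^ r) (hle : M ≤ subfieldSubgroup F₁ B) : Odd r := by
  rcases hr.eq_two_or_odd' with rfl | h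
  · obtain ⟨g, hg, hne⟩ := hM.exists_trace hF hv hvK hv2
    exact absurd (self_conj_of_index_two hF hcard (trace_subfield hle hg)) hne
  · exact h

end

end Cfsg.Lib.Linear.Mitchell.SU3
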