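import Cfsg.Agent.Lib.Linear.Mitchell.SU3Frame
import Cfsg.Agent.Lib.Linear.Mitchell.SU3Arith
import Cfsg.Agent.Lib.Linear.Mitchell.MaxSL3MonoField

/-!
# The stabilisers of orthogonal frames are maximal in `SU₃(q)`, `q ≠ 5`
-/

set_option autoImplicit false
set_option linter.unusedSectionVars false

namespace Cfsg.Lib.Linear.Mitchell.SU3

open Cfsg.Geo Cfsg.Lib.Linear MaxArith Cfsg.Lib.Linear.Mitchell.Max
open scoped Matrix MatrixGroups commutatorElement

variable {F : Type*} [Field F] [Fintype F] {q : ℕ} (hF : Fintype.card F = q ^ 2)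

local notation "S₃" => Asch.sunit 3 F q

/-- The `i`-th column. -/
def col (U : GL (Fin 3) F) (i : Fin 3) : Fin 3 → F := U.val *ᵥ Pi.single i 1

theorem col_ne (U : GL (Fin 3) F) (i : Fin 3) : col U i ≠ 0 := Asch.move_ne_zero U (by simp)

theorem frm_col (U : GL (Fin 3) F) (π : Equiv.Perm (Fin 3)) (ε : Fin 3 → Fˣ) (j : Fin 3) :
    (frm U π ε).val *ᵥ col U j = (ε j : F) • col U (π j) := frm_mulVec U π ε j

include hF in
theorem herm_col {U : GL (Fin 3) F} (hU : U ∈ Cfsg.GU 3 F q) (i : Fin 3) :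
    Cfsg.hermForm 3 F q (col U i) (col U i) = 1 := by
  have h : Cfsg.hermForm 3 F q (col U i) (col U i) =
      Cfsg.hermForm 3 F q (Pi.single i 1) (Pi.single i 1) := hU _ _
  rw [h, Cfsg.hermForm, Finset.sum_eq_single i (fun k _ hk => by simp [hk]) (by simp), Pi.single_eq_same,
    one_pow, one_mul]

include hF in
/-- An orthogonal frame has an orthonormal basis. -/
theorem exists_orth_frame {D : Fin 3 → Submodule F (Fin 3 → F)}
    (hD : IsNondegenerateMDecomposition (Cfsg.hermForm 3 F q) 1 D) :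
    ∃ U : GL (Fin 3) F, U ∈ Cfsg.GU 3 F q ∧ ∀ i, D i = Submodule.span F {col U i} := by
  classical
  obtain ⟨b, hb⟩ := Asch.decomp_gen hD.decomp
  have hs := Asch.isSesq_of_unitary (Asch.herm_unitary (n := 3) hF)
  have hbD : ∀ i, b i ∈ D i := fun i => by rw [hb]; exact Submodule.mem_span_singleton_self _
  have hne : ∀ i, Cfsg.hermForm 3 F q (b i) (b i) ≠ 0 := fun i h0 => by
    obtain ⟨-, x, hx, hx'⟩ := hD.nondegenerate i (b i) (hbD i) (b.ne_zero i)
    obtain ⟨d, rfl⟩ := Submodule.mem_span_singleton.1 (hb i ▸ hx)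
    exact hx' (by rw [hs.smul_right, h0, mul_zero])
  have hfix : ∀ i, Cfsg.hermForm 3 F q (b i) (b i) ^ q = Cfsg.hermForm 3 F q (b i) (b i) := fun i => by
    rw [Herm.hermForm_self, Herm.q_cast_sum hF]
    exact Finset.sum_congr rfl fun k _ => Herm.norm_pow_q hF _
  choose x hx using fun i => Herm.exists_norm_eq hF (hne i) (hfix i)
  let v : Fin 3 → (Fin 3 → F) := fun i => ((x i)⁻¹ : Fˣ).val • b i
  let V : Matrix (Fin 3) (Fin 3) F := Matrix.of fun k i => v i k
  have hG : Vᵀ * V.map (Asch.sigmaE hF) = 1 := by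
    ext i j
    have e : (Vᵀ * V.map (Asch.sigmaE hF)) i j = Cfsg.hermForm 3 F q (v i) (v j) := by
      simp [V, Matrix.mul_apply, Cfsg.hermForm, Asch.sigmaE_apply]
    rw [e, hs.smul_left, hs.smul_right]
    rcases eq_or_ne i j with rfl | hij
    · rw [Matrix.one_apply_eq, Asch.sigmaE_apply, ← mul_assoc, ← pow_succ', Units.val_inv_eq_inv_val, inv_pow,
        hx, inv_mul_cancel₀ (hne i)]
    · rw [Matrix.one_apply_ne hij, hD.orthogonal i j hij _ (hbD i) _ (hbD j), mul_zero, mul_zero]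
  have hdet : V.det ≠ 0 := fun h => by
    have h1 := congrArg Matrix.det hG
    rw [Matrix.det_mul, Matrix.det_transpose, h, zero_mul, Matrix.det_one] at h1
    exact zero_ne_one h1
  let U := Matrix.GeneralLinearGroup.mkOfDetNeZero V hdet
  refine ⟨U, fun u w => ?_, fun i => ?_⟩
  · show Cfsg.hermForm 3 F q (V *ᵥ u) (V *ᵥ w) = Cfsg.hermForm 3 F q u w
    rw [Asch.sesq_act hs, Asch.gram_herm hF, Matrix.mul_one, hG, Asch.sesq_gram hs u w, Asch.gram_herm hF]
  · rw [hb i, show col U i = v i from by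
      show V *ᵥ Pi.single i 1 = _
      rw [Matrix.mulVec_single_one]; rfl]
    exact (Submodule.span_singleton_smul_eq (Units.isUnit _) _).symm

variable {U : GL (Fin 3) F} {D : Fin 3 → Submodule F (Fin 3 → F)}

include hF in
theorem full_stab (hU : U ∈ Cfsg.GU 3 F q) (hb : ∀ i, D i = Submodule.span F {col U i}) :
    Full U q ⊤ (decompositionStabilizer D ⊓ S₃) := by
  intro π ε h
  refine ⟨⟨π, fun i => ?_⟩, frm_mem hF hU h⟩
  rw [hb, hb, Submodule.map_span, Set.image_singleton, Matrix.toLin'_apply, frm_col,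
    Submodule.span_singleton_smul_eq (ε i).isUnit]

theorem det_cond {s a b e : Fˣ} (h : e = (s * a * b)⁻¹) : (s : F) * ((a : F) * b * e) = 1 := by
  subst h
  rw [← Units.val_mul, ← Units.val_mul, ← Units.val_mul, ← mul_assoc, ← mul_assoc, mul_inv_cancel,
    Units.val_one]

include hF in
/-- The order of the stabiliser of an orthogonal frame. -/
theorem card_stab (hU : U ∈ Cfsg.GU 3 F q) (hb : ∀ i, D i = Submodule.span F {col U i}) :
    Nat.card (decompositionStabilizer D ⊓ S₃ : Subgroup (GL (Fin 3) F)) = 6 * (q + 1) ^ 2 := by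
  classical
  set N := (powMonoidHom (q + 1) : Fˣ →* Fˣ).ker
  have hN : ∀ {a : Fˣ}, a ∈ N ↔ (a : F) ^ (q + 1) = 1 := fun {a} => by
    rw [MonoidHom.mem_ker, powMonoidHom_apply, ← Units.val_eq_one, Units.val_pow_eq_pow_val]
  let s : Equiv.Perm (Fin 3) → Fˣ := fun π => Units.map (Int.castRingHom F).toMonoidHom (Equiv.Perm.sign π)
  have hsN : ∀ π, s π ∈ N := fun π => by
    rw [hN]
    rcases Int.units_eq_one_or (Equiv.Perm.sign π) with e | e <;> simp [s, e, pow_neg_one hF]
  let E : Equiv.Perm (Fin 3) × N × N → (Fin 3 → Fˣ) := fun t => ![t.2.1, t.2.2, (s t.1 * t.2.1 * t.2.2)⁻¹]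
  have hgood : ∀ t, Good q (⊤ : Subfield F) t.1 (E t) := fun t => by
    refine ⟨fun i => ?_, fun i => trivial, det_cond (s := s t.1) (a := (t.2.1 : Fˣ)) (b := (t.2.2 : Fˣ)) (e := E t 2) rfl⟩
    have h := inv_mem (mul_mem (mul_mem (hsN t.1) t.2.1.2) t.2.2.2)
    fin_cases i
    · exact hN.1 t.2.1.2
    · exact hN.1 t.2.2.2
    · exact hN.1 h
  let φ : Equiv.Perm (Fin 3) × N × N → (decompositionStabilizer D ⊓ S₃ : Subgroup (GL (Fin 3) F)) :=
    fun t => ⟨frm U t.1 (E t), full_stab hF hU hb _ _ (hgood t)⟩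
  have hinj : Function.Injective φ := fun t u e => by
    have e' : frm U t.1 (E t) = frm U u.1 (E u) := congrArg Subtype.val e
    obtain ⟨h1, h2⟩ := monoGL_inj (mul_left_cancel (mul_right_cancel e'))
    exact Prod.ext h1 (Prod.ext (Subtype.ext (congrFun h2 0)) (Subtype.ext (congrFun h2 1)))
  have hsurj : Function.Surjective φ := by
    rintro ⟨g, ⟨π, hπ⟩, hgS⟩
    have hε : ∀ i, ∃ e : F, e • col U (π i) = g.val *ᵥ col U i := fun i => by
      refine Submodule.mem_span_singleton.1 ?_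
      rw [← hb, ← hπ]
      exact ⟨col U i, by rw [hb]; exact Submodule.mem_span_singleton_self _, Matrix.toLin'_apply _ _⟩
    choose e he using hε
    have hnorm : ∀ i, e i ^ (q + 1) = 1 := fun i => by
      have hs := Asch.isSesq_of_unitary (Asch.herm_unitary (n := 3) hF)
      have h : Cfsg.hermForm 3 F q (g.val *ᵥ col U i) (g.val *ᵥ col U i) = _ := hgS.1 _ _
      rw [← he, hs.smul_left, hs.smul_right, herm_col hF hU, herm_col hF hU, mul_one, Asch.sigmaE_apply,
        ← pow_succ'] at h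
      exact h
    have he0 : ∀ i, e i ≠ 0 := fun i h => by have := hnorm i; rw [h] at this; simp at this
    let ε : Fin 3 → Fˣ := fun i => Units.mk0 (e i) (he0 i)
    have hg : g = frm U π ε := by
      have h : g * U = frm U π ε * U := Units.ext (Matrix.ext fun a i => by
        have h1 := he i
        rw [show e i = (ε i : F) from rfl, ← frm_col] at h1
        simp only [col, Matrix.mulVec_mulVec, ← Units.val_mul, Matrix.mulVec_single_one] at h1
        exact (congrFun h1 a).symm)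
      exact mul_right_cancel h
    have hd : s π * ε 0 * ε 1 * ε 2 = 1 := by
      refine Units.ext ?_
      have h1 : g.val.det = 1 := congrArg Units.val (MonoidHom.mem_ker.1 hgS.2)
      rw [hg, det_frm, ← mul_assoc, ← mul_assoc] at h1
      exact h1
    refine ⟨(π, ⟨ε 0, hN.2 (hnorm 0)⟩, ⟨ε 1, hN.2 (hnorm 1)⟩), Subtype.ext ?_⟩
    show frm U π _ = g
    rw [hg]
    congr 1
    funext i
    fin_cases i
    · rfl
    · rfl
    · exact inv_eq_of_mul_eq_one_right hd
  rw [← Nat.card_eq_of_bijective φ ⟨hinj, hsurj⟩, Nat.card_prod, Nat.card_prod, Nat.card_perm,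
    Herm.card_norm_one hF, Nat.card_eq_fintype_card, Fintype.card_fin]
  simp [Nat.factorial]
  ring

include hF in
theorem exists_norm_one (hq : 3 ≤ q) (hq5 : q ≠ 5) : ∃ v : Fˣ, (v : F) ^ (q + 1) = 1 ∧ v ^ 6 ≠ 1 ∧ v ^ 2 ≠ 1 := by
  obtain ⟨⟨v, hv⟩, hord⟩ := IsCyclic.exists_ofOrder_eq_natCard (α := (powMonoidHom (q + 1) : Fˣ →* Fˣ).ker)
  rw [Herm.card_norm_one hF, Subgroup.orderOf_mk] at hord
  rw [MonoidHom.mem_ker, powMonoidHom_apply] at hv
  refine ⟨v, by rw [← Units.val_pow_eq_pow_val, hv, Units.val_one], fun h => ?_, fun h => ?_⟩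
  · have h1 := orderOf_dvd_of_pow_eq_one h
    rw [hord] at h1
    have := Nat.le_of_dvd (by norm_num) h1
    obtain h5 : q ≤ 5 := by omega
    interval_cases q <;> norm_num at *
  · have h1 := orderOf_dvd_of_pow_eq_one h
    rw [hord] at h1
    have := Nat.le_of_dvd (by norm_num) h1
    omega

theorem diag_two (U : GL (Fin 3) F) {w : Fˣ} (hw : w ≠ 1) {u : Fin 3 → F} (hu : u ≠ 0) {l m : F}
    (h1 : (frm U 1 ![w, w⁻¹, 1]).val *ᵥ u = l • u) (h2 : (frm U 1 ![1, w, w⁻¹]).val *ᵥ u = m • u) :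
    ∃ i, ∃ d : F, u = d • col U i := by
  classical
  set co := U⁻¹.val *ᵥ u with hco
  have e1 : ∀ j, ((![w, w⁻¹, 1] j : Fˣ) : F) * co j = l * co j := fun j => by
    have := congrArg (fun t => (U⁻¹.val *ᵥ t) j) h1
    simp only [coord_diag, Matrix.mulVec_smul, Pi.smul_apply, smul_eq_mul] at this
    exact this
  have e2 : ∀ j, ((![1, w, w⁻¹] j : Fˣ) : F) * co j = m * co j := fun j => by
    have := congrArg (fun t => (U⁻¹.val *ᵥ t) j) h2
    simp only [coord_diag, Matrix.mulVec_smul, Pi.smul_apply, smul_eq_mul] at this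
    exact this
  have hw' : (w : F) ≠ 1 := fun e => hw (Units.ext e)
  have hsep : ∀ i j, i ≠ j → co i ≠ 0 → co j = 0 := by
    intro i j hij hi
    by_contra hj
    have a := (mul_right_cancel₀ hi (e1 i)).trans (mul_right_cancel₀ hj (e1 j)).symm
    have b := (mul_right_cancel₀ hi (e2 i)).trans (mul_right_cancel₀ hj (e2 j)).symm
    have hinv : (w⁻¹ : Fˣ) ≠ 1 := inv_ne_one.2 hw
    rw [Units.val_inj] at a b
    fin_cases i <;> fin_cases j <;> simp at a b hij <;> first
      | exact hw a | exact hw a.symm | exact hw b | exact hw b.symm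
      | exact hinv a | exact hinv a.symm | exact hinv b | exact hinv b.symm
  obtain ⟨i, hi⟩ : ∃ i, co i ≠ 0 := Function.ne_iff.1 (Asch.move_ne_zero U⁻¹ hu)
  refine ⟨i, co i, ?_⟩
  rw [← Asch.mulVec_inv_mulVec U u, ← hco, col, ← Matrix.mulVec_smul]
  congr 1
  funext j
  rcases eq_or_ne j i with rfl | h
  · simp
  · simp [h, hsep i j h.symm hi]

include hF in
/-- A monomial group containing the frame stabiliser has the same lines. -/
theorem decomp_unique (hq : 3 ≤ q) (hq5 : q ≠ 5) (hb : ∀ i, D i = Submodule.span F {col U i})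
    {M : Subgroup (GL (Fin 3) F)} (hM : Full U q ⊤ M) {D' : Fin 3 → Submodule F (Fin 3 → F)}
    (hD' : IsMDecomposition 1 D') (hle : M ≤ decompositionStabilizer D') :
    M ≤ decompositionStabilizer D := by
  classical
  obtain ⟨b, hb'⟩ := Asch.decomp_gen hD'
  obtain ⟨v, hv, hv6, -⟩ := exists_norm_one hF hq hq5
  have hv' : ((v⁻¹ : Fˣ) : F) ^ (q + 1) = 1 := by
    rw [Units.val_inv_eq_inv_val, inv_pow, hv, inv_one]
  have hfix : ∀ g ∈ M, ∀ i, ∃ l : F, (g ^ 6).val *ᵥ b i = l • b i := by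
    intro g hg i
    obtain ⟨π, hπ⟩ := hle hg
    have hit : ∀ (n : ℕ) j, (D' j).map (Matrix.toLin' (g ^ n).val) = D' ((π ^ n) j) := by
      intro n
      induction n with
      | zero => intro j; simp
      | succ n ih =>
        intro j
        rw [pow_succ' g, Units.val_mul, Matrix.toLin'_mul, Submodule.map_comp, ih, hπ, pow_succ',
          Equiv.Perm.mul_apply]
    have h6 : π ^ 6 = 1 := (show ∀ π : Equiv.Perm (Fin 3), π ^ 6 = 1 by decide +kernel) π
    have h := hit 6 i
    rw [h6, Equiv.Perm.one_apply, hb'] at h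
    have hmem : (g ^ 6).val *ᵥ b i ∈ Submodule.span F {b i} := by
      rw [← h]
      exact ⟨b i, Submodule.mem_span_singleton_self _, Matrix.toLin'_apply _ _⟩
    obtain ⟨l, hl⟩ := Submodule.mem_span_singleton.1 hmem
    exact ⟨l, hl.symm⟩
  have hpow : ∀ (ε : Fin 3 → Fˣ) (n : ℕ), frm U 1 ε ^ n = frm U 1 (fun j => ε j ^ n) := by
    intro ε n
    induction n with
    | zero => simp [frm_one]
    | succ n ih => rw [pow_succ, ih, frm_mul, one_mul]; congr 1; funext j; simp [pow_succ']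
  have hd1 := hfix _ (hM 1 ![v, v⁻¹, 1] (good_diag (fun j => by fin_cases j <;> simp [hv, hv'])
    (fun j => trivial) (by simp)))
  have hd2 := hfix _ (hM 1 ![1, v, v⁻¹] (good_diag (fun j => by fin_cases j <;> simp [hv, hv'])
    (fun j => trivial) (by simp)))
  have hlines : ∀ i, ∃ j, D' i = D j := by
    intro i
    obtain ⟨l, hl⟩ := hd1 i
    obtain ⟨m, hm⟩ := hd2 i
    rw [hpow, show (fun j => (![v, v⁻¹, 1] : Fin 3 → Fˣ) j ^ 6) = ![v ^ 6, (v ^ 6)⁻¹, 1] from
      funext fun j => by fin_cases j <;> simp] at hl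
    rw [hpow, show (fun j => (![1, v, v⁻¹] : Fin 3 → Fˣ) j ^ 6) = ![1, v ^ 6, (v ^ 6)⁻¹] from
      funext fun j => by fin_cases j <;> simp] at hm
    obtain ⟨j, d, hd⟩ := diag_two U hv6 (b.ne_zero i) hl hm
    refine ⟨j, ?_⟩
    rw [hb', hb, hd, Submodule.span_singleton_smul_eq (IsUnit.mk0 d fun e => b.ne_zero i (by
      rw [hd, e, zero_smul]))]
  choose τ hτ using hlines
  have hτ' : Function.Injective τ := fun a c e => by
    by_contra hne
    have h1 : b a ∈ Submodule.span F (b '' {c}) := by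
      rw [Set.image_singleton, ← hb', hτ c, ← e, ← hτ a, hb']
      exact Submodule.mem_span_singleton_self _
    rw [b.mem_span_image, b.repr_self] at h1
    simp [Finsupp.support_single_ne_zero, hne] at h1
  let t : Equiv.Perm (Fin 3) := Equiv.ofBijective τ hτ'.bijective_of_finite
  intro g hg
  obtain ⟨π, hπ⟩ := hle hg
  refine ⟨t * π * t⁻¹, fun j => ?_⟩
  obtain ⟨i, rfl⟩ := t.surjective j
  have e : (t * π * t⁻¹) (t i) = t (π i) := by simp
  rw [e]
  show (D (τ i)).map _ = D (τ (π i))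
  rw [← hτ, ← hτ, hπ]

theorem alt_six_no_six : ∀ g : Equiv.Perm (Fin 6), Equiv.Perm.sign g = 1 → g ^ 6 = 1 →
    g ^ 2 = 1 ∨ g ^ 3 = 1 := by decide +kernel

/-- A commutative subgroup of `A₆` has order prime to six or a prime power. -/
theorem not_six_dvd (B : Subgroup (alternatingGroup (Fin 6))) (hB : ∀ a ∈ B, ∀ b ∈ B, a * b = b * a) :
    ¬ 6 ∣ Nat.card B := fun h => by
  haveI : Fact (Nat.Prime 2) := ⟨Nat.prime_two⟩
  haveI : Fact (Nat.Prime 3) := ⟨Nat.prime_three⟩
  obtain ⟨a, ha⟩ := exists_prime_orderOf_dvd_card' 2 ((dvd_mul_right 2 3).trans h)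
  obtain ⟨b, hb⟩ := exists_prime_orderOf_dvd_card' 3 ((dvd_mul_left 3 2).trans h)
  have hcomm : Commute a b := Subtype.ext (hB _ a.2 _ b.2)
  have hord : orderOf (a * b) = 6 := by
    rw [hcomm.orderOf_mul_eq_mul_orderOf_of_coprime (by rw [ha, hb]; decide), ha, hb]
  have h6 : orderOf (((a * b : B) : alternatingGroup (Fin 6)) : Equiv.Perm (Fin 6)) = 6 := by
    rw [Subgroup.orderOf_coe, Subgroup.orderOf_coe, hord]
  set g := (((a * b : B) : alternatingGroup (Fin 6)) : Equiv.Perm (Fin 6))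
  rcases alt_six_no_six g (Equiv.Perm.mem_alternatingGroup.1 ((a * b : B) : alternatingGroup (Fin 6)).2)
      (by have h := pow_orderOf_eq_one g; rwa [h6] at h) with e | e <;>
    · have := orderOf_dvd_of_pow_eq_one e
      rw [h6] at this
      norm_num at this

theorem count_eleven {m cP cZ cM rT rM cA cR cK : ℕ} (hc : cM ∣ 4320) (hM : rM * cP = cM)
    (hP : cP = 360 * cZ) (hle : rT ≤ rM) (hT : rT * cA = 144) (hA : cR * cK = cA) (hK : cK ∣ cZ)
    (hZ : 0 < cZ) (hd : cR ∣ m) (hm : m = 360) : 6 ∣ cR := by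
  subst hM hP hm
  rw [show rM * (360 * cZ) = 360 * (rM * cZ) by ring, show (4320 : ℕ) = 360 * 12 by norm_num] at hc
  have h12 := Nat.le_of_dvd (by norm_num) (Nat.dvd_of_mul_dvd_mul_left (by norm_num) hc)
  have h1 : rT * cK ≤ 12 := le_trans (Nat.mul_le_mul hle (Nat.le_of_dvd hZ hK)) h12
  have h2 : rT * cK * cR = 144 := by rw [← hT, ← hA]; ring
  have h3 : 12 ≤ cR := by
    by_contra h
    push Not at h
    have : rT * cK * cR ≤ 12 * cR := Nat.mul_le_mul_right _ h1
    omega
  have h72 : cR ∣ 72 := Nat.dvd_gcd hd (Dvd.intro_left _ h2)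
  have := Nat.le_of_dvd (by norm_num) h72
  interval_cases cR <;> norm_num at *

set_option maxHeartbeats 1000000 in
/-- The socle `A₆` misses a diagonal group of order `144` in a group of order dividing `4320`. -/
theorem no_A6_eleven {M P : Subgroup (GL (Fin 3) F)} (hP : Socle M P)
    (e : P ⧸ (scalars (Fin 3) F).subgroupOf P ≃* alternatingGroup (Fin 6)) (hc : Nat.card M ∣ 4320)
    {T : Subgroup (GL (Fin 3) F)} (hT : T ≤ M) (hcomm : ∀ a ∈ T, ∀ b ∈ T, a * b = b * a)
    (hTc : Nat.card T = 144) : False := by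
  classical
  set Z := (scalars (Fin 3) F).subgroupOf P with hZ
  have hcA : Nat.card (alternatingGroup (Fin 6)) = 360 := by
    have := card_alt 6 (by norm_num)
    simp [Nat.factorial, -Nat.card_eq_fintype_card] at this ⊢
    omega
  have hPM : P.relIndex M * Nat.card P = Nat.card M := by
    rw [← Nat.card_congr (Subgroup.subgroupOfEquivOfLe hP.le).toEquiv]
    exact (P.subgroupOf M).index_mul_card
  have hPZ : Nat.card P = 360 * Nat.card Z := by
    rw [← Z.index_mul_card, Subgroup.index_eq_card, Nat.card_congr e.toEquiv, hcA]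
  let f : T.subgroupOf P →* alternatingGroup (Fin 6) :=
    e.toMonoidHom.comp ((QuotientGroup.mk' Z).comp (T.subgroupOf P).subtype)
  refine not_six_dvd f.range ?_ ?_
  · rintro _ ⟨a, rfl⟩ _ ⟨b, rfl⟩
    rw [← map_mul, ← map_mul]
    congr 1
    exact Subtype.ext (Subtype.ext (hcomm _ a.2 _ b.2))
  have hker : Nat.card f.ker ∣ Nat.card Z := by
    refine (dvd_of_eq (Nat.card_congr (f.ker.equivMapOfInjective (T.subgroupOf P).subtype
      (T.subgroupOf P).subtype_injective).toEquiv)).trans (Subgroup.card_dvd_of_le ?_)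
    rintro _ ⟨a, ha, rfl⟩
    exact (QuotientGroup.eq_one_iff _).1 (e.injective ((MonoidHom.mem_ker.1 ha).trans (map_one e).symm))
  have hidx : P.relIndex T ≤ P.relIndex M :=
    Subgroup.relIndex_le_of_le_right hT (by
      intro h0
      rw [h0, zero_mul] at hPM
      exact Nat.card_pos.ne hPM)
  have hTA : P.relIndex T * Nat.card (T.subgroupOf P) = 144 := by
    have e1 : Nat.card (T.subgroupOf P) = Nat.card (T ⊓ P : Subgroup (GL (Fin 3) F)) := by
      rw [← Subgroup.inf_subgroupOf_right]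
      exact Nat.card_congr (Subgroup.subgroupOfEquivOfLe inf_le_right).toEquiv
    have e2 : Nat.card (P.subgroupOf T) = Nat.card (T ⊓ P : Subgroup (GL (Fin 3) F)) := by
      rw [← Subgroup.inf_subgroupOf_right, inf_comm]
      exact Nat.card_congr (Subgroup.subgroupOfEquivOfLe inf_le_left).toEquiv
    rw [← hTc, ← (P.subgroupOf T).index_mul_card, e1, e2]
    rfl
  have hAr : Nat.card f.range * Nat.card f.ker = Nat.card (T.subgroupOf P) := by
    rw [← Subgroup.index_ker, f.ker.index_mul_card]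
  exact count_eleven hc hPM hPZ hidx hTA hAr hker Nat.card_pos (Subgroup.card_subgroup_dvd_card f.range) hcA

include hF in
/-- The stabiliser of an orthogonal frame is maximal. -/
theorem isMax_frame (hq : 3 ≤ q) (hq5 : q ≠ 5)
    (hD : IsNondegenerateMDecomposition (Cfsg.hermForm 3 F q) 1 D) :
    IsMaximalIn S₃ (decompositionStabilizer D ⊓ S₃) := by
  classical
  obtain ⟨U, hU, hb⟩ := exists_orth_frame hF hD
  obtain ⟨v, hv, hv6, hv2⟩ := exists_norm_one hF hq hq5
  have hfull := full_stab hF hU hb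
  have hcard := card_stab hF hU hb
  have hvK : (v : F) ∈ (⊤ : Subfield F) := trivial
  have hcomm_le : ∀ A : Subgroup (GL (Fin 3) F), ⁅A, A⁆ ≤ A := fun A =>
    Subgroup.commutator_le.2 fun a ha b hb => mul_mem (mul_mem (mul_mem ha hb) (inv_mem ha)) (inv_mem hb)
  refine isMax_intro hF hq (irr_mono (hcomm_le _) (hfull.absIrr hF hv hvK hv2).1) (fun e => ?_)
    fun M hHM hM hlist => ?_
  · rw [e, card_sunit hF] at hcard
    have h1 : ordU q ≥ q ^ 3 * ((q ^ 3 + 1) * 8) := by
      refine Nat.mul_le_mul_left _ (Nat.mul_le_mul_left _ ?_)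
      have := Nat.pow_le_pow_left hq 2
      omega
    have h2 : 27 ≤ q ^ 3 := Nat.pow_le_pow_left hq 3
    have h3 : (q + 1) ^ 2 ≤ (q ^ 3 + 1) * 2 := by nlinarith
    nlinarith
  have hfM := hfull.mono hHM
  have hd : ∀ {n}, Nat.card M ∣ n → 6 * (q + 1) ^ 2 ∣ n := fun h =>
    hcard ▸ (Subgroup.card_dvd_of_le hHM).trans h
  have hMSL := hM.trans inf_le_right
  rcases hlist with ⟨D', hD', hle⟩ | ⟨K, hK, hle⟩ | ⟨R, c, x, y, z, -, hn, hR⟩ |
    ⟨F₁, r, B, -, hr, hcard₁, hle⟩ | ⟨h2, Q, hQ, hle⟩ | hsmall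
  · exact decomp_unique hF hq hq5 hb hfM hD' hle
  · exfalso
    have h1 := (dvd_mul_of_dvd_left (show 2 ∣ 6 by norm_num) _).trans (hd (dvd_field hMSL hK hle))
    exact Nat.not_even_iff_odd.2 ((by decide : Odd 3).mul (odd_ordS _)) (even_iff_two_dvd.2 h1)
  · exact absurd (mono_extra_u hq (hd (extra_card_dvd hR hMSL hn))) hq5
  · exfalso
    have hodd := hfM.index_odd hF hv hvK hv2 hr hcard₁ hle
    obtain ⟨p, hchar⟩ := CharP.exists F
    obtain ⟨n, hp, hn⟩ := FiniteField.card F p
    obtain ⟨t, ht, rfl⟩ := exists_root hp hr hodd (hcard₁.symm.trans hF) (by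
      obtain ⟨b, -, hb⟩ := (Nat.dvd_prime_pow hp).1 (hn ▸ hF ▸ dvd_pow_self q two_ne_zero)
      exact ⟨b, hb⟩)
    have ht2 : 2 ≤ t := by
      by_contra h
      have := two_le_subfield F₁
      interval_cases t <;> simp only [one_pow, zero_pow hr.ne_zero] at hq <;> omega
    exact mono_sub_u ht2 hr hodd (ht ▸ hd (card_subfield_dvd F₁ B hMSL hle))
  · exact (hfM.not_quad hF hv hvK hv2 h2 hM hQ hle).elim
  · exfalso
    rcases hsmall with ⟨-, -, h, -⟩ | ⟨hc, h, -, P, hP, ⟨e⟩⟩ | ⟨-, h, -⟩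
    · exact mono_L32_u hq (hd h)
    · rcases mono_A6_u hq (hd h) with rfl | rfl | rfl
      · rcases hc with h4 | ⟨-, h3⟩
        · rw [hF] at h4; norm_num at h4
        · haveI : Fact (ringChar F).Prime := ⟨CharP.char_is_prime F _⟩
          have h9 := (ringChar.spec F _).1 (FiniteField.cast_card_eq_zero F)
          rw [hF] at h9
          exact h3 ((Nat.prime_dvd_prime_iff_eq Fact.out Nat.prime_three).1
            (Nat.Prime.dvd_of_dvd_pow (n := 2) Fact.out h9))
      · exact hq5 rfl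
      · set N := (powMonoidHom (11 + 1) : Fˣ →* Fˣ).ker
        let φ : N × N →* GL (Fin 3) F := MonoidHom.mk'
          (fun t => frm U 1 ![(t.1 : Fˣ), t.2, ((t.1 : Fˣ) * t.2)⁻¹]) (fun s t => by
            rw [frm_mul, one_mul]
            congr 1
            funext j
            fin_cases j <;> simp <;> ac_rfl)
        have hφinj : Function.Injective φ := fun s t e' => by
          obtain ⟨-, h2⟩ := monoGL_inj (mul_left_cancel (mul_right_cancel e'))
          exact Prod.ext (Subtype.ext (congrFun h2 0)) (Subtype.ext (congrFun h2 1))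
        refine no_A6_eleven hP e h (T := φ.range) ?_ ?_ ?_
        · rintro _ ⟨⟨⟨a, ha⟩, ⟨b, hb'⟩⟩, rfl⟩
          have hmem : ∀ {a : Fˣ}, a ∈ N → (a : F) ^ (11 + 1) = 1 := fun {a} ha => by
            rw [MonoidHom.mem_ker, powMonoidHom_apply] at ha
            rw [← Units.val_pow_eq_pow_val, ha, Units.val_one]
          refine hfM 1 _ (good_diag (fun j => ?_) (fun j => trivial) (mul_inv_cancel _))
          fin_cases j
          · exact hmem ha
          · exact hmem hb'
          · exact hmem (inv_mem (mul_mem ha hb'))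
        · rintro _ ⟨s, rfl⟩ _ ⟨t, rfl⟩
          rw [← map_mul, ← map_mul, mul_comm]
        · rw [← Nat.card_congr (MonoidHom.ofInjective hφinj).toEquiv, Nat.card_prod, Herm.card_norm_one hF]
    · exact hq5 (mono_A7_u hq (hd h))

end Cfsg.Lib.Linear.Mitchell.SU3
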