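import Cfsg.Agent.Lib.Linear.Mitchell.SU3FieldArith

/-!
# Arithmetic for the subfield groups of odd index in `SU₃(q)`
-/

set_option autoImplicit false

namespace Cfsg.Lib.Linear.Mitchell.SU3

open MaxArith

theorem pow3_le_of_dvd {t n a : ℕ} (h : t ^ 3 ∣ a * n) (hc : Nat.Coprime (t ^ 3) n) (ha : 0 < a) : t ^ 3 ≤ a :=
  Nat.le_of_dvd ha (hc.dvd_of_dvd_mul_right h)

theorem ordU_pow_dvd (t : ℕ) : t ^ 3 ∣ ordU t := dvd_mul_right _ _

theorem sub_mono_u {t r : ℕ} (ht : 2 ≤ t) (hr : 0 < r) (h : ordU t ∣ 6 * ((t ^ r) ^ 2 - 1) ^ 2) : False := by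
  have hc : Nat.Coprime (t ^ 3) (((t ^ r) ^ 2 - 1) ^ 2) := by
    rw [← pow_mul]
    exact (coprime_pow_pred (by omega) (by positivity)).pow_right 2
  have := pow3_le_of_dvd ((ordU_pow_dvd t).trans h) hc (by norm_num)
  have : 2 ^ 3 ≤ t ^ 3 := Nat.pow_le_pow_left ht 3
  omega

theorem sub_field_u {t r : ℕ} (ht : 2 ≤ t) (hr : 0 < r) (h : ordU t ∣ 3 * ordS ((t ^ r) ^ 2)) : False := by
  have hc : Nat.Coprime (t ^ 3) (ordS ((t ^ r) ^ 2)) := by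
    refine Nat.Coprime.coprime_dvd_left ?_ (coprime_ordS (q := (t ^ r) ^ 2) (a := 3)).symm
    rw [← pow_mul, ← pow_mul]
    exact pow_dvd_pow t (by omega)
  have := pow3_le_of_dvd ((ordU_pow_dvd t).trans h) hc (by norm_num)
  have : 2 ^ 3 ≤ t ^ 3 := Nat.pow_le_pow_left ht 3
  omega

theorem sub_ne_u {t r : ℕ} (ht : 2 ≤ t) (hr : 3 ≤ r) (h : ordU (t ^ r) ∣ 3 * ordL (t ^ 2)) : False := by
  have h9 : t ^ 9 ∣ (3 * t ^ 6) * ((t ^ 6 - 1) * (t ^ 4 - 1)) :=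
    ((pow_dvd_pow t (show 9 ≤ r * 3 by omega)).trans ((pow_mul t r 3) ▸ ordU_pow_dvd (t ^ r))).trans (h.trans
      (dvd_of_eq (by rw [ordL]; ring)))
  have hc : Nat.Coprime (t ^ 9) ((t ^ 6 - 1) * (t ^ 4 - 1)) :=
    (coprime_pow_pred (by omega) (by norm_num)).mul_right (coprime_pow_pred (by omega) (by norm_num))
  have := Nat.le_of_dvd (by positivity) (hc.dvd_of_dvd_mul_right h9)
  have : 8 * t ^ 6 ≤ t ^ 9 := by
    rw [show t ^ 9 = t ^ 3 * t ^ 6 by ring]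
    exact Nat.mul_le_mul_right _ (Nat.pow_le_pow_left ht 3)
  have : 0 < t ^ 6 := by positivity
  omega

theorem sub_extra_u {t : ℕ} (ht : 2 ≤ t) (h : ordU t ∣ 648) : t = 2 := by
  have h1 : t ^ 3 ∣ 648 := (ordU_pow_dvd t).trans h
  have h2 : t ≤ 8 := by
    by_contra hlt
    have := Nat.le_of_dvd (by norm_num) h1
    have : 9 ^ 3 ≤ t ^ 3 := Nat.pow_le_pow_left (by omega) 3
    omega
  interval_cases t <;> first | rfl | (norm_num [ordU] at h)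

theorem eighty_one_u {r : ℕ} (hodd : Odd r) (h3 : ¬ 3 ∣ r) : ¬ 81 ∣ ordU (2 ^ r) := by
  intro h
  have h1 : 81 ∣ ((2 ^ r) ^ 3 + 1) * ((2 ^ r) ^ 2 - 1) := by
    refine Nat.Coprime.dvd_of_dvd_mul_left ?_ h
    rw [← pow_mul, show (81 : ℕ) = 3 ^ 4 from rfl]
    exact ((by norm_num : Nat.Coprime 3 2).pow 4 (r * 3))
  have h2 : (((8 : ℕ) ^ r + 1) * (4 ^ r - 1) : ℕ) = ((2 ^ r) ^ 3 + 1) * ((2 ^ r) ^ 2 - 1) := by
    rw [← pow_mul, ← pow_mul, mul_comm r 3, mul_comm r 2, pow_mul, pow_mul]; norm_num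
  rw [← h2] at h1
  have h4 := (ZMod.natCast_eq_zero_iff _ _).2 h1
  rw [Nat.cast_mul, Nat.cast_add, Nat.cast_sub (Nat.one_le_pow _ _ (by norm_num)), Nat.cast_pow,
    Nat.cast_pow, Nat.cast_one] at h4
  have hkey : ∀ i : Fin 54, i.val % 2 = 1 → i.val % 3 ≠ 0 →
      ((8 : ZMod 81) ^ i.val + 1) * (4 ^ i.val - 1) ≠ 0 := by decide +kernel
  have h2' : r % 2 = 1 := Nat.odd_iff.1 hodd
  refine hkey ⟨r % 54, Nat.mod_lt _ (by norm_num)⟩ (by simp only; omega) (by simp only; omega) ?_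
  have e8 : ((8 : ZMod 81)) ^ r = 8 ^ (r % 54) := pow_eq_pow_mod r (by decide +kernel)
  have e4 : ((4 : ZMod 81)) ^ r = 4 ^ (r % 54) := pow_eq_pow_mod r (by decide +kernel)
  rw [← e8, ← e4]
  exact_mod_cast h4

theorem dvd_216 {d : ℕ} (h : d ∣ 648) (h81 : ¬ 81 ∣ d) : d ∣ 216 := by
  have key : ∀ d ∈ Nat.divisors 648, ¬ 81 ∣ d → d ∣ 216 := by decide +kernel
  exact key d (Nat.mem_divisors.2 ⟨h, by norm_num⟩) h81

theorem eq_648 {d : ℕ} (h : d ∣ 648) (h216 : 216 ∣ d) (hne : d ≠ 216) : d = 648 := by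
  have key : ∀ d ∈ Nat.divisors 648, 216 ∣ d → d ≠ 216 → d = 648 := by decide +kernel
  exact key d (Nat.mem_divisors.2 ⟨h, by norm_num⟩) h216 hne

/-- Two subfields of different odd prime indices. -/
theorem sub_sub_u {u r r' : ℕ} (hu : 2 ≤ u) (hr : r.Prime) (hr' : r'.Prime) (hrodd : Odd r) (hodd : Odd r')
    (hne : r ≠ r') (h : ordU (u ^ r') ∣ 3 * ordL ((u ^ r) ^ 2)) : False := by
  set N := ordN (u ^ r') with hN
  have hNU : N ∣ ordU (u ^ r') := dvd_mul_of_dvd_right (dvd_mul_of_dvd_left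
    (Dvd.intro_left _ (ordN_mul _)) _) _
  have hNd : N ∣ u ^ (3 * r') + 1 := ⟨u ^ r' + 1, by rw [mul_comm N, ordN_mul, ← pow_mul, mul_comm]⟩
  have h1 : N ∣ 3 * ((u ^ (6 * r) - 1) * (u ^ (4 * r) - 1)) := by
    have hc : Nat.Coprime N (((u ^ r) ^ 2) ^ 3) := by
      have := coprime_ordN (u ^ r') (6 * r)
      refine Nat.Coprime.coprime_dvd_right ?_ this
      rw [← pow_mul, ← pow_mul, ← pow_mul]
      exact pow_dvd_pow u (le_trans (le_of_eq (by ring)) (Nat.le_mul_of_pos_left _ hr'.pos))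
    refine hc.dvd_of_dvd_mul_left ((hNU.trans h).trans (dvd_of_eq ?_))
    rw [ordL]; ring
  have cop : Nat.gcd r' r = 1 := (Nat.coprime_primes hr' hr).2 (Ne.symm hne)
  have g6 : Nat.gcd N (u ^ (6 * r) - 1) ∣ u ^ 6 - 1 :=
    (Nat.gcd_dvd_gcd_of_dvd_left _ hNd).trans (gcd_pow_succ_dvd (by
      rw [← mul_assoc, show 2 * 3 = 6 from rfl, Nat.gcd_mul_left, cop]))
  have g4 : Nat.gcd N (u ^ (4 * r) - 1) ∣ u ^ 6 - 1 := by
    refine (Nat.gcd_dvd_gcd_of_dvd_left _ hNd).trans ((gcd_pow_succ_dvd (g := 2 * Nat.gcd (3 * r') (2 * r)) (by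
      rw [show 4 * r = 2 * (2 * r) by ring, Nat.gcd_mul_left])).trans (Nat.pow_sub_one_dvd_pow_sub_one u ?_))
    rw [show 6 = 2 * 3 from rfl]
    refine mul_dvd_mul_left 2 ?_
    have c2 : Nat.Coprime (3 * r') 2 := Nat.coprime_two_right.2 ((by decide : Odd 3).mul hodd)
    have hd : Nat.gcd (3 * r') (2 * r) ∣ r :=
      (Nat.Coprime.coprime_dvd_left (Nat.gcd_dvd_left _ _) c2).dvd_of_dvd_mul_left (Nat.gcd_dvd_right _ _)
    exact ((Nat.coprime_primes hr' hr).2 (Ne.symm hne)).symm.coprime_dvd_left hd |>.dvd_of_dvd_mul_right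
      (Nat.gcd_dvd_left _ _)
  have p3 : 8 ≤ u ^ 3 := Nat.pow_le_pow_left hu 3
  have hc : Nat.Coprime N (u ^ 3 - 1) := by
    have hd : Nat.gcd N (u ^ 3 - 1) ∣ 2 := by
      have a1 : Nat.gcd N (u ^ 3 - 1) ∣ u ^ (3 * r') + 1 := (Nat.gcd_dvd_left _ _).trans hNd
      have a2 : Nat.gcd N (u ^ 3 - 1) ∣ u ^ (3 * r') - 1 :=
        (Nat.gcd_dvd_right _ _).trans (Nat.pow_sub_one_dvd_pow_sub_one u (dvd_mul_right 3 r'))
      have := Nat.dvd_sub a1 a2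
      have p : 1 ≤ u ^ (3 * r') := Nat.one_le_pow _ _ (by omega)
      rwa [show u ^ (3 * r') + 1 - (u ^ (3 * r') - 1) = 2 by omega] at this
    rw [Nat.coprime_iff_gcd_eq_one]
    rcases (Nat.dvd_prime Nat.prime_two).1 hd with e | e
    · exact e
    · exact absurd (even_iff_two_dvd.2 (e ▸ Nat.gcd_dvd_left _ _)) (Nat.not_even_iff_odd.2 (odd_ordN _))
  have h2 : N ∣ 3 * ((u ^ 3 + 1) * (u ^ 3 + 1)) := by
    have h3 : N ∣ 3 * ((u ^ 6 - 1) * (u ^ 6 - 1)) :=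
      ((Nat.dvd_gcd dvd_rfl h1).trans (Nat.gcd_mul_right_dvd_mul_gcd _ _ _)).trans
        (mul_dvd_mul (Nat.gcd_dvd_right _ 3)
          ((Nat.gcd_mul_right_dvd_mul_gcd _ _ _).trans (mul_dvd_mul g6 g4)))
    refine (hc.mul_right hc).dvd_of_dvd_mul_right (h3.trans (dvd_of_eq ?_))
    rw [show u ^ 6 - 1 = (u ^ 3 + 1) * (u ^ 3 - 1) by
      rw [show 6 = 3 + 3 from rfl, pow_add, ← Nat.mul_self_sub_mul_self_eq, mul_one]]
    ring
  by_cases hr3 : r' = 3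
  · rw [hr3] at hN
    have g : Nat.gcd N (u ^ 3 + 1) ∣ 3 := by
      refine Dvd.dvd.trans ?_ (ordN_gcd_three (u ^ 3))
      rw [hN]
      refine Nat.gcd_dvd_gcd_of_dvd_right _ ⟨u ^ 3 - 1, ?_⟩
      rw [sq, ← Nat.mul_self_sub_mul_self_eq, mul_one]
    have hd : N ∣ 27 :=
      ((Nat.dvd_gcd dvd_rfl h2).trans (Nat.gcd_mul_right_dvd_mul_gcd _ _ _)).trans
        ((mul_dvd_mul (Nat.gcd_dvd_right _ 3)
          ((Nat.gcd_mul_right_dvd_mul_gcd _ _ _).trans (mul_dvd_mul g g))).trans (by norm_num))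
    have := Nat.le_of_dvd (by norm_num) hd
    have h9 : 8 * u ^ 3 ≤ (u ^ 3) ^ 2 := by rw [sq]; exact Nat.mul_le_mul_right _ p3
    simp only [hN, ordN] at this
    omega
  · have h5 : 5 ≤ r' := by
      by_contra hlt
      have := hr'.two_le
      interval_cases r' <;> first | exact hr3 rfl | exact absurd hodd (by decide) | exact absurd hr' (by norm_num)
    have p5 : u ^ 5 ≤ u ^ r' := Nat.pow_le_pow_right (by omega) h5
    have p32 : 32 ≤ u ^ 5 := Nat.pow_le_pow_left hu 5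
    have hlow : 31 * u ^ r' ≤ N := by
      have h1 : 32 * u ^ r' ≤ (u ^ r') ^ 2 := by rw [sq]; exact Nat.mul_le_mul_right _ (by omega)
      simp only [hN, ordN]
      omega
    have hle := Nat.le_of_dvd (by positivity) h2
    have hup : 3 * ((u ^ 3 + 1) * (u ^ 3 + 1)) ≤ 6 * u ^ 6 := by
      rw [show u ^ 6 = u ^ 3 * u ^ 3 by ring]
      nlinarith
    have hlow2 : (u ^ 5) * (u ^ 5) ≤ N + u ^ r' := by
      have h1 : u ^ 5 * u ^ 5 ≤ u ^ r' * u ^ r' := Nat.mul_le_mul p5 p5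
      have h2 : u ^ r' ≤ (u ^ r') ^ 2 := Nat.le_self_pow two_ne_zero _
      simp only [hN, ordN, sq] at h2 ⊢
      omega
    have h16 : 16 * u ^ 6 ≤ u ^ 5 * u ^ 5 := by
      rw [← pow_add, show u ^ (5 + 5) = u ^ 4 * u ^ 6 by ring]
      exact Nat.mul_le_mul_right _ (Nat.pow_le_pow_left hu 4)
    omega

theorem sub_small_u {t r : ℕ} (ht : 2 ≤ t) (hr : 2 ≤ r) {m : ℕ}
    (h : ordU t ∣ m) (hm : (m = 1008 ∧ Odd ((t ^ r) ^ 2)) ∨
      (m = 4320 ∧ ((t ^ r) ^ 2 = 4 ∨ Odd ((t ^ r) ^ 2))) ∨ (m = 15120 ∧ 5 ∣ (t ^ r) ^ 2)) : False := by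
  have hodd : Odd ((t ^ r) ^ 2) → Odd t := fun h => (Nat.odd_pow_iff (by omega)).1 ((Nat.odd_pow_iff two_ne_zero).1 h)
  rcases hm with ⟨rfl, ho⟩ | ⟨rfl, ho⟩ | ⟨rfl, h5⟩
  · obtain ⟨k, hk⟩ := hodd ho
    have := unit_small ht (Or.inl ⟨rfl, by omega⟩) h
    omega
  · obtain ⟨rfl, -⟩ := unit_small ht (Or.inr (Or.inl rfl)) h
    rcases ho with ho | ho
    · have : 2 ^ 2 ≤ 2 ^ r := Nat.pow_le_pow_right (by norm_num) hr
      have : 4 * 4 ≤ (2 ^ r) ^ 2 := by rw [sq]; exact Nat.mul_le_mul this this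
      omega
    · exact absurd (hodd ho) (by decide)
  · have h5t : 5 ∣ t := Nat.prime_five.dvd_of_dvd_pow (Nat.prime_five.dvd_of_dvd_pow h5)
    have := unit_small ht (Or.inr (Or.inr ⟨rfl, Nat.le_of_dvd (by omega) h5t⟩)) h
    omega

end Cfsg.Lib.Linear.Mitchell.SU3
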