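import Cfsg.Agent.Lib.Linear.Mitchell.SU3SubBasic
import Cfsg.Agent.Lib.Linear.Mitchell.SU3SubArith

/-!
# The subfield groups of odd index are maximal in `SU₃(q)`
-/

set_option autoImplicit false
set_option linter.unusedSectionVars false

namespace Cfsg.Lib.Linear.Mitchell.SU3

open Cfsg.Geo Cfsg.Lib.Linear MaxArith Max
open scoped Matrix MatrixGroups commutatorElement

variable {F : Type*} [Field F] [Fintype F] {q : ℕ} (hF : Fintype.card F = q ^ 2)

local notation "S₃" => Asch.sunit 3 F q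

/-- An element of `1`-rational subfield type with entries in the subfield. -/
theorem mem_subfield_one {F₀ : Subfield F} {g : GL (Fin 3) F} (h : ∀ i j, g.val i j ∈ F₀) :
    g ∈ subfieldSubgroup F₀ (1 : GL (Fin 3) F) :=
  (Rat0.mem_subfieldSubgroup_one F₀ _).2 ⟨1, one_ne_zero, fun i j => by rw [one_mul]; exact h i j⟩

/-- Commutators in a subfield group are rational. -/
theorem rat_commutator {F₁ : Subfield F} {B : GL (Fin 3) F} {M : Subgroup (GL (Fin 3) F)}
    (hle : M ≤ subfieldSubgroup F₁ B) {x : GL (Fin 3) F} (hx : x ∈ ⁅M, M⁆) (i j : Fin 3) :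
    (B⁻¹ * x * B).val i j ∈ F₁ := by
  obtain ⟨_, ⟨g, rfl⟩, rfl⟩ := commutator_subfield_le F₁ B (Subgroup.commutator_mono hle hle hx)
  rw [show B⁻¹ * (MulAut.conj B).toMonoidHom (Matrix.GeneralLinearGroup.map F₁.subtype g) * B =
    Matrix.GeneralLinearGroup.map F₁.subtype g by simp [mul_assoc]]
  exact (g.val i j).2

theorem monoMat_entry {F₀ : Subfield F} {π : Equiv.Perm (Fin 3)} {ε : Fin 3 → Fˣ}
    (h : ∀ i, (ε i : F) ∈ F₀) (i j : Fin 3) : (frm (1 : GL (Fin 3) F) π ε).val i j ∈ F₀ := by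
  rw [frm, one_mul, inv_one, mul_one]
  show monoMat π (fun j => (ε j : F)) i j ∈ F₀
  simp only [monoMat, Matrix.of_apply]
  split_ifs
  · exact h j
  · exact F₀.zero_mem

include hF in
/-- An element of order at least three in the norm-one group of the subfield. -/
theorem exists_v {F₀ : Subfield F} {t r : ℕ} (ht2 : 2 ≤ t) (ht : Nat.card F₀ = t ^ 2) (hqt : q = t ^ r)
    (hodd : Odd r) : ∃ v : Fˣ, (v : F) ^ (q + 1) = 1 ∧ (v : F) ∈ F₀ ∧ v ^ 2 ≠ 1 := by
  letI : Fintype F₀ := Fintype.ofFinite F₀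
  obtain ⟨g, hg⟩ := IsCyclic.exists_ofOrder_eq_natCard (α := F₀ˣ)
  have ht1 : t ^ 2 - 1 = (t - 1) * (t + 1) := by
    rw [mul_comm, ← Nat.sq_sub_sq, one_pow]
  refine ⟨Units.map (F₀.subtype : F₀ →* F) (g ^ (t - 1)), ?_, ((g ^ (t - 1) : F₀ˣ) : F₀).2, fun h => ?_⟩
  · have hv : ((g ^ (t - 1)) ^ (t + 1) : F₀ˣ) = 1 := by
      rw [← pow_mul, ← ht1, ← ht, ← Nat.card_units, ← hg, pow_orderOf_eq_one]
    show (((g ^ (t - 1) : F₀ˣ) : F₀) : F) ^ (q + 1) = 1
    rw [pow_succ, pow_q_eq ht hqt hodd ((g ^ (t - 1) : F₀ˣ) : F₀).2, ← pow_succ]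
    exact congrArg (fun x : F₀ˣ => ((x : F₀) : F)) hv
  · rw [← map_pow, ← map_one (Units.map (F₀.subtype : F₀ →* F))] at h
    have h1 := Units.map_injective Subtype.val_injective h
    rw [← pow_mul] at h1
    have h2 := Nat.le_of_dvd (by omega) (orderOf_dvd_of_pow_eq_one h1)
    rw [hg, Nat.card_units, ht, ht1] at h2
    have : (t - 1) * 3 ≤ (t - 1) * (t + 1) := Nat.mul_le_mul_left _ (by omega)
    omega

include hF in
/-- The groups over the subfield lie in `SU₃`. -/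
theorem card_rational_sunit {F₀ : Subfield F} {t r : ℕ} (ht : Nat.card F₀ = t ^ 2) (hqt : q = t ^ r)
    (hodd : Odd r) : ∃ H : Subgroup (GL (Fin 3) F), H ≤ S₃ ∧ (∀ g ∈ H, ∀ i j, g.val i j ∈ F₀) ∧
      Nat.card H = ordU t := by
  classical
  letI : Fintype F₀ := Fintype.ofFinite F₀
  have hF₀ : Fintype.card F₀ = t ^ 2 := by rw [← ht, Nat.card_eq_fintype_card]
  let ι₀ := Matrix.GeneralLinearGroup.map (n := Fin 3) (F₀.subtype : F₀ →+* F)
  have hinj : Function.Injective ι₀ := fun a b h =>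
    Units.ext (Matrix.map_injective Subtype.val_injective (congrArg Units.val h))
  refine ⟨(Asch.sunit 3 F₀ t).map ι₀, ?_, ?_, ?_⟩
  · rintro _ ⟨g, hg, rfl⟩
    refine ⟨mem_GU_of_gram hF ?_, MonoidHom.mem_ker.2 (Units.ext ?_)⟩
    · have h := congrArg (fun X : Matrix (Fin 3) (Fin 3) F₀ => X.map F₀.subtype) (Asch.gu_gram hF₀ hg.1)
      simp only [Matrix.map_mul, Matrix.map_one _ (map_zero F₀.subtype) (map_one F₀.subtype)] at h
      refine Eq.trans ?_ h
      congr 1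
      ext i j
      show Asch.sigmaE hF (g.val i j : F) = ((Asch.sigmaE hF₀ (g.val i j) : F₀) : F)
      rw [Asch.sigmaE_apply, Asch.sigmaE_apply, SubmonoidClass.coe_pow, pow_q_eq ht hqt hodd (g.val i j).2]
    · rw [Matrix.GeneralLinearGroup.val_det_apply, Units.val_one]
      show (g.val.map F₀.subtype).det = 1
      rw [show (g.val.map F₀.subtype).det = F₀.subtype g.val.det from (RingHom.map_det _ _).symm,
        show g.val.det = 1 from congrArg Units.val (MonoidHom.mem_ker.1 hg.2), map_one]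
  · rintro _ ⟨g, -, rfl⟩ i j
    exact (g.val i j).2
  · rw [Nat.card_congr ((Asch.sunit 3 F₀ t).equivMapOfInjective _ hinj).toEquiv.symm, card_sunit hF₀]

include hF in
/-- In `SU₃(8)` the group over `𝔽₄` is properly contained in the rational part. -/
theorem exists_eight {F₀ : Subfield F} (ht : Nat.card F₀ = 2 ^ 2) (hq : q = 8) :
    ∃ h : GL (Fin 3) F, h ∈ subfieldSubgroup F₀ (1 : GL (Fin 3) F) ⊓ S₃ ∧ ∃ i j, h.val i j ∉ F₀ := by
  classical
  letI : Fintype F₀ := Fintype.ofFinite F₀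
  have hF₀ : Fintype.card F₀ = 4 := by rw [← Nat.card_eq_fintype_card, ht]; norm_num
  obtain ⟨w, hw⟩ := IsCyclic.exists_ofOrder_eq_natCard (α := F₀ˣ)
  rw [Nat.card_units, Nat.card_eq_fintype_card, hF₀] at hw
  set ω : Fˣ := Units.map (F₀.subtype : F₀ →* F) w with hωdef
  have hω : orderOf ω = 3 := by rw [hωdef, orderOf_injective _ (Units.map_injective Subtype.val_injective), hw]
  obtain ⟨g, hg⟩ := IsCyclic.exists_ofOrder_eq_natCard (α := Fˣ)
  rw [Nat.card_units, Nat.card_eq_fintype_card, hF, hq] at hg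
  norm_num at hg
  obtain ⟨k, hk⟩ : ω⁻¹ ∈ Submonoid.powers g := by
    rw [mem_powers_iff_mem_zpowers]
    exact (Subgroup.zpowers g).eq_top_of_card_eq (by
      rw [Nat.card_zpowers, hg, Nat.card_units, Nat.card_eq_fintype_card, hF, hq]; norm_num) ▸ Subgroup.mem_top _
  simp only at hk
  have h21 : 21 ∣ k := by
    have h1 : g ^ (k * 3) = 1 := by rw [pow_mul, hk, inv_pow, ← hω, pow_orderOf_eq_one, inv_one]
    have := orderOf_dvd_of_pow_eq_one h1
    rw [hg] at this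
    omega
  obtain ⟨j, rfl⟩ := h21
  set c : Fˣ := g ^ (7 * j) with hcdef
  have hc3 : c ^ 3 = ω⁻¹ := by rw [hcdef, ← pow_mul, ← hk]; congr 1; omega
  have hω3 : ω ^ 3 = 1 := hω ▸ pow_orderOf_eq_one ω
  have hc9 : c ^ 9 = 1 := by
    rw [show 9 = 3 * 3 from rfl, pow_mul, hc3, inv_pow, hω3, inv_one]
  have hωF : (ω : F) ∈ F₀ := ((w : F₀)).2
  have hω9 : ω ^ 9 = 1 := by rw [show 9 = 3 * 3 from rfl, pow_mul, hω3, one_pow]
  refine ⟨frm 1 1 ![c * ω, c, c], ⟨(Rat0.mem_subfieldSubgroup_one F₀ _).2 ⟨(c : F)⁻¹, by simp, fun i j' => ?_⟩,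
    frm_mem hF (one_mem _) (K := ⊤) (good_diag (fun i => ?_) (fun i => trivial) ?_)⟩, 1, 1, fun hmem => ?_⟩
  · rw [frm, one_mul, inv_one, mul_one]
    show (c : F)⁻¹ * monoMat 1 _ i j' ∈ F₀
    fin_cases i <;> fin_cases j' <;> simp [monoMat, hωF]
  · have h9 : q + 1 = 9 := by omega
    rw [h9]
    fin_cases i <;> simp [← Units.val_pow_eq_pow_val, mul_pow, hc9, hω9]
  · simp only [Matrix.cons_val_zero, Matrix.cons_val_one, Matrix.cons_val]
    rw [show c * ω * c * c = c ^ 3 * ω by rw [pow_succ, pow_two]; ac_rfl, hc3, inv_mul_cancel]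
  · have hc : (c : F) ∈ F₀ := by
      rw [frm, one_mul, inv_one, mul_one] at hmem
      simpa [monoGL, monoMat] using hmem
    have h4 := pow_card_sub hc
    rw [ht, show (2 : ℕ) ^ 2 = 3 + 1 from rfl, pow_succ, ← Units.val_pow_eq_pow_val, hc3] at h4
    have h5 : ω⁻¹ = 1 := by
      refine Units.ext (mul_right_cancel₀ c.ne_zero ?_)
      rw [h4, Units.val_one, one_mul]
    rw [inv_eq_one] at h5
    rw [h5, orderOf_one] at hω
    omega

include hF in
/-- The subfield groups in the standard basis are maximal. -/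
theorem isMax_sub_one (hq : 3 ≤ q) {F₀ : Subfield F} {r : ℕ} (hr : r.Prime) (hodd : Odd r)
    (hcard : Fintype.card F = Nat.card F₀ ^ r) :
    IsMaximalIn S₃ (subfieldSubgroup F₀ (1 : GL (Fin 3) F) ⊓ S₃) := by
  classical
  obtain ⟨t, ht2, ht, hqt⟩ := exists_sub_root hF hr hodd hcard
  have hr3 : 3 ≤ r := by
    have := hr.two_le
    have := Nat.odd_iff.1 hodd
    omega
  set A := subfieldSubgroup F₀ (1 : GL (Fin 3) F) with hA
  have hfull : Full (1 : GL (Fin 3) F) q F₀ (A ⊓ S₃) := fun π ε hg =>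
    ⟨mem_subfield_one (monoMat_entry hg.mem), frm_mem hF (one_mem _) hg⟩
  obtain ⟨v, hv, hvK, hv2⟩ := exists_v hF ht2 ht hqt hodd
  have habs := hfull.absIrr hF hv hvK hv2
  have hirr : ActsIrreducibly (matrixSet (A ⊓ S₃)) := irr_mono (Subgroup.commutator_le.2 fun a ha b hb =>
    mul_mem (mul_mem (mul_mem ha hb) (inv_mem ha)) (inv_mem hb)) habs.1
  obtain ⟨H, hHS, hHrat, hHcard⟩ := card_rational_sunit hF ht hqt hodd
  have hHA : H ≤ A ⊓ S₃ := le_inf (fun g hg => mem_subfield_one (hHrat g hg)) hHS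
  refine isMax_intro hF hq hirr (fun e => sub_ne_u ht2 hr3 ?_) fun M hHM hM hlist => ?_
  · rw [← hqt, ← card_sunit hF, ← e, ← ht]
    exact card_subfield_dvd F₀ 1 (inf_le_right.trans inf_le_right) inf_le_left
  have hMSL : M ≤ specialLinear (Fin 3) F := hM.trans inf_le_right
  have hd : ∀ {n}, Nat.card M ∣ n → ordU t ∣ n := fun h =>
    hHcard ▸ (Subgroup.card_dvd_of_le (hHA.trans hHM)).trans h
  have hQ : Fintype.card F = (t ^ r) ^ 2 := by rw [hF, hqt]
  rcases hlist with ⟨D, hD, hle⟩ | ⟨K, hK, hle⟩ |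
    ⟨R, c, x, y, z, hRM, hn, hR⟩ | ⟨F₁, r', B, hne₁, hr', hcard₁, hle⟩ | ⟨h2, Q, hQ', hle⟩ | hsmall
  · exact (sub_mono_u ht2 hr.pos (by rw [← hQ]; exact hd (dvd_mono hMSL hD hle))).elim
  · exact (sub_field_u ht2 hr.pos (by rw [← hQ]; exact hd (dvd_field hMSL hK hle))).elim
  · have h648 := extra_card_dvd hR hMSL hn
    obtain rfl : t = 2 := sub_extra_u ht2 (hd h648)
    refine (le_of_card_dvd hHM ?_).trans inf_le_left
    have hcH : Nat.card H = 216 := hHcard.trans (by norm_num [ordU])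
    have hdvdH : 216 ∣ Nat.card (A ⊓ S₃ : Subgroup (GL (Fin 3) F)) := hcH ▸ Subgroup.card_dvd_of_le hHA
    by_cases h3 : r = 3
    · subst h3
      obtain ⟨h, hh, i, j, hij⟩ := exists_eight hF ht (by rw [hqt]; norm_num)
      have hne : Nat.card (A ⊓ S₃ : Subgroup (GL (Fin 3) F)) ≠ 216 := fun e => by
        refine hij (hHrat h ?_ i j)
        rw [Subgroup.eq_of_le_of_card_ge hHA (by rw [e, hcH])]
        exact hh
      rw [eq_648 ((Subgroup.card_dvd_of_le hHM).trans h648) hdvdH hne]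
      exact h648
    · refine (dvd_216 h648 fun h81 => eighty_one_u hodd ?_ (hqt ▸ dvd_sunit hF hM h81)).trans hdvdH
      intro h
      exact h3 ((Nat.prime_dvd_prime_iff_eq Nat.prime_three hr).1 h).symm
  · have hfM := hfull.mono hHM
    have hodd' := hfM.index_odd hF hv hvK hv2 hr' hcard₁ hle
    obtain ⟨s, hs2, hs, hqs⟩ := exists_sub_root hF hr' hodd' hcard₁
    by_cases hrr : r = r'
    · subst hrr
      obtain rfl : F₁ = F₀ :=
        subfield_eq (Nat.pow_left_injective hr.ne_zero (hcard₁.symm.trans hcard))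
      refine hle.trans (le_of_eq (subfieldSubgroup_eq habs F₁ 1 B (fun x hx i j => ?_) fun x hx i j => ?_))
      · exact rat_commutator inf_le_left hx i j
      · exact rat_commutator (hHM.trans hle) hx i j
    · exfalso
      obtain ⟨p, hp, b, hb⟩ := exists_prime_pow hF
      obtain ⟨a, -, rfl⟩ := (Nat.dvd_prime_pow hp).1 (hb ▸ hqt ▸ dvd_pow_self t hr.ne_zero)
      obtain ⟨a', -, rfl⟩ := (Nat.dvd_prime_pow hp).1 (hb ▸ hqs ▸ dvd_pow_self s hr'.ne_zero)
      have he := hqt.symm.trans hqs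
      rw [← pow_mul, ← pow_mul] at he
      have he' := Nat.pow_right_injective hp.two_le he
      obtain ⟨m, rfl⟩ : r' ∣ a := ((Nat.coprime_primes hr' hr).2 (Ne.symm hrr)).dvd_of_dvd_mul_right
        ⟨a', he'.trans (mul_comm _ _)⟩
      obtain rfl : a' = r * m := Nat.eq_of_mul_eq_mul_left hr'.pos (by
        rw [mul_comm r' a', ← he']; ring)
      have hm0 : m ≠ 0 := by rintro rfl; simp at ht2
      refine sub_sub_u (u := p ^ m) (Nat.le_trans hp.two_le (Nat.le_self_pow hm0 p)) hr hr' hodd hodd' hrr ?_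
      rw [← pow_mul p m r', ← pow_mul p m r, mul_comm m r', mul_comm m r, ← hs]
      exact hd (card_subfield_dvd F₁ B hMSL hle)
  · exact absurd hle ((hfull.mono hHM).not_quad hF hv hvK hv2 h2 hM hQ')
  · exfalso
    rcases hsmall with ⟨hodd', -, h, -⟩ | ⟨hc, h, -⟩ | ⟨h5, h, -⟩
    · exact sub_small_u ht2 hr.two_le (hd h) (Or.inl ⟨rfl, hQ ▸ hodd'⟩)
    · refine sub_small_u ht2 hr.two_le (hd h) (Or.inr (Or.inl ⟨rfl, ?_⟩))
      rcases hc with hc | ⟨hc, -⟩
      · exact Or.inl (hQ ▸ hc)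
      · exact Or.inr (hQ ▸ hc)
    · exact sub_small_u ht2 hr.two_le (hd h) (Or.inr (Or.inr ⟨rfl, hQ ▸ by
        haveI : CharP F 5 := h5 ▸ ringChar.charP F
        haveI : Fact (Nat.Prime 5) := ⟨by norm_num⟩
        obtain ⟨n, -, hn⟩ := FiniteField.card F 5
        rw [hn]
        exact dvd_pow_self 5 n.ne_zero⟩))

include hF in
/-- The subfield groups of odd prime index are maximal. -/
theorem isMax_sub (hq : 3 ≤ q) (F₀ : Subfield F) (r : ℕ) (P : GL (Fin 3) F) (hr : r.Prime) (hodd : Odd r)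
    (hcard : Fintype.card F = Nat.card F₀ ^ r)
    (hP : IsFormRationalStructure (Cfsg.hermForm 3 F q) F₀ 1 P) :
    IsMaximalIn S₃ (subfieldSubgroup F₀ P ⊓ S₃) := by
  obtain ⟨t, ht2, ht, hqt⟩ := exists_sub_root hF hr hodd hcard
  obtain ⟨U, hU, hUP⟩ := exists_rational_orth hF ht2 ht hqt hodd hP
  rw [hUP]
  have h := SLMax.Subf.maximal_conj U (map_conj_sunit hF hU) (isMax_sub_one hF hq hr hodd hcard)
  have hid : subfieldSubgroup F₀ U = (subfieldSubgroup F₀ (1 : GL (Fin 3) F)).map (MulAut.conj U).toMonoidHom := by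
    simp only [subfieldSubgroup]
    rw [Subgroup.map_map]
    congr 1
    ext g
    simp
  rwa [Subgroup.map_inf _ _ _ (MulAut.conj U).injective, map_conj_sunit hF hU, ← hid] at h

end Cfsg.Lib.Linear.Mitchell.SU3
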