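import Cfsg.Agent.Lib.Linear.Mitchell.SU3OrthBasic
import Cfsg.Agent.Lib.Linear.Mitchell.SU3Sub
import Cfsg.Agent.Lib.Linear.Mitchell.MaxCardsQuad

/-!
# The orthogonal subgroups are maximal in `SU₃(q)`
-/

set_option autoImplicit false
set_option linter.unusedSectionVars false

namespace Cfsg.Lib.Linear.Mitchell.SU3

open Cfsg.Geo Cfsg.Lib.Linear MaxArith Max
open scoped Matrix MatrixGroups commutatorElement

/-! ### Arithmetic -/

theorem orth_mono_u {q : ℕ} (hq : 7 ≤ q) (h : ordO q ∣ 6 * ((q ^ 2) - 1) ^ 2) : False := by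
  have hc : Nat.Coprime (q ^ 1) ((q ^ 2 - 1) ^ 2) := (coprime_pow_pred (by omega) two_ne_zero).pow_right 2
  rw [pow_one] at hc
  have := Nat.le_of_dvd (by norm_num) (hc.dvd_of_dvd_mul_right ((dvd_mul_right q _).trans h))
  omega

theorem orth_field_u {q : ℕ} (hq : 7 ≤ q) (h : ordO q ∣ 3 * ordS (q ^ 2)) : False := by
  have hc : Nat.Coprime q (ordS (q ^ 2)) :=
    Nat.Coprime.coprime_dvd_left (show q ∣ (q ^ 2) ^ 1 from ⟨q, by ring⟩) (coprime_ordS (q := q ^ 2) (a := 1)).symm
  have := Nat.le_of_dvd (by norm_num) (hc.dvd_of_dvd_mul_right ((dvd_mul_right q _).trans h))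
  omega

theorem orth_le {q a : ℕ} (ha : a ≤ q) : a * (a ^ 2 - 1) ≤ ordO q :=
  Nat.mul_le_mul ha (Nat.sub_le_sub_right (Nat.pow_le_pow_left ha 2) 1)

theorem orth_extra_u {q : ℕ} (hodd : Odd q) (hq : 7 ≤ q) (h : ordO q ∣ 648) : False := by
  have hle := Nat.le_of_dvd (by norm_num) h
  have hb : q ≤ 8 := by
    by_contra h0
    have := orth_le (show 9 ≤ q by omega)
    norm_num at this
    omega
  interval_cases q <;> first | exact absurd hodd (by decide) | (norm_num [ordO] at h)

theorem orth_L32_u {q : ℕ} (hodd : Odd q) (hq : 7 ≤ q) (h7 : q ≠ 7) (h : ordO q ∣ 1008) : False := by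
  have hle := Nat.le_of_dvd (by norm_num) h
  have hb : q ≤ 10 := by
    by_contra h0
    have := orth_le (show 11 ≤ q by omega)
    norm_num at this
    omega
  interval_cases q <;> first | exact h7 rfl | exact absurd hodd (by decide) | (norm_num [ordO] at h)

theorem orth_A6_u {q : ℕ} (hodd : Odd q) (hq : 7 ≤ q) (h9 : q ≠ 9) (h : ordO q ∣ 4320) : False := by
  have hle := Nat.le_of_dvd (by norm_num) h
  have hb : q ≤ 16 := by
    by_contra h0
    have := orth_le (show 17 ≤ q by omega)
    norm_num at this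
    omega
  interval_cases q <;> first | exact h9 rfl | exact absurd hodd (by decide) | (norm_num [ordO] at h)

theorem orth_A7_u {q : ℕ} (hodd : Odd q) (hq : 7 ≤ q) (h5 : 5 ∣ q) (h : ordO q ∣ 15120) : False := by
  have hle := Nat.le_of_dvd (by norm_num) h
  have hb : q ≤ 24 := by
    by_contra h0
    have := orth_le (show 25 ≤ q by omega)
    norm_num at this
    omega
  obtain ⟨k, rfl⟩ := h5
  obtain hk : k ≤ 4 := by omega
  interval_cases k <;> first | omega | exact absurd hodd (by decide) | (norm_num [ordO] at h)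

variable {F : Type*} [Field F] [Fintype F] {q : ℕ} (hF : Fintype.card F = q ^ 2)

local notation "S₃" => Asch.sunit 3 F q

include hF in
/-- A rational orthogonal matrix of determinant one lies in the orthogonal subgroup. -/
theorem mem_orth {F₀ : Subfield F} (hcard : Fintype.card F = Nat.card F₀ ^ 2) {g : GL (Fin 3) F}
    (hg : ∀ i j, g.val i j ∈ F₀) (ho : g.valᵀ * g.val = 1) (hd : g.val.det = 1) :
    g ∈ subfieldSubgroup F₀ (1 : GL (Fin 3) F) ⊓ S₃ := by
  refine ⟨mem_subfield_one hg, mem_GU_of_gram hF ?_, MonoidHom.mem_ker.2 (Units.ext (by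
    rw [Matrix.GeneralLinearGroup.val_det_apply, hd, Units.val_one]))⟩
  rw [show g.val.map (Asch.sigmaE hF) = g.val from Matrix.ext fun i j => by
    rw [Matrix.map_apply, Asch.sigmaE_apply, pow_q_fixed hF hcard (hg i j)], ho]

include hF in
/-- The special orthogonal group over the subfield. -/
theorem card_orth_sub (h2 : (2 : F) ≠ 0) {F₀ : Subfield F} (hcard : Fintype.card F = Nat.card F₀ ^ 2) :
    ordO q ∣ Nat.card (subfieldSubgroup F₀ (1 : GL (Fin 3) F) ⊓ S₃ : Subgroup (GL (Fin 3) F)) := by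
  classical
  letI : Fintype F₀ := Fintype.ofFinite F₀
  have h2' : (2 : F₀) ≠ 0 := fun h => h2 (by
    have := congrArg F₀.subtype h
    rwa [map_ofNat, map_zero] at this)
  let Q : (Fin 3 → F₀) → F₀ := fun v => v ⬝ᵥ v
  have hpol : ∀ u v, QuadraticMap.polar Q u v = 2 * (u ⬝ᵥ v) := fun u v => by
    simp only [QuadraticMap.polar, Q, dotProduct_add, add_dotProduct, dotProduct_comm v u]
    ring
  have hQ : IsNondegenerateQuadraticForm Q := by
    refine ⟨fun c v => by simp only [Q, smul_dotProduct, dotProduct_smul, smul_eq_mul]; ring,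
      ⟨fun x y v => ?_, fun c x v => ?_, fun v x y => ?_, fun c v x => ?_⟩, fun v hv => ?_⟩
    · simp only [hpol, add_dotProduct]; ring
    · simp only [hpol, smul_dotProduct, smul_eq_mul]; ring
    · simp only [hpol, dotProduct_add]; ring
    · simp only [hpol, dotProduct_smul, smul_eq_mul]; ring
    · obtain ⟨i, hi⟩ := Function.ne_iff.1 hv
      exact ⟨⟨Pi.single i 1, by simpa [hpol, h2'] using hi⟩, ⟨Pi.single i 1, by simpa [hpol, h2'] using hi⟩⟩
  let ι₀ := Matrix.GeneralLinearGroup.map (n := Fin 3) (F₀.subtype : F₀ →+* F)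
  have hinj : Function.Injective ι₀ := fun a b h =>
    Units.ext (Matrix.map_injective Subtype.val_injective (congrArg Units.val h))
  have hq₀ : Fintype.card F₀ = q := by
    rw [← Nat.card_eq_fintype_card]; exact q_unique hF hcard
  set O := isom (QuadraticMap.polar Q) ⊓ specialLinear (Fin 3) F₀ with hO
  have hc := card_SO_three h2' hQ
  rw [hq₀] at hc
  rw [← hc, ← hO, Nat.card_congr (O.equivMapOfInjective _ hinj).toEquiv]
  refine Subgroup.card_dvd_of_le ?_
  rintro _ ⟨g, hg, rfl⟩
  refine mem_orth hF hcard (fun i j => ?_) ?_ ?_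
  · exact (g.val i j).2
  · show (g.val.map F₀.subtype)ᵀ * g.val.map F₀.subtype = 1
    have ho : g.valᵀ * g.val = 1 := by
      ext i j
      have h : QuadraticMap.polar Q (g.val *ᵥ Pi.single i 1) (g.val *ᵥ Pi.single j 1) =
          QuadraticMap.polar Q (Pi.single i 1) (Pi.single j 1) := hg.1 _ _
      rw [hpol, hpol] at h
      have h' := mul_left_cancel₀ h2' h
      simp only [Matrix.mulVec_single, MulOpposite.op_one, one_smul, single_dotProduct, one_mul] at h'
      rw [Matrix.one_apply]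
      simp only [Pi.single_apply] at h'
      rw [← h']
      simp [Matrix.mul_apply, dotProduct, Matrix.col_apply]
    rw [← Matrix.transpose_map, ← Matrix.map_mul, ho, Matrix.map_one _ (map_zero _) (map_one _)]
  · show (g.val.map F₀.subtype).det = 1
    rw [show (g.val.map F₀.subtype).det = F₀.subtype g.val.det from (RingHom.map_det _ _).symm,
      show g.val.det = 1 from congrArg Units.val (MonoidHom.mem_ker.1 hg.2), map_one]

include hF in
/-- Membership in a subfield of odd index, by squares. -/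
theorem mem_of_sq {F₀ F₁ : Subfield F} (hcard : Fintype.card F = Nat.card F₀ ^ 2) {t r : ℕ}
    (ht : Nat.card F₁ = t ^ 2) (hqt : q = t ^ r) (hodd : Odd r) (htodd : Odd t) {x : F} (hx : x ∈ F₀)
    (hx2 : x ^ 2 ∈ F₁) : x ∈ F₁ := by
  have h1 : (x ^ 2) ^ t = x ^ 2 := by
    rw [← pow_q_eq ht hqt hodd hx2, pow_q_fixed hF hcard (pow_mem hx 2)]
  rw [← pow_mul, mul_comm, pow_mul] at h1
  refine mem_of_pow_card ?_
  rw [ht, sq, pow_mul]
  rcases sq_eq_sq_iff_eq_or_eq_neg.1 h1 with e | e
  · rw [e, e]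
  · rw [e, htodd.neg_pow, e, neg_neg]

set_option maxHeartbeats 2000000 in
include hF in
/-- A rational rotation inverted by a diagonal involution. -/
theorem exists_rotation {F₀ : Subfield F} (hcard : Fintype.card F = Nat.card F₀ ^ 2) {a b : F} (haF : a ∈ F₀)
    (hbF : b ∈ F₀) (hab : a ^ 2 + b ^ 2 = 1) :
    ∃ R : GL (Fin 3) F, R ∈ subfieldSubgroup F₀ (1 : GL (Fin 3) F) ⊓ S₃ ∧
      R * (frm 1 1 ![1, -1, -1] * R) = frm 1 1 ![1, -1, -1] ∧ (R * R).val.trace = 4 * a ^ 2 - 1 := by
  let R : GL (Fin 3) F :=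
    { val := !![a, -b, 0; b, a, 0; 0, 0, 1]
      inv := !![a, b, 0; -b, a, 0; 0, 0, 1]
      val_inv := by
        ext i j
        fin_cases i <;> fin_cases j <;> simp [Matrix.mul_apply, Fin.sum_univ_three] <;>
          first | linear_combination hab | ring
      inv_val := by
        ext i j
        fin_cases i <;> fin_cases j <;> simp [Matrix.mul_apply, Fin.sum_univ_three] <;>
          first | linear_combination hab | ring }
  refine ⟨R, mem_orth hF hcard (fun i j => ?_) ?_ ?_, Units.ext ?_, ?_⟩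
  · fin_cases i <;> fin_cases j <;> simp [R, haF, hbF, F₀.neg_mem hbF, F₀.one_mem, F₀.zero_mem]
  · ext i j
    fin_cases i <;> fin_cases j <;> simp [R, Matrix.mul_apply, Fin.sum_univ_three] <;>
      first | linear_combination hab | ring
  · simp [R, Matrix.det_fin_three]
    linear_combination hab
  · have hDv : (frm (1 : GL (Fin 3) F) 1 ![1, -1, -1]).val = !![1, 0, 0; 0, -1, 0; 0, 0, -1] := by
      rw [frm, one_mul, inv_one, mul_one]
      ext i j
      fin_cases i <;> fin_cases j <;> simp [monoGL, monoMat]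
    rw [Units.val_mul, Units.val_mul, hDv]
    ext i j
    fin_cases i <;> fin_cases j <;> simp [R, Matrix.mul_apply, Fin.sum_univ_three] <;>
      first | linear_combination hab | linear_combination -hab | ring
  · rw [Units.val_mul, Matrix.trace_fin_three]
    simp [R, Matrix.mul_apply, Fin.sum_univ_three]
    linear_combination -2 * hab

include hF in
/-- The orthogonal subgroup in the standard basis is maximal. -/
theorem isMax_orth_one (hq7 : 7 ≤ q) (hqodd : Odd q) {F₀ : Subfield F}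
    (hcard : Fintype.card F = Nat.card F₀ ^ 2) :
    IsMaximalIn S₃ (subfieldSubgroup F₀ (1 : GL (Fin 3) F) ⊓ S₃) := by
  classical
  have h2 : (2 : F) ≠ 0 := fun h2 => by
    haveI : CharP F 2 := CharTwo.of_one_ne_zero_of_two_eq_zero one_ne_zero h2
    haveI : Fact (Nat.Prime 2) := ⟨Nat.prime_two⟩
    obtain ⟨n, -, hn⟩ := FiniteField.card F 2
    have h := dvd_pow_self 2 n.ne_zero
    rw [← hn, hF] at h
    exact absurd (even_iff_two_dvd.2 (Nat.prime_two.dvd_of_dvd_pow h)) (Nat.not_even_iff_odd.2 hqodd)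
  have hq₀ : Nat.card F₀ = q := q_unique hF hcard
  set H := subfieldSubgroup F₀ (1 : GL (Fin 3) F) ⊓ S₃ with hH
  have hfull : Full (1 : GL (Fin 3) F) q F₀ H := fun π ε hg =>
    ⟨mem_subfield_one (monoMat_entry hg.mem), frm_mem hF (one_mem _) hg⟩
  have hn1 : ((-1 : Fˣ) : F) ^ (q + 1) = 1 := by rw [Units.val_neg, Units.val_one]; exact pow_neg_one hF
  set t₁ := frm (1 : GL (Fin 3) F) (Equiv.swap 0 1) ![1, 1, -1]
  set t₂ := frm (1 : GL (Fin 3) F) (Equiv.swap 1 2) ![-1, 1, 1]
  have ht₁ : t₁ ∈ H := hfull _ _ (good_swap hF (by decide) (fun l => by fin_cases l <;> simp) (by simp))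
  have ht₂ : t₂ ∈ H := hfull _ _ (good_swap hF (by decide) (fun l => by fin_cases l <;> simp) (by simp))
  have hb : frm (1 : GL (Fin 3) F) 1 ![1, -1, -1] ∈ H := hfull _ _ (good_diag
    (fun l => by fin_cases l <;> simp [hn1, pow_neg_one hF])
    (fun l => by fin_cases l <;> simp [F₀.one_mem, F₀.neg_mem]) (by simp))
  have ha : frm (1 : GL (Fin 3) F) 1 ![-1, -1, 1] ∈ H := hfull _ _ (good_diag
    (fun l => by fin_cases l <;> simp [hn1, pow_neg_one hF])
    (fun l => by fin_cases l <;> simp [F₀.one_mem, F₀.neg_mem]) (by simp))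
  have hca : ⁅t₁, frm (1 : GL (Fin 3) F) 1 ![1, -1, -1]⁆ = frm (1 : GL (Fin 3) F) 1 ![-1, -1, 1] := comm_eq (by
    simp only [t₁, frm_mul]
    congr 1
    funext l
    fin_cases l <;> simp [Equiv.swap_apply_def])
  have hcb : ⁅t₂, frm (1 : GL (Fin 3) F) 1 ![-1, -1, 1]⁆ = frm (1 : GL (Fin 3) F) 1 ![1, -1, -1] := comm_eq (by
    simp only [t₂, frm_mul]
    congr 1
    funext l
    fin_cases l <;> simp [Equiv.swap_apply_def])
  set γ : Equiv.Perm (Fin 3) := Equiv.swap 0 1 * Equiv.swap 1 2 * (Equiv.swap 0 1 * Equiv.swap 1 2)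
  have hc : ⁅t₁, t₂⁆ = frm (1 : GL (Fin 3) F) γ ![1, -1, -1] := comm_eq (by
    simp only [t₁, t₂, frm_mul]
    congr 1
    · decide
    · funext l
      fin_cases l <;> simp [γ, Equiv.swap_apply_def])
  have habs : ActsAbsolutelyIrreducibly (matrixSet ⁅H, H⁆) :=
    absIrr_signs h2 (hca ▸ Subgroup.commutator_mem_commutator ht₁ hb)
      (hcb ▸ Subgroup.commutator_mem_commutator ht₂ ha) (γ := γ) (by decide)
      (hc ▸ Subgroup.commutator_mem_commutator ht₁ ht₂)
  have hGH : ⁅H, H⁆ ≤ H := Subgroup.commutator_le.2 fun a ha b hb =>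
    mul_mem (mul_mem (mul_mem ha hb) (inv_mem ha)) (inv_mem hb)
  have hGrat : ∀ x ∈ ⁅H, H⁆, ∀ i j, x.val i j ∈ F₀ := fun x hx i j => by
    have h := rat_commutator (B := (1 : GL (Fin 3) F)) inf_le_left hx i j
    simpa using h
  refine isMax_intro hF (by omega) (irr_mono hGH habs.1) (fun e => ?_) fun M hHM hM hlist => ?_
  · refine unit_sub (q₀ := q) (q₁ := q) (s := 2) (by omega) (by omega) le_rfl rfl ?_
    rw [← card_sunit hF, ← e]
    nth_rw 2 [← hq₀]
    exact card_subfield_dvd F₀ 1 (inf_le_right.trans inf_le_right) inf_le_left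
  have hMSL : M ≤ specialLinear (Fin 3) F := hM.trans inf_le_right
  have hd : ∀ {n}, Nat.card M ∣ n → ordO q ∣ n := fun h =>
    ((card_orth_sub hF h2 hcard).trans (Subgroup.card_dvd_of_le hHM)).trans h
  rcases hlist with ⟨D, hD, hle⟩ | ⟨K, hK, hle⟩ |
    ⟨R, c, x, y, z, hRM, hn, hR⟩ | ⟨F₁, r, B, hne₁, hr, hcard₁, hle⟩ | ⟨-, Q, hQ, hle⟩ | hsmall
  · exact (orth_mono_u hq7 (by rw [← hF]; exact hd (dvd_mono hMSL hD hle))).elim
  · exact (orth_field_u hq7 (by rw [← hF]; exact hd (dvd_field hMSL hK hle))).elim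
  · exact (orth_extra_u hqodd hq7 (hd (extra_card_dvd hR hMSL hn))).elim
  · rcases hr.eq_two_or_odd' with rfl | hodd
    · obtain rfl : F₁ = F₀ :=
        subfield_eq (Nat.pow_left_injective two_ne_zero (hcard₁.symm.trans hcard))
      refine hle.trans (le_of_eq (subfieldSubgroup_eq habs F₁ 1 B (fun x hx i j => ?_) fun x hx i j => ?_))
      · exact rat_commutator inf_le_left hx i j
      · exact rat_commutator (hHM.trans hle) hx i j
    · exfalso
      obtain ⟨t, ht2, ht, hqt⟩ := exists_sub_root hF hr hodd hcard₁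
      have htodd : Odd t := (Nat.odd_pow_iff hr.ne_zero).1 (hqt ▸ hqodd)
      have hmem : ∀ {x : F}, x ∈ F₀ → x ^ 2 ∈ F₁ → x ∈ F₁ := fun hx hx2 =>
        mem_of_sq hF hcard ht hqt hodd htodd hx hx2
      have h4 : (4 : F) ≠ 0 := by
        rw [show (4 : F) = 2 * 2 by norm_num]; exact mul_ne_zero h2 h2
      have hall : ∀ s ∈ F₀, s ∈ F₁ := by
        intro s hs
        by_cases hs1 : 1 + s ^ 2 = 0
        · refine hmem hs ?_
          rw [show s ^ 2 = -1 by linear_combination hs1]
          exact F₁.neg_mem F₁.one_mem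
        set a := (1 - s ^ 2) / (1 + s ^ 2) with ha_def
        set b := 2 * s / (1 + s ^ 2) with hb_def
        have hab : a ^ 2 + b ^ 2 = 1 := by
          rw [ha_def, hb_def]; field_simp; ring
        have haF : a ∈ F₀ := F₀.div_mem (F₀.sub_mem F₀.one_mem (pow_mem hs 2))
          (F₀.add_mem F₀.one_mem (pow_mem hs 2))
        have hbF : b ∈ F₀ := F₀.div_mem (F₀.mul_mem (by
            rw [← one_add_one_eq_two]; exact F₀.add_mem F₀.one_mem F₀.one_mem) hs)
          (F₀.add_mem F₀.one_mem (pow_mem hs 2))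
        obtain ⟨R, hRH, hRD, htr⟩ := exists_rotation hF hcard haF hbF hab
        have hcomm : ⁅R, frm (1 : GL (Fin 3) F) 1 ![1, -1, -1]⁆ = R * R := comm_eq (by
          conv_lhs => rw [← hRD]
          simp only [mul_assoc])
        have hmemtr : (R * R).val.trace ∈ F₁ :=
          hcomm ▸ trace_subfield hle (Subgroup.commutator_mono hHM hHM (Subgroup.commutator_mem_commutator hRH hb))
        have h4F : (4 : F) ∈ F₁ := natCast_mem F₁ 4
        have ha2 : a ^ 2 ∈ F₁ := by
          rw [show a ^ 2 = ((R * R).val.trace + 1) / 4 by rw [htr]; field_simp; ring]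
          exact F₁.div_mem (F₁.add_mem hmemtr F₁.one_mem) h4F
        have haF₁ := hmem haF ha2
        refine hmem hs ?_
        have h1a : 1 + a = 2 / (1 + s ^ 2) := by rw [ha_def]; field_simp; ring
        rw [show s ^ 2 = (1 - a) / (1 + a) by rw [h1a, ha_def]; field_simp; ring]
        exact F₁.div_mem (F₁.sub_mem F₁.one_mem haF₁) (F₁.add_mem F₁.one_mem haF₁)
      letI : Fintype F₀ := Fintype.ofFinite F₀
      obtain ⟨g, hg⟩ := IsCyclic.exists_ofOrder_eq_natCard (α := F₀ˣ)
      have hfix : (g : F₀) ^ t = g := Subtype.ext (by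
        rw [SubmonoidClass.coe_pow, ← pow_q_eq ht hqt hodd (hall _ (g : F₀).2),
          pow_q_fixed hF hcard (g : F₀).2])
      have h1 : g ^ (t - 1) = 1 := mul_left_cancel (a := g) (by
        rw [mul_one, ← pow_succ', show t - 1 + 1 = t by omega]
        exact Units.ext (by rw [Units.val_pow_eq_pow_val]; exact hfix))
      have h3 := Nat.le_of_dvd (by omega) (orderOf_dvd_of_pow_eq_one h1)
      rw [hg, Nat.card_units, hq₀] at h3
      have : t ^ 2 ≤ t ^ r := Nat.pow_le_pow_right (by omega) hr.two_le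
      have : 2 * t ≤ t ^ 2 := by rw [sq]; exact Nat.mul_le_mul_right t ht2
      omega
  · set f := QuadraticMap.polar Q with hf
    rw [Asch.quadSimilarityGroup_eq h2 hQ] at hle
    have hs := Asch.isSesq_of_bilinear hQ.polar_bilinear hQ.nondegenerate
    set N := gramMatrix f with hN
    have hGiso : ⁅H, H⁆ ≤ isom f :=
      Subgroup.commutator_le.2 fun a ha b hb => commutator_isom (hle (hHM ha)) (hle (hHM hb))
    have hcomm : ∀ x ∈ matrixSet ⁅H, H⁆, N * x = x * N := by
      rintro _ ⟨x, hx, rfl⟩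
      have h1 := Asch.fixes_gram hs (S := {x.val}) (fun s hs' u v => by
        rw [Set.mem_singleton_iff.1 hs']; exact hGiso hx u v) _ rfl
      rw [show x.val.map (RingEquiv.refl F) = x.val from by ext; rfl, ← hN] at h1
      have h3 := Asch.gu_gram hF ((hGH hx).2).1
      rw [show x.val.map (Asch.sigmaE hF) = x.val from Matrix.ext fun i j => by
        rw [Matrix.map_apply, Asch.sigmaE_apply, pow_q_fixed hF hcard (hGrat x hx i j)]] at h3
      calc N * x.val = (x.val * x.valᵀ) * (N * x.val) := by rw [mul_eq_one_comm.1 h3, Matrix.one_mul]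
        _ = x.val * (x.valᵀ * N * x.val) := by simp only [Matrix.mul_assoc]
        _ = x.val * N := by rw [h1]
    obtain ⟨k, hk⟩ := habs.2 N hcomm
    have hk0 : k ≠ 0 := fun e => by
      have h := Asch.isUnit_det_gram hs
      rw [← hN, hk, e, zero_smul, Matrix.det_zero] at h
      exact not_isUnit_zero h
    intro g hg
    obtain ⟨l, hl⟩ := hle hg
    have hM' : g.valᵀ * N * g.val.map (RingEquiv.refl F) = (l : F) • N :=
      Asch.mat_eq (RingEquiv.refl F) fun u v => by
        rw [← Asch.sesq_act hs, hl, Asch.sesq_gram hs, Matrix.smul_mulVec, dotProduct_smul, smul_eq_mul]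
    rw [show g.val.map (RingEquiv.refl F) = g.val from by ext; rfl, hk, Matrix.mul_smul, Matrix.mul_one,
      Matrix.smul_mul, smul_comm] at hM'
    have hgg : g.valᵀ * g.val = (l : F) • 1 := smul_right_injective _ hk0 hM'
    have hgu := Asch.gu_gram hF (hM hg).1
    have hσg : (l : F) • g.val.map (Asch.sigmaE hF) = g.val := by
      have h5 : (g⁻¹).valᵀ * g.valᵀ = 1 := by rw [← Matrix.transpose_mul, Units.mul_inv, Matrix.transpose_one]
      have h6 : g.valᵀ * ((l : F) • g.val.map (Asch.sigmaE hF)) = g.valᵀ * g.val := by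
        rw [Matrix.mul_smul, hgu, hgg]
      have h7 := congrArg ((g⁻¹).valᵀ * ·) h6
      simp only [← Matrix.mul_assoc, h5, Matrix.one_mul] at h7
      exact h7
    obtain ⟨i0, j0, h0⟩ : ∃ i j, g.val i j ≠ 0 := by
      by_contra hne
      push Not at hne
      exact g.isUnit.ne_zero (Matrix.ext fun i j => hne i j)
    refine (Rat0.mem_subfieldSubgroup_one F₀ _).2 ⟨(g.val i0 j0)⁻¹, inv_ne_zero h0, fun i j => ?_⟩
    refine mem_of_pow_card ?_
    rw [hq₀]
    have hij := congrFun (congrFun hσg i) j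
    have hkl := congrFun (congrFun hσg i0) j0
    simp only [Matrix.smul_apply, Matrix.map_apply, smul_eq_mul, Asch.sigmaE_apply] at hij hkl
    rw [mul_pow, inv_pow]
    have hne : g.val i0 j0 ^ q ≠ 0 := pow_ne_zero _ h0
    field_simp
    linear_combination (g.val i0 j0 ^ q) * hij - (g.val i j ^ q) * hkl
  · exfalso
    rcases hsmall with ⟨-, h7, h, -⟩ | ⟨hc4, h, -⟩ | ⟨h5, h, -⟩
    · refine orth_L32_u hqodd hq7 (fun e => h7 ?_) (hd h)
      subst e
      obtain ⟨p, hp⟩ := CharP.exists F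
      obtain ⟨n, hp', hn⟩ := FiniteField.card F p
      rw [hF] at hn
      obtain rfl := (Nat.prime_dvd_prime_iff_eq hp' (by norm_num : Nat.Prime 7)).1
        (hp'.dvd_of_dvd_pow (hn ▸ dvd_pow_self p n.ne_zero))
      exact ringChar.eq F 7
    · refine orth_A6_u hqodd hq7 (fun e => ?_) (hd h)
      subst e
      rcases hc4 with hc4 | ⟨-, h3⟩
      · omega
      · obtain ⟨p, hp⟩ := CharP.exists F
        obtain ⟨n, hp', hn⟩ := FiniteField.card F p
        rw [hF] at hn
        obtain rfl := (Nat.prime_dvd_prime_iff_eq hp' Nat.prime_three).1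
          (hp'.dvd_of_dvd_pow (hp'.dvd_of_dvd_pow (show p ∣ (3 ^ 2) ^ 2 by
            norm_num; rw [show (81 : ℕ) = 9 ^ 2 by norm_num, hn]; exact dvd_pow_self p n.ne_zero)))
        exact h3 (ringChar.eq F 3)
    · refine orth_A7_u hqodd hq7 (Nat.prime_five.dvd_of_dvd_pow (n := 2) ?_) (hd h)
      haveI : CharP F 5 := h5 ▸ ringChar.charP F
      haveI : Fact (Nat.Prime 5) := ⟨by norm_num⟩
      obtain ⟨n, -, hn⟩ := FiniteField.card F 5
      rw [← hF, hn]
      exact dvd_pow_self 5 n.ne_zero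

include hF in
/-- The orthogonal subgroups are maximal. -/
theorem isMax_orth (hqodd : Odd q) (hq7 : 7 ≤ q) (F₀ : Subfield F) (P : GL (Fin 3) F)
    (hcard : Fintype.card F = Nat.card F₀ ^ 2)
    (hP : IsFormRationalStructure (Cfsg.hermForm 3 F q) F₀ 1 P) :
    IsMaximalIn S₃ (subfieldSubgroup F₀ P ⊓ S₃) := by
  have h2 : (2 : F) ≠ 0 := fun h2 => by
    haveI : CharP F 2 := CharTwo.of_one_ne_zero_of_two_eq_zero one_ne_zero h2
    haveI : Fact (Nat.Prime 2) := ⟨Nat.prime_two⟩
    obtain ⟨n, -, hn⟩ := FiniteField.card F 2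
    have h := dvd_pow_self 2 n.ne_zero
    rw [← hn, hF] at h
    exact absurd (even_iff_two_dvd.2 (Nat.prime_two.dvd_of_dvd_pow h)) (Nat.not_even_iff_odd.2 hqodd)
  obtain ⟨U, hU, hUP⟩ := exists_rational_dot hF h2 hcard hP
  rw [hUP]
  have h := SLMax.Subf.maximal_conj U (map_conj_sunit hF hU) (isMax_orth_one hF hq7 hqodd hcard)
  have hid : subfieldSubgroup F₀ U = (subfieldSubgroup F₀ (1 : GL (Fin 3) F)).map (MulAut.conj U).toMonoidHom := by
    simp only [subfieldSubgroup]
    rw [Subgroup.map_map]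
    congr 1
    ext g
    simp
  rwa [Subgroup.map_inf _ _ _ (MulAut.conj U).injective, map_conj_sunit hF hU, ← hid] at h

end Cfsg.Lib.Linear.Mitchell.SU3
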