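import Cfsg.Agent.Lib.Linear.Mitchell.SU3SubBasic
import Cfsg.Agent.Lib.Linear.Mitchell.MaxSL3Extra
import Cfsg.Agent.Lib.Linear.OrthSympTransfer

/-!
# Rational bases and absolute irreducibility for the orthogonal subgroups of `SU₃(q)`
-/

set_option autoImplicit false
set_option linter.unusedSectionVars false

namespace Cfsg.Lib.Linear.Mitchell.SU3

open Cfsg.Geo Cfsg.Lib.Linear MaxArith Max
open scoped Matrix MatrixGroups commutatorElement

variable {F : Type*} [Field F] [Fintype F] {q : ℕ} (hF : Fintype.card F = q ^ 2)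

local notation "S₃" => Asch.sunit 3 F q

/-- A symmetric invertible matrix of size three is a scalar times a Gram matrix. -/
theorem exists_dot (h2 : (2 : F) ≠ 0) {G : Matrix (Fin 3) (Fin 3) F} (hsym : Gᵀ = G) (hdet : G.det ≠ 0) :
    ∃ (S : GL (Fin 3) F) (d : F), d ≠ 0 ∧ G = d • (S.valᵀ * S.val) := by
  classical
  have key : ∀ A : Matrix (Fin 3) (Fin 3) F, Aᵀ = A → A.det ≠ 0 →
      ∃ (e : (Fin 3 → F) ≃ₗ[F] (Unit ⊕ (Fin 1 ⊕ Fin 1) → F)) (c : F), c ≠ 0 ∧
        ∀ v, Cfsg.quadFormOdd 1 F (e v) = c * (v ⬝ᵥ A *ᵥ v) := by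
    intro A hA hA0
    obtain ⟨e, c, he⟩ := OrthSympTransfer.exists_toOrth h2 (Matrix.toBilin' A)
      (fun x y => by
        rw [Matrix.toBilin'_apply', Matrix.toBilin'_apply', dotProduct_comm, ← Matrix.vecMul_transpose, hA,
          Matrix.dotProduct_mulVec])
      (fun a ha => by
        refine Matrix.eq_zero_of_vecMul_eq_zero hA0 (funext fun j => ?_)
        have h := ha (Pi.single j 1)
        rw [Matrix.toBilin'_apply', Matrix.dotProduct_mulVec, dotProduct_single, mul_one] at h
        exact h)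
      (n := 1) (by rw [Module.finrank_fintype_fun_eq_card, Fintype.card_fin])
    have he' : ∀ v, Cfsg.quadFormOdd 1 F (e v) = c * (v ⬝ᵥ A *ᵥ v) := fun v => by
      rw [he, Matrix.toBilin'_apply']
    refine ⟨e, c, fun hc => ?_, he'⟩
    have h1 := he' (e.symm (Pi.single (Sum.inl ()) 1))
    rw [e.apply_symm_apply, hc, zero_mul] at h1
    simp [Cfsg.quadFormOdd] at h1
  obtain ⟨e, c, hc, he⟩ := key G hsym hdet
  obtain ⟨e₁, c₁, hc₁, he₁⟩ := key 1 Matrix.transpose_one (by simp)
  set L := e.trans e₁.symm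
  let S : GL (Fin 3) F := Matrix.GeneralLinearGroup.toLin.symm (LinearMap.GeneralLinearGroup.ofLinearEquiv L)
  have hS : ∀ v, S.val *ᵥ v = L v := fun v => by
    show LinearMap.toMatrix' L.toLinearMap *ᵥ v = L v
    rw [LinearMap.toMatrix'_mulVec]
    rfl
  refine ⟨S, c₁ / c, div_ne_zero hc₁ hc, ?_⟩
  have hquad : ∀ v, c * (v ⬝ᵥ G *ᵥ v) = c₁ * (v ⬝ᵥ (S.valᵀ * S.val) *ᵥ v) := fun v => by
    have h := he₁ (L v)
    rw [show e₁ (L v) = e v from e₁.apply_symm_apply _, he, Matrix.one_mulVec] at h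
    rw [h, ← Matrix.mulVec_mulVec, Matrix.dotProduct_mulVec, Matrix.vecMul_transpose, hS]
  set A := c • G - c₁ • (S.valᵀ * S.val) with hA
  have hA0 : ∀ v, v ⬝ᵥ A *ᵥ v = 0 := fun v => by
    rw [hA, Matrix.sub_mulVec, Matrix.smul_mulVec, Matrix.smul_mulVec, dotProduct_sub, dotProduct_smul,
      dotProduct_smul, smul_eq_mul, smul_eq_mul, hquad, sub_self]
  have hAt : ∀ i j, A j i = A i j := fun i j => by
    have : Aᵀ = A := by
      rw [hA, Matrix.transpose_sub, Matrix.transpose_smul, Matrix.transpose_smul, hsym, Matrix.transpose_mul,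
        Matrix.transpose_transpose]
    exact congrFun (congrFun this i) j
  have hzero : ∀ i j, A i j = 0 := fun i j => by
    have h1 := hA0 (Pi.single i 1 + Pi.single j 1)
    have h2' := hA0 (Pi.single i 1)
    have h3 := hA0 (Pi.single j 1)
    simp only [Matrix.mulVec_add, dotProduct_add, add_dotProduct, Matrix.mulVec_single, MulOpposite.op_one,
      one_smul, single_dotProduct, one_mul, Matrix.col_apply] at h1 h2' h3
    refine (mul_eq_zero.1 (show (2 : F) * A i j = 0 from ?_)).resolve_left h2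
    linear_combination h1 - h2' - h3 - hAt i j
  ext i j
  have h := hzero i j
  simp only [hA, Matrix.sub_apply, Matrix.smul_apply, smul_eq_mul] at h
  simp only [Matrix.smul_apply, smul_eq_mul]
  field_simp
  linear_combination h

include hF in
theorem pow_q_fixed {F₀ : Subfield F} (hcard : Fintype.card F = Nat.card F₀ ^ 2) {x : F} (hx : x ∈ F₀) :
    x ^ q = x := self_conj_of_index_two hF hcard hx

include hF in
/-- A rational symmetric structure has an orthonormal basis up to a scalar. -/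
theorem exists_rational_dot (h2 : (2 : F) ≠ 0) {F₀ : Subfield F} (hcard : Fintype.card F = Nat.card F₀ ^ 2)
    {P : GL (Fin 3) F} (hP : IsFormRationalStructure (Cfsg.hermForm 3 F q) F₀ 1 P) :
    ∃ U, U ∈ Cfsg.GU 3 F q ∧ subfieldSubgroup F₀ P = subfieldSubgroup F₀ U := by
  classical
  letI : Fintype F₀ := Fintype.ofFinite F₀
  set σ := Asch.sigmaE hF with hσ
  have hfix : ∀ x ∈ F₀, σ x = x := fun x hx => by rw [hσ, Asch.sigmaE_apply, pow_q_fixed hF hcard hx]
  have hsingle : ∀ i k : Fin 3, (Pi.single i 1 : Fin 3 → F) k ∈ F₀ := fun i k => by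
    by_cases e : k = i <;> simp [e, F₀.one_mem, F₀.zero_mem]
  let G : Matrix (Fin 3) (Fin 3) F₀ := Matrix.of fun i j => ⟨(P.valᵀ * P.val.map σ) i j, by
    have h := hP (Pi.single i 1) (Pi.single j 1) (hsingle i) (hsingle j)
    rw [one_mul, ← gram_apply hF] at h
    exact h⟩
  have hG : G.map F₀.subtype = P.valᵀ * P.val.map σ := Matrix.ext fun i j => rfl
  have hdetne : G.det ≠ 0 := fun h0 => by
    have h1 : (G.map F₀.subtype).det = 0 := by
      rw [show (G.map F₀.subtype).det = F₀.subtype G.det from (RingHom.map_det _ _).symm, h0, map_zero]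
    rw [hG, Matrix.det_mul, Matrix.det_transpose,
      show (P.val.map σ).det = σ P.val.det from (RingHom.map_det σ.toRingHom _).symm] at h1
    have hP0 : P.val.det ≠ 0 := ((Matrix.isUnit_iff_isUnit_det _).1 P.isUnit).ne_zero
    rcases mul_eq_zero.1 h1 with e | e
    · exact hP0 e
    · exact hP0 (by simpa using e)
  have hsym : Gᵀ = G := Matrix.ext fun i j => Subtype.ext (by
    show (G j i : F) = (G i j : F)
    rw [← hfix _ (G j i).2]
    show σ ((P.valᵀ * P.val.map σ) j i) = (P.valᵀ * P.val.map σ) i j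
    simp only [Matrix.mul_apply, Matrix.transpose_apply, Matrix.map_apply, map_sum, map_mul]
    exact Finset.sum_congr rfl fun k _ => by rw [hσ, Asch.sigmaE_sigmaE, mul_comm])
  obtain ⟨S, d, hd, hS⟩ := exists_dot (fun h => h2 (by
    have := congrArg F₀.subtype h
    rwa [map_ofNat, map_zero] at this)) hsym hdetne
  obtain ⟨x, hx⟩ := Herm.exists_norm_eq hF (μ := (d : F)) (fun e => hd (Subtype.ext e))
    (pow_q_fixed hF hcard d.2)
  set T := Matrix.GeneralLinearGroup.map (n := Fin 3) F₀.subtype S with hT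
  let Z : GL (Fin 3) F := Units.map (Matrix.scalar (Fin 3) : F →+* Matrix (Fin 3) (Fin 3) F).toMonoidHom x⁻¹
  obtain ⟨X, hX⟩ : ∃ X, X = T⁻¹ * Z := ⟨_, rfl⟩
  have hZ : Z.val = ((x : F)⁻¹) • (1 : Matrix (Fin 3) (Fin 3) F) := by
    ext i j
    by_cases h : i = j <;> simp [Z, h]
  refine ⟨P * X, mem_GU_of_gram hF ?_, ?_⟩
  · have h1 : P.valᵀ * P.val.map σ = (d : F) • (T.valᵀ * T.val.map σ) := by
      rw [← hG, hS]
      ext i j
      simp only [Matrix.map_apply, Matrix.smul_apply, smul_eq_mul, map_mul, Matrix.mul_apply,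
        Matrix.transpose_apply, map_sum]
      refine congrArg ((d : F) * ·) (Finset.sum_congr rfl fun k _ => ?_)
      show _ = (S.val k i : F) * σ (S.val k j : F)
      rw [hfix _ (S.val k j).2]
      rfl
    have hXT : T * X = Z := by rw [hX, mul_inv_cancel_left]
    calc (P * X).valᵀ * (P * X).val.map σ
        = X.valᵀ * (P.valᵀ * P.val.map σ) * X.val.map σ := by
          rw [Units.val_mul, Matrix.transpose_mul, Matrix.map_mul]
          simp only [Matrix.mul_assoc]
      _ = (d : F) • ((T * X).valᵀ * (T * X).val.map σ) := by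
          rw [h1, Units.val_mul, Matrix.transpose_mul, Matrix.map_mul]
          simp only [Matrix.mul_smul, Matrix.smul_mul, Matrix.mul_assoc]
      _ = 1 := by
          have hZσ : Z.val.map σ = (σ (x : F))⁻¹ • (1 : Matrix (Fin 3) (Fin 3) F) := by
            rw [hZ]
            ext i j
            by_cases h : i = j <;> simp [h]
          rw [hXT, hZσ, hZ, Matrix.transpose_smul, Matrix.transpose_one,
            Matrix.smul_mul, Matrix.one_mul, smul_smul, smul_smul, hσ, Asch.sigmaE_apply, ← hx,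
            pow_succ']
          have := x.ne_zero
          field_simp
          rw [one_smul]
  · have hXm : X ∈ subfieldSubgroup F₀ (1 : GL (Fin 3) F) := by
      refine (Rat0.mem_subfieldSubgroup_one F₀ _).2 ⟨(x : F), x.ne_zero, fun i j => ?_⟩
      rw [hX, Units.val_mul, hZ, Matrix.mul_smul, Matrix.mul_one, Matrix.smul_apply, smul_eq_mul, ← mul_assoc,
        mul_inv_cancel₀ x.ne_zero, one_mul, hT, ← map_inv]
      exact ((S⁻¹).val i j).2
    ext g
    rw [Asch.mem_subfieldSubgroup_iff, Asch.mem_subfieldSubgroup_iff, ← Rat0.mem_subfieldSubgroup_one,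
      ← Rat0.mem_subfieldSubgroup_one, show (P * X)⁻¹ * g * (P * X) = X⁻¹ * (P⁻¹ * g * P) * X by group,
      Subgroup.mul_mem_cancel_right _ hXm, Subgroup.mul_mem_cancel_left _ (inv_mem hXm)]

/-- Two diagonal sign matrices and a three-cycle generate an absolutely irreducible group. -/
theorem absIrr_signs (h2 : (2 : F) ≠ 0) {G : Subgroup (GL (Fin 3) F)}
    (h1 : frm (1 : GL (Fin 3) F) 1 ![-1, -1, 1] ∈ G) (h3 : frm (1 : GL (Fin 3) F) 1 ![1, -1, -1] ∈ G)
    {γ : Equiv.Perm (Fin 3)} {ε : Fin 3 → Fˣ} (hγ : ∀ i, γ i ≠ i) (hc : frm (1 : GL (Fin 3) F) γ ε ∈ G) :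
    ActsAbsolutelyIrreducibly (matrixSet G) := by
  classical
  set a : Fin 3 → Fˣ := ![-1, -1, 1]
  set b : Fin 3 → Fˣ := ![1, -1, -1]
  have hact : ∀ (lam : Fin 3 → Fˣ) (w : Fin 3 → F) l,
      ((frm (1 : GL (Fin 3) F) 1 lam).val *ᵥ w) l = (lam l : F) * w l := fun lam w l => by
    have h := coord_diag (1 : GL (Fin 3) F) lam w l
    simpa using h
  have hcyc : ∀ j, (frm (1 : GL (Fin 3) F) γ ε).val *ᵥ (Pi.single j 1) = (ε j : F) • Pi.single (γ j) 1 :=
    fun j => by
      have h := frm_mulVec (1 : GL (Fin 3) F) γ ε j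
      rwa [Units.val_one, Matrix.one_mulVec, Matrix.one_mulVec] at h
  refine ⟨Asch.irr_iff.2 fun W hW => or_iff_not_imp_left.2 fun hne => ?_, fun X hX => ?_⟩
  · obtain ⟨w, hw, hw0⟩ := Submodule.exists_mem_ne_zero_of_ne_bot hne
    set A := (frm (1 : GL (Fin 3) F) 1 a).val
    set B := (frm (1 : GL (Fin 3) F) 1 b).val
    have hAw : A *ᵥ w ∈ W := hW _ h1 _ hw
    have hBw : B *ᵥ w ∈ W := hW _ h3 _ hw
    have hABw : A *ᵥ (B *ᵥ w) ∈ W := hW _ h1 _ hBw
    have hproj : ∀ i, (Pi.single i (2 * w i) : Fin 3 → F) ∈ W := fun i => by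
      fin_cases i
      · convert W.add_mem hw hBw using 1
        funext l
        fin_cases l <;> simp [A, B, hact, a, b, -Matrix.mulVec_mulVec] <;> ring
      · convert W.add_mem hw hABw using 1
        funext l
        fin_cases l <;> simp [A, B, hact, a, b, -Matrix.mulVec_mulVec] <;> ring
      · convert W.add_mem hw hAw using 1
        funext l
        fin_cases l <;> simp [A, B, hact, a, b, -Matrix.mulVec_mulVec] <;> ring
    obtain ⟨i, hi⟩ := Function.ne_iff.1 hw0
    have hbi : (Pi.single i (1 : F) : Fin 3 → F) ∈ W := by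
      have := W.smul_mem (2 * w i)⁻¹ (hproj i)
      rwa [← Pi.single_smul', smul_eq_mul, inv_mul_cancel₀ (mul_ne_zero h2 hi)] at this
    have step : ∀ k, (Pi.single k (1 : F) : Fin 3 → F) ∈ W → (Pi.single (γ k) (1 : F) : Fin 3 → F) ∈ W :=
      fun k hk => by
        have h := hW _ hc _ hk
        rw [hcyc] at h
        exact (Submodule.smul_mem_iff W (ε k).ne_zero).1 h
    rw [eq_top_iff, ← (Pi.basisFun F (Fin 3)).span_eq, Submodule.span_le]
    rintro _ ⟨k, rfl⟩
    rw [Pi.basisFun_apply]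
    rcases cycle_orbit γ hγ i k with rfl | rfl | rfl
    · exact hbi
    · exact step i hbi
    · exact step _ (step i hbi)
  · have hne : (1 : F) ≠ -1 := fun e => h2 (by linear_combination e)
    have hent : ∀ (lam : Fin 3 → Fˣ), frm (1 : GL (Fin 3) F) 1 lam ∈ G → ∀ l i,
        X l i * (lam i : F) = (lam l : F) * X l i := fun lam hlam l i => by
      have h := congrArg (fun Z => (Z *ᵥ (Pi.single i 1)) l) (hX _ (Asch.mem_matrixSet hlam))
      simp only [← Matrix.mulVec_mulVec, hact] at h
      have hcol : ∀ v : Fin 3 → F, ∀ c : F, v = c • Pi.single i 1 → (X *ᵥ v) l = X l i * c := by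
        rintro v c rfl
        simp [Matrix.mulVec_smul, mul_comm]
      rw [hcol _ (lam i : F) (funext fun k => by
        rw [hact]; by_cases hk : k = i <;> simp [hk])] at h
      simpa using h
    have hzero : ∀ (lam : Fin 3 → Fˣ), frm (1 : GL (Fin 3) F) 1 lam ∈ G → ∀ l i,
        lam i ≠ lam l → X l i = 0 := fun lam hlam l i hne' => by
      have h0 : X l i * ((lam i : F) - lam l) = 0 := by linear_combination hent lam hlam l i
      exact (mul_eq_zero.1 h0).resolve_right (sub_ne_zero.2 fun e => hne' (Units.ext e))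
    have hu : (1 : Fˣ) ≠ -1 := fun e => hne (by simpa using congrArg Units.val e)
    have hoff : ∀ l i, l ≠ i → X l i = 0 := fun l i hli => by
      fin_cases l <;> fin_cases i <;> first
        | exact absurd rfl hli
        | (refine hzero a h1 _ _ ?_; simp [a, hu, hu.symm]; done)
        | (refine hzero b h3 _ _ ?_; simp [b, hu, hu.symm]; done)
    have hdiag : ∀ i, X (γ i) (γ i) = X i i := fun i => by
      have h := congrArg (fun Z => (Z *ᵥ (Pi.single i 1)) (γ i)) (hX _ (Asch.mem_matrixSet hc))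
      simp only [← Matrix.mulVec_mulVec, hcyc, Matrix.mulVec_smul, Pi.smul_apply, smul_eq_mul] at h
      have hXi : X *ᵥ (Pi.single i 1) = X i i • (Pi.single i 1 : Fin 3 → F) := funext fun k => by
        by_cases hk : k = i
        · subst hk; simp
        · simp [hk, hoff k i hk]
      rw [hXi, Matrix.mulVec_smul, hcyc] at h
      simp at h
      exact (mul_left_cancel₀ (ε i).ne_zero (h.trans (mul_comm _ _)))
    refine ⟨X 0 0, Matrix.ext fun l i => ?_⟩
    have hall : ∀ l, X l l = X 0 0 := fun l => by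
      rcases cycle_orbit γ hγ 0 l with rfl | rfl | rfl
      · rfl
      · exact hdiag 0
      · rw [hdiag, hdiag]
    by_cases hli : l = i
    · subst hli; simp [hall]
    · simp [hli, hoff l i hli]

end Cfsg.Lib.Linear.Mitchell.SU3
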