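import Cfsg.Agent.Lib.Linear.Mitchell.SU3Frame
import Cfsg.Agent.Lib.Linear.Mitchell.SU3Arith
import Cfsg.Agent.Lib.Linear.HermitianFactor
import Cfsg.Agent.Lib.Linear.SLMax.Subfield

/-!
# Subfields and rational bases for `SU₃(q)`
-/

set_option autoImplicit false
set_option linter.unusedSectionVars false

namespace Cfsg.Lib.Linear.Mitchell.SU3

open Cfsg.Geo Cfsg.Lib.Linear MaxArith Max
open scoped Matrix MatrixGroups commutatorElement

variable {F : Type*} [Field F] [Fintype F] {q : ℕ} (hF : Fintype.card F = q ^ 2)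

local notation "S₃" => Asch.sunit 3 F q

/-- The fixed points of the power of a subfield's order. -/
theorem mem_of_pow_card {F₀ : Subfield F} {x : F} (h : x ^ Nat.card F₀ = x) : x ∈ F₀ := by
  letI := Fintype.ofFinite F₀
  refine Rat0.mem_of_frobRel_eq F₀ ?_
  rw [Nat.card_eq_fintype_card] at h
  exact h

theorem pow_card_sub {F₀ : Subfield F} {x : F} (hx : x ∈ F₀) : x ^ Nat.card F₀ = x := by
  letI := Fintype.ofFinite F₀
  rw [Nat.card_eq_fintype_card]
  exact congrArg Subtype.val (FiniteField.pow_card (⟨x, hx⟩ : F₀))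

/-- A subfield is determined by its order. -/
theorem subfield_eq {F₀ F₁ : Subfield F} (h : Nat.card F₁ = Nat.card F₀) : F₁ = F₀ :=
  SetLike.ext fun _ => ⟨fun hx => mem_of_pow_card (h ▸ pow_card_sub hx),
    fun hx => mem_of_pow_card (h ▸ pow_card_sub hx)⟩

/-- The conjugation on a subfield of odd index. -/
theorem pow_q_eq {F₀ : Subfield F} {t r : ℕ} (ht : Nat.card F₀ = t ^ 2) (hqt : q = t ^ r) (hodd : Odd r)
    {x : F} (hx : x ∈ F₀) : x ^ q = x ^ t := by
  obtain ⟨k, rfl⟩ := hodd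
  have hk : ∀ j, x ^ ((t ^ 2) ^ j) = x := fun j => by
    induction j with
    | zero => simp
    | succ j ih => rw [pow_succ, pow_mul, ih, ← ht, pow_card_sub hx]
  rw [hqt, pow_succ, pow_mul x, pow_mul t, hk]

include hF in
theorem exists_prime_pow : ∃ p, p.Prime ∧ ∃ b, q = p ^ b := by
  obtain ⟨p, n, hp, -, hpn⟩ := (FiniteField.isPrimePow_card F).imp fun p h => h
  obtain ⟨b, -, hb⟩ := (Nat.dvd_prime_pow hp.nat_prime).1
    (show q ∣ p ^ n from ⟨q, by rw [hpn, hF, sq]⟩)
  exact ⟨p, hp.nat_prime, b, hb⟩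

include hF in
/-- The parameters of a subfield of odd prime index. -/
theorem exists_sub_root {F₀ : Subfield F} {r : ℕ} (hr : r.Prime) (hodd : Odd r)
    (hcard : Fintype.card F = Nat.card F₀ ^ r) : ∃ t, 2 ≤ t ∧ Nat.card F₀ = t ^ 2 ∧ q = t ^ r := by
  obtain ⟨p, hp, hb⟩ := exists_prime_pow hF
  obtain ⟨t, ht, hqt⟩ := exists_root hp hr hodd (hcard.symm.trans hF) hb
  refine ⟨t, ?_, ht, hqt⟩
  have := two_le_subfield F₀
  rw [ht] at this
  by_contra hlt
  interval_cases t <;> omega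

include hF in
/-- Membership in the unitary group from the Gram equation. -/
theorem mem_GU_of_gram {g : GL (Fin 3) F} (h : g.valᵀ * g.val.map (Asch.sigmaE hF) = 1) :
    g ∈ Cfsg.GU 3 F q := by
  intro a b
  show Cfsg.hermForm 3 F q (g.val *ᵥ a) (g.val *ᵥ b) = Cfsg.hermForm 3 F q a b
  have key : ∀ x y : Fin 3 → F, Cfsg.hermForm 3 F q x y = x ⬝ᵥ (Asch.sigmaE hF ∘ y) := fun x y => by
    simp only [Cfsg.hermForm, dotProduct, Function.comp_apply, Asch.sigmaE_apply]
  have hmap : Asch.sigmaE hF ∘ (g.val *ᵥ b) = g.val.map (Asch.sigmaE hF) *ᵥ (Asch.sigmaE hF ∘ b) :=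
    funext fun i => RingHom.map_mulVec (Asch.sigmaE hF).toRingHom _ _ i
  rw [key, key, hmap, Matrix.dotProduct_mulVec, ← Matrix.vecMul_transpose, Matrix.vecMul_vecMul, h,
    Matrix.vecMul_one]

include hF in
/-- The Gram matrix of a basis. -/
theorem gram_apply (P : Matrix (Fin 3) (Fin 3) F) (i j : Fin 3) :
    (Pᵀ * P.map (Asch.sigmaE hF)) i j =
      Cfsg.hermForm 3 F q (P *ᵥ Pi.single i 1) (P *ᵥ Pi.single j 1) := by
  simp only [Matrix.mulVec_single, MulOpposite.op_one, one_smul, Cfsg.hermForm, Matrix.mul_apply,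
    Matrix.transpose_apply, Matrix.map_apply, Matrix.col_apply, Asch.sigmaE_apply]

include hF in
/-- A rational hermitian structure of odd index has an orthonormal rational basis. -/
theorem exists_rational_orth {F₀ : Subfield F} {t r : ℕ} (ht2 : 2 ≤ t) (ht : Nat.card F₀ = t ^ 2)
    (hqt : q = t ^ r) (hodd : Odd r) {P : GL (Fin 3) F}
    (hP : IsFormRationalStructure (Cfsg.hermForm 3 F q) F₀ 1 P) :
    ∃ U, U ∈ Cfsg.GU 3 F q ∧ subfieldSubgroup F₀ P = subfieldSubgroup F₀ U := by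
  classical
  letI : Fintype F₀ := Fintype.ofFinite F₀
  set σ := Asch.sigmaE hF with hσ
  have hσmem : ∀ x : F₀, σ (x : F) ∈ F₀ := fun x => by
    rw [hσ, Asch.sigmaE_apply]; exact pow_mem x.2 q
  let σ₀ : F₀ →+* F₀ :=
    { toFun := fun x => ⟨σ x, hσmem x⟩
      map_one' := Subtype.ext (map_one σ)
      map_mul' := fun a b => Subtype.ext (map_mul σ (a : F) b)
      map_zero' := Subtype.ext (map_zero σ)
      map_add' := fun a b => Subtype.ext (map_add σ (a : F) b) }
  have hσσ : ∀ x, σ₀ (σ₀ x) = x := fun x => Subtype.ext (Asch.sigmaE_sigmaE hF (x : F))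
  obtain ⟨w, hw⟩ : ∃ w, σ₀ w ≠ w := by
    by_contra hall
    push Not at hall
    have hfix : ∀ x : F₀, x ^ t = x := fun x => Subtype.ext (by
      rw [SubmonoidClass.coe_pow, ← pow_q_eq ht hqt hodd x.2, ← Asch.sigmaE_apply hF]
      exact congrArg Subtype.val (hall x))
    obtain ⟨g, hg⟩ := IsCyclic.exists_ofOrder_eq_natCard (α := F₀ˣ)
    have h1 : g ^ (t - 1) = 1 := mul_left_cancel (a := g) (by
      rw [mul_one, ← pow_succ', show t - 1 + 1 = t by omega]
      exact Units.ext (by rw [Units.val_pow_eq_pow_val]; exact hfix g))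
    have h2 := Nat.le_of_dvd (by omega) (orderOf_dvd_of_pow_eq_one h1)
    rw [hg, Nat.card_units, ht] at h2
    have : 2 * t ≤ t ^ 2 := by rw [sq]; exact Nat.mul_le_mul_right t ht2
    omega
  let G : Matrix (Fin 3) (Fin 3) F₀ := Matrix.of fun i j => ⟨(P.valᵀ * P.val.map σ) i j, by
    have h := hP (Pi.single i 1) (Pi.single j 1) (fun k => by by_cases e : k = i <;> simp [e, F₀.one_mem, F₀.zero_mem])
      (fun k => by by_cases e : k = j <;> simp [e, F₀.one_mem, F₀.zero_mem])
    rw [one_mul, ← gram_apply hF] at h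
    exact h⟩
  have hG : G.map F₀.subtype = P.valᵀ * P.val.map σ := Matrix.ext fun i j => rfl
  have hdetne : G.det ≠ 0 := fun h0 => by
    have h1 : (G.map F₀.subtype).det = 0 := by
      rw [show (G.map F₀.subtype).det = F₀.subtype G.det from (RingHom.map_det _ _).symm, h0, map_zero]
    rw [hG, Matrix.det_mul, Matrix.det_transpose,
      show (P.val.map σ).det = σ P.val.det from (RingHom.map_det σ.toRingHom _).symm] at h1
    have hP0 : P.val.det ≠ 0 := ((Matrix.isUnit_iff_isUnit_det _).1 P.isUnit).ne_zero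
    rcases mul_eq_zero.1 h1 with e | e
    · exact hP0 e
    · exact hP0 (by simpa using e)
  obtain ⟨S, hSu, hS, -⟩ := HermitianFactor.exists_factor (σ := σ₀) hσσ hw (H := Gᵀ)
    (Matrix.ext fun i j => Subtype.ext (by
      show σ ((P.valᵀ * P.val.map σ) i j) = (P.valᵀ * P.val.map σ) j i
      simp only [Matrix.mul_apply, Matrix.transpose_apply, Matrix.map_apply, map_sum, map_mul]
      exact Finset.sum_congr rfl fun k _ => by rw [hσ, Asch.sigmaE_sigmaE, mul_comm]))
    ((Matrix.isUnit_iff_isUnit_det _).2 (by rw [Matrix.det_transpose]; exact isUnit_iff_ne_zero.2 hdetne))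
  obtain ⟨S, rfl⟩ := hSu
  set T := Matrix.GeneralLinearGroup.map (n := Fin 3) F₀.subtype S with hT
  refine ⟨P * T⁻¹, mem_GU_of_gram hF ?_, ?_⟩
  · have h1 : P.valᵀ * P.val.map σ = T.valᵀ * T.val.map σ := by
      have h2 : G = S.valᵀ * S.val.map σ₀ := by
        have h := congrArg Matrix.transpose hS
        rw [Matrix.transpose_transpose, Matrix.transpose_mul, HermitianFactor.dagger,
          Matrix.transpose_transpose] at h
        exact h.symm
      rw [← hG, h2, Matrix.map_mul]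
      rfl
    have h3 : (T⁻¹).valᵀ * T.valᵀ = 1 := by
      rw [← Matrix.transpose_mul, Units.mul_inv, Matrix.transpose_one]
    have h4 : T.val.map σ * (T⁻¹).val.map σ = 1 := by
      rw [← Matrix.map_mul, Units.mul_inv, Matrix.map_one _ (map_zero σ) (map_one σ)]
    rw [Units.val_mul, Matrix.transpose_mul, Matrix.map_mul, Matrix.mul_assoc, ← Matrix.mul_assoc P.valᵀ, h1,
      Matrix.mul_assoc, h4, Matrix.mul_one, h3]
  · have hTmem : T ∈ subfieldSubgroup F₀ (1 : GL (Fin 3) F) :=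
      (Rat0.mem_subfieldSubgroup_one F₀ _).2 ⟨1, one_ne_zero, fun i j => by
        rw [one_mul]; exact (S.val i j).2⟩
    ext g
    rw [Asch.mem_subfieldSubgroup_iff, Asch.mem_subfieldSubgroup_iff, ← Rat0.mem_subfieldSubgroup_one,
      ← Rat0.mem_subfieldSubgroup_one, show (P * T⁻¹)⁻¹ * g * (P * T⁻¹) = T * (P⁻¹ * g * P) * T⁻¹ by group,
      Subgroup.mul_mem_cancel_right _ (inv_mem hTmem), Subgroup.mul_mem_cancel_left _ hTmem]

include hF in
theorem map_conj_sunit {U : GL (Fin 3) F} (hU : U ∈ Cfsg.GU 3 F q) :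
    (S₃).map (MulAut.conj U).toMonoidHom = S₃ := by
  refine (Subgroup.map_inf _ _ _ (MulAut.conj U).injective).trans ?_
  rw [map_conj_SL]
  congr 1
  ext g
  refine ⟨?_, fun hg => ⟨U⁻¹ * g * U, mul_mem (mul_mem (inv_mem hU) hg) hU, by simp [mul_assoc]⟩⟩
  rintro ⟨a, ha, rfl⟩
  exact mul_mem (mul_mem hU ha) (inv_mem hU)

end Cfsg.Lib.Linear.Mitchell.SU3
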