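import Cfsg.Agent.Lib.Linear.TransvectionMax
import Cfsg.Agent.Lib.Dickson.TwoTransvections

/-!
# Groups containing transvections in dimension three

For an irreducible group containing a transvection, in odd characteristic: a transvection has a
partner with which it generates a group containing `diag(-1, -1, 1)`, and, unless some centre
carries two axes, centre and axis determine each other.
-/

set_option autoImplicit false

namespace Cfsg.Lib.Linear.Mitchell

open Cfsg.Geo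
open Cfsg.Lib.Linear.TVec
open scoped Matrix MatrixGroups

variable {F : Type*} [Field F] {G : Subgroup (GL (Fin 3) F)}

/-- A conjugate subgroup. -/
def cj (P : GL (Fin 3) F) (G : Subgroup (GL (Fin 3) F)) : Subgroup (GL (Fin 3) F) :=
  G.map (MulAut.conj P).toMonoidHom

theorem mem_cj {P g : GL (Fin 3) F} : g ∈ cj P G ↔ P⁻¹ * g * P ∈ G := by
  constructor
  · rintro ⟨h, hh, rfl⟩
    simpa [MulAut.conj_apply, mul_assoc] using hh
  · exact fun h => ⟨_, h, by simp [MulAut.conj_apply, mul_assoc]⟩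

theorem mul_inv_mulVec (P : GL (Fin 3) F) (v : Fin 3 → F) : P.val *ᵥ (P⁻¹.val *ᵥ v) = v := by
  rw [Matrix.mulVec_mulVec, Units.mul_inv, Matrix.one_mulVec]

theorem inv_mul_mulVec (P : GL (Fin 3) F) (v : Fin 3 → F) : P⁻¹.val *ᵥ (P.val *ᵥ v) = v := by
  rw [Matrix.mulVec_mulVec, Units.inv_mul, Matrix.one_mulVec]

theorem mul_inv_vecMul (P : GL (Fin 3) F) (v : Fin 3 → F) : v ᵥ* P.val ᵥ* P⁻¹.val = v := by
  rw [Matrix.vecMul_vecMul, Units.mul_inv, Matrix.vecMul_one]

theorem inv_mul_vecMul (P : GL (Fin 3) F) (v : Fin 3 → F) : v ᵥ* P⁻¹.val ᵥ* P.val = v := by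
  rw [Matrix.vecMul_vecMul, Units.inv_mul, Matrix.vecMul_one]

theorem inT_cj {P : GL (Fin 3) F} {z a : Fin 3 → F} :
    InT (cj P G) z a ↔ InT G (P⁻¹.val *ᵥ z) (a ᵥ* P.val) := by
  have hdot : (a ᵥ* P.val) ⬝ᵥ (P⁻¹.val *ᵥ z) = a ⬝ᵥ z := by
    rw [← Matrix.dotProduct_mulVec, mul_inv_mulVec]
  constructor
  · rintro ⟨h, hm⟩
    refine ⟨hdot.trans h, ?_⟩
    rw [mem_cj] at hm
    convert hm using 1
    apply Units.ext
    rw [coe_tv, Units.val_mul, Units.val_mul, coe_tv, tvMat, tvMat, Matrix.mul_add, Matrix.add_mul,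
      Matrix.mul_one, Units.inv_mul, Matrix.mul_vecMulVec, Matrix.vecMulVec_mul]
  · rintro ⟨h, hm⟩
    refine ⟨hdot.symm.trans h, mem_cj.2 ?_⟩
    convert hm using 1
    apply Units.ext
    rw [coe_tv, Units.val_mul, Units.val_mul, coe_tv, tvMat, tvMat, Matrix.mul_add, Matrix.add_mul,
      Matrix.mul_one, Units.inv_mul, Matrix.mul_vecMulVec, Matrix.vecMulVec_mul]

theorem irr_cj (hirr : ActsIrreducibly (matrixSet G)) (P : GL (Fin 3) F) :
    ActsIrreducibly (matrixSet (cj P G)) := by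
  intro W hW
  have h := hirr (W.map (Matrix.toLin' P⁻¹.val)) (by
    rintro _ ⟨g, hg, rfl⟩ _ ⟨_, ⟨w, hw, rfl⟩, rfl⟩
    refine ⟨(P * g * P⁻¹).val *ᵥ w, hW _ ⟨P * g * P⁻¹, mem_cj.2 (by simpa [mul_assoc] using hg),
      rfl⟩ ⟨w, hw, Matrix.toLin'_apply _ _⟩, ?_⟩
    simp [Units.val_mul, Matrix.mulVec_mulVec, ← Matrix.mul_assoc])
  have hinj : Function.Injective (Matrix.toLin' P⁻¹.val) := fun u v e => by
    have := congrArg (fun x => P.val *ᵥ x) e
    simpa [Matrix.mulVec_mulVec] using this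
  rcases h with h | h
  · exact Or.inl (Submodule.map_injective_of_injective hinj (h.trans (Submodule.map_bot _).symm))
  · refine Or.inr (Submodule.map_injective_of_injective hinj (h.trans ?_))
    rw [Submodule.map_top, eq_comm, LinearMap.range_eq_top]
    exact fun v => ⟨P.val *ᵥ v, by rw [Matrix.toLin'_apply, inv_mul_mulVec]⟩

theorem inT_dot {z a : Fin 3 → F} (h : InT G z a) : a ⬝ᵥ z = 0 := h.1

/-- Centres of transvections are not confined to a proper subspace. -/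
theorem exists_centre_off (hirr : ActsIrreducibly (matrixSet G))
    (hT : ∃ z a, InT G z a ∧ z ≠ 0 ∧ a ≠ 0) {W : Submodule F (Fin 3 → F)} (hW : W ≠ ⊤) :
    ∃ z a, InT G z a ∧ a ≠ 0 ∧ z ∉ W := by
  by_contra hne
  push Not at hne
  set S := Submodule.span F {z : Fin 3 → F | ∃ a, InT G z a ∧ a ≠ 0}
  have hS : ∀ s ∈ matrixSet G, S.map (Matrix.toLin' s) ≤ S := by
    rintro _ ⟨g, hg, rfl⟩
    rw [Submodule.map_span, Submodule.span_le]
    rintro _ ⟨z, ⟨a, ha, ha0⟩, rfl⟩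
    refine Submodule.subset_span ⟨a ᵥ* g⁻¹.val, ?_, fun e => ha0 ?_⟩
    · rw [Matrix.toLin'_apply]
      exact inT_conj hg ha
    · rw [← inv_mul_vecMul g a, e, Matrix.zero_vecMul]
  rcases hirr S hS with h | h
  · obtain ⟨z, a, ha, hz, ha0⟩ := hT
    have : z ∈ S := Submodule.subset_span ⟨a, ha, ha0⟩
    rw [h, Submodule.mem_bot] at this
    exact hz this
  · refine hW (top_le_iff.1 (h ▸ Submodule.span_le.2 ?_))
    rintro z ⟨a, ha, ha0⟩
    exact hne z a ha ha0

/-- The axes of transvections have no common point. -/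
theorem exists_axis_ne (hirr : ActsIrreducibly (matrixSet G))
    (hT : ∃ z a, InT G z a ∧ z ≠ 0 ∧ a ≠ 0) {v : Fin 3 → F} (hv : v ≠ 0) :
    ∃ z a, InT G z a ∧ z ≠ 0 ∧ a ⬝ᵥ v ≠ 0 := by
  by_contra hne
  push Not at hne
  let W : Submodule F (Fin 3 → F) :=
    { carrier := {x | ∀ z a, InT G z a → z ≠ 0 → a ⬝ᵥ x = 0}
      add_mem' := fun hx hy z a h hz => by rw [dotProduct_add, hx z a h hz, hy z a h hz, add_zero]
      zero_mem' := fun z a _ _ => dotProduct_zero a
      smul_mem' := fun c x hx z a h hz => by rw [dotProduct_smul, hx z a h hz, smul_zero] }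
  have hW : ∀ s ∈ matrixSet G, W.map (Matrix.toLin' s) ≤ W := by
    rintro _ ⟨g, hg, rfl⟩ _ ⟨x, hx, rfl⟩ z a h hz
    rw [Matrix.toLin'_apply, Matrix.dotProduct_mulVec]
    refine hx (g⁻¹.val *ᵥ z) _ ?_ fun e => hz ?_
    · have := inT_conj (G.inv_mem hg) h
      rwa [inv_inv] at this
    · rw [← mul_inv_mulVec g z, e, Matrix.mulVec_zero]
  rcases hirr W hW with h | h
  · have : v ∈ W := fun z a ha hz => hne z a ha hz
    rw [h, Submodule.mem_bot] at this
    exact hv this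
  · obtain ⟨z, a, ha, hz, ha0⟩ := hT
    apply ha0
    funext i
    have : Pi.single i (1 : F) ∈ W := by rw [h]; exact Submodule.mem_top
    simpa using this z a ha hz

/-- Some centre carries two independent axes. -/
def TwoAxes (G : Subgroup (GL (Fin 3) F)) : Prop :=
  ∃ z a b, InT G z a ∧ InT G z b ∧ z ≠ 0 ∧ a ≠ 0 ∧ ∀ μ : F, b ≠ μ • a

theorem uniq_axis (hA : ¬ TwoAxes G) {z a b : Fin 3 → F} (ha : InT G z a) (hb : InT G z b)
    (hz : z ≠ 0) (ha0 : a ≠ 0) : ∃ μ : F, b = μ • a := by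
  by_contra hne
  push Not at hne
  exact hA ⟨z, a, b, ha, hb, hz, ha0, hne⟩

theorem exists_partner (hirr : ActsIrreducibly (matrixSet G)) (hA : ¬ TwoAxes G)
    {z a : Fin 3 → F} (h : InT G z a) (hz : z ≠ 0) (ha : a ≠ 0) :
    ∃ w b, InT G w b ∧ a ⬝ᵥ w ≠ 0 ∧ b ⬝ᵥ z ≠ 0 := by
  let W : Submodule F (Fin 3 → F) :=
    { carrier := {x | a ⬝ᵥ x = 0}
      add_mem' := fun hx hy => by
        simp only [Set.mem_setOf_eq] at *
        rw [dotProduct_add, hx, hy, add_zero]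
      zero_mem' := dotProduct_zero a
      smul_mem' := fun c x hx => by
        simp only [Set.mem_setOf_eq] at *
        rw [dotProduct_smul, hx, smul_zero] }
  have hW : W ≠ ⊤ := fun e => ha (funext fun i => by
    have : Pi.single i (1 : F) ∈ W := by rw [e]; exact Submodule.mem_top
    simpa [W] using this)
  obtain ⟨w, b, hb, hb0, hw⟩ := exists_centre_off hirr ⟨z, a, h, hz, ha⟩ hW
  refine ⟨w, b, hb, hw, fun hbz => ?_⟩
  obtain ⟨μ, hμ⟩ := uniq_axis hA h (inT_comm h hb hbz) hz ha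
  have := congrArg (fun v => v ⬝ᵥ w) hμ
  simp only [smul_dotProduct, inT_dot hb, smul_eq_mul, mul_zero] at this
  rcases mul_eq_zero.1 this.symm with e | e
  · rw [e, zero_smul] at hμ
    exact hb0 ((smul_eq_zero.1 hμ).resolve_left hw)
  · exact hw e

/-! ### A pair in standard position -/

/-- The standard basis vectors. -/
def ev (i : Fin 3) : Fin 3 → F := Pi.single i 1

theorem ev_apply (i j : Fin 3) : ev (F := F) i j = if j = i then 1 else 0 := by
  simp [ev, Pi.single_apply]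

theorem dot_ev (v : Fin 3 → F) (i : Fin 3) : v ⬝ᵥ ev i = v i := by simp [ev]

theorem ev_dot (v : Fin 3 → F) (i : Fin 3) : ev i ⬝ᵥ v = v i := by simp [ev]

/-- The embedding of `SL₂` on the first two coordinates. -/
def blk : Matrix.SpecialLinearGroup (Fin 2) F →* GL (Fin 3) F where
  toFun A := Matrix.GeneralLinearGroup.mkOfDetNeZero
    !![A 0 0, A 0 1, 0; A 1 0, A 1 1, 0; 0, 0, 1] (by
      have h := A.2
      rw [Matrix.det_fin_two] at h
      rw [Matrix.det_fin_three]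
      simp [h])
  map_one' := Units.ext (by
    ext i j
    fin_cases i <;> fin_cases j <;> simp [Matrix.GeneralLinearGroup.mkOfDetNeZero])
  map_mul' A B := Units.ext (by
    ext i j
    fin_cases i <;> fin_cases j <;>
      simp [Matrix.GeneralLinearGroup.mkOfDetNeZero, Matrix.mul_apply, Fin.sum_univ_three,
        Fin.sum_univ_two])

theorem blk_val (A : Matrix.SpecialLinearGroup (Fin 2) F) :
    (blk A).val = !![A 0 0, A 0 1, 0; A 1 0, A 1 1, 0; 0, 0, 1] := rfl

/-- `diag(-1, -1, 1)`. -/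
def flipMat : Matrix (Fin 3) (Fin 3) F := !![-1, 0, 0; 0, -1, 0; 0, 0, 1]

theorem flipMat_mul_self : flipMat * flipMat = (1 : Matrix (Fin 3) (Fin 3) F) := by
  ext i j
  fin_cases i <;> fin_cases j <;> simp [flipMat, Matrix.mul_apply, Fin.sum_univ_three]

theorem tvMat_upper (k : F) :
    tvMat (ev 0) (k • ev 1) = !![1, k, 0; 0, 1, 0; 0, 0, (1 : F)] := by
  ext i j
  fin_cases i <;> fin_cases j <;> simp [tvMat, Matrix.vecMulVec_apply, ev_apply, Matrix.one_apply]

theorem tvMat_lower (k : F) :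
    tvMat (ev 1) (k • ev 0) = !![1, 0, 0; k, 1, 0; 0, 0, (1 : F)] := by
  ext i j
  fin_cases i <;> fin_cases j <;> simp [tvMat, Matrix.vecMulVec_apply, ev_apply, Matrix.one_apply]

/-- The exceptional value of a pair product. -/
def Exc (d : F) : Prop := d ^ 2 = -1 ∧ Nat.card (Subfield.closure ({d} : Set F)) = 9

theorem sl_two_involution {K : Type*} [Field K] (h2 : (2 : K) ≠ 0)
    {A : Matrix.SpecialLinearGroup (Fin 2) K} (hA : A * A = 1) (h1 : A ≠ 1) :
    A.val = !![-1, 0; 0, -1] := by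
  have hd := A.2
  rw [Matrix.det_fin_two] at hd
  have e : A.val * A.val = 1 := congrArg Subtype.val hA
  have e00 := congrFun (congrFun e 0) 0
  have e01 := congrFun (congrFun e 0) 1
  have e10 := congrFun (congrFun e 1) 0
  simp [Matrix.mul_apply, Fin.sum_univ_two] at e00 e01 e10
  have ht : (A.val 0 0 + A.val 1 1) * A.val 0 0 = 2 := by linear_combination e00 + hd
  have htne : A.val 0 0 + A.val 1 1 ≠ 0 := fun e0 => h2 (by rw [← ht, e0, zero_mul])
  have hb : A.val 0 1 = 0 := (mul_eq_zero.1 (show A.val 0 1 * (A.val 0 0 + A.val 1 1) = 0 by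
    linear_combination e01)).resolve_right htne
  have hc : A.val 1 0 = 0 := (mul_eq_zero.1 (show A.val 1 0 * (A.val 0 0 + A.val 1 1) = 0 by
    linear_combination e10)).resolve_right htne
  rw [hb, zero_mul, add_zero] at e00
  rw [hb, zero_mul, sub_zero] at hd
  rcases mul_self_eq_one_iff.1 e00 with e0 | e0
  · refine absurd (Subtype.ext ?_) h1
    rw [e0, one_mul] at hd
    ext i j
    fin_cases i <;> fin_cases j <;> simp [e0, hd, hb, hc]
  · rw [e0, neg_one_mul, neg_eq_iff_eq_neg] at hd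
    ext i j
    fin_cases i <;> fin_cases j <;> simp [e0, hd, hb, hc]

/-- Two transvections in standard position generate the flip, and full root groups over the field
of their product unless that is exceptional. -/
theorem pair_engine [Finite F] (h2 : (2 : F) ≠ 0) {d : F} (hd : d ≠ 0)
    (hu : InT G (ev 0) (d • ev 1)) (hl : InT G (ev 1) (ev 0)) :
    (∃ g ∈ G, g.val = flipMat) ∧ (Exc d ∨ ∀ k ∈ Subfield.closure ({d} : Set F),
      InT G (ev 0) (k • ev 1) ∧ InT G (ev 1) (k • ev 0)) := by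
  classical
  set K := Subfield.closure ({d} : Set F) with hK
  haveI : Finite K := Subtype.finite
  haveI := Fintype.ofFinite K
  let φ : Matrix.SpecialLinearGroup (Fin 2) K →* GL (Fin 3) F :=
    blk.comp (Matrix.SpecialLinearGroup.map K.subtype)
  let dK : K := ⟨d, Subfield.subset_closure rfl⟩
  have h2K : (2 : K) ≠ 0 := fun e => h2 (congrArg Subtype.val e)
  have hgen : Subfield.closure ({dK} : Set K) = ⊤ := by
    have hmap : (Subfield.closure ({dK} : Set K)).map K.subtype = K := by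
      rw [RingHom.map_field_closure, Set.image_singleton]
      rfl
    rw [eq_top_iff]
    rintro x -
    obtain ⟨y, hy, e⟩ := hmap.ge x.2
    rwa [show x = y from Subtype.ext e.symm]
  have hup : ∀ (A : Matrix.SpecialLinearGroup (Fin 2) K) (k : K), A.val = !![1, k; 0, 1] →
      (φ A).val = tvMat (ev 0) ((k : F) • ev 1) := fun A k hA => by
    rw [tvMat_upper]
    show (blk _).val = _
    rw [blk_val]
    simp [hA]
  have hlo : ∀ (A : Matrix.SpecialLinearGroup (Fin 2) K) (k : K), A.val = !![1, 0; k, 1] →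
      (φ A).val = tvMat (ev 1) ((k : F) • ev 0) := fun A k hA => by
    rw [tvMat_lower]
    show (blk _).val = _
    rw [blk_val]
    simp [hA]
  set S := {g : Matrix.SpecialLinearGroup (Fin 2) K | g.val = !![1, 0; 1, 1] ∨ g.val = !![1, dK; 0, 1]}
  have hS : Subgroup.closure S ≤ G.comap φ := by
    rw [Subgroup.closure_le]
    rintro A (hA | hA)
    · obtain ⟨h, hm⟩ := hl
      show φ A ∈ G
      convert hm
      refine Units.ext ((hlo A 1 hA).trans ?_)
      rw [coe_tv, OneMemClass.coe_one, one_smul]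
    · obtain ⟨h, hm⟩ := hu
      show φ A ∈ G
      convert hm
      exact Units.ext ((hup A dK hA).trans (coe_tv _ _ _).symm)
  have hflip : ∀ A ∈ Subgroup.closure S, A.val = !![-1, 0; 0, -1] → ∃ g ∈ G, g.val = flipMat := by
    intro A hA e
    refine ⟨φ A, hS hA, ?_⟩
    show (blk _).val = _
    rw [blk_val]
    simp [e, flipMat]
  rcases Cfsg.Lib.Dickson.two_transvections h2K dK (fun e => hd (congrArg Subtype.val e)) hgen with
    ⟨htop, -⟩ | ⟨h9, hsq, h120⟩
  · refine ⟨hflip (-1) (by rw [htop]; trivial) ?_, Or.inr fun k hk => ⟨?_, ?_⟩⟩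
    · ext i j
      fin_cases i <;> fin_cases j <;> simp
    · refine ⟨by simp [ev], ?_⟩
      let A : Matrix.SpecialLinearGroup (Fin 2) K :=
        ⟨!![1, (⟨k, hk⟩ : K); 0, 1], by simp [Matrix.det_fin_two]⟩
      have hm : φ A ∈ G := hS (by rw [htop]; exact Subgroup.mem_top A)
      convert hm
      exact Units.ext ((coe_tv _ _ _).trans (hup A ⟨k, hk⟩ rfl).symm)
    · refine ⟨by simp [ev], ?_⟩
      let A : Matrix.SpecialLinearGroup (Fin 2) K :=
        ⟨!![1, 0; (⟨k, hk⟩ : K), 1], by simp [Matrix.det_fin_two]⟩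
      have hm : φ A ∈ G := hS (by rw [htop]; exact Subgroup.mem_top A)
      convert hm
      exact Units.ext ((coe_tv _ _ _).trans (hlo A ⟨k, hk⟩ rfl).symm)
  · haveI : Fact (Nat.Prime 2) := ⟨Nat.prime_two⟩
    obtain ⟨x, hx⟩ := exists_prime_orderOf_dvd_card' (G := Subgroup.closure S) 2
      (by rw [h120]; norm_num)
    have hxx' : x * x = 1 := by
      rw [← pow_orderOf_eq_one x, hx, pow_two]
    have hxx : (x : Matrix.SpecialLinearGroup (Fin 2) K) * x = 1 := congrArg Subtype.val hxx'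
    have hx1 : (x : Matrix.SpecialLinearGroup (Fin 2) K) ≠ 1 := fun e => by
      rw [OneMemClass.coe_eq_one] at e
      rw [e, orderOf_one] at hx
      norm_num at hx
    refine ⟨hflip x x.2 (sl_two_involution h2K hxx hx1), Or.inl ⟨?_, ?_⟩⟩
    · simpa [dK] using congrArg Subtype.val hsq
    · rw [← hK, Nat.card_eq_fintype_card, h9]

/-- Coordinates adapted to a pair of partners. -/
theorem exists_frame {z a w b : Fin 3 → F} (ha : InT G z a) (hb : InT G w b) (haw : a ⬝ᵥ w ≠ 0)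
    (hbz : b ⬝ᵥ z ≠ 0) :
    ∃ Q : GL (Fin 3) F, Q.val *ᵥ ev 0 = z ∧ Q.val *ᵥ ev 1 = (b ⬝ᵥ z) • w ∧
      a ᵥ* Q.val = ((b ⬝ᵥ z) * (a ⬝ᵥ w)) • ev 1 ∧ b ᵥ* Q.val = (b ⬝ᵥ z) • ev 0 ∧
      InT (cj Q⁻¹ G) (ev 0) (((b ⬝ᵥ z) * (a ⬝ᵥ w)) • ev 1) ∧ InT (cj Q⁻¹ G) (ev 1) (ev 0) := by
  obtain ⟨m, hm0, hma, hmb⟩ : ∃ m : Fin 3 → F, m ≠ 0 ∧ a ⬝ᵥ m = 0 ∧ b ⬝ᵥ m = 0 := by
    let f : (Fin 3 → F) →ₗ[F] (Fin 2 → F) :=
      { toFun := fun v => ![a ⬝ᵥ v, b ⬝ᵥ v]
        map_add' := fun x y => by simp [dotProduct_add]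
        map_smul' := fun c x => by simp [dotProduct_smul] }
    obtain ⟨m, hm, hm0⟩ : ∃ m ∈ LinearMap.ker f, m ≠ 0 :=
      Submodule.exists_mem_ne_zero_of_ne_bot (LinearMap.ker_ne_bot_of_finrank_lt (by simp))
    refine ⟨m, hm0, ?_, ?_⟩
    · simpa [f] using congrFun (LinearMap.mem_ker.1 hm) 0
    · simpa [f] using congrFun (LinearMap.mem_ker.1 hm) 1
  set μ := b ⬝ᵥ z with hμ
  let M : Matrix (Fin 3) (Fin 3) F := Matrix.of fun i j => ![z, μ • w, m] j i
  have hMu : ∀ u, M *ᵥ u = u 0 • z + u 1 • (μ • w) + u 2 • m := fun u => by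
    ext i
    simp [M, Matrix.mulVec, dotProduct, Fin.sum_univ_three]
    ring
  have hdet : M.det ≠ 0 := by
    intro h0
    obtain ⟨u, hu, hu0⟩ := Matrix.exists_mulVec_eq_zero_iff.2 h0
    rw [hMu] at hu0
    have e1 := congrArg (fun v => b ⬝ᵥ v) hu0
    have e2 := congrArg (fun v => a ⬝ᵥ v) hu0
    simp only [dotProduct_add, dotProduct_smul, dotProduct_zero, inT_dot ha, inT_dot hb, hma, hmb,
      smul_eq_mul, mul_zero, add_zero, zero_add] at e1 e2
    replace e1 : u 0 = 0 := (mul_eq_zero.1 e1).resolve_right hbz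
    replace e2 : u 1 = 0 := (mul_eq_zero.1 e2).resolve_right (mul_ne_zero hbz haw)
    rw [e1, e2, zero_smul, zero_smul, zero_add, zero_add, smul_eq_zero] at hu0
    refine hu (funext fun i => ?_)
    fin_cases i
    · simpa using e1
    · simpa using e2
    · simpa using hu0.resolve_right hm0
  set Q := Matrix.GeneralLinearGroup.mkOfDetNeZero M hdet with hQdef
  have hQu : ∀ u, Q.val *ᵥ u = u 0 • z + u 1 • (μ • w) + u 2 • m := hMu
  have h0 : Q.val *ᵥ ev 0 = z := by rw [hQu]; simp [ev_apply]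
  have h1 : Q.val *ᵥ ev 1 = μ • w := by rw [hQu]; simp [ev_apply]
  have hext : ∀ (x y : Fin 3 → F), (∀ u, x ⬝ᵥ u = y ⬝ᵥ u) → x = y := fun x y h =>
    funext fun i => by simpa [dot_ev] using h (ev i)
  have hq : a ᵥ* Q.val = (μ * (a ⬝ᵥ w)) • ev 1 := hext _ _ fun u => by
    rw [← Matrix.dotProduct_mulVec, hQu]
    simp [dotProduct_add, inT_dot ha, hma, ev_dot]
    ring
  have hq' : b ᵥ* Q.val = μ • ev 0 := hext _ _ fun u => by
    rw [← Matrix.dotProduct_mulVec, hQu]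
    simp [dotProduct_add, inT_dot hb, hmb, ev_dot, hμ]
    ring
  refine ⟨Q, h0, h1, hq, hq', ?_, ?_⟩
  · rw [inT_cj, inv_inv, h0, ← hq, mul_inv_vecMul]
    exact ha
  · rw [inT_cj, inv_inv, h1]
    refine inT_smul_left ?_
    have : b = μ • (ev 0 ᵥ* Q⁻¹.val) := by
      rw [← Matrix.smul_vecMul, ← hq', mul_inv_vecMul]
    rw [← this]
    exact hb

/-- A pair of partners gives an element negating both. -/
theorem exists_flip [Finite F] (h2 : (2 : F) ≠ 0) {z a w b : Fin 3 → F} (ha : InT G z a)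
    (hb : InT G w b) (haw : a ⬝ᵥ w ≠ 0) (hbz : b ⬝ᵥ z ≠ 0) :
    ∃ g ∈ G, g.val *ᵥ z = -z ∧ g.val *ᵥ w = -w ∧ a ᵥ* g⁻¹.val = -a ∧ b ᵥ* g⁻¹.val = -b ∧
      ∀ m : Fin 3 → F, a ⬝ᵥ m = 0 → b ⬝ᵥ m = 0 → g.val *ᵥ m = m := by
  obtain ⟨Q, h0, h1, hqa, hqb, hu, hl⟩ := exists_frame ha hb haw hbz
  obtain ⟨j, hj, hjv⟩ := (pair_engine h2 (mul_ne_zero hbz haw) hu hl).1
  rw [mem_cj, inv_inv] at hj
  have hjj : j * j = 1 := Units.ext (by rw [Units.val_mul, hjv, flipMat_mul_self]; rfl)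
  have hginv : (Q * j * Q⁻¹)⁻¹ = Q * j * Q⁻¹ := by
    rw [mul_inv_rev, mul_inv_rev, inv_inv, inv_eq_of_mul_eq_one_left hjj, mul_assoc]
  refine ⟨_, hj, ?_, ?_, ?_, ?_, fun m hma hmb => ?_⟩
  · rw [Units.val_mul, Units.val_mul, ← Matrix.mulVec_mulVec, ← Matrix.mulVec_mulVec]
    nth_rw 1 [← h0]
    rw [inv_mul_mulVec, hjv, show flipMat *ᵥ ev 0 = -(ev 0 : Fin 3 → F) by
      ext i; fin_cases i <;> simp [flipMat, ev_apply, Matrix.vecHead, Matrix.vecTail],
      Matrix.mulVec_neg, h0]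
  · have hw : w = (b ⬝ᵥ z)⁻¹ • (Q.val *ᵥ ev 1) := by
      rw [h1, smul_smul, inv_mul_cancel₀ hbz, one_smul]
    rw [Units.val_mul, Units.val_mul, ← Matrix.mulVec_mulVec, ← Matrix.mulVec_mulVec, hw,
      Matrix.mulVec_smul, Matrix.mulVec_smul, Matrix.mulVec_smul, inv_mul_mulVec, hjv,
      show flipMat *ᵥ ev 1 = -(ev 1 : Fin 3 → F) by
        ext i; fin_cases i <;> simp [flipMat, ev_apply, Matrix.vecHead, Matrix.vecTail],
      Matrix.mulVec_neg, smul_neg]
  · rw [hginv, Units.val_mul, Units.val_mul, ← Matrix.vecMul_vecMul, ← Matrix.vecMul_vecMul, hqa,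
      hjv, Matrix.smul_vecMul, show ev 1 ᵥ* flipMat = -(ev 1 : Fin 3 → F) by
        ext i; fin_cases i <;> simp [flipMat, ev_apply, Matrix.vecMul, dotProduct,
          Fin.sum_univ_three],
      smul_neg, Matrix.neg_vecMul, ← hqa, mul_inv_vecMul]
  · rw [hginv, Units.val_mul, Units.val_mul, ← Matrix.vecMul_vecMul, ← Matrix.vecMul_vecMul, hqb,
      hjv, Matrix.smul_vecMul, show ev 0 ᵥ* flipMat = -(ev 0 : Fin 3 → F) by
        ext i; fin_cases i <;> simp [flipMat, ev_apply, Matrix.vecMul, dotProduct,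
          Fin.sum_univ_three],
      smul_neg, Matrix.neg_vecMul, ← hqb, mul_inv_vecMul]
  · set u := Q⁻¹.val *ᵥ m with hu'
    have e1 : u 1 = 0 := by
      have : (a ᵥ* Q.val) ⬝ᵥ u = 0 := by rw [← Matrix.dotProduct_mulVec, hu', mul_inv_mulVec, hma]
      rw [hqa, smul_dotProduct, ev_dot, smul_eq_mul] at this
      exact (mul_eq_zero.1 this).resolve_left (mul_ne_zero hbz haw)
    have e0 : u 0 = 0 := by
      have : (b ᵥ* Q.val) ⬝ᵥ u = 0 := by rw [← Matrix.dotProduct_mulVec, hu', mul_inv_mulVec, hmb]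
      rw [hqb, smul_dotProduct, ev_dot, smul_eq_mul] at this
      exact (mul_eq_zero.1 this).resolve_left hbz
    rw [Units.val_mul, Units.val_mul, ← Matrix.mulVec_mulVec, ← Matrix.mulVec_mulVec, ← hu', hjv,
      show flipMat *ᵥ u = u by
        ext i; fin_cases i <;> simp [flipMat, e0, e1, Matrix.vecHead, Matrix.vecTail],
      hu', mul_inv_mulVec]

theorem uniq_centre [Finite F] (h2 : (2 : F) ≠ 0) (hirr : ActsIrreducibly (matrixSet G))
    (hA : ¬ TwoAxes G) {z z' a : Fin 3 → F} (h : InT G z a) (h' : InT G z' a) (hz : z ≠ 0)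
    (ha : a ≠ 0) : ∃ μ : F, z' = μ • z := by
  obtain ⟨w, b, hb, haw, hbz⟩ := exists_partner hirr hA h hz ha
  obtain ⟨g, hg, hgz, -, hga, -, hgm⟩ := exists_flip h2 h hb haw hbz
  set x := (b ⬝ᵥ z') / (b ⬝ᵥ z) with hx
  set m := z' - x • z with hm
  have hma : a ⬝ᵥ m = 0 := by
    rw [hm, dotProduct_sub, dotProduct_smul, inT_dot h, inT_dot h', smul_zero, sub_zero]
  have hmb : b ⬝ᵥ m = 0 := by
    rw [hm, dotProduct_sub, dotProduct_smul, hx, smul_eq_mul, div_mul_cancel₀ _ hbz, sub_self]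
  by_cases hm0 : m = 0
  · exact ⟨x, sub_eq_zero.1 hm0⟩
  exfalso
  have h1 := inT_conj hg h'
  rw [hga] at h1
  have h1' := inT_neg h1
  rw [neg_neg] at h1'
  have h2' := inT_add_left h' h1'
  have e : z' + g.val *ᵥ z' = (2 : F) • m := by
    have hgz' : g.val *ᵥ z' = x • (-z) + m := by
      rw [show z' = x • z + m by rw [hm, add_sub_cancel], Matrix.mulVec_add, Matrix.mulVec_smul,
        hgz, hgm m hma hmb]
    rw [hgz', hm]
    module
  rw [e] at h2'
  have hbm : b ⬝ᵥ ((2 : F) • m) = 0 := by rw [dotProduct_smul, hmb, smul_zero]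
  refine hA ⟨_, a, _, h2', inT_comm h2' hb hbm, smul_ne_zero h2 hm0, ha, fun μ e' => ?_⟩
  have := congrArg (fun v => v ⬝ᵥ z) e'
  simp [inT_dot h, haw, hbz] at this

/-- Orthogonality of transvections is symmetric. -/
theorem zero_iff (hA : ¬ TwoAxes G) {z a w b : Fin 3 → F} (ha : InT G z a) (hb : InT G w b)
    (hz : z ≠ 0) (ha0 : a ≠ 0) (hw : w ≠ 0) (hb0 : b ≠ 0) : a ⬝ᵥ w = 0 ↔ b ⬝ᵥ z = 0 := by
  have key : ∀ {z a w b : Fin 3 → F}, InT G z a → InT G w b → w ≠ 0 → b ≠ 0 → a ≠ 0 →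
      a ⬝ᵥ w = 0 → b ⬝ᵥ z = 0 := by
    intro z a w b ha hb hw hb0 ha0 h0
    by_contra hne
    obtain ⟨μ, hμ⟩ := uniq_axis hA hb (inT_comm hb ha h0) hw hb0
    have := congrArg (fun v => v ⬝ᵥ z) hμ
    simp [inT_dot ha, hne] at this
    rw [this, zero_smul, smul_eq_zero] at hμ
    exact hμ.elim hne ha0
  exact ⟨key ha hb hw hb0 ha0, key hb ha hz ha0 hb0⟩

end Cfsg.Lib.Linear.Mitchell
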