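import Cfsg.Agent.Lib.Linear.Mitchell.TransBasic

/-!
# The field of a pair of transvections

When centres and axes determine each other, some pair of transvections in standard position has
both root groups equal to a subfield, and all pair products with such root groups lie in it.
The exceptional configuration of `SL₂(5)` inside `SL₂(9)` does not occur.
-/

set_option autoImplicit false

namespace Cfsg.Lib.Linear.Mitchell

open Cfsg.Geo
open Cfsg.Lib.Linear.TVec
open scoped Matrix MatrixGroups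

variable {F : Type*} [Field F] {G H : Subgroup (GL (Fin 3) F)}

theorem twoAxes_cj {P : GL (Fin 3) F} (h : TwoAxes (cj P G)) : TwoAxes G := by
  obtain ⟨z, a, b, ha, hb, hz, ha0, hab⟩ := h
  rw [inT_cj] at ha hb
  refine ⟨_, _, _, ha, hb, fun e => hz ?_, fun e => ha0 ?_, fun μ e => hab μ ?_⟩
  · rw [← mul_inv_mulVec P z, e, Matrix.mulVec_zero]
  · rw [← mul_inv_vecMul P a, e, Matrix.zero_vecMul]
  · rw [← mul_inv_vecMul P b, e, Matrix.smul_vecMul, mul_inv_vecMul]

theorem tv_inv_val (z a : Fin 3 → F) (h : a ⬝ᵥ z = 0) : (tv z a h)⁻¹.val = tvMat z (-a) := by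
  have h' : (-a) ⬝ᵥ z = 0 := by rw [neg_dotProduct, h, neg_zero]
  have e : (tv z a h)⁻¹ = tv z (-a) h' := inv_eq_of_mul_eq_one_right (Units.ext (by
    rw [Units.val_mul, coe_tv, coe_tv, tvMat_mul_right _ _ _ h, add_neg_cancel, tvMat_zero_right,
      Units.val_one]))
  rw [e, coe_tv]

/-- Conjugation of one transvection by another. -/
theorem inT_conj_tv {z a w b : Fin 3 → F} (hz : InT H z a) (hw : InT H w b) :
    InT H (w + (a ⬝ᵥ w) • z) (b - (b ⬝ᵥ z) • a) := by
  obtain ⟨h, hm⟩ := hz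
  have h1 := inT_conj hm hw
  rw [coe_tv, tvMat_mulVec, tv_inv_val] at h1
  rw [tvMat, Matrix.vecMul_add, Matrix.vecMul_one, Matrix.vecMul_vecMulVec] at h1
  rwa [smul_neg, ← sub_eq_add_neg] at h1

/-- The transvections at the points `(k, 1, 0)`. -/
theorem inT_shift {k t : F} (h0 : InT H (ev 0) (k • ev 1)) (h1 : InT H (ev 1) (t • ev 0)) :
    InT H ![k, 1, 0] (t • ![1, -k, 0]) := by
  have h := inT_conj_tv h0 h1
  convert h using 1 <;> ext i <;> fin_cases i <;> simp [ev_apply, dot_ev, smul_dotProduct]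

/-- A transvection off the plane of a pair has no zero coordinates. -/
theorem off_ne [Finite F] (h2 : (2 : F) ≠ 0) (hirr : ActsIrreducibly (matrixSet H))
    (hA : ¬ TwoAxes H) {α : F} (hα : α ≠ 0)
    (h0 : InT H (ev 0) (α • ev 1)) (h1 : InT H (ev 1) (ev 0)) {w c : Fin 3 → F} (hw : InT H w c)
    (hw2 : w 2 ≠ 0) (hc : c ≠ 0) :
    w 0 ≠ 0 ∧ w 1 ≠ 0 ∧ c 0 ≠ 0 ∧ c 1 ≠ 0 ∧ c 2 ≠ 0 := by
  have hw0 : w ≠ 0 := fun e => hw2 (by rw [e]; rfl)
  have he : ∀ i, ev (F := F) i ≠ 0 := fun i e => by simpa [ev_apply] using congrFun e i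
  have z0 : w 1 = 0 ↔ c 0 = 0 := by
    have := zero_iff hA h0 hw (he 0) (smul_ne_zero hα (he 1)) hw0 hc
    simpa [dot_ev, ev_dot, smul_dotProduct, hα] using this
  have z1 : w 0 = 0 ↔ c 1 = 0 := by
    have := zero_iff hA h1 hw (he 1) (he 0) hw0 hc
    simpa [dot_ev, ev_dot] using this
  have hdot := inT_dot hw
  rw [dotProduct, Fin.sum_univ_three] at hdot
  have hc2 : c 2 ≠ 0 := by
    intro h
    obtain ⟨g, hg, hgv⟩ := (pair_engine h2 hα h0 h1).1
    have hgg : g⁻¹ = g := inv_eq_of_mul_eq_one_left (Units.ext (by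
      rw [Units.val_mul, hgv, flipMat_mul_self]; rfl))
    have h3 := inT_conj hg hw
    rw [hgg, hgv, show c ᵥ* flipMat = -c by
      ext i; fin_cases i <;> simp [flipMat, Matrix.vecMul, dotProduct, Fin.sum_univ_three, h]] at h3
    have h4 := inT_neg h3
    rw [neg_neg] at h4
    obtain ⟨μ, hμ⟩ := uniq_centre h2 hirr hA hw h4 hw0 hc
    have e2 := congrFun hμ 2
    have e0 := congrFun hμ 0
    have e1 := congrFun hμ 1
    simp [flipMat, Matrix.vecHead, Matrix.vecTail] at e0 e1 e2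
    have hμ1 : μ = 1 := mul_right_cancel₀ hw2 (by rw [one_mul, ← e2])
    subst hμ1
    have f0 : w 0 = 0 := (mul_eq_zero.1 (show 2 * w 0 = 0 by linear_combination -e0)).resolve_left h2
    have f1 : w 1 = 0 := (mul_eq_zero.1 (show 2 * w 1 = 0 by linear_combination -e1)).resolve_left h2
    refine hc (funext fun i => ?_)
    fin_cases i
    · exact z0.1 f1
    · exact z1.1 f0
    · exact h
  refine ⟨?_, ?_, ?_, ?_, hc2⟩
  · intro h
    rw [h, mul_zero, zero_add, (z1.1 h), zero_mul, zero_add, mul_eq_zero] at hdot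
    exact hdot.elim hc2 hw2
  · intro h
    rw [h, mul_zero, (z0.1 h), zero_mul, zero_add, zero_add, mul_eq_zero] at hdot
    exact hdot.elim hc2 hw2
  · intro h
    rw [z0.2 h, mul_zero, h, zero_mul, zero_add, zero_add, mul_eq_zero] at hdot
    exact hdot.elim hc2 hw2
  · intro h
    rw [z1.2 h, mul_zero, h, zero_mul, zero_add, zero_add, mul_eq_zero] at hdot
    exact hdot.elim hc2 hw2

/-- The data of a pair in standard position: both root groups are the subfield `K`, and pair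
products with such a root group lie in `K`. -/
structure Fr (H : Subgroup (GL (Fin 3) F)) (K : Subfield F) : Prop where
  two : (2 : F) ≠ 0
  irr : ActsIrreducibly (matrixSet H)
  noTwo : ¬ TwoAxes H
  root0 : ∀ c, InT H (ev 0) (c • ev 1) ↔ c ∈ K
  root1 : ∀ c, InT H (ev 1) (c • ev 0) ↔ c ∈ K
  prod : ∀ u κ, InT H u κ → (∀ t, InT H u (t • κ) ↔ t ∈ K) → ∀ w c, InT H w c →
    (κ ⬝ᵥ w) * (c ⬝ᵥ u) ∈ K

/-- The pair product lies in the field generated by the root group, unless exceptional. -/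
theorem inv_product_mem [Finite F] (h2 : (2 : F) ≠ 0) {u κ w c : Fin 3 → F} {k : F}
    (hu : InT H u (k • κ)) (hw : InT H w c) (h1 : κ ⬝ᵥ w ≠ 0) (h2' : c ⬝ᵥ u ≠ 0) (hk : k ≠ 0)
    (hne : ¬ Exc (k * ((κ ⬝ᵥ w) * (c ⬝ᵥ u)))) :
    InT H u (((κ ⬝ᵥ w) * (c ⬝ᵥ u))⁻¹ • κ) := by
  have hkw : (k • κ) ⬝ᵥ w ≠ 0 := by rw [smul_dotProduct]; exact mul_ne_zero hk h1
  obtain ⟨Q, hQ0, -, hQa, -, hu', hl'⟩ := exists_frame hu hw hkw h2'
  have hd : (c ⬝ᵥ u) * ((k • κ) ⬝ᵥ w) = k * ((κ ⬝ᵥ w) * (c ⬝ᵥ u)) := by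
    rw [smul_dotProduct, smul_eq_mul]; ring
  rw [hd] at hu' hQa
  have h := ((pair_engine h2 (mul_ne_zero hk (mul_ne_zero h1 h2')) hu' hl').2.resolve_left hne 1
    (Subfield.one_mem _)).1
  rw [one_smul, inT_cj, inv_inv, hQ0] at h
  convert h using 1
  have e : ev 1 ᵥ* Q⁻¹.val = (k * ((κ ⬝ᵥ w) * (c ⬝ᵥ u)))⁻¹ • (k • κ) := by
    have := congrArg (fun v => v ᵥ* Q⁻¹.val) hQa
    simp only [mul_inv_vecMul, Matrix.smul_vecMul] at this
    rw [this, smul_smul, inv_mul_cancel₀ (mul_ne_zero hk (mul_ne_zero h1 h2')), one_smul]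
  rw [e, smul_smul]
  congr 1
  field_simp

/-- The field generated by `d` consists of `0` and `±1`. -/
def Small (d : F) : Prop := ∀ x ∈ Subfield.closure ({d} : Set F), x = 0 ∨ x * x = 1

theorem Small.not_exc (h2 : (2 : F) ≠ 0) {d : F} (h : Small d) : ¬ Exc d := fun he => by
  rcases h d (Subfield.subset_closure rfl) with e | e
  · have := he.1
    rw [e] at this
    norm_num at this
  · exact h2 (by linear_combination he.1 - e)

/-- The root group of a pair whose product is not exceptional is a subfield, and the same on both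
sides. -/
theorem root_field [Finite F] (h2 : (2 : F) ≠ 0) (h01 : InT H (ev 0) ((1 : F) • ev 1))
    (h10 : InT H (ev 1) ((1 : F) • ev 0)) :
    ∃ K : Subfield F, (∀ c, InT H (ev 0) (c • ev 1) ↔ c ∈ K) ∧
      (∀ c, InT H (ev 1) (c • ev 0) ↔ c ∈ K) := by
  classical
  haveI := Fintype.ofFinite F
  set A := {c : F | InT H (ev 0) (c • ev 1)}
  have hl : InT H (ev 1) (ev 0) := by rwa [one_smul] at h10
  -- the element exchanging the two root groups
  obtain ⟨hd01, hm01⟩ := h01
  obtain ⟨hd10, hm10⟩ := inT_neg (⟨h10.1, h10.2⟩ : InT H (ev 1) ((1 : F) • ev 0))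
  set W := tv (ev 0) ((1 : F) • ev 1) hd01 * tv (ev 1) (-((1 : F) • ev 0)) hd10 *
    tv (ev 0) ((1 : F) • ev 1) hd01 with hWdef
  have hW : W ∈ H := H.mul_mem (H.mul_mem hm01 hm10) hm01
  have hWv : W.val = !![0, 1, 0; -1, 0, 0; 0, 0, 1] := by
    rw [hWdef, Units.val_mul, Units.val_mul, coe_tv, coe_tv, ← neg_smul, tvMat_upper, tvMat_lower]
    ext i j
    fin_cases i <;> fin_cases j <;> simp [Matrix.mul_apply, Fin.sum_univ_three]
  have hWi : W⁻¹.val = !![0, -1, 0; 1, 0, 0; 0, 0, 1] := by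
    rw [Matrix.coe_units_inv, Matrix.inv_eq_right_inv (B := !![0, -1, 0; 1, 0, 0; 0, 0, 1])]
    rw [hWv]
    ext i j
    fin_cases i <;> fin_cases j <;> simp [Matrix.mul_apply, Fin.sum_univ_three]
  have hswap : ∀ a, InT H (ev 0) ((a : F) • ev 1) → InT H (ev 1) (a • ev 0) := by
    intro a ha
    have h := inT_neg (inT_conj hW ha)
    rw [hWv, hWi, show (!![0, 1, 0; -1, 0, 0; 0, 0, 1] : Matrix (Fin 3) (Fin 3) F) *ᵥ ev 0 =
      (-1 : F) • ev 1 by ext i; fin_cases i <;> simp [ev_apply, Matrix.vecHead, Matrix.vecTail],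
      show (a • ev 1) ᵥ* (!![0, -1, 0; 1, 0, 0; 0, 0, 1] : Matrix (Fin 3) (Fin 3) F) = a • ev 0 by
        ext i; fin_cases i <;> simp [ev_apply, Matrix.vecMul, dotProduct, Fin.sum_univ_three]] at h
    have h' := inT_smul_right h
    rwa [neg_one_smul, neg_neg] at h'
  have hswap' : ∀ a, InT H (ev 1) ((a : F) • ev 0) → InT H (ev 0) (a • ev 1) := by
    intro a ha
    have h := inT_neg (inT_conj hW ha)
    rw [hWv, hWi, show (!![0, 1, 0; -1, 0, 0; 0, 0, 1] : Matrix (Fin 3) (Fin 3) F) *ᵥ ev 1 =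
      (1 : F) • ev 0 by ext i; fin_cases i <;> simp [ev_apply, Matrix.vecHead, Matrix.vecTail],
      show (a • ev 0) ᵥ* (!![0, -1, 0; 1, 0, 0; 0, 0, 1] : Matrix (Fin 3) (Fin 3) F) = (-a) • ev 1 by
        ext i; fin_cases i <;> simp [ev_apply, Matrix.vecMul, dotProduct, Fin.sum_univ_three]] at h
    rwa [one_smul, ← neg_smul, neg_neg] at h
  have hadd : ∀ a b, a ∈ A → b ∈ A → a + b ∈ A := fun a b ha hb => by
    show InT H _ _
    rw [add_smul]; exact inT_add_right ha hb
  have hneg : ∀ a, a ∈ A → -a ∈ A := fun a ha => by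
    show InT H _ _
    rw [neg_smul]; exact inT_neg ha
  have hzero : (0 : F) ∈ A := by
    show InT H _ _
    rw [zero_smul]; exact inT_zero_right _
  have hinv : ∀ a, a ∈ A → a⁻¹ ∈ A := by
    intro a ha
    rcases eq_or_ne a 0 with rfl | ha0
    · rwa [inv_zero]
    rcases (pair_engine h2 ha0 ha hl).2 with he | hf
    · rw [inv_eq_of_mul_eq_one_right (show a * -a = 1 by linear_combination -he.1)]
      exact hneg a ha
    · exact (hf a⁻¹ (Subfield.inv_mem _ (Subfield.subset_closure rfl))).1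
  -- the torus
  have hsq : ∀ a b, a ∈ A → a ≠ 0 → b ∈ A → a ^ 2 * b ∈ A := by
    intro a b ha ha0 hb
    obtain ⟨hda, hma⟩ := ha
    obtain ⟨hdi, hmi⟩ := inT_neg (hswap a⁻¹ (hinv a ⟨hda, hma⟩))
    set T := tv (ev 0) (a • ev 1) hda * tv (ev 1) (-(a⁻¹ • ev 0)) hdi * tv (ev 0) (a • ev 1) hda * W⁻¹
      with hT
    have hTm : T ∈ H := H.mul_mem (H.mul_mem (H.mul_mem hma hmi) hma) (H.inv_mem hW)
    have hTv : T.val = !![a, 0, 0; 0, a⁻¹, 0; 0, 0, 1] := by
      rw [hT, Units.val_mul, Units.val_mul, Units.val_mul, coe_tv, coe_tv, hWi, ← neg_smul,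
        tvMat_upper, tvMat_lower]
      ext i j
      fin_cases i <;> fin_cases j <;> simp [Matrix.mul_apply, Fin.sum_univ_three, ha0]
    have hTi : T⁻¹.val = !![a⁻¹, 0, 0; 0, a, 0; 0, 0, 1] := by
      rw [Matrix.coe_units_inv,
        Matrix.inv_eq_right_inv (B := !![a⁻¹, 0, 0; 0, a, 0; 0, 0, 1])]
      rw [hTv]
      ext i j
      fin_cases i <;> fin_cases j <;> simp [Matrix.mul_apply, Fin.sum_univ_three, ha0]
    have h := inT_conj hTm hb
    rw [hTv, hTi, show (!![a, 0, 0; 0, a⁻¹, 0; 0, 0, 1] : Matrix (Fin 3) (Fin 3) F) *ᵥ ev 0 =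
      a • ev 0 by ext i; fin_cases i <;> simp [ev_apply, Matrix.vecHead, Matrix.vecTail],
      show (b • ev 1) ᵥ* (!![a⁻¹, 0, 0; 0, a, 0; 0, 0, 1] : Matrix (Fin 3) (Fin 3) F) = (b * a) • ev 1 by
        ext i; fin_cases i <;> simp [ev_apply, Matrix.vecMul, dotProduct, Fin.sum_univ_three]] at h
    have h' := inT_smul_right h
    rw [smul_smul] at h'
    show InT H _ _
    convert h' using 2
    ring
  have h1A : (1 : F) ∈ A := ⟨hd01, hm01⟩
  have hhalf : ∀ a, a ∈ A → a / 2 ∈ A := by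
    intro a ha
    have hmaps : Set.MapsTo (fun x => x + x) A A := fun x hx => hadd x x hx hx
    have hinj : Set.InjOn (fun x => x + x) A := fun x _ y _ e =>
      mul_left_cancel₀ h2 (by simp only at e; linear_combination e)
    obtain ⟨b, hb, hbe⟩ := ((Set.toFinite A).injOn_iff_bijOn_of_mapsTo hmaps).1 hinj |>.surjOn ha
    rwa [show a / 2 = b by simp only at hbe; rw [← hbe]; field_simp; ring]
  have hsq1 : ∀ a, a ∈ A → a ^ 2 ∈ A := fun a ha => by
    rcases eq_or_ne a 0 with rfl | ha0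
    · rwa [zero_pow two_ne_zero]
    · simpa using hsq a 1 ha ha0 h1A
  have hmul : ∀ a b, a ∈ A → b ∈ A → a * b ∈ A := fun a b ha hb => by
    have h := hhalf _ (hadd _ _ (hadd _ _ (hsq1 _ (hadd a b ha hb)) (hneg _ (hsq1 a ha)))
      (hneg _ (hsq1 b hb)))
    convert h using 1
    field_simp
    ring
  let K : Subfield F :=
    { carrier := A
      mul_mem' := fun ha hb => hmul _ _ ha hb
      one_mem' := h1A
      add_mem' := fun ha hb => hadd _ _ ha hb
      zero_mem' := hzero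
      neg_mem' := fun ha => hneg _ ha
      inv_mem' := hinv }
  exact ⟨K, fun c => Iff.rfl, fun c => ⟨hswap' c, hswap c⟩⟩

/-- Pairs exist. -/
theorem exists_pair (hirr : ActsIrreducibly (matrixSet G)) (hA : ¬ TwoAxes G)
    (hT : ∃ z a, InT G z a ∧ z ≠ 0 ∧ a ≠ 0) :
    ∃ z a w b, InT G z a ∧ InT G w b ∧ a ⬝ᵥ w ≠ 0 ∧ b ⬝ᵥ z ≠ 0 := by
  obtain ⟨z, a, h, hz, ha⟩ := hT
  obtain ⟨w, b, hb, h1, h2⟩ := exists_partner hirr hA h hz ha
  exact ⟨z, a, w, b, h, hb, h1, h2⟩

/-- The pair products of `G`. -/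
def IsProd (G : Subgroup (GL (Fin 3) F)) (d : F) : Prop :=
  ∃ z a w b, InT G z a ∧ InT G w b ∧ a ⬝ᵥ w ≠ 0 ∧ b ⬝ᵥ z ≠ 0 ∧ d = (b ⬝ᵥ z) * (a ⬝ᵥ w)

theorem IsProd.of_cj {P : GL (Fin 3) F} {d : F} (h : IsProd (cj P G) d) : IsProd G d := by
  obtain ⟨z, a, w, b, ha, hb, h1, h2, rfl⟩ := h
  rw [inT_cj] at ha hb
  have e : ∀ x y : Fin 3 → F, (x ᵥ* P.val) ⬝ᵥ (P⁻¹.val *ᵥ y) = x ⬝ᵥ y := fun x y => by
    rw [← Matrix.dotProduct_mulVec, mul_inv_mulVec]
  exact ⟨_, _, _, _, ha, hb, by rwa [e], by rwa [e], by rw [e, e]⟩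

theorem IsProd.ne_zero {d : F} (h : IsProd G d) : d ≠ 0 := by
  obtain ⟨z, a, w, b, -, -, h1, h2, rfl⟩ := h
  exact mul_ne_zero h2 h1

theorem isProd_pow {d : F} (hd : IsProd G d) (hnot : ∀ d, IsProd G d → Exc d ∨ Small d) :
    d ^ 4 = 1 := by
  rcases hnot d hd with he | h3
  · linear_combination (d ^ 2 - 1) * he.1
  · rcases h3 d (Subfield.subset_closure rfl) with e | e
    · exact absurd e hd.ne_zero
    · linear_combination (d ^ 2 + 1) * e

/-- The points `(x, 1, 0)` that are centres of transvections with axis through `(0, 0, 1)`. -/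
def Pt (H : Subgroup (GL (Fin 3) F)) (x : F) : Prop :=
  ∃ t : F, t ≠ 0 ∧ InT H ![x, 1, 0] (t • ![1, -x, 0])

theorem Pt.shift {x i : F} (hx : Pt H x) (hi : InT H (ev 0) (i • ev 1)) : Pt H (x + i) := by
  obtain ⟨t, ht, h⟩ := hx
  refine ⟨t, ht, ?_⟩
  convert inT_conj_tv hi h using 1 <;> ext l <;> fin_cases l <;>
    simp [ev_apply, dot_ev, ev_dot, smul_dotProduct, Matrix.vecHead, Matrix.vecTail, dotProduct,
      Fin.sum_univ_three]
  ring

theorem Pt.flip {x : F} (hx : Pt H x) (s : F) (hl : InT H (ev 1) (s • ev 0)) (h : s * x + 1 ≠ 0) :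
    Pt H (x / (s * x + 1)) := by
  obtain ⟨t, ht, hm⟩ := hx
  have h1 := inT_conj_tv hl hm
  refine ⟨t * (s * x + 1) ^ 2, mul_ne_zero ht (pow_ne_zero 2 h), ?_⟩
  have e : ![x, 1, 0] + ((s • ev 0) ⬝ᵥ ![x, 1, 0]) • ev 1 =
      (s * x + 1) • ![x / (s * x + 1), 1, (0 : F)] := by
    ext l
    fin_cases l <;> simp [ev_apply, ev_dot, smul_dotProduct, mul_div_cancel₀ _ h, dotProduct,
      Fin.sum_univ_three]
    ring
  rw [e] at h1
  have h2 := inT_smul_right h1
  convert h2 using 1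
  ext l
  fin_cases l <;> simp [ev_apply, dot_ev, smul_dotProduct, dotProduct, Fin.sum_univ_three,
    Matrix.vecHead, Matrix.vecTail] <;>
    field_simp <;> ring

/-- The exceptional configuration does not occur. -/
theorem no_exc [Finite F] (h2 : (2 : F) ≠ 0) (hirr : ActsIrreducibly (matrixSet H))
    (hA : ¬ TwoAxes H) {i : F} (he : Exc i) (hu : InT H (ev 0) (i • ev 1))
    (hl : InT H (ev 1) (ev 0)) (hnot : ∀ d, IsProd H d → Exc d ∨ Small d) : False := by
  classical
  have hi0 : i ≠ 0 := fun e => by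
    have := he.1
    rw [e] at this
    norm_num at this
  have h3 : (3 : F) = 0 := by
    haveI := Fintype.ofFinite (Subfield.closure ({i} : Set F))
    have h9 : Fintype.card (Subfield.closure ({i} : Set F)) = 9 := by
      rw [← Nat.card_eq_fintype_card, he.2]
    have := FiniteField.cast_card_eq_zero (Subfield.closure ({i} : Set F))
    rw [h9] at this
    have h9' : ((9 : ℕ) : F) = 0 := by
      have := congrArg (Subfield.closure ({i} : Set F)).subtype this
      simpa only [map_natCast, map_zero] using this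
    have : (3 : F) * 3 = 0 := by push_cast at h9'; linear_combination h9'
    exact (mul_eq_zero.1 this).elim id id
  set K := Subfield.closure ({i} : Set F) with hK
  have hiK : i ∈ K := Subfield.subset_closure rfl
  -- every element of the field is the coordinate of a point
  have hl1 : InT H (ev 1) ((1 : F) • ev 0) := by rwa [one_smul]
  have hl2 : InT H (ev 1) ((-1 : F) • ev 0) := by rw [neg_one_smul]; exact inT_neg hl
  have hp0 : Pt H 0 := by
    refine ⟨1, one_ne_zero, ?_⟩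
    convert hl1 using 1 <;> ext l <;> fin_cases l <;> simp [ev_apply]
  have hb1 : i + 1 ≠ 0 := fun e => h2 (by linear_combination he.1 - (i - 1) * e)
  have hb2 : -i + 1 ≠ 0 := fun e => h2 (by linear_combination he.1 + (i + 1) * e)
  have hpi : Pt H i := by simpa using hp0.shift hu
  have hpm : Pt H (-1 - i) := by
    have := hpi.flip 1 hl1 (by rwa [one_mul])
    rwa [show i / (1 * i + 1) = -1 - i by
      rw [one_mul, div_eq_iff hb1]; linear_combination he.1 + i * h3] at this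
  have hpp : Pt H (1 - i) := by
    have := hpi.flip (-1) hl2 (by rwa [neg_one_mul])
    rwa [show i / (-1 * i + 1) = 1 - i by
      rw [neg_one_mul, div_eq_iff hb2]; linear_combination -he.1 + i * h3] at this
  have hcols : ∀ x, Pt H x → ∀ b : F, b = 0 ∨ b = 1 ∨ b = -1 → Pt H (x + b * i) := by
    rintro x hx b (rfl | rfl | rfl)
    · simpa using hx
    · simpa using hx.shift hu
    · have := (hx.shift hu).shift hu
      rwa [show x + i + i = x + -1 * i by linear_combination i * h3] at this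
  have hall : ∀ a b : F, (a = 0 ∨ a = 1 ∨ a = -1) → (b = 0 ∨ b = 1 ∨ b = -1) → Pt H (a + b * i) := by
    rintro a b (rfl | rfl | rfl) hb
    · exact hcols 0 hp0 b hb
    · have := hcols _ ((hpp.shift hu)) b hb
      rwa [sub_add_cancel] at this
    · have := hcols _ ((hpm.shift hu)) b hb
      rwa [sub_add_cancel] at this
  have hKpt : ∀ x ∈ K, Pt H x := by
    intro x hx
    let val : Fin 3 → F := ![0, 1, -1]
    let φ : Fin 3 × Fin 3 → K := fun ab => ⟨val ab.1 + val ab.2 * i, by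
      have hv : ∀ a, val a ∈ K := fun a => by
        fin_cases a <;> simp [val, K.one_mem, K.zero_mem]
      exact K.add_mem (hv _) (K.mul_mem (hv _) hiK)⟩
    have hφ : Function.Injective φ := by
      intro p p' e
      have e' : val p.1 + val p.2 * i = val p'.1 + val p'.2 * i := congrArg Subtype.val e
      have hdiff : ∀ a b : Fin 3, val a = val b → a = b := by
        intro a b hab
        fin_cases a <;> fin_cases b <;> simp [val] at hab ⊢ <;>
          first
            | exact absurd hab one_ne_zero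
            | exact absurd hab.symm one_ne_zero
            | exact h2 (by linear_combination hab)
            | exact h2 (by linear_combination -hab)
            | exact absurd (by linear_combination hab : (1 : F) = 0) one_ne_zero
            | exact absurd (by linear_combination -hab : (1 : F) = 0) one_ne_zero
      have hd : val p.2 = val p'.2 := by
        by_contra hne
        have hs : (val p.2 - val p'.2) * i = val p'.1 - val p.1 := by linear_combination e'
        have hsq : ((val p.2 - val p'.2) * i) ^ 2 = (val p'.1 - val p.1) ^ 2 := by rw [hs]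
        have hone : ∀ a b : Fin 3, val a ≠ val b → (val a - val b) ^ 2 = 1 := by
          intro a b hab
          fin_cases a <;> fin_cases b <;> simp [val] at hab ⊢ <;>
            first | linear_combination h3 | linear_combination -h3 | ring
        rw [mul_pow, he.1, hone _ _ hne, one_mul] at hsq
        by_cases heq : val p'.1 = val p.1
        · rw [heq, sub_self] at hsq; norm_num at hsq
        · rw [hone _ _ heq] at hsq; exact h2 (by linear_combination -hsq)
      have hf : val p.1 = val p'.1 := by rw [hd] at e'; linear_combination e'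
      exact Prod.ext (hdiff _ _ hf) (hdiff _ _ hd)
    haveI := Fintype.ofFinite K
    have hsurj := (Fintype.bijective_iff_injective_and_card φ).2 ⟨hφ, by
      rw [Fintype.card_prod, Fintype.card_fin, ← Nat.card_eq_fintype_card, hK, he.2]⟩
    obtain ⟨p, hp⟩ := hsurj.2 ⟨x, hx⟩
    have hval : ∀ a, val a = 0 ∨ val a = 1 ∨ val a = -1 := fun a => by fin_cases a <;> simp [val]
    have := hall _ _ (hval p.1) (hval p.2)
    rwa [show val p.1 + val p.2 * i = x from congrArg Subtype.val hp] at this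
  -- products lie in the field and are squares there
  have hprod : ∀ {z a w b : Fin 3 → F}, InT H z a → InT H w b → (b ⬝ᵥ z) * (a ⬝ᵥ w) ∈ K ∧
      ∃ e ∈ K, (b ⬝ᵥ z) * (a ⬝ᵥ w) = e ^ 2 := by
    intro z a w b ha hb
    rcases eq_or_ne ((b ⬝ᵥ z) * (a ⬝ᵥ w)) 0 with e | e
    · rw [e]; exact ⟨K.zero_mem, 0, K.zero_mem, by ring⟩
    have h4 := isProd_pow ⟨z, a, w, b, ha, hb, right_ne_zero_of_mul e, left_ne_zero_of_mul e, rfl⟩ hnot
    generalize (b ⬝ᵥ z) * (a ⬝ᵥ w) = x at h4 e ⊢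
    have : (x - 1) * (x + 1) * ((x - i) * (x + i)) = 0 := by
      linear_combination h4 - (x ^ 2 - 1) * he.1
    rcases mul_eq_zero.1 this with h | h <;> rcases mul_eq_zero.1 h with h | h
    · exact ⟨by rw [sub_eq_zero.1 h]; exact K.one_mem, 1, K.one_mem, by linear_combination h⟩
    · exact ⟨by rw [eq_neg_of_add_eq_zero_left h]; exact K.neg_mem K.one_mem, i, hiK,
        by linear_combination h - he.1⟩
    · exact ⟨by rw [sub_eq_zero.1 h]; exact hiK, 1 - i, K.sub_mem K.one_mem hiK,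
        by linear_combination h - he.1 + i * h3⟩
    · exact ⟨by rw [eq_neg_of_add_eq_zero_left h]; exact K.neg_mem hiK, 1 + i,
        K.add_mem K.one_mem hiK, by linear_combination h - he.1 - i * h3⟩
  obtain ⟨w, c, hw, hc, hw2⟩ : ∃ w c, InT H w c ∧ c ≠ 0 ∧ w 2 ≠ 0 := by
    obtain ⟨w, c, hw, hc, hnm⟩ := exists_centre_off hirr
      ⟨_, _, hl, fun e => by simpa [ev_apply] using congrFun e 1,
        fun e => by simpa [ev_apply] using congrFun e 0⟩
      (W := LinearMap.ker (LinearMap.proj 2 : (Fin 3 → F) →ₗ[F] F)) (fun e => by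
        have : ev (F := F) 2 ∈ LinearMap.ker (LinearMap.proj 2 : (Fin 3 → F) →ₗ[F] F) := by
          rw [e]; exact Submodule.mem_top
        simp [ev_apply] at this)
    exact ⟨w, c, hw, hc, fun e => hnm (by simpa using e)⟩
  obtain ⟨hw0, hw1, hc0, hc1, hc2⟩ := off_ne h2 hirr hA hi0 hu hl hw hw2 hc
  have hdot := inT_dot hw
  rw [dotProduct, Fin.sum_univ_three] at hdot
  have p0 : c 0 * w 1 ∈ K := by
    have h := (hprod hu hw).1
    simp [smul_dotProduct, dot_ev, ev_dot] at h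
    have h' := K.mul_mem h (K.inv_mem hiK)
    rwa [show c 0 * (i * w 1) * i⁻¹ = c 0 * w 1 by field_simp] at h'
  have p1 : c 1 * w 0 ∈ K := by
    have h := (hprod hl hw).1
    simpa [dot_ev, ev_dot] using h
  have p2 : c 0 * w 0 - c 1 * w 1 ∈ K := by
    obtain ⟨t, ht, hti⟩ := hpi
    -- the point `(i, 1, 0)` comes from the lower root group
    have hsh := inT_shift hu hl1
    rw [one_smul] at hsh
    have h := (hprod hsh hw).1
    simp [dotProduct, Fin.sum_univ_three] at h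
    have h' := K.mul_mem (K.sub_mem h (K.sub_mem (K.neg_mem (K.mul_mem (K.mul_mem hiK hiK) p0))
      (K.neg_mem p1))) (K.inv_mem hiK)
    convert h' using 1
    field_simp
    ring
  have hC : c 2 * w 2 ∈ K := by
    obtain ⟨g, hg, hgv⟩ := (pair_engine h2 hi0 hu hl).1
    have hgg : g⁻¹ = g := inv_eq_of_mul_eq_one_left (Units.ext (by
      rw [Units.val_mul, hgv, flipMat_mul_self]; rfl))
    have h3' := inT_conj hg hw
    rw [hgg, hgv] at h3'
    obtain ⟨-, e, heK, hee⟩ := hprod hw h3'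
    simp [dotProduct, Fin.sum_univ_three, flipMat, Matrix.vecMul, Matrix.mulVec] at hee
    have hCsq : (c 2 * w 2) ^ 2 = e ^ 2 := by
      linear_combination hee - (c 2 * w 2) ^ 2 * h3 +
        (c 2 * w 2 * 4 - (c 0 * w 0 + c 1 * w 1 + c 2 * w 2)) * hdot
    rcases sq_eq_sq_iff_eq_or_eq_neg.1 hCsq with e' | e' <;> rw [e']
    · exact heK
    · exact K.neg_mem heK
  have h2K : (2 : F) ∈ K := by rw [show (2 : F) = 1 + 1 by norm_num]; exact K.add_mem K.one_mem K.one_mem
  have hAK : c 0 * w 0 ∈ K := by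
    have h := K.mul_mem (K.sub_mem p2 hC) (K.inv_mem h2K)
    rwa [show (c 0 * w 0 - c 1 * w 1 - c 2 * w 2) * 2⁻¹ = c 0 * w 0 by
      field_simp; linear_combination -hdot] at h
  set r := w 0 / w 1 with hr
  have hrK : r ∈ K := by
    have := K.mul_mem hAK (K.inv_mem p0)
    rwa [show c 0 * w 0 * (c 0 * w 1)⁻¹ = r by rw [hr]; field_simp] at this
  obtain ⟨t, ht, htr⟩ := hKpt r hrK
  have hz : (t • ![1, -r, 0]) ⬝ᵥ w = 0 := by
    simp [dotProduct, Fin.sum_univ_three, hr]
    field_simp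
    ring
  have := (zero_iff hA htr hw (fun e => by simpa using congrFun e 1)
    (fun e => ht (by simpa using congrFun e 0)) (fun e => hw2 (by rw [e]; rfl)) hc).1 hz
  simp [dotProduct, Fin.sum_univ_three, hr] at this
  field_simp at this
  exact mul_ne_zero hc2 hw2 (by linear_combination hdot - this)

/-- Some pair in standard position carries a field. -/
theorem exists_fr [Finite F] (h2 : (2 : F) ≠ 0) (hirr : ActsIrreducibly (matrixSet G))
    (hA : ¬ TwoAxes G) (hT : ∃ z a, InT G z a ∧ z ≠ 0 ∧ a ≠ 0) :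
    ∃ (Q : GL (Fin 3) F) (K : Subfield F), Fr (cj Q⁻¹ G) K := by
  classical
  by_cases hP1 : ∃ d, IsProd G d ∧ ¬ Exc d ∧ ¬ Small d
  · obtain ⟨d, ⟨z, a, w, b, ha, hb, haw, hbz, hd⟩, hne, hns⟩ := hP1
    obtain ⟨Q, -, -, -, -, hu, hl⟩ := exists_frame ha hb haw hbz
    rw [← hd] at hu
    have hfull := (pair_engine h2 (by rw [hd]; exact mul_ne_zero hbz haw) hu hl).2.resolve_left hne
    obtain ⟨K, hK0, hK1⟩ := root_field h2 (hfull 1 (Subfield.one_mem _)).1
      (hfull 1 (Subfield.one_mem _)).2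
    obtain ⟨k₀, hk₀, hk00, hk01⟩ : ∃ k ∈ Subfield.closure ({d} : Set F), k ≠ 0 ∧ k * k ≠ 1 := by
      simpa [Small] using hns
    have hk₀K : k₀ ∈ K := (hK0 _).1 (hfull k₀ hk₀).1
    refine ⟨Q, K, h2, irr_cj hirr _, fun h => hA (twoAxes_cj h), hK0, hK1,
      fun u κ hu' hexact w' c hw' => ?_⟩
    rcases eq_or_ne ((κ ⬝ᵥ w') * (c ⬝ᵥ u)) 0 with e | e
    · rw [e]; exact K.zero_mem
    set x := (κ ⬝ᵥ w') * (c ⬝ᵥ u) with hx
    obtain ⟨k, hkK, hk0, hkne⟩ : ∃ k ∈ K, k ≠ 0 ∧ ¬ Exc (k * x) := by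
      by_cases h1 : Exc (1 * x)
      · refine ⟨k₀, hk₀K, hk00, fun h => hk01 ?_⟩
        have e1 := h.1
        have e2 := h1.1
        linear_combination -e1 + k₀ ^ 2 * e2
      · exact ⟨1, K.one_mem, one_ne_zero, h1⟩
    have := (hexact _).1 (inv_product_mem h2 ((hexact k).2 hkK) hw' (left_ne_zero_of_mul e)
      (right_ne_zero_of_mul e) hk0 hkne)
    simpa using K.inv_mem this
  push Not at hP1
  have hnot : ∀ d, IsProd G d → Exc d ∨ Small d := fun d hd => or_iff_not_imp_left.2 (hP1 d hd)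
  by_cases hP2 : ∃ d, IsProd G d ∧ Exc d
  · exfalso
    obtain ⟨d, ⟨z, a, w, b, ha, hb, haw, hbz, hd⟩, he⟩ := hP2
    obtain ⟨Q, -, -, -, -, hu, hl⟩ := exists_frame ha hb haw hbz
    rw [← hd] at hu
    exact no_exc h2 (irr_cj hirr _) (fun h => hA (twoAxes_cj h)) he hu hl
      fun e he' => hnot e he'.of_cj
  push Not at hP2
  have hsmall : ∀ d, IsProd G d → Small d := fun d hd => (hnot d hd).resolve_left (hP2 d hd)
  obtain ⟨z, a, w, b, ha, hb, haw, hbz⟩ := exists_pair hirr hA hT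
  obtain ⟨Q, -, -, -, -, hu, hl⟩ := exists_frame ha hb haw hbz
  set d := (b ⬝ᵥ z) * (a ⬝ᵥ w)
  have hd : IsProd G d := ⟨z, a, w, b, ha, hb, haw, hbz, rfl⟩
  have hfull := (pair_engine h2 hd.ne_zero hu hl).2.resolve_left ((hsmall d hd).not_exc h2)
  obtain ⟨K, hK0, hK1⟩ := root_field h2 (hfull 1 (Subfield.one_mem _)).1
    (hfull 1 (Subfield.one_mem _)).2
  refine ⟨Q, K, h2, irr_cj hirr _, fun h => hA (twoAxes_cj h), hK0, hK1,
    fun u κ hu' hexact w' c hw' => ?_⟩
  rcases eq_or_ne ((κ ⬝ᵥ w') * (c ⬝ᵥ u)) 0 with e | e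
  · rw [e]; exact K.zero_mem
  have hp : IsProd G ((κ ⬝ᵥ w') * (c ⬝ᵥ u)) := IsProd.of_cj
    ⟨u, κ, w', c, hu', hw', left_ne_zero_of_mul e, right_ne_zero_of_mul e, mul_comm _ _⟩
  rcases (hsmall _ hp _ (Subfield.subset_closure rfl)).resolve_left e with h
  rcases mul_self_eq_one_iff.1 h with h' | h' <;> rw [h']
  · exact K.one_mem
  · exact K.neg_mem K.one_mem

end Cfsg.Lib.Linear.Mitchell
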