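import Cfsg.Agent.Lib.Linear.Mitchell.TransBasic

/-!
# A centre with two axes: the special linear group over a subfield

The centres with two axes span, three of them give all six root groups, these are one subfield,
and the group permutes the points rational over it.
-/

set_option autoImplicit false

namespace Cfsg.Lib.Linear.Mitchell

open Cfsg.Geo
open Cfsg.Lib.Linear.TVec
open scoped Matrix MatrixGroups

variable {F : Type*} [Field F] {G H : Subgroup (GL (Fin 3) F)}

theorem exists_third (i j : Fin 3) : ∃ k : Fin 3, k ≠ i ∧ k ≠ j := by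
  revert i j; decide

theorem three_cases {i j k : Fin 3} (hij : i ≠ j) (hik : i ≠ k) (hjk : j ≠ k) (l : Fin 3) :
    l = i ∨ l = j ∨ l = k := by
  revert i j k l; decide

theorem linearIndependent_three {f : Fin 3 → Fin 3 → F}
    (h : ∀ a b c : F, a • f 0 + b • f 1 + c • f 2 = 0 → a = 0 ∧ b = 0 ∧ c = 0) :
    LinearIndependent F f := by
  rw [Fintype.linearIndependent_iff]
  intro u hu
  rw [Fin.sum_univ_three] at hu
  obtain ⟨e0, e1, e2⟩ := h _ _ _ hu
  intro i
  fin_cases i <;> assumption

/-- `z` carries two independent axes. -/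
def Two (G : Subgroup (GL (Fin 3) F)) (z : Fin 3 → F) : Prop :=
  z ≠ 0 ∧ ∃ a b, InT G z a ∧ InT G z b ∧ a ≠ 0 ∧ ∀ μ : F, b ≠ μ • a

theorem Two.map {g : GL (Fin 3) F} (hg : g ∈ G) {z : Fin 3 → F} (h : Two G z) :
    Two G (g.val *ᵥ z) := by
  obtain ⟨hz, a, b, ha, hb, ha0, hab⟩ := h
  refine ⟨fun e => hz (by rw [← inv_mul_mulVec g z, e, Matrix.mulVec_zero]), _, _, inT_conj hg ha,
    inT_conj hg hb, fun e => ha0 (by rw [← inv_mul_vecMul g a, e, Matrix.zero_vecMul]),
    fun μ e => hab μ ?_⟩
  rw [← inv_mul_vecMul g b, e, Matrix.smul_vecMul, inv_mul_vecMul]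

theorem exists_two_off (hirr : ActsIrreducibly (matrixSet G)) (hA : TwoAxes G)
    {W : Submodule F (Fin 3 → F)} (hW : W ≠ ⊤) : ∃ z, Two G z ∧ z ∉ W := by
  by_contra hne
  push Not at hne
  set S := Submodule.span F {z : Fin 3 → F | Two G z}
  have hS : ∀ s ∈ matrixSet G, S.map (Matrix.toLin' s) ≤ S := by
    rintro _ ⟨g, hg, rfl⟩
    rw [Submodule.map_span, Submodule.span_le]
    rintro _ ⟨z, hz, rfl⟩
    rw [Matrix.toLin'_apply]
    exact Submodule.subset_span (Two.map hg hz)
  rcases hirr S hS with h | h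
  · obtain ⟨z, a, b, ha, hb, hz, ha0, hab⟩ := hA
    have : z ∈ S := Submodule.subset_span ⟨hz, a, b, ha, hb, ha0, hab⟩
    rw [h, Submodule.mem_bot] at this
    exact hz this
  · exact hW (top_le_iff.1 (h ▸ Submodule.span_le.2 fun z hz => hne z hz))

/-- Two functionals killing the same plane are proportional. -/
theorem prop_of_kill {x y a b : Fin 3 → F} (hxy : LinearIndependent F ![x, y]) (ha : a ≠ 0)
    (hax : a ⬝ᵥ x = 0) (hay : a ⬝ᵥ y = 0) (hbx : b ⬝ᵥ x = 0) (hby : b ⬝ᵥ y = 0) :
    ∃ μ : F, b = μ • a := by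
  obtain ⟨i, hi⟩ : ∃ i, a i ≠ 0 := Function.ne_iff.1 ha
  have hli : LinearIndependent F ![x, y, ev i] := by
    refine linearIndependent_three fun c₀ c₁ c₂ h => ?_
    simp only [Matrix.cons_val_zero, Matrix.cons_val_one, Matrix.cons_val_two, Matrix.tail_cons,
      Matrix.head_cons] at h
    have h2 : c₂ = 0 := by
      have := congrArg (fun v => a ⬝ᵥ v) h
      simp [dotProduct_add, hax, hay, dot_ev, hi] at this
      exact this
    subst h2
    rw [zero_smul, add_zero] at h
    obtain ⟨h0, h1⟩ := LinearIndependent.pair_iff.1 hxy c₀ c₁ h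
    exact ⟨h0, h1, rfl⟩
  refine ⟨b i / a i, ?_⟩
  let B := basisOfLinearIndependentOfCardEqFinrank hli (by simp)
  have hB : ∀ k, B k = ![x, y, ev i] k := fun k => by simp [B]
  have : (dotProductBilin F F b : (Fin 3 → F) →ₗ[F] F) = dotProductBilin F F ((b i / a i) • a) :=
    B.ext fun k => by
      fin_cases k <;> simp [hB, dot_ev, hax, hay, hbx, hby, hi]
  funext k
  simpa [dot_ev] using LinearMap.congr_fun this (ev k)

theorem Two.axis_ne {x y : Fin 3 → F} (hx : Two G x) (hxy : LinearIndependent F ![x, y]) :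
    ∃ a, InT G x a ∧ a ⬝ᵥ y ≠ 0 := by
  obtain ⟨-, a, b, ha, hb, ha0, hab⟩ := hx
  by_contra hne
  push Not at hne
  obtain ⟨μ, hμ⟩ := prop_of_kill hxy ha0 (inT_dot ha) (hne a ha) (inT_dot hb) (hne b hb)
  exact hab μ hμ

/-- The line through two such centres is an axis at each of them. -/
theorem axis_through [Finite F] (h2 : (2 : F) ≠ 0) {x y : Fin 3 → F} (hx : Two G x) (hy : Two G y)
    (hxy : LinearIndependent F ![x, y]) :
    ∃ α, InT G x α ∧ α ≠ 0 ∧ α ⬝ᵥ x = 0 ∧ α ⬝ᵥ y = 0 := by
  obtain ⟨a, ha, hay⟩ := hx.axis_ne hxy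
  obtain ⟨c, hc, hcx⟩ := hy.axis_ne (LinearIndependent.pair_symm_iff.1 hxy)
  obtain ⟨g, hg, hgx, hgy, -, -, hgm⟩ := exists_flip h2 ha hc hay hcx
  obtain ⟨Q, -, -, hQa, hQc, -, -⟩ := exists_frame ha hc hay hcx
  -- a point fixed by the flip
  set m := Q.val *ᵥ ev 2 with hm
  have hma : a ⬝ᵥ m = 0 := by
    rw [hm, Matrix.dotProduct_mulVec, hQa, dot_ev]; simp [ev_apply]
  have hmc : c ⬝ᵥ m = 0 := by
    rw [hm, Matrix.dotProduct_mulVec, hQc, dot_ev]; simp [ev_apply]
  have hm0 : m ≠ 0 := fun e => by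
    have h := congrArg (fun v => Q⁻¹.val *ᵥ v) e
    rw [hm] at h
    simp only [inv_mul_mulVec, Matrix.mulVec_zero] at h
    simpa [ev_apply] using congrFun h 2
  have hgx' : g⁻¹.val *ᵥ x = -x := by
    have h := congrArg (fun v => -(g⁻¹.val *ᵥ v)) hgx
    simp only [inv_mul_mulVec, Matrix.mulVec_neg, neg_neg] at h
    exact h.symm
  have hgy' : g⁻¹.val *ᵥ y = -y := by
    have h := congrArg (fun v => -(g⁻¹.val *ᵥ v)) hgy
    simp only [inv_mul_mulVec, Matrix.mulVec_neg, neg_neg] at h
    exact h.symm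
  have hgm' : g⁻¹.val *ᵥ m = m := by
    conv_lhs => rw [← hgm m hma hmc]
    rw [inv_mul_mulVec]
  obtain ⟨b, hb, hbm⟩ : ∃ b, InT G x b ∧ b ⬝ᵥ m ≠ 0 := by
    by_contra hne
    push Not at hne
    obtain ⟨-, a', b', ha', hb', ha0', hab'⟩ := hx
    have hxm : LinearIndependent F ![x, m] := by
      rw [LinearIndependent.pair_iff]
      intro s t hst
      have := congrArg (fun v => c ⬝ᵥ v) hst
      simp [dotProduct_add, hmc, hcx] at this
      subst this
      simp [hm0] at hst
      exact ⟨rfl, hst⟩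
    obtain ⟨μ, hμ⟩ := prop_of_kill hxm ha0' (inT_dot ha') (hne a' ha') (inT_dot hb') (hne b' hb')
    exact hab' μ hμ
  have h1 := inT_conj hg hb
  rw [hgx] at h1
  rw [← neg_one_smul F x] at h1
  have h1' := inT_neg (inT_smul_right h1)
  rw [neg_one_smul, neg_neg] at h1'
  refine ⟨b + b ᵥ* g⁻¹.val, inT_add_right hb h1', fun e => ?_, ?_, ?_⟩
  · have := congrArg (fun v => v ⬝ᵥ m) e
    simp only [add_dotProduct, ← Matrix.dotProduct_mulVec, hgm', zero_dotProduct] at this
    exact hbm ((mul_eq_zero.1 (show 2 * (b ⬝ᵥ m) = 0 by linear_combination this)).resolve_left h2)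
  · rw [add_dotProduct, ← Matrix.dotProduct_mulVec, hgx', dotProduct_neg, add_neg_cancel]
  · rw [add_dotProduct, ← Matrix.dotProduct_mulVec, hgy', dotProduct_neg, add_neg_cancel]

/-- The coefficients of the root group at a pair of coordinates. -/
def Root (H : Subgroup (GL (Fin 3) F)) (i j : Fin 3) (c : F) : Prop := InT H (ev i) (c • ev j)

theorem Root.mul {i j k : Fin 3} (hik : i ≠ k) {c d : F} (hc : Root H i j c) (hd : Root H j k d) :
    Root H i k (c * d) := by
  have h := inT_comm hc hd (by simp [ev, hik])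
  rw [smul_dotProduct, smul_smul] at h
  simpa [Root, ev] using h

theorem Root.add {i j : Fin 3} {c d : F} (hc : Root H i j c) (hd : Root H i j d) :
    Root H i j (c + d) := by
  rw [Root, add_smul]; exact inT_add_right hc hd

theorem Root.neg {i j : Fin 3} {c : F} (hc : Root H i j c) : Root H i j (-c) := by
  rw [Root, neg_smul]; exact inT_neg hc

theorem Root.zero (i j : Fin 3) : Root H i j 0 := by
  rw [Root, zero_smul]; exact inT_zero_right _

/-- The six root groups of a triangle are one subfield. -/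
theorem exists_subfield [Fintype F] (h01 : Root H 0 1 1) (h12 : Root H 1 2 1)
    (h20 : ∃ s, s ≠ 0 ∧ Root H 2 0 s) :
    ∃ M : Subfield F, ∀ i j : Fin 3, i ≠ j → ∀ c, Root H i j c ↔ c ∈ M := by
  obtain ⟨s, hs0, hs⟩ := h20
  have hs21 : Root H 2 1 s := by simpa using hs.mul (by decide : (2 : Fin 3) ≠ 1) h01
  have hs10 : Root H 1 0 s := by simpa using h12.mul (by decide : (1 : Fin 3) ≠ 0) hs
  have h1 : Root H 0 2 1 := by simpa using h01.mul (by decide : (0 : Fin 3) ≠ 2) h12
  have le01 : ∀ c, Root H 0 1 c → Root H 0 2 c := fun c hc => by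
    simpa using hc.mul (by decide : (0 : Fin 3) ≠ 2) h12
  have le12 : ∀ c, Root H 1 2 c → Root H 0 2 c := fun c hc => by
    simpa using h01.mul (by decide : (0 : Fin 3) ≠ 2) hc
  have ms01 : ∀ c, Root H 0 2 c → Root H 0 1 (c * s) := fun c hc => hc.mul (by decide) hs21
  have ms12 : ∀ c, Root H 0 2 c → Root H 1 2 (s * c) := fun c hc => hs10.mul (by decide) hc
  have hdiv : ∀ c, Root H 0 2 c → ∃ c', Root H 0 2 c' ∧ c' * s = c := by
    intro c hc
    have hmaps : Set.MapsTo (fun x => x * s) {x | Root H 0 2 x} {x | Root H 0 2 x} := fun x hx =>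
      le01 _ (ms01 x hx)
    have hinj : Set.InjOn (fun x => x * s) {x | Root H 0 2 x} := fun x _ y _ e =>
      mul_right_cancel₀ hs0 e
    exact ((Set.toFinite _).surjOn_iff_bijOn_of_mapsTo hmaps).2
      ((Set.toFinite _).injOn_iff_bijOn_of_mapsTo hmaps |>.1 hinj) |> fun h => h hc
  have hmul : ∀ a b, Root H 0 2 a → Root H 0 2 b → Root H 0 2 (a * b) := by
    intro a b ha hb
    have h := (ms01 a ha).mul (by decide : (0 : Fin 3) ≠ 2) (ms12 b hb)
    obtain ⟨c, hc, hce⟩ := hdiv _ h
    obtain ⟨c', hc', hce'⟩ := hdiv _ hc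
    convert hc' using 1
    apply mul_right_cancel₀ (mul_ne_zero hs0 hs0)
    linear_combination -hce - s * hce'
  let M : Subfield F :=
    { carrier := {c | Root H 0 2 c}
      mul_mem' := fun ha hb => hmul _ _ ha hb
      one_mem' := h1
      add_mem' := fun ha hb => ha.add hb
      zero_mem' := Root.zero 0 2
      neg_mem' := fun ha => ha.neg
      inv_mem' := fun x hx => by
        rcases eq_or_ne x 0 with rfl | hx0
        · simpa using hx
        have hq := Fintype.one_lt_card (α := F)
        have hinv : x⁻¹ = x ^ (Fintype.card F - 2) := inv_eq_of_mul_eq_one_right (by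
          rw [← pow_succ', show Fintype.card F - 2 + 1 = Fintype.card F - 1 by omega,
            FiniteField.pow_card_sub_one_eq_one x hx0])
        show Root H 0 2 x⁻¹
        rw [hinv]
        suffices ∀ n, Root H 0 2 (x ^ n) from this _
        intro n
        induction n with
        | zero => simpa using h1
        | succ n ih => rw [pow_succ]; exact hmul _ _ ih hx }
  have hsM : Root H 0 2 s := by simpa using le01 _ (ms01 1 h1)
  have e01 : ∀ c, Root H 0 1 c ↔ c ∈ M := fun c => ⟨le01 c, fun hc => by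
    obtain ⟨c', hc', rfl⟩ := hdiv c hc
    exact ms01 c' hc'⟩
  have e12 : ∀ c, Root H 1 2 c ↔ c ∈ M := fun c => ⟨le12 c, fun hc => by
    obtain ⟨c', hc', rfl⟩ := hdiv c hc
    rw [mul_comm]; exact ms12 c' hc'⟩
  have e10 : ∀ c, Root H 1 0 c ↔ c ∈ M := fun c => ⟨fun hc => show Root H 0 2 c by
    simpa using le12 _ (hc.mul (by decide : (1 : Fin 3) ≠ 2) h1), fun hc => by
    obtain ⟨c', hc', rfl⟩ := hdiv c hc
    exact ((e12 c').2 hc').mul (by decide) hs⟩
  have e21 : ∀ c, Root H 2 1 c ↔ c ∈ M := fun c => ⟨fun hc => show Root H 0 2 c by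
    simpa using le01 _ (h1.mul (by decide : (0 : Fin 3) ≠ 1) hc), fun hc => by
    obtain ⟨c', hc', rfl⟩ := hdiv c hc
    rw [mul_comm]; exact hs.mul (by decide) ((e01 c').2 hc')⟩
  have e20 : ∀ c, Root H 2 0 c ↔ c ∈ M := fun c => ⟨fun hc => by
    simpa using (e21 _).1 (hc.mul (by decide : (2 : Fin 3) ≠ 1) h01), fun hc => by
    obtain ⟨c', hc', rfl⟩ := hdiv c hc
    rw [mul_comm]; exact hs21.mul (by decide) ((e10 c').2 hc')⟩
  refine ⟨M, fun i j hij c => ?_⟩
  fin_cases i <;> fin_cases j <;> simp at hij ⊢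
  · exact e01 c
  · exact Iff.rfl
  · exact e10 c
  · exact e12 c
  · exact e20 c
  · exact e21 c

/-- The two alternatives in the split case. -/
def SplitType (G : Subgroup (GL (Fin 3) F)) : Prop :=
  ∃ (Q : GL (Fin 3) F) (K : Subfield F),
    ((specialLinear (Fin 3) K).map (Matrix.GeneralLinearGroup.map K.subtype)).map
        (MulAut.conj Q).toMonoidHom ≤ G ∧ G ≤ subfieldSubgroup K Q

/-- With all root groups equal to one subfield, the group is rational over it up to scalars. -/
theorem split_of_roots [Fintype F] (h2 : (2 : F) ≠ 0) (hH : ∀ i, Two H (ev i)) {M : Subfield F}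
    (hM : ∀ i j : Fin 3, i ≠ j → ∀ c, Root H i j c ↔ c ∈ M) :
    (specialLinear (Fin 3) M).map (Matrix.GeneralLinearGroup.map M.subtype) ≤ H ∧
      H ≤ (Matrix.GeneralLinearGroup.map (M.subtype : M →+* F)).range ⊔ scalars (Fin 3) F := by
  classical
  have hroot : ∀ (i j : Fin 3), i ≠ j → ∀ c ∈ M, InT H (ev i) (c • ev j) := fun i j hij c hc =>
    (hM i j hij c).2 hc
  refine ⟨?_, ?_⟩
  · rw [specialLinear, ← range_toGL, MonoidHom.range_eq_map, ← closure_transvection_eq_top,
      MonoidHom.map_closure, MonoidHom.map_closure, Subgroup.closure_le]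
    rintro _ ⟨_, ⟨_, ⟨i, j, hij, c, rfl⟩, rfl⟩, rfl⟩
    obtain ⟨h, hm⟩ := hroot i j hij _ c.2
    show _ ∈ H
    convert hm
    apply Units.ext
    rw [coe_tv]
    ext x y
    show ((Matrix.transvection i j c) x y : F) =
      (1 + Matrix.vecMulVec (ev i) ((c : F) • ev j) : Matrix (Fin 3) (Fin 3) F) x y
    simp [Matrix.transvection, Matrix.one_apply, Matrix.single_apply, Matrix.vecMulVec_apply,
      ev_apply, eq_comm]
    split_ifs <;> simp_all
  -- axes at a coordinate point are rational
  have haxis : ∀ (i j : Fin 3), i ≠ j → ∀ b, InT H (ev i) b → b j ∈ M := by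
    intro i j hij b hb
    obtain ⟨k, hki, hkj⟩ := exists_third i j
    obtain ⟨g, hg, hgi, hgk, -, -, hgm⟩ := exists_flip h2 (hroot i k hki.symm 1 M.one_mem)
      (hroot k i hki 1 M.one_mem) (by simp [ev]) (by simp [ev])
    have hgj : g.val *ᵥ ev j = ev j := hgm _ (by simp [ev, hkj, hkj.symm]) (by simp [ev, hij, hij.symm])
    have h1 := inT_conj hg hb
    rw [hgi, ← neg_one_smul F (ev i)] at h1
    have h1' := inT_neg (inT_smul_right h1)
    rw [neg_one_smul, neg_neg] at h1'
    have h3 := inT_add_right hb h1'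
    -- remove the component along `k`
    have hinv : ∀ v, g.val *ᵥ v = v → g⁻¹.val *ᵥ v = v := fun v e => by
      conv_lhs => rw [← e]
      rw [inv_mul_mulVec]
    have hk : (b ᵥ* g⁻¹.val) k = -b k := by
      rw [← dot_ev (b ᵥ* g⁻¹.val) k, ← Matrix.dotProduct_mulVec]
      have e : g⁻¹.val *ᵥ ev k = -ev k := by
        have := congrArg (fun v => -(g⁻¹.val *ᵥ v)) hgk
        simp only [inv_mul_mulVec, Matrix.mulVec_neg, neg_neg] at this
        exact this.symm
      rw [e, dotProduct_neg, dot_ev]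
    have hj : (b ᵥ* g⁻¹.val) j = b j := by
      rw [← dot_ev (b ᵥ* g⁻¹.val) j, ← Matrix.dotProduct_mulVec, hinv _ hgj, dot_ev]
    have he : b + b ᵥ* g⁻¹.val = (2 * b j) • ev j := by
      funext l
      have hi0 : b i = 0 := by simpa [dot_ev] using inT_dot hb
      have hi : (b ᵥ* g⁻¹.val) i = 0 := by
        have := inT_dot h1'
        rwa [dot_ev] at this
      rw [Pi.add_apply, Pi.smul_apply, ev_apply, smul_eq_mul]
      rcases three_cases hij hki.symm hkj.symm l with rfl | rfl | rfl
      · rw [hi, hi0, if_neg hij]; ring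
      · rw [hj, if_pos rfl]; ring
      · rw [hk, if_neg hkj]; ring
    rw [he] at h3
    have h4 := M.mul_mem ((hM i j hij _).1 h3) (M.inv_mem (M.add_mem M.one_mem M.one_mem))
    rwa [show (1 : F) + 1 = 2 by norm_num, mul_comm (2 : F) (b j), mul_assoc, mul_inv_cancel₀ h2,
      mul_one] at h4
  -- centres with two axes are rational
  have hrat : ∀ z, Two H z → ∃ (μ : F) (r : Fin 3 → M), μ ≠ 0 ∧ z = μ • fun l => (r l : F) := by
    intro z hz
    obtain ⟨k, hk⟩ : ∃ k, z k ≠ 0 := Function.ne_iff.1 hz.1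
    have hmem : ∀ j, z j / z k ∈ M := by
      intro j
      by_cases hjk : j = k
      · rw [hjk, div_self hk]; exact M.one_mem
      obtain ⟨i, hij, hik⟩ := exists_third j k
      have hind : LinearIndependent F ![ev i, z] := by
        rw [LinearIndependent.pair_iff]
        intro s t hst
        have e := congrFun hst k
        simp [ev_apply, hik.symm, hk] at e
        subst e
        have e := congrFun hst i
        simp [ev_apply] at e
        exact ⟨e, rfl⟩
      obtain ⟨α, hα, hα0, hαi, hαz⟩ := axis_through h2 (hH i) hz hind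
      have hi0 : α i = 0 := by simpa [dot_ev] using hαi
      have hsum : α j * z j + α k * z k = 0 := by
        have hall := three_cases hij hik hjk
        rw [dotProduct, ← Finset.sum_subset (Finset.subset_univ {j, k}) (fun l _ hl => ?_),
          Finset.sum_pair hjk] at hαz
        · exact hαz
        · simp only [Finset.mem_insert, Finset.mem_singleton] at hl
          rw [(hall l).resolve_right hl, hi0, zero_mul]
      have hj0 : α j ≠ 0 := fun e => hα0 (by
        rw [e, zero_mul, zero_add, mul_eq_zero] at hsum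
        have hk0 := hsum.resolve_right hk
        have hall := three_cases hij hik hjk
        funext l
        rcases hall l with rfl | rfl | rfl <;> assumption)
      rw [show z j / z k = -α k / α j by field_simp; linear_combination hsum]
      exact M.div_mem (M.neg_mem (haxis i k hik α hα)) (haxis i j hij α hα)
    exact ⟨z k, fun l => ⟨_, hmem l⟩, hk, funext fun l => by simp [mul_div_cancel₀ _ hk]⟩
  intro g hg
  choose lam r hlam hr using fun i => hrat _ (Two.map hg (hH i))
  obtain ⟨μ, r', hμ, hr'⟩ := hrat _ (show Two H (g.val *ᵥ fun _ => (1 : F)) by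
    obtain ⟨hA, hA'⟩ := hroot 1 0 (by decide) 1 M.one_mem
    obtain ⟨hB, hB'⟩ := hroot 2 0 (by decide) 1 M.one_mem
    have h := Two.map (H.mul_mem hg (H.mul_mem hB' hA')) (hH 0)
    convert h using 1
    rw [Units.val_mul, Units.val_mul, ← Matrix.mulVec_mulVec, ← Matrix.mulVec_mulVec, coe_tv, coe_tv,
      tvMat_mulVec, tvMat_mulVec]
    congr 1
    funext l
    fin_cases l <;> simp [ev_apply, dotProduct, Fin.sum_univ_three])
  let R : Matrix (Fin 3) (Fin 3) M := Matrix.of fun l i => r i l
  have hgcol : ∀ i l, g.val l i = lam i * r i l := fun i l => by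
    have := congrFun (hr i) l
    simpa [ev, Matrix.mulVec_single] using this
  have hgR : g.val = R.map M.subtype * Matrix.diagonal lam := by
    ext l i
    rw [Matrix.mul_diagonal, hgcol i l, mul_comm]
    rfl
  have hR : R.det ≠ 0 := fun e => g.det_ne_zero (by
    rw [hgR, Matrix.det_mul, ← RingHom.mapMatrix_apply, ← RingHom.map_det, e, map_zero, zero_mul])
  set c := R⁻¹ *ᵥ r' with hc
  have hlamc : ∀ i, lam i = μ * (c i : F) := by
    have e1 : R.map M.subtype *ᵥ lam = R.map M.subtype *ᵥ (μ • fun i => (c i : F)) := by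
      rw [Matrix.mulVec_smul]
      trans g.val *ᵥ fun _ => (1 : F)
      · rw [hgR, ← Matrix.mulVec_mulVec]
        congr 1
        funext i
        simp [Matrix.mulVec_diagonal]
      · rw [hr']
        congr 1
        funext l
        rw [show (R.map M.subtype *ᵥ fun i => (c i : F)) l = M.subtype ((R *ᵥ c) l) from
          (RingHom.map_mulVec M.subtype R c l).symm, hc, Matrix.mulVec_mulVec,
          Matrix.mul_nonsing_inv _ (isUnit_iff_ne_zero.2 hR), Matrix.one_mulVec]
        rfl
    have hU : IsUnit (R.map M.subtype) := (Matrix.isUnit_iff_isUnit_det _).2 (isUnit_iff_ne_zero.2 (by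
      rw [← RingHom.mapMatrix_apply, ← RingHom.map_det]
      exact fun e => hR (Subtype.ext e)))
    intro i
    exact congrFun (Matrix.mulVec_injective_of_isUnit hU e1) i
  have hcdet : (R * Matrix.diagonal c).det ≠ 0 := by
    rw [Matrix.det_mul, Matrix.det_diagonal]
    refine mul_ne_zero hR (Finset.prod_ne_zero_iff.2 fun i _ e => hlam i ?_)
    rw [hlamc i, e, ZeroMemClass.coe_zero, mul_zero]
  have hg' : g = Matrix.GeneralLinearGroup.map M.subtype
      (Matrix.GeneralLinearGroup.mkOfDetNeZero _ hcdet) *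
      Units.map (algebraMap F (Matrix (Fin 3) (Fin 3) F)).toMonoidHom (Units.mk0 μ hμ) := by
    apply Units.ext
    ext l i
    rw [hgcol, hlamc, Units.val_mul]
    simp [Matrix.GeneralLinearGroup.map, Matrix.GeneralLinearGroup.mkOfDetNeZero,
      Algebra.algebraMap_eq_smul_one, R]
    ring
  rw [hg']
  exact Subgroup.mul_mem_sup ⟨_, rfl⟩ ⟨_, rfl⟩

/-- A centre with two axes gives the special linear group over a subfield. -/
theorem of_twoAxes [Fintype F] (h2 : (2 : F) ≠ 0) (hirr : ActsIrreducibly (matrixSet G))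
    (hA : TwoAxes G) : SplitType G := by
  classical
  obtain ⟨x, hx, -⟩ := exists_two_off hirr hA (W := ⊥) (by simp)
  obtain ⟨y, hy, hyx⟩ := exists_two_off hirr hA (W := Submodule.span F {x}) (fun e => by
    have h := finrank_span_singleton (K := F) hx.1
    rw [e, finrank_top, Module.finrank_fintype_fun_eq_card] at h
    simp at h)
  obtain ⟨t, ht, htxy⟩ := exists_two_off hirr hA (W := Submodule.span F (Set.range ![x, y]))
    (fun e => by
      have h := finrank_range_le_card (R := F) ![x, y]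
      rw [Set.finrank, e, finrank_top, Module.finrank_fintype_fun_eq_card] at h
      simp at h)
  set f : Fin 3 → Fin 3 → F := ![x, y, t]
  have hf : ∀ i, Two G (f i) := fun i => by fin_cases i <;> assumption
  have hli : LinearIndependent F f := by
    refine linearIndependent_three fun c₀ c₁ c₂ h => ?_
    have h2' : c₂ = 0 := by
      by_contra hne
      refine htxy ?_
      rw [show t = (-(c₀ / c₂)) • x + (-(c₁ / c₂)) • y by
        have := congrArg (fun v => c₂⁻¹ • v) h
        simp only [f, Matrix.cons_val_zero, Matrix.cons_val_one, Matrix.cons_val_two, Matrix.tail_cons,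
          Matrix.head_cons, smul_add,
          smul_smul, smul_zero, inv_mul_cancel₀ hne, one_smul] at this
        linear_combination (norm := module) this]
      exact add_mem (Submodule.smul_mem _ _ (Submodule.subset_span ⟨0, rfl⟩))
        (Submodule.smul_mem _ _ (Submodule.subset_span ⟨1, rfl⟩))
    subst h2'
    simp [f] at h
    have h1' : c₁ = 0 := by
      by_contra hne
      refine hyx (Submodule.mem_span_singleton.2 ⟨-(c₀ / c₁), ?_⟩)
      symm
      have := congrArg (fun v => c₁⁻¹ • v) h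
      simp only [smul_add, smul_smul, smul_zero, inv_mul_cancel₀ hne, one_smul] at this
      linear_combination (norm := module) this
    subst h1'
    simp [hx.1] at h
    exact ⟨h, rfl, rfl⟩
  let Qm : Matrix (Fin 3) (Fin 3) F := Matrix.of fun l i => f i l
  have hQm : Qm.det ≠ 0 := fun e => by
    obtain ⟨u, hu, hu0⟩ := Matrix.exists_mulVec_eq_zero_iff.2 e
    exact hu (funext (Fintype.linearIndependent_iff.1 hli u (by
      rw [← hu0]; funext l; simp [Qm, Matrix.mulVec, dotProduct, mul_comm])))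
  set Q := Matrix.GeneralLinearGroup.mkOfDetNeZero Qm hQm
  have hQe : ∀ i, Q.val *ᵥ ev i = f i := fun i => by
    funext l
    simp [Q, Matrix.GeneralLinearGroup.mkOfDetNeZero, Qm, ev, Matrix.mulVec_single]
  set H₀ := cj Q⁻¹ G with hH₀
  have hne : ∀ i j : Fin 3, i ≠ j → ∃ c, c ≠ 0 ∧ Root H₀ i j c := by
    intro i j hij
    obtain ⟨k, hki, hkj⟩ := exists_third i j
    have hind : LinearIndependent F ![f i, f k] := by
      rw [LinearIndependent.pair_iff]
      intro s u hsu
      have h := Fintype.linearIndependent_iff.1 hli (fun l => if l = i then s else if l = k then u else 0)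
        (by
          rw [← hsu, ← Finset.sum_subset (Finset.subset_univ {i, k}) (fun l _ hl => by
            simp only [Finset.mem_insert, Finset.mem_singleton, not_or] at hl
            simp [hl.1, hl.2]), Finset.sum_pair hki.symm]
          simp [hki])
      exact ⟨by simpa using h i, by simpa [hki] using h k⟩
    obtain ⟨α, hα, hα0, hαi, hαk⟩ := axis_through h2 (hf i) (hf k) hind
    have hv : α ᵥ* Q.val = (α ᵥ* Q.val) j • ev j := by
      have hz : ∀ l, α ⬝ᵥ f l = (α ᵥ* Q.val) l := fun l => by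
        rw [← hQe, Matrix.dotProduct_mulVec, dot_ev]
      funext l
      rcases three_cases hij hki.symm hkj.symm l with rfl | rfl | rfl
      · simp [ev_apply, hij, ← hz, hαi]
      · simp [ev_apply]
      · simp [ev_apply, hkj, ← hz, hαk]
    refine ⟨(α ᵥ* Q.val) j, fun e => hα0 ?_, ?_⟩
    · rw [← mul_inv_vecMul Q α, hv, e, zero_smul, Matrix.zero_vecMul]
    · rw [Root, ← hv, hH₀, inT_cj, inv_inv, hQe, mul_inv_vecMul]
      exact hα
  obtain ⟨a, ha0, ha⟩ := hne 0 1 (by decide)
  obtain ⟨b, hb0, hb⟩ := hne 1 2 (by decide)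
  set d : Fin 3 → F := ![1, a, a * b]
  have hd : ∀ i, d i ≠ 0 := fun i => by fin_cases i <;> simp [d, ha0, hb0]
  set D := Matrix.GeneralLinearGroup.mkOfDetNeZero (Matrix.diagonal d)
    (by rw [Matrix.det_diagonal]; exact Finset.prod_ne_zero_iff.2 fun i _ => hd i)
  have hDinv : ∀ i, D⁻¹.val *ᵥ ev i = (d i)⁻¹ • ev i := fun i => by
    have : D.val *ᵥ ((d i)⁻¹ • ev i) = ev i := by
      funext l
      simp [D, Matrix.GeneralLinearGroup.mkOfDetNeZero, Matrix.mulVec_diagonal, ev_apply]
      split_ifs with h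
      · subst h; simp [hd l]
      · rfl
    conv_lhs => rw [← this]
    rw [inv_mul_mulVec]
  have hDe : ∀ (c : F) j, (c • ev j) ᵥ* D.val = (c * d j) • ev j := fun c j => by
    funext l
    simp [D, Matrix.GeneralLinearGroup.mkOfDetNeZero, Matrix.vecMul_diagonal, ev_apply]
    split_ifs with h
    · subst h; rfl
    · rfl
  set H := cj D H₀ with hH
  have hscale : ∀ i j c, Root H₀ i j c → Root H i j (c * d i / d j) := fun i j c h => by
    rw [Root, hH, inT_cj, hDinv, hDe]
    refine inT_smul_left ?_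
    rw [smul_smul, show (d i)⁻¹ * (c * d i / d j * d j) = c by field_simp [hd i, hd j]]
    exact h
  have h01 : Root H 0 1 1 := by simpa [d, ha0] using hscale 0 1 a ha
  have h12 : Root H 1 2 1 := by
    have := hscale 1 2 b hb
    rwa [show b * d 1 / d 2 = 1 by simp [d]; field_simp] at this
  obtain ⟨s, hs0, hs⟩ := hne 2 0 (by decide)
  obtain ⟨M, hM⟩ := exists_subfield h01 h12
    ⟨_, div_ne_zero (mul_ne_zero hs0 (hd 2)) (hd 0), hscale 2 0 s hs⟩
  have hH2 : ∀ i, Two H (ev i) := by
    intro i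
    obtain ⟨j, k, hij, hik, hjk⟩ : ∃ j k : Fin 3, i ≠ j ∧ i ≠ k ∧ j ≠ k := by revert i; decide
    refine ⟨fun e => by simpa [ev_apply] using congrFun e i, _, _, (hM i j hij 1).2 M.one_mem,
      (hM i k hik 1).2 M.one_mem, fun e => by simpa [ev_apply] using congrFun e j, fun μ e => ?_⟩
    simpa [ev_apply, hjk.symm] using congrFun e k
  obtain ⟨hle, hge⟩ := split_of_roots h2 hH2 hM
  refine ⟨(D * Q⁻¹)⁻¹, M, fun g hg => ?_, fun g hg => ?_⟩
  · obtain ⟨h, hh, rfl⟩ := hg
    have := hle hh
    rw [hH, hH₀, mem_cj, mem_cj, inv_inv] at this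
    simpa [MulAut.conj_apply, mul_assoc] using this
  · refine ⟨D * Q⁻¹ * g * (D * Q⁻¹)⁻¹, hge ?_, by simp [MulAut.conj_apply, mul_assoc]⟩
    rw [hH, hH₀, mem_cj, mem_cj, inv_inv]
    simpa [mul_assoc] using hg

end Cfsg.Lib.Linear.Mitchell
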