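import Cfsg.Agent.Lib.Linear.Mitchell.MaxList
import Cfsg.Agent.Lib.Linear.Mitchell.SU3Point

/-!
# Unitary type groups inside `GU₃(q)`

The unitary form fixed by an absolutely irreducible subgroup of `GU₃(q)` is the standard one up to a scalar, so
a subgroup with the lower bound of a unitary type contains `SU₃(q)`.
-/

set_option autoImplicit false
set_option linter.unusedSectionVars false

namespace Cfsg.Lib.Linear.Mitchell

open Cfsg.Geo Cfsg.Lib.Linear Cfsg.Lib.Linear.Herm
open scoped Matrix MatrixGroups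

variable {F : Type*} [Field F] [Fintype F] {q : ℕ}

/-- Traces of inverses in the general unitary group. -/
theorem trace_inv_GU (hF : Fintype.card F = q ^ 2) {x : GL (Fin 3) F} (hx : x ∈ Cfsg.GU 3 F q) :
    (x⁻¹).val.trace = x.val.trace ^ q := by
  have h := Asch.gu_gram hF hx
  have hinv : x.val.map (Asch.sigmaE hF) = (x⁻¹).val.transpose := by
    refine (left_inv_eq_right_inv ?_ h).symm
    rw [← Matrix.transpose_mul, Units.mul_inv, Matrix.transpose_one]
  have e := congrArg Matrix.trace hinv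
  rw [Matrix.trace_transpose] at e
  rw [← e, ← Asch.sigmaE_apply hF]
  simp [Matrix.trace, map_sum]

theorem form_eq_smul_herm (hF : Fintype.card F = q ^ 2) {P : Subgroup (GL (Fin 3) F)}
    (habs : ActsAbsolutelyIrreducibly (matrixSet P)) (hGU : P ≤ Cfsg.GU 3 F q)
    {σ : F ≃+* F} {f : (Fin 3 → F) → (Fin 3 → F) → F} (hf : IsUnitaryForm σ f) (hfix : FixesForm (matrixSet P) f) :
    ∃ c : F, c ≠ 0 ∧ (∀ x, σ x = x ^ q) ∧ c ^ q = c ∧ ∀ u v, f u v = c * Cfsg.hermForm 3 F q u v := by
  obtain ⟨q', hF', hq'⟩ := Herm.exists_eq_frob (σ := σ.toRingHom)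
    (fun h => hf.ne_refl (RingEquiv.ext fun x => RingHom.congr_fun h x)) hf.involutive
  obtain rfl : q' = q := Nat.pow_left_injective (n := 2) two_ne_zero (hF'.symm.trans hF)
  have hσ : ∀ x, σ x = x ^ q' := hq'
  have hse : ∀ x, σ x = Asch.sigmaE hF x := fun x => by rw [hσ, Asch.sigmaE_apply]
  have hs := Asch.isSesq_of_unitary hf
  have hmap : ∀ A : Matrix (Fin 3) (Fin 3) F, A.map σ = A.map (Asch.sigmaE hF) :=
    fun A => Matrix.ext fun i j => hse _
  obtain ⟨c, hc⟩ := Asch.gram_unique hF habs hGU (M := gramMatrix f) fun x hx => by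
    rw [← hmap]
    exact Asch.fixes_gram hs hfix x.val ⟨x, hx, rfl⟩
  have hval : ∀ u v, f u v = c * Cfsg.hermForm 3 F q' u v := by
    intro u v
    rw [Asch.sesq_gram hs, hc, Matrix.smul_mulVec, Matrix.one_mulVec, dotProduct_smul, smul_eq_mul]
    simp [Cfsg.hermForm, dotProduct, hσ]
  have hc0 : c ≠ 0 := fun h0 => by
    obtain ⟨⟨x, hx⟩, -⟩ := hf.nondegenerate (Pi.single 0 1) (by simp)
    exact hx (by rw [hval, h0, zero_mul])
  refine ⟨c, hc0, hσ, ?_, hval⟩
  have h := hf.herm (Pi.single 0 1) (Pi.single 0 1)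
  have h1 : Cfsg.hermForm 3 F q' (Pi.single 0 1) (Pi.single 0 1) = 1 := by
    rw [Cfsg.hermForm, Finset.sum_eq_single 0 (fun k _ hk => by simp [hk]) (by simp), Pi.single_eq_same, one_pow,
      one_mul]
  rw [hval, h1, mul_one, hσ] at h
  exact h.symm

/-- A unitary lower bound inside `GU₃(q)` gives the whole of `SU₃(q)`. -/
theorem sunit_le_of_lower (hF : Fintype.card F = q ^ 2) (hq : 3 ≤ q) {P : Subgroup (GL (Fin 3) F)}
    (habs : ActsAbsolutelyIrreducibly (matrixSet P)) (hGU : P ≤ Cfsg.GU 3 F q)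
    {σ : F ≃+* F} {f : (Fin 3 → F) → (Fin 3 → F) → F} (hf : IsUnitaryForm σ f) (hfix : FixesForm (matrixSet P) f)
    (hlow : Max.LowerUnitary P σ f) : Asch.sunit 3 F q ≤ P := by
  obtain ⟨c, hc0, hσ, hcq, hval⟩ := form_eq_smul_herm hF habs hGU hf hfix
  rcases hlow with h | ⟨h2, hroots⟩
  · exact fun g hg => h g hg.2 fun u v => by rw [hval, hval, Asch.mem_sunit hg]
  · set e := (UMax.glEquiv 3 F).toMonoidHom with he
    have hsq : tvGroup (hB hF 3) ≤ P.map e := by
      rw [tvGroup, Subgroup.closure_le]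
      rintro _ ⟨w, l, hl, hw, rfl⟩
      have hlq : l ^ q = l := by
        rw [hw, mul_zero, add_zero, frob_apply] at hl
        linear_combination hl - l * h2
      set a : Fin 3 → F := fun i => l * w i ^ q with ha
      have hav : ∀ v, a ⬝ᵥ v = l * Cfsg.hermForm 3 F q v w := fun v => by
        simp only [ha, dotProduct, Cfsg.hermForm, Finset.mul_sum]
        exact Finset.sum_congr rfl fun i _ => by ring
      have haw : a ⬝ᵥ w = 0 := by
        rw [hav]
        have : Cfsg.hermForm 3 F q w w = 0 := hw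
        rw [this, mul_zero]
      refine ⟨_, hroots w a haw (l / c) ?_ ?_ ?_, ?_⟩
      · rw [hval]
        exact mul_eq_zero_of_right _ hw
      · rw [map_div₀, hσ, hσ, hlq, hcq]
      · intro v
        rw [hav, hval, ← mul_assoc, div_mul_cancel₀ _ hc0]
      · refine LinearEquiv.ext fun x => ?_
        show (tv w a haw).val *ᵥ x = _
        rw [coe_tv, qrefl_apply, Asch.tvMat_mulVec, hav]
        rfl
    intro g hg
    have hC := MinIndexU3.space3 hF hq
    have hgt : e g ∈ tvGroup (hB hF 3) := by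
      rw [Three.mem_tv hC]
      refine ⟨fun u v => hg.1 v u, ?_⟩
      refine Units.ext ?_
      rw [LinearEquiv.coe_det]
      exact (LinearMap.det_toLin' _).trans (congrArg Units.val (MonoidHom.mem_ker.1 hg.2))
    exact (Subgroup.mem_map_iff_mem (f := e) (UMax.glEquiv 3 F).injective).1 (hsq hgt)

end Cfsg.Lib.Linear.Mitchell
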